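import Cfsg.Agent.Lib.Trans3.Fi.U6Stab
import Cfsg.Agent.Lib.Classical.HermCount
import Cfsg.Agent.Lib.Classical.HermOrder
import Cfsg.Agent.Lib.Classical.SUCenter

/-!
Counting in `PSU₆(2)`: its order, the number of transvections, the number commuting with one,
and the largest number commuting pairwise.
-/

set_option autoImplicit false
set_option linter.unusedSectionVars false
set_option linter.unusedSimpArgs false

namespace CfsgLib.Trans3.Fi

open Matrix CfsgLib.MaxSub CfsgLib.Classical CfsgLib.Trans3.TvSU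

variable {F : Type*} [Field F] [Fintype F] (hF : Fintype.card F = 2 ^ 2)
include hF

theorem card_psu_six : Nat.card (Cfsg.PSU 6 F 2) = 9196830720 := by
  have h := card_psu_mul hF (n := 6) (by norm_num)
  rw [card_gu hF] at h
  simp [Finset.prod_range_succ, Nat.even_iff] at h
  norm_num at h
  omega

theorem card_iso_six : Nat.card {v : Fin 6 → F // hh v v = 0} = 2080 := by
  have h := card_herm_zero_int hF 6
  norm_num at h
  have : (Nat.card {v : Fin 6 → F // hh v v = 0} : ℤ) = 2080 := by linarith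
  exact_mod_cast this

theorem card_iso_four : Nat.card {v : Fin 4 → F // Cfsg.hermForm 4 F 2 v v = 0} = 136 := by
  have h := card_herm_zero_int hF 4
  norm_num at h
  have : (Nat.card {v : Fin 4 → F // Cfsg.hermForm 4 F 2 v v = 0} : ℤ) = 136 := by linarith
  exact_mod_cast this

omit hF in
theorem card_ne {α : Type*} [Finite α] (P : α → Prop) (z : α) (hz : P z) :
    Nat.card {a : α // a ≠ z ∧ P a} + 1 = Nat.card {a : α // P a} := by
  classical
  have e : Option {a : α // a ≠ z ∧ P a} ≃ {a : α // P a} :=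
    { toFun := fun o => o.elim ⟨z, hz⟩ fun a => ⟨a.1, a.2.2⟩
      invFun := fun a => if h : a.1 = z then none else some ⟨a.1, h, a.2⟩
      left_inv := fun o => by
        rcases o with _ | ⟨a, ha, hp⟩
        · simp
        · simp [ha]
      right_inv := fun a => by
        by_cases h : a.1 = z
        · simp [h]; exact Subtype.ext h.symm
        · simp [h] }
  rw [← Nat.card_congr e, Finite.card_option]

variable {Y : Type*} [Group Y] {D : Set Y} (f : ↥(Cfsg.SU 6 F 2) →* Y)
  (hf : Function.Surjective f) (hk : f.ker = Subgroup.center ↥(Cfsg.SU 6 F 2))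
  (hD : Cfsg.IsThreeTranspositionGroup D)
include hf hk hD

/-- Each transvection comes from three isotropic vectors. -/
theorem card_vectors {S : Set Y} (hS : S ⊆ D) :
    Nat.card {v : Fin 6 → F // (v ≠ 0 ∧ hh v v = 0) ∧ pt hF f v ∈ S} = 3 * Nat.card S := by
  classical
  have hrep : ∀ y : S, ∃ p, p ≠ 0 ∧ hh p p = 0 ∧ (y : Y) = pt hF f p :=
    fun y => exists_pt hF f hf hk hD (hS y.2)
  choose rep r0 rr reps using hrep
  have key : ∀ (y : S) (α : Fˣ), ((α : F) • rep y ≠ 0 ∧ hh ((α : F) • rep y) ((α : F) • rep y) = 0) ∧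
      pt hF f ((α : F) • rep y) ∈ S := fun y α => by
    refine ⟨⟨smul_ne_zero α.ne_zero (r0 y), ?_⟩, ?_⟩
    · rw [hh_smul_left hF, hh_smul_right hF, rr y, mul_zero, mul_zero]
    · rw [pt_smul hF f (rr y) α.ne_zero, ← reps y]; exact y.2
  let g : S × Fˣ → {v : Fin 6 → F // (v ≠ 0 ∧ hh v v = 0) ∧ pt hF f v ∈ S} :=
    fun z => ⟨(z.2 : F) • rep z.1, key z.1 z.2⟩
  have hg : Function.Bijective g := by
    refine ⟨fun z w h => ?_, fun v => ?_⟩
    · have h' : (z.2 : F) • rep z.1 = (w.2 : F) • rep w.1 := congrArg Subtype.val h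
      have hp := congrArg (pt hF f) h'
      rw [pt_smul hF f (rr z.1) z.2.ne_zero, pt_smul hF f (rr w.1) w.2.ne_zero, ← reps, ← reps] at hp
      have h1 : z.1 = w.1 := Subtype.ext hp
      rw [← h1] at h'
      exact Prod.ext h1 (Units.ext (smul_left_injective F (r0 z.1) h'))
    · obtain ⟨a, ha, he⟩ := pt_eq hF f hk v.2.1.1 v.2.1.2 (rr ⟨_, v.2.2⟩) (reps ⟨_, v.2.2⟩)
      exact ⟨(⟨_, v.2.2⟩, Units.mk0 a ha), Subtype.ext he.symm⟩
  rw [← Nat.card_congr (Equiv.ofBijective g hg), Nat.card_prod, Nat.card_units,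
    Nat.card_eq_fintype_card (α := F), hF]
  ring

theorem card_D : Nat.card D = 693 := by
  have h := card_vectors hF f hf hk hD (S := D) le_rfl
  have e : {v : Fin 6 → F // (v ≠ 0 ∧ hh v v = 0) ∧ pt hF f v ∈ D} ≃
      {v : Fin 6 → F // v ≠ 0 ∧ hh v v = 0} :=
    Equiv.subtypeEquivRight fun v => ⟨fun h => h.1, fun h => ⟨h, pt_mem hF f hf hk hD h.1 h.2⟩⟩
  have h1 := card_ne (fun v : Fin 6 → F => hh v v = 0) 0 (hh_zero_left hF 0)
  rw [card_iso_six hF, ← Nat.card_congr e, h] at h1
  omega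

theorem card_perp {a : Y} (ha : a ∈ D) :
    Nat.card {e : Y | e ∈ D ∧ e ≠ a ∧ Commute a e} = 180 := by
  classical
  obtain ⟨p, ep⟩ : ∃ p : Fin 6 → F, p = ![1, 1, 0, 0, 0, 0] := ⟨_, rfl⟩
  have hp0 : p ≠ 0 := fun h => by simpa [ep] using congrFun h 0
  have hsum : ∀ u v : Fin 6 → F, hh u v = ∑ i, u i * v i ^ 2 := fun _ _ => rfl
  have hxp : ∀ v, hh v p = v 0 + v 1 := fun v => by simp [hsum, ep, Fin.sum_univ_succ]
  have hpp : hh p p = 0 := by rw [hxp]; simp [ep, add_self hF]
  obtain ⟨k, rfl⟩ := conj_all hF f hf hk hD (pt_mem hF f hf hk hD hp0 hpp) ha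
  have himg : {e : Y | e ∈ D ∧ e ≠ k * pt hF f p * k⁻¹ ∧ Commute (k * pt hF f p * k⁻¹) e} =
      (MulAut.conj k) '' {e : Y | e ∈ D ∧ e ≠ pt hF f p ∧ Commute (pt hF f p) e} := by
    ext e
    constructor
    · rintro ⟨he, hne, hc⟩
      refine ⟨k⁻¹ * e * k, ⟨by simpa using hD.2.1 k⁻¹ e he, fun h' => hne ?_, ?_⟩, by simp [mul_assoc]⟩
      · rw [← h']; group
      · rw [← commute_conj_iff k, show k * (k⁻¹ * e * k) * k⁻¹ = e by group]; exact hc
    · rintro ⟨u, ⟨hu, hne, hc⟩, rfl⟩
      exact ⟨hD.2.1 k u hu, fun h' => hne ((MulAut.conj k).injective h'),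
        (commute_conj_iff k _ u).2 hc⟩
  rw [himg, Nat.card_image_of_injective (MulAut.conj k).injective]
  have h := card_vectors hF f hf hk hD
    (S := {e : Y | e ∈ D ∧ e ≠ pt hF f p ∧ Commute (pt hF f p) e}) fun e he => he.1
  have hlow : ∀ v : Fin 6 → F, v 0 = v 1 → v = pad (fun _ => v 0) (low v) := by
    intro v hv
    conv_lhs => rw [← pad_low hF v]
    funext i; fin_cases i <;> simp [pad, hv]
  have hself : ∀ (t : F) (w : Fin 4 → F),
      hh (pad (fun _ => t) w) (pad (fun _ => t) w) = Cfsg.hermForm 4 F 2 w w := fun t w => by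
    rw [hh_pad hF]; linear_combination add_self hF (t * t ^ 2)
  have e : {v : Fin 6 → F // (v ≠ 0 ∧ hh v v = 0) ∧
        pt hF f v ∈ {e : Y | e ∈ D ∧ e ≠ pt hF f p ∧ Commute (pt hF f p) e}} ≃
      F × {w : Fin 4 → F // w ≠ 0 ∧ Cfsg.hermForm 4 F 2 w w = 0} :=
    { toFun := fun v => (v.1 0, ⟨low v.1, by
        obtain ⟨⟨v0, vv⟩, -, hne, hc⟩ := v.2
        rw [pt_commute hF f hk hp0 v0 hpp vv] at hc
        have h01 : v.1 0 = v.1 1 := by
          have h' := hh_symm_zero hF hc
          rw [hxp] at h'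
          linear_combination h' - add_self hF (v.1 1)
        have hd := hlow v.1 h01
        refine ⟨fun hl => hne ?_, ?_⟩
        · have hv : v.1 = v.1 0 • p := by
            conv_lhs => rw [hd, hl]
            funext i; fin_cases i <;> simp [pad, ep]
          conv_lhs => rw [hv]
          exact pt_smul hF f hpp fun h0 => v0 (by rw [hv, h0, zero_smul])
        · rw [← hself (v.1 0), ← hd]; exact vv⟩)
      invFun := fun z => ⟨pad (fun _ => z.1) z.2.1, by
        have h0 : pad (fun _ => z.1) z.2.1 ≠ 0 := fun h0 => z.2.2.1 (by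
          rw [← low_pad (fun _ => z.1) z.2.1, h0]
          funext i; fin_cases i <;> rfl)
        have hz : hh (pad (fun _ => z.1) z.2.1) (pad (fun _ => z.1) z.2.1) = 0 := by
          rw [hself]; exact z.2.2.2
        refine ⟨⟨h0, hz⟩, pt_mem hF f hf hk hD h0 hz, fun he => z.2.2.1 ?_,
          (pt_commute hF f hk hp0 h0 hpp hz).2 (hh_symm_zero hF ?_)⟩
        · obtain ⟨c, -, hc⟩ := pt_eq hF f hk h0 hz hpp he
          rw [← low_pad (fun _ => z.1) z.2.1, hc]
          funext i; fin_cases i <;> simp [low, ep]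
        · rw [hxp]; simp [pad, add_self hF]⟩
      left_inv := fun v => by
        obtain ⟨⟨v0, vv⟩, -, -, hc⟩ := v.2
        rw [pt_commute hF f hk hp0 v0 hpp vv] at hc
        have h' := hh_symm_zero hF hc
        rw [hxp] at h'
        exact Subtype.ext (hlow v.1 (by linear_combination h' - add_self hF (v.1 1))).symm
      right_inv := fun z => Prod.ext rfl (Subtype.ext (low_pad (fun _ => z.1) z.2.1)) }
  have h2 := card_ne (fun w : Fin 4 → F => Cfsg.hermForm 4 F 2 w w = 0) 0
    (by simp [Cfsg.hermForm])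
  rw [card_iso_four hF] at h2
  rw [Nat.card_congr e, Nat.card_prod, Nat.card_eq_fintype_card (α := F), hF] at h
  omega

omit hf hk hD in
theorem span_isotropic_le {S : Submodule F (Fin 6 → F)} (hS : ∀ x ∈ S, ∀ y ∈ S, hh x y = 0) :
    Module.finrank F S ≤ 3 := by
  let b := Module.finBasis F S
  let φ : (Fin 6 → F) →ₗ[F] (Fin (Module.finrank F S) → F) :=
    { toFun := fun z i => hh z (b i : Fin 6 → F)
      map_add' := fun x y => funext fun i => hh_add_left hF x y _
      map_smul' := fun c x => funext fun i => hh_smul_left hF c x _ }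
  have hsurj : LinearMap.range φ = ⊤ := by
    rw [eq_top_iff]
    intro t _
    rw [pi_eq_sum_univ' t]
    refine Submodule.sum_mem _ fun i _ => Submodule.smul_mem _ _ ?_
    have hli : LinearIndependent F fun j => (b j : Fin 6 → F) :=
      b.linearIndependent.map' S.subtype (Submodule.ker_subtype S)
    have hni : (b i : Fin 6 → F) ∉
        Submodule.span F ((fun j => (b j : Fin 6 → F)) '' {j | j ≠ i}) :=
      hli.notMem_span_image (by simp)
    obtain ⟨x, hx, hx'⟩ := exists_hh hF hni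
    refine ⟨x, funext fun j => ?_⟩
    show hh x (b j : Fin 6 → F) = _
    by_cases hj : j = i
    · subst hj; rw [hx', Pi.single_eq_same]
    · rw [Pi.single_eq_of_ne hj, hx _ (Submodule.subset_span ⟨j, hj, rfl⟩)]
  have h1 := LinearMap.finrank_range_add_finrank_ker φ
  have h2 : Module.finrank F S ≤ Module.finrank F (LinearMap.ker φ) :=
    Submodule.finrank_mono fun x hx => LinearMap.mem_ker.2 (funext fun i => hS x hx _ (b i).2)
  rw [hsurj, finrank_top, Module.finrank_pi, Module.finrank_pi, Fintype.card_fin, Fintype.card_fin] at h1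
  omega

theorem width_le {E : Set Y} (hE : E ⊆ D) (hc : ∀ a ∈ E, ∀ b ∈ E, Commute a b) :
    Nat.card E ≤ 21 := by
  classical
  let T : Set (Fin 6 → F) := {v | (v ≠ 0 ∧ hh v v = 0) ∧ pt hF f v ∈ E}
  have hT : ∀ x ∈ T, ∀ y ∈ T, hh x y = 0 := fun x hx y hy =>
    (pt_commute hF f hk hx.1.1 hy.1.1 hx.1.2 hy.1.2).1 (hc _ hx.2 _ hy.2)
  have hS : ∀ x ∈ Submodule.span F T, ∀ y ∈ Submodule.span F T, hh x y = 0 := by
    intro x hx
    induction hx using Submodule.span_induction with
    | mem u hu =>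
      intro y hy
      induction hy using Submodule.span_induction with
      | mem v hv => exact hT u hu v hv
      | zero => exact hh_zero_right hF u
      | add v w _ _ h1 h2 => rw [hh_add_right hF, h1, h2, add_zero]
      | smul c v _ h1 => rw [hh_smul_right hF, h1, mul_zero]
    | zero => intro y _; exact hh_zero_left hF y
    | add u v _ _ h1 h2 => intro y hy; rw [hh_add_left hF, h1 y hy, h2 y hy, add_zero]
    | smul c u _ h1 => intro y hy; rw [hh_smul_left hF, h1 y hy, mul_zero]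
  have h3 := span_isotropic_le hF hS
  have hcard : Nat.card (Submodule.span F T) ≤ 64 := by
    rw [Module.natCard_eq_pow_finrank (K := F), Nat.card_eq_fintype_card, hF]
    exact (Nat.pow_le_pow_right (by norm_num) h3).trans (by norm_num)
  have h1 := card_vectors hF f hf hk hD hE
  have h2 : Nat.card T + 1 ≤ Nat.card (Submodule.span F T) := by
    rw [← Finite.card_option]
    refine Nat.card_le_card_of_injective
      (fun o : Option T => o.elim (0 : Submodule.span F T)
        fun v => ⟨v.1, Submodule.subset_span v.2⟩) ?_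
    rintro (_ | ⟨v, hv⟩) (_ | ⟨w, hw⟩) h
    · rfl
    · exact absurd (congrArg Subtype.val h).symm hw.1.1
    · exact absurd (congrArg Subtype.val h) hv.1.1
    · simpa using congrArg Subtype.val h
  change Nat.card T = 3 * Nat.card E at h1
  omega

theorem width_ge : ∃ E ⊆ D, (∀ a ∈ E, ∀ b ∈ E, Commute a b) ∧ Nat.card E = 21 := by
  classical
  obtain ⟨w, ew⟩ : ∃ w : (Fin 3 → F) → (Fin 6 → F),
      w = fun t => ![t 0, t 0, t 1, t 1, t 2, t 2] := ⟨_, rfl⟩
  have hww : ∀ t s, hh (w t) (w s) = 0 := by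
    intro t s
    show ∑ k, w t k * w s k ^ 2 = _
    simp only [ew, Fin.sum_univ_six, Matrix.cons_val_zero, Matrix.cons_val_one, Matrix.cons_val]
    linear_combination add_self hF (t 0 * s 0 ^ 2) + add_self hF (t 1 * s 1 ^ 2) +
      add_self hF (t 2 * s 2 ^ 2)
  have hw0 : ∀ t, t ≠ 0 → w t ≠ 0 := fun t ht h => ht (by
    rw [ew] at h
    funext i
    fin_cases i
    exacts [by simpa using congrFun h 0, by simpa using congrFun h 2, by simpa using congrFun h 4])
  obtain ⟨E, eE⟩ : ∃ E : Set Y, E = (fun t => pt hF f (w t)) '' {t | t ≠ 0} := ⟨_, rfl⟩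
  have hED : E ⊆ D := by
    rw [eE]; rintro _ ⟨t, ht, rfl⟩; exact pt_mem hF f hf hk hD (hw0 t ht) (hww t t)
  have hEc : ∀ a ∈ E, ∀ b ∈ E, Commute a b := by
    rw [eE]; rintro _ ⟨t, ht, rfl⟩ _ ⟨s, hs, rfl⟩
    exact (pt_commute hF f hk (hw0 t ht) (hw0 s hs) (hww t t) (hww s s)).2 (hww t s)
  refine ⟨E, hED, hEc, le_antisymm (width_le hF f hf hk hD hED hEc) ?_⟩
  have h1 := card_vectors hF f hf hk hD hED
  have h2 : Nat.card {t : Fin 3 → F // t ≠ 0 ∧ True} ≤
      Nat.card {v : Fin 6 → F // (v ≠ 0 ∧ hh v v = 0) ∧ pt hF f v ∈ E} := by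
    refine Nat.card_le_card_of_injective (fun t => ⟨w t.1, ⟨hw0 _ t.2.1, hww _ _⟩,
      eE ▸ ⟨t.1, t.2.1, rfl⟩⟩) fun t s h => Subtype.ext ?_
    have h' : w t.1 = w s.1 := congrArg Subtype.val h
    rw [ew] at h'
    funext i
    fin_cases i
    exacts [by simpa using congrFun h' 0, by simpa using congrFun h' 2, by simpa using congrFun h' 4]
  have h3 := card_ne (fun _ : Fin 3 → F => True) 0 trivial
  have h4 : Nat.card {t : Fin 3 → F // True} = 64 := by
    rw [Nat.card_congr (Equiv.subtypeUnivEquiv fun _ => trivial), Nat.card_fun,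
      Nat.card_eq_fintype_card (α := F), hF, Nat.card_eq_fintype_card, Fintype.card_fin]
    norm_num
  omega

end CfsgLib.Trans3.Fi

namespace CfsgLib.Trans3.Fi

section Wrap

variable {G : Type*} [Group G] {D : Set G} (hU : IsU6 G) (hD : Cfsg.IsThreeTranspositionGroup D)
include hU

theorem u6_card : Nat.card G = 9196830720 := by
  obtain ⟨F, i₁, i₂, hF4, ⟨e⟩⟩ := id hU
  have hF : Fintype.card F = 2 ^ 2 := hF4
  rw [Nat.card_congr e.toEquiv, card_psu_six hF]

include hD

theorem u6_card_D : D.ncard = 693 := by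
  obtain ⟨F, _, _, f, hF, hf, hk⟩ := exists_model hU hD
  rw [← Nat.card_coe_set_eq]; exact card_D hF f hf hk hD

theorem u6_card_perp {a : G} (ha : a ∈ D) :
    {e : G | e ∈ D ∧ e ≠ a ∧ Commute a e}.ncard = 180 := by
  obtain ⟨F, _, _, f, hF, hf, hk⟩ := exists_model hU hD
  rw [← Nat.card_coe_set_eq]; exact card_perp hF f hf hk hD ha

theorem u6_width_le {E : Set G} (hE : E ⊆ D) (hc : ∀ a ∈ E, ∀ b ∈ E, Commute a b) :
    E.ncard ≤ 21 := by
  obtain ⟨F, _, _, f, hF, hf, hk⟩ := exists_model hU hD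
  rw [← Nat.card_coe_set_eq]; exact width_le hF f hf hk hD hE hc

theorem u6_width_ge : ∃ E ⊆ D, (∀ a ∈ E, ∀ b ∈ E, Commute a b) ∧ E.ncard = 21 := by
  obtain ⟨F, _, _, f, hF, hf, hk⟩ := exists_model hU hD
  obtain ⟨E, h1, h2, h3⟩ := width_ge hF f hf hk hD
  exact ⟨E, h1, h2, by rw [← Nat.card_coe_set_eq]; exact h3⟩

end Wrap

end CfsgLib.Trans3.Fi
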