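import Cfsg.Agent.Lib.Trans3.Fi.Gate
import Cfsg.Agent.Lib.Trans3.Fi.U6Count

/-!
Orders of centralisers in a group of type M(22).
-/

set_option autoImplicit false
set_option linter.unusedSectionVars false

namespace CfsgLib.Trans3.Fi

variable {G : Type*} [Group G]

/-- Orbit and stabiliser for conjugation by a subgroup. -/
theorem card_orbit_mul {H : Subgroup G} {x : G} {O : Set G} (h₁ : ∀ g ∈ H, g * x * g⁻¹ ∈ O)
    (h₂ : ∀ o ∈ O, ∃ g ∈ H, g * x * g⁻¹ = o) :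
    Nat.card ↥H = O.ncard * Nat.card ↥(H ⊓ Subgroup.centralizer ({x} : Set G)) := by
  obtain ⟨S, eS⟩ : ∃ S : Subgroup ↥H,
      S = (H ⊓ Subgroup.centralizer ({x} : Set G)).subgroupOf H := ⟨_, rfl⟩
  have hS : ∀ g k : ↥H, (g : G) * x * (g : G)⁻¹ = (k : G) * x * (k : G)⁻¹ ↔ g⁻¹ * k ∈ S := by
    intro g k
    rw [eS, Subgroup.mem_subgroupOf, Subgroup.mem_inf]
    simp only [Subgroup.coe_mul, Subgroup.coe_inv, Subgroup.mem_centralizer_singleton_iff]
    refine ⟨fun h => ⟨mul_mem (inv_mem g.2) k.2, ?_⟩, fun h => ?_⟩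
    · calc (g : G)⁻¹ * k * x = (g : G)⁻¹ * ((k : G) * x * (k : G)⁻¹) * k := by group
        _ = x * ((g : G)⁻¹ * k) := by rw [← h]; group
    · calc (g : G) * x * (g : G)⁻¹ = g * (x * ((g : G)⁻¹ * k)) * (k : G)⁻¹ := by group
        _ = _ := by rw [← h.2]; group
  let f : ↥H ⧸ S → O := Quotient.lift (fun g : ↥H => (⟨(g : G) * x * (g : G)⁻¹, h₁ g g.2⟩ : O))
    fun g k h => Subtype.ext ((hS g k).2 (QuotientGroup.leftRel_apply.1 h))
  have hf : Function.Bijective f := by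
    refine ⟨fun q r => Quotient.inductionOn₂ q r fun g k h =>
      QuotientGroup.eq.2 ((hS g k).1 (congrArg Subtype.val h)), fun o => ?_⟩
    obtain ⟨g, hg, hgo⟩ := h₂ o o.2
    exact ⟨Quotient.mk'' ⟨g, hg⟩, Subtype.ext hgo⟩
  rw [Subgroup.card_eq_card_quotient_mul_card_subgroup S, Nat.card_congr (Equiv.ofBijective f hf),
    Nat.card_coe_set_eq, eS,
    Nat.card_congr (Subgroup.subgroupOfEquivOfLe (inf_le_left : H ⊓ _ ≤ H)).toEquiv]

variable [Finite G] {D : Set G}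
variable (hD : Cfsg.IsThreeTranspositionGroup D) (hP : Cfsg.IsPrimitiveUnderConj D)
variable (h : Cfsg.IsOfTypeM22 G D)
include hD h

theorem card_bar_image {a : G} (ha : a ∈ D) {S : Set G} (hS : S ⊆ nbrs D a) :
    S.ncard = {q : Qd D a | ∃ y, ∃ hy : y ∈ nbrs D a, y ∈ S ∧ q = bar hy}.ncard := by
  have hN := nice_m22 hD h
  refine Set.ncard_congr (fun y hy => bar (hS hy)) (fun y hy => ⟨y, hS hy, hy, rfl⟩)
    (fun y z hy hz e => hN.bar_inj ha (hS hy) (hS hz) e) ?_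
  rintro q ⟨y, hy, hyS, rfl⟩
  exact ⟨y, hyS, rfl⟩

theorem card_nbrs {a : G} (ha : a ∈ D) : (nbrs D a).ncard = 693 := by
  rw [card_bar_image hD h ha le_rfl, ← u6_card_D (m22_isU6 hD h ha) ((nice_m22 hD h).group_Db ha)]
  congr 1
  ext q
  refine ⟨fun ⟨y, hy, _, e⟩ => e ▸ bar_mem hy, fun hq => ?_⟩
  obtain ⟨y, hy, rfl⟩ := exists_bar hq
  exact ⟨y, hy, hy, rfl⟩

theorem card_nbrs_two {a b : G} (ha : a ∈ D) (hb : b ∈ nbrs D a) :
    (nbrs D a ∩ nbrs D b).ncard = 180 := by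
  have hPre := pre_of_group hD
  have hN := nice_m22 hD h
  rw [card_bar_image hD h ha Set.inter_subset_left,
    ← u6_card_perp (m22_isU6 hD h ha) (hN.group_Db ha) (bar_mem hb)]
  congr 1
  ext q
  constructor
  · rintro ⟨y, hy, ⟨-, hyb⟩, rfl⟩
    exact ⟨bar_mem hy, fun e => hyb.2.1 (hN.bar_inj ha hy hb e),
      (commute_bar hPre hb hy).2 hyb.2.2⟩
  · rintro ⟨hq, hne, hc⟩
    obtain ⟨y, hy, rfl⟩ := exists_bar hq
    exact ⟨y, hy, ⟨hy, hy.1, fun e => hne (by subst e; rfl), (commute_bar hPre hb hy).1 hc⟩, rfl⟩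

include hP

theorem card_Hd {a : G} (ha : a ∈ D) : Nat.card ↥(Hd D a) = 18393661440 := by
  rw [Subgroup.card_eq_card_quotient_mul_card_subgroup (Subgroup.center ↥(Hd D a)),
    show Nat.card (↥(Hd D a) ⧸ Subgroup.center ↥(Hd D a)) = 9196830720 from
      u6_card (m22_isU6 hD h ha), m22_center_Hd hD hP h ha]
  rw [Nat.card_congr (Subgroup.subgroupOfEquivOfLe
    (Subgroup.zpowers_le.2 (m22_mem hD hP h ha))).toEquiv, Nat.card_zpowers, hD.1.1 a ha]

theorem card_centralizer {a : G} (ha : a ∈ D) :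
    Nat.card ↥(Subgroup.centralizer ({a} : Set G)) = 18393661440 := by
  rw [← m22_gate hD hP h ha]; exact card_Hd hD hP h ha

/-- The group of a member is transitive on ordered pairs of commuting neighbours. -/
theorem trans_pairs {a b c b' c' : G} (ha : a ∈ D) (hb : b ∈ nbrs D a) (hc : c ∈ nbrs D a)
    (hbc : c ∈ nbrs D b) (hb' : b' ∈ nbrs D a) (hc' : c' ∈ nbrs D a) (hbc' : c' ∈ nbrs D b') :
    ∃ k ∈ Hd D a, k * b * k⁻¹ = b' ∧ k * c * k⁻¹ = c' := by
  have hPre := pre_of_group hD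
  have hN := nice_m22 hD h
  obtain ⟨k₁, hk₁, e₁⟩ := conj_lift hD hP h ha hb hb'
  obtain ⟨c₁, ec₁⟩ : ∃ c₁, c₁ = k₁ * c * k₁⁻¹ := ⟨_, rfl⟩
  have hk₁a : k₁ * a * k₁⁻¹ = a := conj_eq_of_commute (commute_Hd hk₁).symm
  have nc₁ : c₁ ∈ nbrs D a := by
    refine ec₁ ▸ ⟨hD.2.1 k₁ c hc.1, fun e => hc.2.1 (mul_left_cancel
      (mul_right_cancel (e.trans hk₁a.symm))), ?_⟩
    nth_rw 1 [← hk₁a]
    exact (commute_conj_iff k₁ a c).2 hc.2.2
  have hb'c₁ : Commute b' c₁ := by rw [← e₁, ec₁]; exact (commute_conj_iff k₁ b c).2 hbc.2.2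
  have hne : c₁ ≠ b' := fun e => hbc.2.1
    (mul_left_cancel (mul_right_cancel ((ec₁.symm.trans e).trans e₁.symm)))
  obtain ⟨hPa, hw⟩ := u6_prim (m22_isU6 hD h ha) (hN.group_Db ha)
  obtain ⟨q, q₁, q₂⟩ := trans_comm (hN.group_Db ha) hPa hw (bar_mem hb') (bar_mem nc₁)
    (fun e => hne (hN.bar_inj ha nc₁ hb' e)) ((commute_bar hPre hb' nc₁).2 hb'c₁) (bar_mem hc')
    (fun e => hbc'.2.1 (hN.bar_inj ha hc' hb' e)) ((commute_bar hPre hb' hc').2 hbc'.2.2)
  obtain ⟨k₂, rfl⟩ := QuotientGroup.mk_surjective q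
  refine ⟨(k₂ : G) * k₁, mul_mem k₂.2 hk₁, ?_, ?_⟩
  · calc (k₂ : G) * k₁ * b * ((k₂ : G) * k₁)⁻¹ = k₂ * (k₁ * b * k₁⁻¹) * (k₂ : G)⁻¹ := by group
      _ = b' := by rw [e₁]; exact conj_bar hD hP h ha k₂ hb' hb' q₁
  · calc (k₂ : G) * k₁ * c * ((k₂ : G) * k₁)⁻¹ = k₂ * (k₁ * c * k₁⁻¹) * (k₂ : G)⁻¹ := by group
      _ = c' := by rw [← ec₁]; exact conj_bar hD hP h ha k₂ nc₁ hc' q₂

/-- Ordered commuting triples form one class. -/
theorem triple_conj {a b c a' b' c' : G} (ha : a ∈ D) (hb : b ∈ nbrs D a) (hc : c ∈ nbrs D a)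
    (hbc : c ∈ nbrs D b) (ha' : a' ∈ D) (hb' : b' ∈ nbrs D a') (hc' : c' ∈ nbrs D a')
    (hbc' : c' ∈ nbrs D b') :
    ∃ g : G, g * a * g⁻¹ = a' ∧ g * b * g⁻¹ = b' ∧ g * c * g⁻¹ = c' := by
  obtain ⟨g, hg⟩ := hP.1 a ha a' ha'
  have mv : ∀ {u v : G}, v ∈ nbrs D u → g * v * g⁻¹ ∈ nbrs D (g * u * g⁻¹) := fun {u v} hv =>
    ⟨hD.2.1 g v hv.1, fun e => hv.2.1 (mul_left_cancel (mul_right_cancel e)),
      (commute_conj_iff g u v).2 hv.2.2⟩
  obtain ⟨k, hk, k₁, k₂⟩ := trans_pairs hD hP h ha' (hg ▸ mv hb) (hg ▸ mv hc) (mv hbc) hb' hc' hbc'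
  refine ⟨k * g, ?_, ?_, ?_⟩
  · calc k * g * a * (k * g)⁻¹ = k * (g * a * g⁻¹) * k⁻¹ := by group
      _ = a' := by rw [hg]; exact conj_eq_of_commute (commute_Hd hk).symm
  · rw [← k₁]; group
  · rw [← k₂]; group

theorem card_two {a b : G} (ha : a ∈ D) (hb : b ∈ nbrs D a) :
    Nat.card ↥(Subgroup.centralizer ({a} : Set G) ⊓ Subgroup.centralizer ({b} : Set G)) = 26542080 := by
  have h1 := card_orbit_mul (H := Hd D a) (x := b) (O := nbrs D a) (fun g hg => ?_)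
    (fun o ho => conj_lift hD hP h ha hb ho)
  · rw [card_Hd hD hP h ha, card_nbrs hD h ha, m22_gate hD hP h ha] at h1
    omega
  · have hga : g * a * g⁻¹ = a := conj_eq_of_commute (commute_Hd hg).symm
    refine ⟨hD.2.1 g b hb.1, fun e => hb.2.1 (mul_left_cancel (mul_right_cancel (e.trans hga.symm))), ?_⟩
    nth_rw 1 [← hga]
    exact (commute_conj_iff g a b).2 hb.2.2

theorem card_three {a b c : G} (ha : a ∈ D) (hb : b ∈ nbrs D a) (hc : c ∈ nbrs D a)
    (hbc : c ∈ nbrs D b) :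
    Nat.card ↥(Subgroup.centralizer ({a} : Set G) ⊓ Subgroup.centralizer ({b} : Set G) ⊓
      Subgroup.centralizer ({c} : Set G)) = 147456 := by
  have h1 := card_orbit_mul
    (H := Subgroup.centralizer ({a} : Set G) ⊓ Subgroup.centralizer ({b} : Set G)) (x := c)
    (O := nbrs D a ∩ nbrs D b) (fun g hg => ?_) (fun o ho => ?_)
  · rw [card_two hD hP h ha hb, card_nbrs_two hD h ha hb] at h1
    omega
  · obtain ⟨g1, g2⟩ := Subgroup.mem_inf.1 hg
    have hga : g * a * g⁻¹ = a := conj_eq_of_commute (Subgroup.mem_centralizer_singleton_iff.1 g1)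
    have hgb : g * b * g⁻¹ = b := conj_eq_of_commute (Subgroup.mem_centralizer_singleton_iff.1 g2)
    refine ⟨⟨hD.2.1 g c hc.1, fun e => hc.2.1 (mul_left_cancel (mul_right_cancel (e.trans hga.symm))), ?_⟩,
      hD.2.1 g c hc.1, fun e => hbc.2.1 (mul_left_cancel (mul_right_cancel (e.trans hgb.symm))), ?_⟩
    · nth_rw 1 [← hga]; exact (commute_conj_iff g a c).2 hc.2.2
    · nth_rw 1 [← hgb]; exact (commute_conj_iff g b c).2 hbc.2.2
  · obtain ⟨k, hk, k₁, k₂⟩ := trans_pairs hD hP h ha hb hc hbc hb ho.1 ho.2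
    exact ⟨k, Subgroup.mem_inf.2 ⟨Subgroup.mem_centralizer_singleton_iff.2 (commute_Hd hk).symm.eq,
      Subgroup.mem_centralizer_singleton_iff.2 (commute_of_conj_eq k₁).eq⟩, k₂⟩

/-- The centraliser of a product of three commuting members. -/
theorem card_centralizer_three {a b c : G} (ha : a ∈ D) (hb : b ∈ nbrs D a) (hc : c ∈ nbrs D a)
    (hbc : c ∈ nbrs D b) :
    Nat.card ↥(Subgroup.centralizer ({a * b * c} : Set G)) = 2 ^ 16 * 3 ^ 3 := by
  classical
  have hPre := pre_of_group hD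
  have hN := nice_m22 hD h
  have hU := m22_u6 hD h ha
  obtain ⟨t₁, t₂, t₃, ht, hat, huniq⟩ := m22_line hD hP h ha hb hc (Ne.symm hbc.2.1) hbc.2.2
  have hco : ∀ x ∈ [a, b, c], ∀ y ∈ [a, b, c], Commute x y := by
    simp [hb.2.2, hb.2.2.symm, hc.2.2, hc.2.2.symm, hbc.2.2, hbc.2.2.symm]
  have hfac : Fac D 3 (a * b * c) [a, b, c] := ⟨by
      simp [Ne.symm hb.2.1, Ne.symm hc.2.1, Ne.symm hbc.2.1], rfl, by simp [ha, hb.1, hc.1], hco,
      by simp [mul_assoc]⟩
  obtain ⟨S, eS⟩ : ∃ S : Set G, S = {x | x ∈ [a, b, c] ∨ x ∈ [t₁, t₂, t₃]} := ⟨_, rfl⟩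
  -- the image of one of the two lists is one of the two lists
  have himg : ∀ g ∈ Subgroup.centralizer ({a * b * c} : Set G), ∀ l, Fac D 3 (a * b * c) l →
      Fac D 3 (a * b * c) (l.map (MulAut.conj g)) := by
    intro g hg l hl
    refine ⟨hl.1.map (MulAut.conj g).injective, by rw [List.length_map, hl.2.1], ?_, ?_, ?_⟩
    · intro x hx
      obtain ⟨u, hu, rfl⟩ := List.mem_map.1 hx
      exact hD.2.1 g u (hl.2.2.1 u hu)
    · intro x hx y hy
      obtain ⟨u, hu, rfl⟩ := List.mem_map.1 hx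
      obtain ⟨v, hv, rfl⟩ := List.mem_map.1 hy
      exact (commute_conj_iff g u v).2 (hl.2.2.2.1 u hu v hv)
    · rw [← map_list_prod, hl.2.2.2.2, MulAut.conj_apply,
        conj_eq_of_commute (Subgroup.mem_centralizer_singleton_iff.1 hg)]
  -- another factorisation either has the same members or misses all of `a`, `b`, `c`
  have hcases : ∀ l, Fac D 3 (a * b * c) l →
      (∀ x, x ∈ l ↔ x ∈ [a, b, c]) ∨ (∀ x, x ∈ l ↔ x ∈ [t₁, t₂, t₃]) := by
    intro l hl
    by_cases hx : ∀ x ∈ [a, b, c], x ∉ l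
    · exact Or.inr (huniq l hl hx)
    push Not at hx
    obtain ⟨x, hx1, hx2⟩ := hx
    obtain ⟨h3, h4, -⟩ := m22_noRel hD h
    have e1 := fac_erase hfac hx1
    have e2 := fac_erase hl hx2
    refine Or.inl fun y => ?_
    have := determined hD (by norm_num) (fun _ => h4) (fun h' => absurd h' (by norm_num)) e1 e2 y
    by_cases hyx : y = x
    · subst hyx; exact iff_of_true hx2 hx1
    · rw [List.mem_erase_of_ne hyx, List.mem_erase_of_ne hyx] at this
      exact this.symm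
  obtain ⟨C, eC⟩ : ∃ C, C = Subgroup.centralizer ({a * b * c} : Set G) := ⟨_, rfl⟩
  rw [← eC] at himg ⊢
  have hmem : ∀ g, (g * a * g⁻¹) * (g * b * g⁻¹) * (g * c * g⁻¹) = a * b * c → g ∈ C := by
    intro g hg
    rw [eC, Subgroup.mem_centralizer_singleton_iff]
    refine mul_inv_eq_iff_eq_mul.1 (Eq.trans ?_ hg)
    group
  have htn : ∀ x ∈ [a, b, c], x ∉ [t₁, t₂, t₃] := by
    intro x hx hxt
    rcases hcases _ ht with h' | h'
    · exact hat ((h' a).2 (by simp))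
    · have h3 := m22_noRel hD h
      obtain ⟨h3, h4, -⟩ := h3
      have e1 := fac_erase hfac hx
      have e2 := fac_erase ht hxt
      have hax : a ≠ x := fun e => hat (e ▸ hxt)
      have := (determined hD (by norm_num) (fun _ => h4) (fun h' => absurd h' (by norm_num)) e1 e2 a)
      rw [List.mem_erase_of_ne hax, List.mem_erase_of_ne hax] at this
      exact hat (this.1 (by simp))
  -- the orbit of `a`
  have hT : ∀ x y z : G, Fac D 3 (a * b * c) [x, y, z] → ∃ g ∈ C, g * a * g⁻¹ = x := by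
    intro x y z hl
    obtain ⟨hn, -, hm, hcc, hp⟩ := hl
    simp only [List.nodup_cons, List.mem_cons, List.not_mem_nil, or_false, not_or] at hn
    obtain ⟨g, g1, g2, g3⟩ := triple_conj hD hP h ha hb hc hbc (hm x (by simp))
      ⟨hm y (by simp), Ne.symm hn.1.1, hcc x (by simp) y (by simp)⟩
      ⟨hm z (by simp), Ne.symm hn.1.2, hcc x (by simp) z (by simp)⟩
      ⟨hm z (by simp), Ne.symm hn.2.1, hcc y (by simp) z (by simp)⟩
    exact ⟨g, hmem g (by rw [g1, g2, g3]; simpa [mul_assoc] using hp), g1⟩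
  have hrot : ∀ {x y z : G}, Fac D 3 (a * b * c) [x, y, z] → Fac D 3 (a * b * c) [y, z, x] := by
    intro x y z hl
    have hp : [x, y, z].Perm [y, z, x] := (List.perm_append_comm (l₁ := [x]) (l₂ := [y, z]))
    refine ⟨hp.nodup_iff.1 hl.1, rfl, fun u hu => hl.2.2.1 u (hp.mem_iff.2 hu),
      fun u hu v hv => hl.2.2.2.1 u (hp.mem_iff.2 hu) v (hp.mem_iff.2 hv), ?_⟩
    rw [← perm_prod hp hl.2.2.2.1]
    exact hl.2.2.2.2
  have horb : ∀ o ∈ S, ∃ g ∈ C, g * a * g⁻¹ = o := by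
    intro o ho
    rw [eS] at ho
    rcases ho with ho | ho <;> simp only [List.mem_cons, List.not_mem_nil, or_false] at ho <;>
      rcases ho with rfl | rfl | rfl
    exacts [hT _ _ _ hfac, hT _ _ _ (hrot hfac), hT _ _ _ (hrot (hrot hfac)), hT _ _ _ ht,
      hT _ _ _ (hrot ht), hT _ _ _ (hrot (hrot ht))]
  have hS6 : S.ncard = 6 := by
    have e : S = ↑([a, b, c, t₁, t₂, t₃].toFinset) := by
      ext x; simp [eS, or_assoc]
    rw [e, Set.ncard_coe_finset, List.toFinset_card_of_nodup]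
    · rfl
    · rw [show [a, b, c, t₁, t₂, t₃] = [a, b, c] ++ [t₁, t₂, t₃] from rfl, List.nodup_append']
      exact ⟨hfac.1, ht.1, htn⟩
  have h1 := card_orbit_mul (H := C) (x := a) (O := S) (fun g hg => ?_) horb
  · -- the orbit of `b` under the stabiliser of `a`
    have hstab : ∀ g ∈ C, Commute g a → g * b * g⁻¹ = b ∨ g * b * g⁻¹ = c := by
      intro g hg hga
      have hgb : g * b * g⁻¹ ∈ [a, b, c].map (MulAut.conj g) :=
        List.mem_map_of_mem (f := MulAut.conj g) (List.mem_cons_of_mem _ List.mem_cons_self)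
      have hga' : a ∈ [a, b, c].map (MulAut.conj g) :=
        List.mem_map.2 ⟨a, List.mem_cons_self, conj_eq_of_commute hga⟩
      rcases hcases _ (himg g hg _ hfac) with h' | h'
      · have h2 := (h' _).1 hgb
        simp only [List.mem_cons, List.not_mem_nil, or_false] at h2
        rcases h2 with e | e
        · exact absurd (mul_left_cancel (mul_right_cancel (e.trans (conj_eq_of_commute hga).symm))) hb.2.1
        · exact e
      · exact absurd ((h' a).1 hga') hat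
    have hca : ∀ g, Commute g a → g * a * g⁻¹ = a := fun g => conj_eq_of_commute
    obtain ⟨s, hs, hs₁, hs₂⟩ := trans_pairs hD hP h ha hb hc hbc hc hb
      ⟨hb.1, Ne.symm hbc.2.1, hbc.2.2.symm⟩
    have hsC : s ∈ C ⊓ Subgroup.centralizer ({a} : Set G) := by
      refine Subgroup.mem_inf.2 ⟨hmem s ?_,
        Subgroup.mem_centralizer_singleton_iff.2 (commute_Hd hs).symm.eq⟩
      rw [hca s (commute_Hd hs).symm, hs₁, hs₂, mul_assoc, mul_assoc, hbc.2.2.eq]
    have h2 := card_orbit_mul (H := C ⊓ Subgroup.centralizer ({a} : Set G)) (x := b)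
      (O := {b, c}) (fun g hg => ?_) (fun o ho => ?_)
    · have hK : C ⊓ Subgroup.centralizer ({a} : Set G) ⊓ Subgroup.centralizer ({b} : Set G) =
          Subgroup.centralizer ({a} : Set G) ⊓ Subgroup.centralizer ({b} : Set G) ⊓
            Subgroup.centralizer ({c} : Set G) := by
        ext g
        simp only [Subgroup.mem_inf, eC, Subgroup.mem_centralizer_singleton_iff]
        change (Commute g (a * b * c) ∧ Commute g a) ∧ Commute g b ↔
          (Commute g a ∧ Commute g b) ∧ Commute g c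
        refine ⟨fun ⟨⟨g0, g1⟩, g2⟩ => ⟨⟨g1, g2⟩, ?_⟩, fun ⟨⟨g1, g2⟩, g3⟩ =>
          ⟨⟨(g1.mul_right g2).mul_right g3, g1⟩, g2⟩⟩
        have := ((g1.mul_right g2).inv_right).mul_right g0
        rwa [inv_mul_cancel_left] at this
      rw [hK, card_three hD hP h ha hb hc hbc, Set.ncard_pair (Ne.symm hbc.2.1)] at h2
      rw [h1, hS6, h2]
      norm_num
    · obtain ⟨g1, g2⟩ := Subgroup.mem_inf.1 hg
      rcases hstab g g1 (Subgroup.mem_centralizer_singleton_iff.1 g2) with e | e <;> simp [e]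
    · rcases ho with rfl | rfl
      · exact ⟨1, one_mem _, by group⟩
      · exact ⟨s, hsC, hs₁⟩
  · rw [eS]
    have hm : g * a * g⁻¹ ∈ [a, b, c].map (MulAut.conj g) :=
      List.mem_map_of_mem (f := MulAut.conj g) List.mem_cons_self
    rcases hcases _ (himg g hg _ hfac) with h' | h'
    · exact Or.inl ((h' _).1 hm)
    · exact Or.inr ((h' _).1 hm)

end CfsgLib.Trans3.Fi
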