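import Cfsg.Agent.Lib.Trans3.Fi.LocalEleven
import Cfsg.Agent.Lib.Trans3.Fi.U6Count
import Cfsg.Agent.Lib.Trans3.Fi.M22Count

/-!
Subgroups of order 11 of `PSU₆(2)` and of groups of type M(22).
-/

set_option autoImplicit false
set_option linter.unusedSectionVars false
set_option linter.style.haveILetI false

namespace CfsgLib.Trans3.Fi

open Matrix CfsgLib.MaxSub CfsgLib.Classical CfsgLib.Trans3.TvSU

section Model

variable {F : Type*} [Field F] [Fintype F] (hF : Fintype.card F = 2 ^ 2)
include hF

theorem card_su_six : Nat.card ↥(Cfsg.SU 6 F 2) = 27590492160 := by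
  have h := Subgroup.card_eq_card_quotient_mul_card_subgroup (Subgroup.center ↥(Cfsg.SU 6 F 2))
  rw [show Nat.card (↥(Cfsg.SU 6 F 2) ⧸ Subgroup.center ↥(Cfsg.SU 6 F 2)) = 9196830720 from
    card_psu_six hF, card_center_su hF (by norm_num)] at h
  exact h.trans (by norm_num)

omit hF in
/-- A set of vectors invariant under an element of prime order, and its fixed vectors. -/
theorem fix_count {r : ℕ} [Fact r.Prime] {g : ↥(Cfsg.SU 6 F 2)} (hg : orderOf g = r)
    (P : (Fin 6 → F) → Prop) (hP : ∀ v, P v → P (act g v)) :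
    Nat.card {v // P v} ≡ Nat.card {v // P v ∧ act g v = v} [MOD r] := by
  have hpow : ∀ k : ℕ, ∀ v, P v → P (act (g ^ k) v) := by
    intro k
    induction k with
    | zero => intro v hv; rwa [pow_zero, act_one]
    | succ k ih => intro v hv; rw [pow_succ, act_mul]; exact ih _ (hP v hv)
  have hz : ∀ z : ↥(Subgroup.zpowers g), ∀ v, P v → P (act (z : ↥(Cfsg.SU 6 F 2)) v) := by
    intro z v hv
    obtain ⟨k, hk⟩ := mem_powers_iff_mem_zpowers.2 z.2
    exact hk ▸ hpow k v hv
  letI : MulAction ↥(Subgroup.zpowers g) {v // P v} :=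
    { smul := fun z v => ⟨act (z : ↥(Cfsg.SU 6 F 2)) v.1, hz z v.1 v.2⟩
      one_smul := fun v => Subtype.ext (by
        show act ((1 : ↥(Subgroup.zpowers g)) : ↥(Cfsg.SU 6 F 2)) v.1 = v.1
        rw [OneMemClass.coe_one, act_one])
      mul_smul := fun z w v => Subtype.ext (act_mul _ _ _) }
  have hp : IsPGroup r ↥(Subgroup.zpowers g) :=
    IsPGroup.of_card (n := 1) (by rw [Nat.card_zpowers, hg, pow_one])
  have hfix : ∀ k : ℕ, ∀ v, act g v = v → act (g ^ k) v = v := by
    intro k
    induction k with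
    | zero => intro v _; rw [pow_zero, act_one]
    | succ k ih => intro v hv; rw [pow_succ, act_mul, hv, ih v hv]
  refine (hp.card_modEq_card_fixedPoints {v // P v}).trans (congrArg (· % r) ?_)
  refine Nat.card_congr
    { toFun := fun v => ⟨v.1.1, v.1.2, congrArg Subtype.val (v.2 ⟨g, Subgroup.mem_zpowers g⟩)⟩
      invFun := fun v => ⟨⟨v.1, v.2.1⟩, fun z => Subtype.ext (by
        obtain ⟨k, hk⟩ := mem_powers_iff_mem_zpowers.2 z.2
        show act (z : ↥(Cfsg.SU 6 F 2)) v.1 = v.1
        rw [← hk]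
        exact hfix k v.1 v.2.2)⟩
      left_inv := fun v => rfl
      right_inv := fun v => rfl }

variable {x : ↥(Cfsg.SU 6 F 2)} (hx : orderOf x = 11)
include hx

theorem eleven_fixed : ∃ u, hh u u = 1 ∧ act x u = u := by
  haveI : Fact (Nat.Prime 11) := ⟨by norm_num⟩
  have h := fix_count hx (fun v => ¬ hh v v = 0) fun v hv e => hv (by rwa [hh_act] at e)
  have hc : Nat.card {v : Fin 6 → F // ¬ hh v v = 0} = 2016 := by
    classical
    have e : Nat.card {v : Fin 6 → F // hh v v = 0} + Nat.card {v : Fin 6 → F // ¬ hh v v = 0} =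
        Nat.card (Fin 6 → F) := by
      rw [← Nat.card_sum]; exact Nat.card_congr (Equiv.sumCompl _)
    rw [card_iso_six hF, Nat.card_fun, Nat.card_eq_fintype_card (α := F), hF, Nat.card_fin] at e
    simp only [Nat.reducePow] at e
    omega
  rw [hc] at h
  obtain ⟨⟨u, hu, hxu⟩⟩ : Nonempty {v : Fin 6 → F // ¬ hh v v = 0 ∧ act x v = v} := by
    by_contra hn
    rw [not_nonempty_iff] at hn
    rw [Nat.card_of_isEmpty] at h
    exact absurd h (by decide)
  exact ⟨u, (hh_self hF u).resolve_left hu, hxu⟩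

variable {u : Fin 6 → F} (hu : hh u u = 1) (hxu : act x u = u)
include hu hxu

/-- The orthogonal complement of the fixed vector. -/
theorem eleven_perp : ∃ W : Submodule F (Fin 6 → F), (∀ v, v ∈ W ↔ hh v u = 0) ∧
    Module.finrank F W = 5 ∧ ∀ w ∈ W, act x w = w → w = 0 := by
  haveI : Fact (Nat.Prime 11) := ⟨by norm_num⟩
  let W : Submodule F (Fin 6 → F) :=
    { carrier := {v | hh v u = 0}
      add_mem' := fun {a b} ha hb => show hh (a + b) u = 0 by
        rw [hh_add_left hF, show hh a u = 0 from ha, show hh b u = 0 from hb, add_zero]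
      zero_mem' := hh_zero_left hF u
      smul_mem' := fun c v hv => show hh (c • v) u = 0 by
        rw [hh_smul_left hF, show hh v u = 0 from hv, mul_zero] }
  have hW : ∀ v, v ∈ W ↔ hh v u = 0 := fun v => Iff.rfl
  have hdim : Module.finrank F W = 5 := by
    let φ : (Fin 6 → F) →ₗ[F] F :=
      { toFun := fun v => hh v u
        map_add' := fun a b => hh_add_left hF a b u
        map_smul' := fun c a => hh_smul_left hF c a u }
    have hker : LinearMap.ker φ = W := Submodule.ext fun v => LinearMap.mem_ker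
    have hrange : LinearMap.range φ = ⊤ := LinearMap.range_eq_top.2 fun c =>
      ⟨c • u, show hh (c • u) u = c by rw [hh_smul_left hF, hu, mul_one]⟩
    have := φ.finrank_range_add_finrank_ker
    rw [hker, hrange, finrank_top, Module.finrank_self, Module.finrank_fin_fun] at this
    omega
  refine ⟨W, hW, hdim, fun w hw hxw => ?_⟩
  by_contra hw0
  let Fx : Submodule F (Fin 6 → F) :=
    { carrier := {v | act x v = v}
      add_mem' := fun {a b} ha hb => show act x (a + b) = a + b by
        rw [act, mulVec_add]; exact congrArg₂ (· + ·) ha hb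
      zero_mem' := show act x 0 = 0 by simp [act]
      smul_mem' := fun c v hv => show act x (c • v) = c • v by
        rw [act, mulVec_smul]; exact congrArg (c • ·) hv }
  have h := fix_count hx (fun _ => True) fun v _ => trivial
  rw [Nat.card_congr (Equiv.subtypeUnivEquiv fun _ => trivial),
    Nat.card_congr (show {v : Fin 6 → F // True ∧ act x v = v} ≃ ↥Fx from
      Equiv.subtypeEquivRight fun v => ⟨fun h => h.2, fun h => ⟨trivial, h⟩⟩),
    Module.natCard_eq_pow_finrank (K := F) (V := Fin 6 → F),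
    Module.natCard_eq_pow_finrank (K := F) (V := ↥Fx),
    Nat.card_eq_fintype_card, hF, Module.finrank_fin_fun] at h
  have h6 : Module.finrank F Fx ≤ 6 := (Submodule.finrank_le Fx).trans (Module.finrank_fin_fun F).le
  have h2 : 2 ≤ Module.finrank F Fx := by
    have hli : LinearIndependent F ![u, w] := by
      rw [LinearIndependent.pair_iff]
      intro s t hst
      have h1 := congrArg (fun v => hh v u) hst
      simp only [hh_add_left hF, hh_smul_left hF, hu, (hW w).1 hw, hh_zero_left hF, mul_zero,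
        add_zero, mul_one] at h1
      rw [h1, zero_smul, zero_add] at hst
      exact ⟨h1, (smul_eq_zero.1 hst).resolve_right hw0⟩
    have hle : Submodule.span F (Set.range ![u, w]) ≤ Fx := Submodule.span_le.2 (by
      rintro v ⟨i, rfl⟩
      fin_cases i
      exacts [hxu, hxw])
    have := Submodule.finrank_mono hle
    rwa [finrank_span_eq_card hli, Fintype.card_fin] at this
  have hk : Module.finrank F Fx = 6 := by
    obtain ⟨k, hk⟩ : ∃ k, Module.finrank F Fx = k := ⟨_, rfl⟩
    rw [hk] at h h6 h2 ⊢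
    interval_cases k <;> simp [Nat.ModEq] at h ⊢
  have htop : Fx = ⊤ := Submodule.eq_top_of_finrank_eq (hk.trans (Module.finrank_fin_fun F).symm)
  have h1 : x = 1 := act_ext fun v => by
    rw [act_one]; exact (htop ▸ Submodule.mem_top : v ∈ Fx)
  rw [h1, orderOf_one] at hx
  norm_num at hx

/-- An element of prime order commuting with an element of order 11 and fixing its fixed vector is
a power of it. -/
theorem eleven_no_prime {c : ↥(Cfsg.SU 6 F 2)} (hc : Commute c x) (hcu : act c u = u) {r : ℕ}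
    (hr : r.Prime) (hcr : orderOf c = r) : r = 11 := by
  by_contra hr11
  haveI : Fact r.Prime := ⟨hr⟩
  haveI : Fact (Nat.Prime 11) := ⟨by norm_num⟩
  obtain ⟨W, hW, hdim, hfix⟩ := eleven_perp hF hx hu hxu
  have hWc : ∀ v ∈ W, act c v ∈ W := fun v hv => (hW _).2 (by
    rw [← hcu, hh_act]; exact (hW v).1 hv)
  have hWx : ∀ v ∈ W, act x v ∈ W := fun v hv => (hW _).2 (by
    rw [← hxu, hh_act]; exact (hW v).1 hv)
  have hWcard : Nat.card W = 1024 := by
    rw [Module.natCard_eq_pow_finrank (K := F), hdim, Nat.card_eq_fintype_card, hF]; norm_num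
  have hpow : ∀ v, act (c ^ r) v = v := fun v => by rw [← hcr, pow_orderOf_eq_one, act_one]
  -- an eigenvector
  obtain ⟨w, hw, hw0, ε, hε⟩ : ∃ w ∈ W, w ≠ 0 ∧ ∃ ε : F, act c w = ε • w := by
    by_cases hr3 : r = 3
    · subst hr3
      obtain ⟨ω, hω⟩ := exists_omega hF
      obtain ⟨v, hv, hv0⟩ : ∃ v ∈ W, v ≠ 0 := by
        refine (Submodule.ne_bot_iff W).1 fun e => ?_
        rw [e, finrank_bot] at hdim
        omega
      have h3 : ∀ v, act c (act c (act c v)) = v := fun v => by
        rw [← act_mul, ← act_mul, ← pow_two, ← pow_succ]; exact hpow v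
      by_cases e1 : act c v - v = 0
      · exact ⟨v, hv, hv0, 1, by rw [one_smul]; exact sub_eq_zero.1 e1⟩
      have h1W : act c v - v ∈ W := sub_mem (hWc v hv) hv
      by_cases e2 : act c (act c v - v) - ω • (act c v - v) = 0
      · exact ⟨_, h1W, e1, ω, sub_eq_zero.1 e2⟩
      refine ⟨_, sub_mem (hWc _ h1W) (W.smul_mem ω h1W), e2, -1 - ω, ?_⟩
      simp only [act, mulVec_sub, mulVec_smul] at h3 ⊢
      simp only [h3]
      have h2 := add_self hF (1 : F)
      match_scalars
      all_goals first | ring1 | linear_combination hω + h2 | linear_combination -hω - h2 |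
        linear_combination hω - h2 | linear_combination -hω + h2
    · have hne : ¬ 1024 % r = 1 := by
        intro e
        have hd : r ∣ 1024 - 1 := (Nat.modEq_iff_dvd' (by norm_num)).1 (by
          show 1 % r = 1024 % r
          rw [e, Nat.mod_eq_of_lt hr.one_lt])
        have hG : r ∣ 27590492160 := card_su_six hF ▸ hcr ▸ orderOf_dvd_natCard c
        have := Nat.dvd_gcd hd hG
        norm_num at this
        have h33 : r ∣ 3 * 11 := this
        rcases hr.dvd_mul.1 h33 with h | h
        · exact hr3 ((Nat.prime_dvd_prime_iff_eq hr Nat.prime_three).1 h)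
        · exact hr11 ((Nat.prime_dvd_prime_iff_eq hr (by norm_num)).1 h)
      have h := fix_count hcr (fun v => v ∈ W) hWc
      rw [show Nat.card {v // v ∈ W} = 1024 from hWcard] at h
      obtain ⟨w, hw, hw0⟩ : ∃ w : {v // v ∈ W ∧ act c v = v}, True ∧ w.1 ≠ 0 := by
        by_contra hall
        push Not at hall
        haveI : Subsingleton {v // v ∈ W ∧ act c v = v} :=
          ⟨fun a b => Subtype.ext ((hall a trivial).trans (hall b trivial).symm)⟩
        have h0 : act c 0 = 0 := by simp [act]
        rw [Nat.card_of_subsingleton (⟨0, zero_mem W, h0⟩ : {v // v ∈ W ∧ act c v = v})] at h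
        exact hne (by rw [h, Nat.one_mod_eq_one.2 hr.one_lt.ne'])
      exact ⟨w.1, w.2.1, hw0, 1, by rw [one_smul]; exact w.2.2⟩
  -- its eigenspace is all of the complement
  let U : Submodule F (Fin 6 → F) :=
    { carrier := {v | v ∈ W ∧ act c v = ε • v}
      add_mem' := fun {a b} ha hb => ⟨W.add_mem ha.1 hb.1, by
        show suVal c *ᵥ (a + b) = _
        rw [mulVec_add, smul_add]; exact congrArg₂ (· + ·) ha.2 hb.2⟩
      zero_mem' := ⟨W.zero_mem, by simp [act]⟩
      smul_mem' := fun a v hv => ⟨W.smul_mem a hv.1, by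
        show suVal c *ᵥ (a • v) = _
        rw [mulVec_smul, show suVal c *ᵥ v = ε • v from hv.2, smul_comm]⟩ }
  have hUW : U ≤ W := fun v hv => hv.1
  have hUx : ∀ v, v ∈ U → act x v ∈ U := fun v hv => ⟨hWx v hv.1, by
    rw [← act_mul, hc.eq, act_mul, hv.2]
    show suVal x *ᵥ (ε • v) = _
    rw [mulVec_smul]⟩
  have h := fix_count hx (fun v => v ∈ U) hUx
  rw [show Nat.card {v // v ∈ U} = 4 ^ Module.finrank F U by
      show Nat.card U = _
      rw [Module.natCard_eq_pow_finrank (K := F), Nat.card_eq_fintype_card, hF]; norm_num] at h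
  haveI : Subsingleton {v // v ∈ U ∧ act x v = v} := ⟨fun a b => Subtype.ext
    ((hfix a.1 a.2.1.1 a.2.2).trans (hfix b.1 b.2.1.1 b.2.2).symm)⟩
  rw [Nat.card_of_subsingleton (⟨0, zero_mem U, by simp [act]⟩ : {v // v ∈ U ∧ act x v = v})] at h
  have h5 : Module.finrank F U ≤ 5 := hdim ▸ Submodule.finrank_mono hUW
  have h0 : Module.finrank F U ≠ 0 := fun e => by
    rw [Submodule.finrank_eq_zero] at e
    exact hw0 (by simpa [e] using (show w ∈ U from ⟨hw, hε⟩))
  have hk : Module.finrank F U = 5 := by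
    obtain ⟨k, hk⟩ : ∃ k, Module.finrank F U = k := ⟨_, rfl⟩
    rw [hk] at h h5 h0 ⊢
    interval_cases k <;> first | omega | simp [Nat.ModEq] at h ⊢
  have hUeq : U = W := Submodule.eq_of_le_of_finrank_eq hUW (hk.trans hdim.symm)
  have hε0 : ε ≠ 0 := fun e => act_ne_zero hF c hw0 (by rw [hε, e, zero_smul])
  -- the element is a quasi-reflection
  have hform : ∀ v, act c v = ε • v + ((1 + ε) * hh v u) • u := by
    intro v
    have hv : v + hh v u • u ∈ U := hUeq ▸ (hW _).2 (by
      rw [hh_add_left hF, hh_smul_left hF, hu, mul_one, add_self hF])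
    have h1 : suVal c *ᵥ (v + hh v u • u) = ε • (v + hh v u • u) := hv.2
    rw [mulVec_add, mulVec_smul, show suVal c *ᵥ u = u from hcu] at h1
    calc act c v = suVal c *ᵥ v + hh v u • u + hh v u • u := by
          rw [add_assoc, vec_add_self hF, add_zero]
      _ = ε • (v + hh v u • u) + hh v u • u := by rw [h1]
      _ = _ := by module
  have hdet : ε⁻¹ = 1 := by
    have hM : suVal c = ε • (1 + replicateCol Unit ((ε⁻¹ * (1 + ε)) • u) *
        replicateRow Unit fun i => u i ^ 2) := by
      refine Matrix.ext_iff_mulVec.2 fun v => ?_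
      rw [show suVal c *ᵥ v = act c v from rfl, hform v, smul_mulVec, add_mulVec, one_mulVec,
        ← mulVec_mulVec, smul_add]
      congr 1
      funext i
      simp only [mulVec, dotProduct, replicateCol_apply, replicateRow_apply, Pi.smul_apply,
        smul_eq_mul, Finset.univ_unique, Finset.sum_singleton, hh, Cfsg.hermForm]
      rw [show (∑ k, u k ^ 2 * v k) = ∑ k, v k * u k ^ 2 from
        Finset.sum_congr rfl fun k _ => mul_comm _ _]
      field_simp
    have hd : (suVal c).det = 1 := c.1.2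
    rw [hM, det_smul, det_one_add_replicateCol_mul_replicateRow, dotProduct_smul,
      Fintype.card_fin, smul_eq_mul] at hd
    rw [show (fun i => u i ^ 2) ⬝ᵥ u = 1 from (herm_dot u u).trans hu] at hd
    have h2 := add_self hF (1 : F)
    have h3 := cube_one hF hε0
    calc ε⁻¹ = (ε ^ 3) ^ 2 * (1 + ε⁻¹ * (1 + ε) * 1) := by
          rw [h3, one_pow, one_mul, mul_one, mul_add, mul_one, inv_mul_cancel₀ hε0]
          linear_combination -h2
      _ = 1 := by rw [← pow_mul]; exact hd
  have hε1 : ε = 1 := inv_eq_one.1 hdet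
  have hc1 : c = 1 := act_ext fun v => by
    rw [act_one, hform v, hε1, one_smul, add_self hF, zero_mul, zero_smul, add_zero]
  rw [hc1, orderOf_one] at hcr
  exact hr.ne_one hcr.symm

omit hxu in
/-- The centraliser of an element of order 11 fixing a given vector. -/
theorem eleven_stab (hxu : act x u = u) : ∀ C : Subgroup ↥(Cfsg.SU 6 F 2),
    (∀ c ∈ C, Commute c x ∧ act c u = u) → Nat.card C ∣ 11 := by
  intro C hC
  have hpow : ∀ r, r.Prime → r ∣ Nat.card C → r = 11 := by
    intro r hr hd
    haveI : Fact r.Prime := ⟨hr⟩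
    obtain ⟨c, hc⟩ := exists_prime_orderOf_dvd_card' r hd
    exact eleven_no_prime hF hx hu hxu (hC c c.2).1 (hC c c.2).2 hr (by rw [Subgroup.orderOf_coe, hc])
  obtain ⟨k, hk⟩ : ∃ k, Nat.card C = 11 ^ k :=
    ⟨_, Nat.eq_prime_pow_of_unique_prime_dvd Nat.card_pos.ne' fun {d} hd hdd => hpow d hd hdd⟩
  have hd : Nat.card C ∣ 27590492160 := card_su_six hF ▸ C.card_subgroup_dvd_card
  rw [hk] at hd ⊢
  rcases k with _ | _ | k
  · simp
  · simp
  · exfalso
    have := (pow_dvd_pow 11 (show 2 ≤ k + 2 by omega)).trans hd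
    norm_num at this

end Model

/-- The centraliser of a subgroup of order 11 of `PSU₆(2)`. -/
theorem u6_centralizer_eleven {G : Type*} [Group G] [Finite G] {D : Set G} (hU : IsU6 G)
    (hD : Cfsg.IsThreeTranspositionGroup D) {y : G} (hy : orderOf y = 11) :
    Nat.card ↥(Subgroup.centralizer ({y} : Set G)) = 11 := by
  classical
  obtain ⟨F, _, _, f, hF, hf, hk⟩ := exists_model hU hD
  haveI : Fact (Nat.Prime 11) := ⟨by norm_num⟩
  obtain ⟨x₀, hx₀⟩ := hf y
  have h33 : x₀ ^ 33 = 1 := by
    have h1 : x₀ ^ 11 ∈ Subgroup.center ↥(Cfsg.SU 6 F 2) := by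
      rw [← hk, MonoidHom.mem_ker, map_pow, hx₀, ← hy, pow_orderOf_eq_one]
    rw [show 33 = 11 * 3 by norm_num, pow_mul]
    exact center_cube hF h1
  obtain ⟨x, ex⟩ : ∃ x, x = x₀ ^ 12 := ⟨_, rfl⟩
  have hfx : f x = y := by
    rw [ex, map_pow, hx₀, show 12 = 11 + 1 by norm_num, pow_succ, ← hy, pow_orderOf_eq_one, one_mul]
  have hx : orderOf x = 11 := orderOf_eq_prime (by
    rw [ex, ← pow_mul, show 12 * 11 = 33 * 4 by norm_num, pow_mul, h33, one_pow]) fun e => by
    rw [e, map_one] at hfx
    rw [← hfx, orderOf_one] at hy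
    norm_num at hy
  obtain ⟨u, hu, hxu⟩ := eleven_fixed hF hx
  obtain ⟨W, hW, -, hfix⟩ := eleven_perp hF hx hu hxu
  let C : Subgroup ↥(Cfsg.SU 6 F 2) :=
    { carrier := {c | Commute c x ∧ act c u = u}
      mul_mem' := fun {a b} ha hb => ⟨ha.1.mul_left hb.1, by rw [act_mul, hb.2, ha.2]⟩
      one_mem' := ⟨Commute.one_left x, act_one u⟩
      inv_mem' := fun {a} ha => ⟨ha.1.inv_left, by
        conv_lhs => rw [← ha.2]
        exact act_inv a u⟩ }
  have hC11 : Nat.card C ∣ 11 := eleven_stab hF hx hu hxu C fun c hc => hc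
  have hle : Subgroup.centralizer ({y} : Set G) ≤ C.map f := by
    intro g hg
    obtain ⟨c, rfl⟩ := hf g
    rw [Subgroup.mem_centralizer_singleton_iff, ← hfx, ← map_mul, ← map_mul] at hg
    obtain ⟨z, ez⟩ : ∃ z, z = c * x * c⁻¹ * x⁻¹ := ⟨_, rfl⟩
    have hz : z ∈ Subgroup.center ↥(Cfsg.SU 6 F 2) := by
      rw [← hk, MonoidHom.mem_ker, ez, mul_assoc, ← _root_.mul_inv_rev, map_mul, map_inv, hg, mul_inv_cancel]
    have hx11 : x ^ 11 = 1 := hx ▸ pow_orderOf_eq_one x
    have hz11 : z ^ 11 = 1 := by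
      have e : c * x * c⁻¹ = z * x := by rw [ez]; group
      have h1 := congrArg (· ^ 11) e
      simp only [conj_pow, hx11, mul_one, mul_inv_cancel] at h1
      rw [(show Commute z x from (Subgroup.mem_center_iff.1 hz x).symm).mul_pow, hx11, mul_one] at h1
      exact h1.symm
    have hz1 : z = 1 := by
      rw [← orderOf_eq_one_iff]
      exact Nat.eq_one_of_dvd_coprimes (show Nat.Coprime 3 11 by norm_num)
        (orderOf_dvd_of_pow_eq_one (center_cube hF hz)) (orderOf_dvd_of_pow_eq_one hz11)
    have hcx : Commute c x := mul_inv_eq_iff_eq_mul.1 (mul_inv_eq_one.1 (ez.symm.trans hz1))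
    -- `c` maps the fixed line to itself
    obtain ⟨a, ea⟩ : ∃ a, a = hh (act c u) u := ⟨_, rfl⟩
    have hcu : act c u = a • u := by
      refine vec_eq_of_add hF _ _ (hfix _ ((hW _).2 ?_) ?_)
      · rw [hh_add_left hF, hh_smul_left hF, hu, mul_one, ← ea, add_self hF]
      · show suVal x *ᵥ _ = _
        rw [mulVec_add, mulVec_smul, show suVal x *ᵥ u = u from hxu,
          show suVal x *ᵥ act c u = act c u by
            show act x (act c u) = _; rw [← act_mul, ← hcx.eq, act_mul, hxu]]
    have ha : a ≠ 0 := fun e => by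
      have h0 : u ≠ 0 := fun e0 => by rw [e0, hh_zero_left hF] at hu; exact zero_ne_one hu
      exact act_ne_zero hF c h0 (by rw [hcu, e, zero_smul])
    obtain ⟨s, hs⟩ := diagonal_mem_su hF (n := 6) (fun _ => a⁻¹)
      (fun _ => cube_one hF (inv_ne_zero ha)) (by
        simp only [Finset.prod_const, Finset.card_univ, Fintype.card_fin]
        rw [show 6 = 3 * 2 by norm_num, pow_mul, cube_one hF (inv_ne_zero ha), one_pow])
    have hsa : ∀ v, act s v = a⁻¹ • v := fun v => by
      show suVal s *ᵥ v = _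
      rw [show suVal s = Matrix.diagonal fun _ => a⁻¹ from hs]
      funext i
      rw [mulVec_diagonal, Pi.smul_apply, smul_eq_mul]
    have hsc := mem_center_of_scalar hF hsa
    refine ⟨s * c, ⟨?_, ?_⟩, ?_⟩
    · exact (show Commute s x from (Subgroup.mem_center_iff.1 hsc x).symm).mul_left hcx
    · rw [act_mul, hcu, hsa, smul_smul, inv_mul_cancel₀ ha, one_smul]
    · rw [map_mul, show f s = 1 from (map_eq_one_iff' hF f hk).2 hsc, one_mul]
  have h1 : Nat.card ↥(Subgroup.centralizer ({y} : Set G)) ∣ 11 :=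
    ((Subgroup.card_dvd_of_le hle).trans (Subgroup.card_map_dvd _ _)).trans hC11
  refine ((Nat.dvd_prime (by norm_num)).1 h1).resolve_left fun e => ?_
  have hmem : y ∈ Subgroup.centralizer ({y} : Set G) :=
    Subgroup.mem_centralizer_singleton_iff.2 rfl
  rw [Subgroup.eq_bot_of_card_eq _ e, Subgroup.mem_bot] at hmem
  rw [hmem, orderOf_one] at hy
  norm_num at hy

open LocalLift

/-- Normalisers of subgroups of order 11 of `PSU₆(2)`. -/
theorem u6_eleven {G : Type*} [Group G] [Finite G] {D : Set G} (hU : IsU6 G)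
    (hD : Cfsg.IsThreeTranspositionGroup D) : LocData D 11 5 0 := by
  haveI : Fact (Nat.Prime 11) := ⟨by norm_num⟩
  have key : ∀ X : Subgroup G, Nat.card X = 11 →
      Nat.card ↥(Subgroup.centralizer (X : Set G)) = 11 ∧ fixedD D X = ∅ ∧
      Nat.card ↥(Subgroup.normalizer (X : Set G)) = 55 := by
    intro X hX
    obtain ⟨y, hy⟩ := exists_prime_orderOf_dvd_card' (G := X) 11 (hX ▸ dvd_rfl)
    have hyo : orderOf (y : G) = 11 := by rw [Subgroup.orderOf_coe, hy]
    have hXy : X = Subgroup.zpowers (y : G) := (Subgroup.eq_of_le_of_card_ge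
      (Subgroup.zpowers_le.2 y.2) (by rw [hX, Nat.card_zpowers, hyo])).symm
    have hC : Subgroup.centralizer (X : Set G) = Subgroup.centralizer ({(y : G)} : Set G) :=
      (congrArg (fun Z : Subgroup G => Subgroup.centralizer (Z : Set G)) hXy).trans (by
        rw [Subgroup.zpowers_eq_closure, Subgroup.centralizer_closure])
    have hcard : Nat.card ↥(Subgroup.centralizer (X : Set G)) = 11 :=
      hC ▸ u6_centralizer_eleven hU hD hyo
    refine ⟨hcard, Set.eq_empty_iff_forall_notMem.2 fun d ⟨hd, hdC⟩ => ?_, ?_⟩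
    · have := orderOf_dvd_natCard (⟨d, hdC⟩ : ↥(Subgroup.centralizer (X : Set G)))
      rw [Subgroup.orderOf_mk, hD.1.1 d hd, hcard] at this
      norm_num at this
    obtain ⟨N, eN⟩ : ∃ N, N = Subgroup.normalizer (X : Set G) := ⟨_, rfl⟩
    have hdvd : Nat.card N ∣ 110 := by
      have hker := Subgroup.normalizerMonoidHom_ker X
      rw [eN, ← X.normalizerMonoidHom.ker.card_mul_index, Subgroup.index_ker, hker,
        Nat.card_congr (Subgroup.subgroupOfEquivOfLe (Subgroup.centralizer_le_normalizer _)).toEquiv,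
        hcard]
      haveI : IsCyclic X := isCyclic_of_prime_card hX
      have h10 : Nat.card (MulAut X) = 10 := by
        rw [Nat.card_congr (IsCyclic.mulAutMulEquiv X).toEquiv, hX, Nat.card_eq_fintype_card,
          ZMod.card_units_eq_totient]
        rfl
      exact mul_dvd_mul_left 11 (h10 ▸ Subgroup.card_subgroup_dvd_card _)
    rw [← eN]
    have h11 : 11 ∣ Nat.card N := hX ▸ Subgroup.card_dvd_of_le (eN ▸ Subgroup.le_normalizer)
    have hsyl : (Nat.card G).factorization 11 = 1 := by
      rw [u6_card hU]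
      rw [show 9196830720 = 11 * 836075520 by norm_num,
        Nat.factorization_mul (by norm_num) (by norm_num), Finsupp.add_apply,
        Nat.Prime.factorization_self (by norm_num),
        Nat.factorization_eq_zero_of_not_dvd (by norm_num)]
    let P : Sylow 11 G := Sylow.ofCard X (by rw [hX, hsyl, pow_one])
    have hidx := card_sylow_modEq_one 11 G
    rw [P.card_eq_index_normalizer] at hidx
    have hN : Subgroup.normalizer (P : Set G) = N := eN.symm
    rw [hN] at hidx
    have hmul := N.card_mul_index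
    rw [u6_card hU] at hmul
    obtain ⟨m, hm⟩ : ∃ m, Nat.card N = m := ⟨_, rfl⟩
    rw [hm] at hdvd h11 hmul ⊢
    obtain ⟨j, rfl⟩ := h11
    have hj : j ∣ 10 := Nat.dvd_of_mul_dvd_mul_left (by norm_num : 0 < 11) hdvd
    have hj10 := Nat.le_of_dvd (by norm_num) hj
    unfold Nat.ModEq at hidx
    interval_cases j <;> first | rfl | omega
  refine ⟨fun X hX => ?_, fun X hX => ?_, fun X hX => ?_, fun X hX => ?_, fun X hX y hy _ ho => ?_⟩
  · rw [(key X hX).2.1, Set.ncard_empty]
  · intro a ha; rw [(key X hX).2.1] at ha; exact absurd ha (Set.notMem_empty a)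
  · rw [(key X hX).2.1, Subgroup.closure_empty, Subgroup.card_bot, pow_zero]
  · rw [(key X hX).2.1, show Subgroup.centralizer (∅ : Set G) = ⊤ from
      eq_top_iff.2 fun g _ => Subgroup.mem_centralizer_iff.2 fun h hh => absurd hh (Set.notMem_empty h),
      inf_top_eq, (key X hX).2.2]
    norm_num
  · have := orderOf_dvd_natCard (⟨y, hy⟩ : ↥(Subgroup.centralizer (X : Set G)))
    rw [Subgroup.orderOf_mk, ho, (key X hX).1] at this
    norm_num at this

/-- Normalisers of subgroups of order 11 of a group of type M(22). -/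
theorem m22_eleven {G : Type*} [Group G] [Finite G] {D : Set G}
    (hD : Cfsg.IsThreeTranspositionGroup D) (hP : Cfsg.IsPrimitiveUnderConj D)
    (h : Cfsg.IsOfTypeM22 G D) : LocData D 11 5 1 := by
  have hN := nice_m22 hD h
  have hnb : ∀ d ∈ D, (nbrs D d).ncard = 693 := fun d hd => by
    rw [ncard_Db hN hd]; exact u6_card_D (m22_isU6 hD h hd) (hN.group_Db hd)
  refine LocData.up hN (fun d hd => m22_gate hD hP h hd) (fun d hd => m22_center_Hd hD hP h hd)
    (by norm_num) (by norm_num) (by norm_num) (by norm_num)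
    (by rw [m22_card_D hD hP h]; norm_num) (fun d hd e he hde x hxd hxe => ?_)
    fun d hd => u6_eleven (m22_isU6 hD h hd) (hN.group_Db hd)
  refine pair_order_ne hD hP (lvl_m22 hD hP h).pairc (by norm_num) hd he hde ?_ ?_ hxd hxe
  · rw [m22_card_D hD hP h, hnb d hd]; norm_num
  · rw [← m22_gate hD hP h hd, card_Hd hD hP h hd]; norm_num

end CfsgLib.Trans3.Fi
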