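import Cfsg.Agent.Lib.Trans3.Fi.InvolM23
import Cfsg.Agent.Lib.Trans3.Fi.LocalElevenBase

/-!
An involution whose centraliser is the direct product with a group of type M(23): the conjugates of
the involution in its centraliser are the involution and its products with the transpositions.
-/

set_option autoImplicit false
set_option linter.unusedSectionVars false
set_option linter.style.haveILetI false

namespace CfsgLib.Trans3.Fi24Fus

open Subgroup CfsgLib.Trans3.Fi CfsgLib.Trans3.Fi.LocalLift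

section M23

variable {G : Type*} [Group G] [Finite G] {D : Set G}
variable (hD : Cfsg.IsThreeTranspositionGroup D) (hP : Cfsg.IsPrimitiveUnderConj D)
  (h : Cfsg.IsOfTypeM23 G D)
include hD hP h

theorem pair_notMem {a b : G} (ha : a ∈ D) (hb : b ∈ D) (hab : a ≠ b) (hc : Commute a b) :
    a * b ∉ D := by
  intro hm
  have haa := invol_mul_self (hD.1.1 a ha)
  have hbb := invol_mul_self (hD.1.1 b hb)
  refine (m23_noRel hD h).1 [a, b, a * b] ?_ rfl ?_ ?_ ?_
  · simp only [List.nodup_cons, List.mem_cons, List.not_mem_nil, or_false, not_or, List.nodup_nil,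
      not_false_eq_true, and_true]
    exact ⟨⟨hab, fun e => invol_ne_one (hD.1.1 b hb) (mul_left_cancel (e.symm.trans (mul_one a).symm))⟩,
      fun e => invol_ne_one (hD.1.1 a ha) (mul_right_cancel (e.symm.trans (one_mul b).symm))⟩
  · simp [ha, hb, hm]
  · have h1 : Commute a (a * b) := (Commute.refl a).mul_right hc
    have h2 : Commute b (a * b) := hc.symm.mul_right (Commute.refl b)
    simp [hc, hc.symm, h1, h1.symm, h2, h2.symm]
  · simp only [List.prod_cons, List.prod_nil, mul_one]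
    rw [show a * (b * (a * b)) = a * (b * a) * b by group, ← hc.eq,
      show a * (a * b) * b = (a * a) * (b * b) by group, haa, hbb, one_mul]

/-- An involution centralising an element of order 11 is in the group of the two members fixed by
it. -/
theorem invol_cent_eleven {z : G} (hz : orderOf z = 11) :
    ∃ p q, p ∈ D ∧ q ∈ D ∧ p ≠ q ∧ Commute p q ∧ Commute p z ∧ Commute q z ∧
      ∀ u, u * u = 1 → u ≠ 1 → Commute u z → u = p ∨ u = q ∨ u = p * q := by
  classical
  have hX : Nat.card (zpowers z) = 11 := by rw [Nat.card_zpowers, hz]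
  have hl := LocalEleven.m23_data hD hP h fun _ he => LocalEleven.m23_base hD hP h he
  obtain ⟨p, q, hpq, hS⟩ := Set.ncard_eq_two.1 (hl.ncard _ hX)
  have hmem : ∀ {v}, v ∈ D → Commute v z → v = p ∨ v = q := by
    intro v hv hvz
    have hm : v ∈ fixedD D (zpowers z) := ⟨hv, mem_centralizer_iff.2 fun x hx => by
      obtain ⟨k, rfl⟩ := hx
      exact (hvz.symm.zpow_left k).eq⟩
    rw [hS] at hm
    simpa using hm
  have hp : p ∈ fixedD D (zpowers z) := hS.symm ▸ Set.mem_insert p _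
  have hq : q ∈ fixedD D (zpowers z) := hS.symm ▸ Set.mem_insert_of_mem p rfl
  refine ⟨p, q, hp.1, hq.1, hpq, hl.comm _ hX p hp q hq,
    (mem_centralizer_iff.1 hp.2 z (mem_zpowers z)).symm,
    (mem_centralizer_iff.1 hq.2 z (mem_zpowers z)).symm, fun u huu hu1 huz => ?_⟩
  obtain ⟨m, l, hm1, hm3, hl'⟩ := m23_invol hD hP h hu1 huu
  obtain ⟨hn, hlen, hlD, hco, hpr⟩ := id hl'
  obtain ⟨-, h4, -, h6⟩ := m23_noRel hD h
  -- conjugation by `z` permutes the unique factorisation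
  have hperm : ∀ x, x ∈ l → z * x * z⁻¹ ∈ l := by
    intro x hx
    have hl2 : Fac D m u (l.map fun v => z * v * z⁻¹) := by
      refine ⟨hn.map fun v w e => mul_left_cancel (mul_right_cancel e), by rw [List.length_map, hlen],
        fun v hv => ?_, fun v hv w hw => ?_, ?_⟩
      · obtain ⟨v', hv', rfl⟩ := List.mem_map.1 hv
        exact hD.2.1 z v' (hlD v' hv')
      · obtain ⟨v', hv', rfl⟩ := List.mem_map.1 hv
        obtain ⟨w', hw', rfl⟩ := List.mem_map.1 hw
        exact (hco v' hv' w' hw').map (MulAut.conj z).toMonoidHom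
      · have e : (l.map fun v => z * v * z⁻¹) = l.map (MulAut.conj z).toMonoidHom := rfl
        rw [e, ← map_list_prod, hpr]
        show z * u * z⁻¹ = u
        rw [← huz.eq, mul_inv_cancel_right]
    exact (determined hD hm3 (fun _ => h4) (fun _ => h6) hl2 hl' _).1 (List.mem_map.2 ⟨x, hx, rfl⟩)
  have hfix : ∀ x ∈ l, x = p ∨ x = q := by
    intro x hx
    refine hmem (hlD x hx) ?_
    obtain ⟨i, j, hij, he⟩ : ∃ i j : Fin 4, i < j ∧
        z ^ (i : ℕ) * x * (z ^ (i : ℕ))⁻¹ = z ^ (j : ℕ) * x * (z ^ (j : ℕ))⁻¹ := by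
      have hit : ∀ k : ℕ, z ^ k * x * (z ^ k)⁻¹ ∈ l := by
        intro k
        induction k with
        | zero => simpa using hx
        | succ k ih =>
          have := hperm _ ih
          rwa [show z * (z ^ k * x * (z ^ k)⁻¹) * z⁻¹ = z ^ (k + 1) * x * (z ^ (k + 1))⁻¹ by
            rw [pow_succ']; group] at this
      obtain ⟨i, -, j, -, hne, he⟩ := Finset.exists_ne_map_eq_of_card_lt_of_maps_to
        (s := (Finset.univ : Finset (Fin 4))) (t := l.toFinset)
        (f := fun i : Fin 4 => z ^ (i : ℕ) * x * (z ^ (i : ℕ))⁻¹)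
        (by
          rw [Finset.card_univ, Fintype.card_fin]
          exact lt_of_le_of_lt l.toFinset_card_le (by omega))
        (fun i _ => List.mem_toFinset.2 (hit i))
      rcases lt_or_gt_of_ne hne with hl | hl
      exacts [⟨i, j, hl, he⟩, ⟨j, i, hl, he.symm⟩]
    obtain ⟨k, hk⟩ : ∃ k, (j : ℕ) = i + k := ⟨(j : ℕ) - i, by omega⟩
    have hk0 : 0 < k ∧ k < 4 := by
      have := j.isLt
      have : (i : ℕ) < j := hij
      omega
    have hfx : Commute (z ^ k) x := by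
      rw [hk, pow_add] at he
      have h2 : x = z ^ k * x * (z ^ k)⁻¹ := by
        calc x = (z ^ (i : ℕ))⁻¹ * (z ^ (i : ℕ) * x * (z ^ (i : ℕ))⁻¹) * z ^ (i : ℕ) := by group
          _ = _ := by rw [he]; group
      exact (mul_inv_eq_iff_eq_mul.1 h2.symm : z ^ k * x = x * z ^ k)
    have hco' : (orderOf z).Coprime k := by
      rw [hz]
      rcases hk0 with ⟨h1, h2⟩
      interval_cases k <;> decide
    obtain ⟨n, hn'⟩ := exists_pow_eq_self_of_coprime hco'.symm
    rw [← hn']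
    exact (hfx.pow_left n).symm
  have hsub : l ⊆ [p, q] := fun x hx => by simpa using hfix x hx
  have hlen2 : l.length ≤ 2 := (List.subperm_of_subset hn hsub).length_le
  match l, hlen2, hn, hfix, hpr with
  | [], _, _, _, hpr => exact absurd (by simpa using hpr.symm) hu1
  | [x], _, _, hfix, hpr =>
    rcases hfix x (by simp) with rfl | rfl
    · exact Or.inl (by simpa using hpr.symm)
    · exact Or.inr (Or.inl (by simpa using hpr.symm))
  | [x, y], _, hn, hfix, hpr =>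
    simp only [List.prod_cons, List.prod_nil, mul_one] at hpr
    simp only [List.nodup_cons, List.mem_cons, List.not_mem_nil, or_false] at hn
    rcases hfix x (by simp) with rfl | rfl <;> rcases hfix y (by simp) with rfl | rfl
    · exact absurd rfl hn.1
    · exact Or.inr (Or.inr hpr.symm)
    · refine Or.inr (Or.inr ?_)
      rw [← hpr]
      exact (hl.comm _ hX _ hp _ hq).symm.eq
    · exact absurd rfl hn.1
  | _ :: _ :: _ :: _, hlen2, _, _, _ => simp at hlen2

/-- Two commuting members are centralised by an element of order 11. -/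
theorem exists_eleven {a b : G} (ha : a ∈ D) (hb : b ∈ D) (hab : a ≠ b) (hc : Commute a b) :
    ∃ z, orderOf z = 11 ∧ Commute z a ∧ Commute z b := by
  haveI : Fact (Nat.Prime 11) := ⟨by norm_num⟩
  obtain ⟨z, hz⟩ := exists_prime_orderOf_dvd_card' (G := G) 11 (by rw [m23_card hD hP h]; norm_num)
  obtain ⟨p, q, hp, hq, hpq, hpqc, hpz, hqz, -⟩ := invol_cent_eleven hD hP h hz
  obtain ⟨g, hg⟩ := m23_tuple_pair hD hP h [p, q] [a, b] rfl rfl (by simp [hpq]) (by simp [hab])
    (by simp [hp, hq]) (by simp [ha, hb]) (by simp [hpqc, hpqc.symm]) (by simp [hc, hc.symm])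
  simp only [List.map_cons, List.map_nil, List.cons.injEq, and_true] at hg
  obtain ⟨rfl, rfl⟩ := hg
  exact ⟨g * z * g⁻¹, by rw [orderOf_conj, hz], hpz.symm.map (MulAut.conj g).toMonoidHom,
    hqz.symm.map (MulAut.conj g).toMonoidHom⟩

end M23

/-- The setting: `d` is an outer involution, `Y` its centraliser in the subgroup of index two, of
type M(23); `d` is swapped with one of its products with a transposition, and for two commuting
transpositions `a`, `b` some element takes `a` to `a * b` and `d` into `d * ⟨a, b⟩`. -/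
structure Fus {X : Type*} [Group X] (d : X) (G₀ Y : Subgroup X) (DY : Set ↥Y) : Prop where
  dd : d * d = 1
  dG : d ∉ G₀
  normal : G₀.Normal
  Yeq : Y = G₀ ⊓ Subgroup.centralizer ({d} : Set X)
  cd : ∀ c : X, Commute c d → c ∈ Y ∨ d * c ∈ Y
  grp : Cfsg.IsThreeTranspositionGroup DY
  prim : Cfsg.IsPrimitiveUnderConj DY
  m23 : Cfsg.IsOfTypeM23 ↥Y DY
  swap : ∃ t ∈ DY, ∃ g : X, g * d * g⁻¹ = d * t ∧ g * (d * t) * g⁻¹ = d
  coset : ∀ a ∈ DY, ∀ b ∈ DY, a ≠ b → Commute a b → ∃ g : X, g * (a : X) * g⁻¹ = a * b ∧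
    (g * d * g⁻¹ = d ∨ g * d * g⁻¹ = d * a ∨ g * d * g⁻¹ = d * b ∨ g * d * g⁻¹ = d * (a * b))

/-- Adjacent conjugates of `d`. -/
def Near {X : Type*} [Group X] {Y : Subgroup X} (d : X) (DY : Set ↥Y) (x x' : X) : Prop :=
  ∃ g : X, ∃ t ∈ DY, g * d * g⁻¹ = x ∧ g * (d * t) * g⁻¹ = x'

variable {X : Type*} [Group X] {d : X} {G₀ Y : Subgroup X} {DY : Set ↥Y} (h : Fus d G₀ Y DY)
include h

theorem comm_d (y : ↥Y) : Commute (y : X) d := by
  have := y.2
  simp only [h.Yeq, Subgroup.mem_inf, Subgroup.mem_centralizer_singleton_iff] at this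
  exact this.2

theorem Y_le (y : ↥Y) : (y : X) ∈ G₀ := by
  have := y.2
  simp only [h.Yeq, Subgroup.mem_inf] at this
  exact this.1

theorem mem_Y {c : X} (hG : c ∈ G₀) (hc : Commute c d) : c ∈ Y := by
  rw [h.Yeq]
  exact ⟨hG, Subgroup.mem_centralizer_singleton_iff.2 hc.eq⟩

theorem conj_DY {c : X} (hc : Commute c d) {t : ↥Y} (ht : t ∈ DY) :
    ∃ t' ∈ DY, c * (t : X) * c⁻¹ = t' := by
  rcases h.cd c hc with hy | hy
  · exact ⟨_, h.grp.2.1 ⟨c, hy⟩ t ht, rfl⟩
  · refine ⟨_, h.grp.2.1 ⟨d * c, hy⟩ t ht, ?_⟩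
    have hcc := (comm_d h (⟨d * c, hy⟩ * t * ⟨d * c, hy⟩⁻¹)).eq
    simp only [Subgroup.coe_mul, Subgroup.coe_inv] at hcc ⊢
    calc c * (t : X) * c⁻¹ = d⁻¹ * (d * c * t * (d * c)⁻¹ * d) := by group
      _ = _ := by rw [hcc]; group

theorem conj_sub {g x : X} {t : ↥Y} (hg : g * d * g⁻¹ = x) {x' : X}
    (ht : g * (d * t) * g⁻¹ = x') : g⁻¹ * x' * g = d * t := by
  rw [← ht]; group

theorem near_iff {g x x' : X} (hg : g * d * g⁻¹ = x) (hn : Near d DY x x') :
    ∃ t ∈ DY, g⁻¹ * x' * g = d * t := by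
  obtain ⟨g₁, t, ht, h1, h2⟩ := hn
  have hc : Commute (g⁻¹ * g₁) d := by
    show g⁻¹ * g₁ * d = d * (g⁻¹ * g₁)
    calc g⁻¹ * g₁ * d = g⁻¹ * (g₁ * d * g₁⁻¹) * g₁ := by group
      _ = g⁻¹ * (g * d * g⁻¹) * g₁ := by rw [h1, hg]
      _ = _ := by group
  obtain ⟨t', ht', e⟩ := conj_DY h hc ht
  refine ⟨t', ht', ?_⟩
  rw [← h2, ← e]
  calc g⁻¹ * (g₁ * (d * t) * g₁⁻¹) * g = (g⁻¹ * g₁ * d) * t * (g⁻¹ * g₁)⁻¹ := by group
    _ = (d * (g⁻¹ * g₁)) * t * (g⁻¹ * g₁)⁻¹ := by rw [hc.eq]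
    _ = _ := by group

theorem near_self {x : X} (hn : Near d DY d x) : ∃ t ∈ DY, x = d * t := by
  obtain ⟨t, ht, e⟩ := near_iff h (g := 1) (by group) hn
  exact ⟨t, ht, by simpa using e⟩

theorem near_symm {x x' : X} (hn : Near d DY x x') : Near d DY x' x := by
  obtain ⟨g, t, ht, h1, h2⟩ := hn
  obtain ⟨t₀, ht₀, g₀, e1, e2⟩ := h.swap
  obtain ⟨y, hy⟩ := h.prim.1 t₀ ht₀ t ht
  have hy' : (y : X) * t₀ * (y : X)⁻¹ = t := congrArg Subtype.val hy
  have hyd : (y : X) * d * (y : X)⁻¹ = d := by rw [(comm_d h y).eq, mul_inv_cancel_right]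
  have k1 : (y : X) * (d * t₀) * (y : X)⁻¹ = d * t := by
    calc (y : X) * (d * t₀) * (y : X)⁻¹ = ((y : X) * d * (y : X)⁻¹) * (y * t₀ * (y : X)⁻¹) := by group
      _ = _ := by rw [hyd, hy']
  refine ⟨g * ((y : X) * g₀ * (y : X)⁻¹), t, ht, ?_, ?_⟩
  · rw [← h2, ← k1, ← e1]
    conv_lhs => arg 1; arg 2; rw [← hyd]
    group
  · rw [← k1, ← h1]
    conv_rhs => rw [← hyd, ← e2]
    group

theorem sq_DY {t : ↥Y} (ht : t ∈ DY) : (t : X) * t = 1 :=
  congrArg Subtype.val (invol_mul_self (h.grp.1.1 t ht))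

theorem d_two {u v : X} (hu : Commute u d) : d * u * (d * v) = u * v := by
  rw [← hu.eq, show u * d * (d * v) = u * (d * d) * v by group, h.dd, mul_one]

variable [Finite X]

theorem pair_out {a b : ↥Y} (ha : a ∈ DY) (hb : b ∈ DY) (hab : a ≠ b) (hc : Commute a b) {t : ↥Y}
    (ht : t ∈ DY) : (a : X) * b ≠ t := fun e =>
  pair_notMem h.grp h.prim h.m23 ha hb hab hc ((Subtype.ext e : a * b = t) ▸ ht)

/-- The two products with commuting transpositions are adjacent. -/
theorem near_pair {a b : ↥Y} (ha : a ∈ DY) (hb : b ∈ DY) (hab : a ≠ b) (hc : Commute a b) :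
    Near d DY (d * a) (d * b) := by
  have hc' : (a : X) * b = b * a := congrArg Subtype.val hc.eq
  obtain ⟨g, hga, hgd⟩ := h.coset a ha b hb hab hc
  have hprod : g * (d * a) * g⁻¹ = g * d * g⁻¹ * (a * b) := by rw [← hga]; group
  rcases hgd with e | e | e | e
  · exfalso
    have hcg : Commute g d := mul_inv_eq_iff_eq_mul.1 e
    obtain ⟨t, ht, e'⟩ := conj_DY h hcg ha
    exact pair_out h ha hb hab hc ht (hga.symm.trans e')
  · refine ⟨g, a, ha, e, ?_⟩
    rw [hprod, e, show d * (a : X) * (a * b) = d * (a * a) * b by group, sq_DY h ha, mul_one]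
  · refine near_symm h ⟨g, a, ha, e, ?_⟩
    rw [hprod, e, hc', show d * (b : X) * (b * a) = d * (b * b) * a by group, sq_DY h hb, mul_one]
  · exfalso
    have hn : Near d DY (d * (a * b)) d := ⟨g, a, ha, e, by
      rw [hprod, e, mul_assoc, show (a : X) * b * (a * b) = a * (b * a) * b by group, ← hc',
        show (a : X) * (a * b) * b = (a * a) * (b * b) by group, sq_DY h ha, sq_DY h hb, one_mul, mul_one]⟩
    obtain ⟨t, ht, e'⟩ := near_self h (near_symm h hn)
    exact pair_out h ha hb hab hc ht (mul_left_cancel e')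

theorem not_near_side {a b : ↥Y} (ha : a ∈ DY) (hb : b ∈ DY) (hab : a ≠ b) (hc : Commute a b) :
    ¬ Near d DY (d * b) (d * (a * b)) := by
  intro hn
  have hn1 : Near d DY (d * b) d := near_symm h ⟨1, b, hb, by group, by group⟩
  obtain ⟨k, -, -, hk, -⟩ := id hn1
  obtain ⟨t₁, ht₁, e1⟩ := near_iff h hk hn1
  obtain ⟨t₂, ht₂, e2⟩ := near_iff h hk (near_pair h hb ha hab.symm hc.symm)
  obtain ⟨t₃, ht₃, e3⟩ := near_iff h hk hn
  have hka : (t₁ : X) * t₂ = k⁻¹ * a * k := by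
    rw [← d_two h (comm_d h t₁), ← e1, ← e2,
      show k⁻¹ * d * k * (k⁻¹ * (d * a) * k) = k⁻¹ * (d * d * a) * k by group, h.dd, one_mul]
  have hk3 : (t₃ : X) = k⁻¹ * a * k := by
    have e0 : k⁻¹ * (d * b) * k = d := by rw [← hk]; group
    have : d * (d * (t₃ : X)) = k⁻¹ * a * k := by
      conv_lhs => arg 1; rw [← e0]
      rw [← e3, show k⁻¹ * (d * b) * k * (k⁻¹ * (d * (a * b)) * k) =
          k⁻¹ * (d * b * (d * (a * b))) * k by group, d_two h (comm_d h b),
        show (a : X) * b = b * a from congrArg Subtype.val hc.eq,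
        show (b : X) * (b * a) = (b * b) * a by group, sq_DY h hb, one_mul]
    rwa [← mul_assoc, h.dd, one_mul] at this
  have ha0 : (a : X) ≠ 1 := fun e => invol_ne_one (h.grp.1.1 a ha) (Subtype.ext e)
  refine pair_out h ht₁ ht₂ (fun e => ha0 ?_) ?_ ht₃ (hka.trans hk3.symm)
  · rw [e] at hka
    rw [sq_DY h ht₂] at hka
    calc (a : X) = k * (k⁻¹ * a * k) * k⁻¹ := by group
      _ = 1 := by rw [← hka]; group
  · refine Subtype.ext (mul_left_cancel (a := d * d) ?_)
    show d * d * ((t₁ : X) * t₂) = d * d * ((t₂ : X) * t₁)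
    rw [h.dd, one_mul, one_mul, ← d_two h (comm_d h t₁), ← d_two h (comm_d h t₂), ← e1, ← e2,
      show k⁻¹ * d * k * (k⁻¹ * (d * a) * k) = k⁻¹ * (d * (d * a)) * k by group,
      show k⁻¹ * (d * a) * k * (k⁻¹ * d * k) = k⁻¹ * (d * (a * d)) * k by group, (comm_d h a).eq]

theorem not_conj_pair {a b : ↥Y} (ha : a ∈ DY) (hb : b ∈ DY) (hab : a ≠ b) (hc : Commute a b) :
    ¬ IsConj d (d * ((a : X) * b)) := by
  rintro hcj
  obtain ⟨g, hg⟩ := isConj_iff.1 hcj
  obtain ⟨z, hz, hza, hzb⟩ := exists_eleven h.grp h.prim h.m23 ha hb hab hc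
  have hc' : Commute (a : X) b := congrArg Subtype.val hc.eq
  have hφ : ∀ w : ↥Y, Commute (w : X) (d * (a * b)) → g⁻¹ * w * g ∈ Y := by
    intro w hw
    refine mem_Y h ?_ ?_
    · simpa using h.normal.conj_mem _ (Y_le h w) g⁻¹
    · show g⁻¹ * (w : X) * g * d = d * (g⁻¹ * w * g)
      calc g⁻¹ * (w : X) * g * d = g⁻¹ * (w * (g * d * g⁻¹)) * g := by group
        _ = g⁻¹ * ((g * d * g⁻¹) * w) * g := by rw [hg, hw.eq]
        _ = _ := by group
  have haY := hφ a ((comm_d h a).mul_right ((Commute.refl _).mul_right hc'))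
  have hbY := hφ b ((comm_d h b).mul_right (hc'.symm.mul_right (Commute.refl _)))
  have hzY := hφ z ((comm_d h z).mul_right
    (Commute.mul_right (congrArg Subtype.val hza.eq) (congrArg Subtype.val hzb.eq)))
  have hz11 : orderOf (⟨g⁻¹ * z * g, hzY⟩ : ↥Y) = 11 := by
    rw [← Subgroup.orderOf_coe]
    show orderOf (g⁻¹ * (z : X) * g) = 11
    rw [show g⁻¹ * (z : X) * g = g⁻¹ * z * g⁻¹⁻¹ by rw [inv_inv], orderOf_conj, Subgroup.orderOf_coe, hz]
  obtain ⟨p, q, hp, hq, hpq, -, -, -, hinv⟩ := invol_cent_eleven h.grp h.prim h.m23 hz11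
  have hcl : ∀ w : ↥Y, ∀ hwY : g⁻¹ * (w : X) * g ∈ Y, w * w = 1 → w ≠ 1 → Commute w z →
      (⟨_, hwY⟩ : ↥Y) = p ∨ (⟨_, hwY⟩ : ↥Y) = q ∨ (⟨_, hwY⟩ : ↥Y) = p * q := by
    intro w hwY hww hw1 hwz
    refine hinv _ (Subtype.ext ?_) (fun e => hw1 (Subtype.ext ?_)) (Subtype.ext ?_)
    · show g⁻¹ * (w : X) * g * (g⁻¹ * w * g) = 1
      rw [show g⁻¹ * (w : X) * g * (g⁻¹ * w * g) = g⁻¹ * ((w * w : ↥Y) : X) * g by
        simp [mul_assoc], hww]
      simp
    · have e' : g⁻¹ * (w : X) * g = 1 := congrArg Subtype.val e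
      calc (w : X) = g * (g⁻¹ * w * g) * g⁻¹ := by group
        _ = 1 := by rw [e']; group
    · show g⁻¹ * (w : X) * g * (g⁻¹ * z * g) = g⁻¹ * z * g * (g⁻¹ * w * g)
      rw [show g⁻¹ * (w : X) * g * (g⁻¹ * z * g) = g⁻¹ * (w * z) * g by group,
        show g⁻¹ * (z : X) * g * (g⁻¹ * w * g) = g⁻¹ * (z * w) * g by group,
        show (w : X) * z = z * w from congrArg Subtype.val hwz.eq]
  have haD : (⟨_, haY⟩ : ↥Y) ∉ DY := by
    intro hm
    refine not_near_side h ha hb hab hc (near_symm h ⟨g, _, hm, hg, ?_⟩)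
    show g * (d * (g⁻¹ * (a : X) * g)) * g⁻¹ = d * b
    rw [show g * (d * (g⁻¹ * (a : X) * g)) * g⁻¹ = (g * d * g⁻¹) * a by group, hg, mul_assoc,
      show (a : X) * b * a = a * (b * a) by group, ← hc'.eq, ← mul_assoc (a : X) a b, sq_DY h ha, one_mul]
  have hbD : (⟨_, hbY⟩ : ↥Y) ∉ DY := by
    intro hm
    refine not_near_side h hb ha hab.symm hc.symm (near_symm h ⟨g, _, hm, by rw [hg, hc'.eq], ?_⟩)
    show g * (d * (g⁻¹ * (b : X) * g)) * g⁻¹ = d * a
    rw [show g * (d * (g⁻¹ * (b : X) * g)) * g⁻¹ = (g * d * g⁻¹) * b by group, hg, mul_assoc,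
      mul_assoc, sq_DY h hb, mul_one]
  have habY : g⁻¹ * ((a * b : ↥Y) : X) * g ∈ Y := by
    have := mul_mem haY hbY
    rwa [show g⁻¹ * (a : X) * g * (g⁻¹ * b * g) = g⁻¹ * ((a * b : ↥Y) : X) * g by simp [mul_assoc]] at this
  have hpairD : (⟨_, habY⟩ : ↥Y) ∉ DY := by
    intro hm
    have hn : Near d DY (d * (a * b)) d := ⟨g, _, hm, hg, by
      show g * (d * (g⁻¹ * ((a : X) * b) * g)) * g⁻¹ = d
      rw [show g * (d * (g⁻¹ * ((a : X) * b) * g)) * g⁻¹ = (g * d * g⁻¹) * (a * b) by group, hg,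
        mul_assoc, show (a : X) * b * (a * b) = a * (b * a) * b by group, ← hc'.eq,
        show (a : X) * (a * b) * b = (a * a) * (b * b) by group, sq_DY h ha, sq_DY h hb, one_mul, mul_one]⟩
    obtain ⟨t, ht, e'⟩ := near_self h (near_symm h hn)
    exact pair_out h ha hb hab hc ht (mul_left_cancel e')
  have haa : a * a = 1 := invol_mul_self (h.grp.1.1 a ha)
  have hbb : b * b = 1 := invol_mul_self (h.grp.1.1 b hb)
  have k1 := hcl a haY haa (invol_ne_one (h.grp.1.1 a ha)) hza.symm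
  have k2 := hcl b hbY hbb (invol_ne_one (h.grp.1.1 b hb)) hzb.symm
  have hpqD : ∀ {u : ↥Y}, u ∉ DY → (u = p ∨ u = q ∨ u = p * q) → u = p * q := fun hu k => by
    rcases k with rfl | rfl | rfl
    exacts [absurd hp hu, absurd hq hu, rfl]
  have e := (hpqD haD k1).trans (hpqD hbD k2).symm
  exact hab (Subtype.ext (mul_left_cancel (mul_right_cancel (congrArg Subtype.val e))))

theorem not_conj_triple {a b c : ↥Y} (ha : a ∈ DY) (hb : b ∈ DY) (hc : c ∈ DY) (hab : a ≠ b)
    (hac : a ≠ c) (hbc : b ≠ c) (cab : Commute a b) (cac : Commute a c) (cbc : Commute b c) :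
    ¬ IsConj d (d * ((a : X) * b * c)) := by
  intro hcj
  obtain ⟨k, -, -, hk, -⟩ := id (near_pair h ha hb hab cab)
  obtain ⟨t₁, ht₁, e1⟩ := near_iff h hk (near_pair h ha hb hab cab)
  obtain ⟨t₂, ht₂, e2⟩ := near_iff h hk (near_pair h ha hc hac cac)
  have e0 : k⁻¹ * (d * a) * k = d := by rw [← hk]; group
  have hbc' : (b : X) * c = c * b := congrArg Subtype.val cbc.eq
  have k1 : (t₁ : X) * t₂ = k⁻¹ * (b * c) * k := by
    rw [← d_two h (comm_d h t₁), ← e1, ← e2,
      show k⁻¹ * (d * b) * k * (k⁻¹ * (d * c) * k) = k⁻¹ * (d * b * (d * c)) * k by group,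
      d_two h (comm_d h b)]
  have k2 : (t₂ : X) * t₁ = k⁻¹ * (c * b) * k := by
    rw [← d_two h (comm_d h t₂), ← e2, ← e1,
      show k⁻¹ * (d * c) * k * (k⁻¹ * (d * b) * k) = k⁻¹ * (d * c * (d * b)) * k by group,
      d_two h (comm_d h c)]
  refine not_conj_pair h ht₁ ht₂ (fun e => hbc (Subtype.ext ?_)) (Subtype.ext ?_)
    (hcj.trans (isConj_iff.2 ⟨k⁻¹, ?_⟩))
  · rw [e, sq_DY h ht₂] at k1
    have h1 : (b : X) * c = 1 := by
      calc (b : X) * c = k * (k⁻¹ * (b * c) * k) * k⁻¹ := by group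
        _ = 1 := by rw [← k1]; group
    exact mul_right_cancel (h1.trans (sq_DY h hc).symm)
  · show (t₁ : X) * t₂ = t₂ * t₁
    rw [k1, k2, hbc']
  · rw [k1, inv_inv]
    conv_rhs => arg 1; rw [← e0]
    group

/-- The conjugates of `d` commuting with it. -/
theorem fusion {x : X} (hx : IsConj d x) (hxd : Commute x d) : x = d ∨ ∃ t ∈ DY, x = d * t := by
  have hxG : x ∉ G₀ := by
    obtain ⟨g, rfl⟩ := isConj_iff.1 hx
    intro hm
    exact h.dG (by simpa [mul_assoc] using h.normal.conj_mem _ hm g⁻¹)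
  rcases h.cd x hxd with hy | hy
  · exact absurd (Y_le h ⟨x, hy⟩) hxG
  obtain ⟨y, hyv⟩ : ∃ y : ↥Y, (y : X) = d * x := ⟨⟨_, hy⟩, rfl⟩
  have hxy : x = d * y := by rw [hyv, ← mul_assoc, h.dd, one_mul]
  by_cases hy1 : y = 1
  · exact Or.inl (by rw [hxy, hy1]; simp)
  have hxx : x * x = 1 := by
    obtain ⟨g, rfl⟩ := isConj_iff.1 hx
    rw [show g * d * g⁻¹ * (g * d * g⁻¹) = g * (d * d) * g⁻¹ by group, h.dd, mul_one, mul_inv_cancel]
  have hyy : y * y = 1 := Subtype.ext (by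
    show (y : X) * y = 1
    rw [← d_two h (comm_d h y), ← hxy, hxx])
  obtain ⟨m, l, hm1, hm3, hn, hlen, hlD, hco, hpr⟩ := m23_invol h.grp h.prim h.m23 hy1 hyy
  match l, hlen with
  | [], hlen => simp at hlen; omega
  | [a], _ =>
    refine Or.inr ⟨a, hlD a (by simp), ?_⟩
    rw [hxy, show y = a by simpa using hpr.symm]
  | [a, b], _ =>
    refine absurd ?_ (not_conj_pair h (hlD a (by simp)) (hlD b (by simp)) (by simpa using hn)
      (hco a (by simp) b (by simp)))
    rwa [← Subgroup.coe_mul, show a * b = y by simpa using hpr, ← hxy]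
  | [a, b, c], _ =>
    simp only [List.nodup_cons, List.mem_cons, List.not_mem_nil, or_false, not_or, List.nodup_nil,
      not_false_eq_true, and_true] at hn
    refine absurd ?_ (not_conj_triple h (hlD a (by simp)) (hlD b (by simp)) (hlD c (by simp)) hn.1.1
      hn.1.2 hn.2 (hco a (by simp) b (by simp)) (hco a (by simp) c (by simp))
      (hco b (by simp) c (by simp)))
    rwa [← Subgroup.coe_mul, ← Subgroup.coe_mul, show a * b * c = y by
      simpa [mul_assoc] using hpr, ← hxy]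
  | _ :: _ :: _ :: _ :: _, hlen => simp at hlen; omega

/-- Every product of `d` with a transposition is conjugate to `d`. -/
theorem conj_mul {t : ↥Y} (ht : t ∈ DY) : IsConj d (d * (t : X)) := by
  obtain ⟨g, t', -, h1, -⟩ := near_symm h (show Near d DY d (d * t) from ⟨1, t, ht, by group, by group⟩)
  exact isConj_iff.2 ⟨g, h1⟩

/-- Adjacency is commuting of distinct conjugates. -/
theorem near_of_commute {x x' : X} (hx : IsConj d x) (hx' : IsConj d x') (hne : x ≠ x')
    (hc : Commute x x') : Near d DY x x' := by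
  obtain ⟨g, hg⟩ := isConj_iff.1 hx
  subst hg
  have hcd : Commute (g⁻¹ * x' * g) d := by
    show g⁻¹ * x' * g * d = d * (g⁻¹ * x' * g)
    calc g⁻¹ * x' * g * d = g⁻¹ * (x' * (g * d * g⁻¹)) * g := by group
      _ = g⁻¹ * (g * d * g⁻¹ * x') * g := by rw [hc.eq]
      _ = _ := by group
  rcases fusion h (hx'.trans (isConj_iff.2 ⟨g⁻¹, by group⟩)) hcd with e | ⟨t, ht, e⟩
  · refine absurd ?_ hne
    calc g * d * g⁻¹ = g * (g⁻¹ * x' * g) * g⁻¹ := by rw [e]
      _ = x' := by group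
  · exact ⟨g, t, ht, rfl, by rw [← e]; group⟩

end CfsgLib.Trans3.Fi24Fus
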