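import Mathlib
import Cfsg.Prelude.Def_FischerSpaces

/-!
The hypotheses on a 3-transposition group of type M(22) move along isomorphisms.
-/

set_option autoImplicit false

namespace CfsgLib.Trans3.Fi.Transport

variable {H G : Type*} [Group H] [Group G] (e : H ≃* G) {D : Set H}

theorem three_image (h : Cfsg.IsThreeTranspositionGroup D) : Cfsg.IsThreeTranspositionGroup (e '' D) := by
  obtain ⟨⟨h1, h2⟩, h3, h4⟩ := h
  refine ⟨⟨?_, ?_⟩, ?_, ?_⟩
  · rintro _ ⟨d, hd, rfl⟩
    rw [MulEquiv.orderOf_eq]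
    exact h1 d hd
  · rintro _ ⟨d, hd, rfl⟩ _ ⟨c, hc, rfl⟩
    rcases h2 d hd c hc with q | q
    · exact Or.inl (by rw [← map_mul, ← map_pow, q, map_one])
    · exact Or.inr (by rw [← map_mul, ← map_pow, q, map_one])
  · rintro g _ ⟨d, hd, rfl⟩
    obtain ⟨u, rfl⟩ := e.surjective g
    exact ⟨_, h3 u d hd, by simp⟩
  · rw [show (e : H → G) '' D = e.toMonoidHom '' D from rfl, ← MonoidHom.map_closure, h4,
      Subgroup.map_top_of_surjective e.toMonoidHom e.surjective]

theorem prim_image (h : Cfsg.IsPrimitiveUnderConj D) : Cfsg.IsPrimitiveUnderConj (e '' D) := by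
  obtain ⟨h1, ⟨a, ha, b, hb, hne⟩, h3⟩ := h
  refine ⟨?_, ⟨_, ⟨a, ha, rfl⟩, _, ⟨b, hb, rfl⟩, fun q => hne (e.injective q)⟩, ?_⟩
  · rintro _ ⟨a, ha, rfl⟩ _ ⟨b, hb, rfl⟩
    obtain ⟨g, hg⟩ := h1 a ha b hb
    exact ⟨e g, by rw [← hg]; simp⟩
  · intro B hB hblock
    have hB' : (e : H → G) ⁻¹' B ⊆ D := fun x hx => by
      obtain ⟨y, hy, hxy⟩ := hB hx
      rwa [e.injective hxy] at hy
    have himg : ∀ g : H, (fun x => g * x * g⁻¹) '' (e ⁻¹' B) = e ⁻¹' ((fun x => e g * x * (e g)⁻¹) '' B) := by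
      intro g
      ext x
      constructor
      · rintro ⟨y, hy, rfl⟩
        exact ⟨e y, hy, by simp⟩
      · rintro ⟨y, hy, hxy⟩
        obtain ⟨z, rfl⟩ := e.surjective y
        exact ⟨z, hy, e.injective (by simpa using hxy)⟩
    have hblk : ∀ g : H, (fun x => g * x * g⁻¹) '' (e ⁻¹' B) = e ⁻¹' B ∨
        Disjoint ((fun x => g * x * g⁻¹) '' (e ⁻¹' B)) (e ⁻¹' B) := fun g => by
      rw [himg]
      rcases hblock (e g) with q | q
      · exact Or.inl (by rw [q])
      · exact Or.inr (q.preimage _)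
    rcases h3 _ hB' hblk with q | q
    · exact Or.inl fun x hx y hy => by
        obtain ⟨u, rfl⟩ := e.surjective x
        obtain ⟨v, rfl⟩ := e.surjective y
        rw [q hx hy]
    · refine Or.inr ?_
      rw [← q, Set.image_preimage_eq _ e.surjective]

/-- The quotient by the centre moves along an isomorphism. -/
theorem quot_equiv {A : Type*} [Group A] (S : Subgroup H) (T : Subgroup G) (hT : S.map e.toMonoidHom = T)
    (h : Nonempty (↥S ⧸ Subgroup.center ↥S ≃* A)) : Nonempty (↥T ⧸ Subgroup.center ↥T ≃* A) := by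
  obtain ⟨f⟩ := h
  obtain ⟨u⟩ : Nonempty (↥T ≃* ↥S) := ⟨((e.subgroupMap S).trans (MulEquiv.subgroupCongr hT)).symm⟩
  exact ⟨(QuotientGroup.congr _ _ u (by
    ext x
    simp only [Subgroup.mem_map, Subgroup.mem_center_iff]
    constructor
    · rintro ⟨y, hy, rfl⟩ g
      obtain ⟨g, rfl⟩ := u.surjective g
      exact (map_mul u g y).symm.trans ((congrArg u (hy g)).trans (map_mul u y g))
    · intro hx
      obtain ⟨y, rfl⟩ := u.surjective x
      exact ⟨y, fun g => u.injective (by rw [map_mul, map_mul, hx]), rfl⟩)).trans f⟩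

theorem nbr_image (d : H) :
    (e : H → G) '' {y | y ∈ D ∧ y ≠ d ∧ Commute d y} =
      {y | y ∈ e '' D ∧ y ≠ e d ∧ Commute (e d) y} := by
  ext y
  obtain ⟨x, rfl⟩ := e.surjective y
  simp only [Set.mem_image, Set.mem_setOf_eq, EmbeddingLike.apply_eq_iff_eq, exists_eq_right, ne_eq]
  refine and_congr_right fun _ => and_congr_right fun _ => ⟨fun q => q.map e.toMonoidHom, fun q => ?_⟩
  exact Commute.of_map (f := e.toMonoidHom) e.injective q

theorem m22_image (h : Cfsg.IsOfTypeM22 H D) : Cfsg.IsOfTypeM22 G (e '' D) := by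
  obtain ⟨hz, d, hd, c, hc, hnc, ⟨F, i1, i2, hF, hU⟩, c₃, hc₃, Q, hQ1, hQ2, hQ3⟩ := h
  refine ⟨?_, e d, ⟨d, hd, rfl⟩, e c, ⟨c, hc, rfl⟩, fun q => hnc (Commute.of_map (f := e.toMonoidHom) e.injective q),
    ⟨F, i1, i2, hF, quot_equiv e _ _ ?_ hU⟩, c₃, hc₃, Q, hQ1, hQ2, quot_equiv e _ _ ?_ hQ3⟩
  · refine eq_bot_iff.2 fun g hg => ?_
    obtain ⟨x, rfl⟩ := e.surjective g
    have : x ∈ Subgroup.center H := Subgroup.mem_center_iff.2 fun y =>
      e.injective (by rw [map_mul, map_mul]; exact Subgroup.mem_center_iff.1 hg (e y))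
    rw [hz, Subgroup.mem_bot] at this
    rw [this, map_one]; exact one_mem _
  · rw [MonoidHom.map_closure]
    exact congrArg _ (nbr_image e d)
  · rw [MonoidHom.map_closure]
    refine congrArg _ ?_
    show (e : H → G) '' _ = _
    rw [Set.image_inter e.injective, nbr_image, nbr_image]

end CfsgLib.Trans3.Fi.Transport
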