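import Cfsg.Agent.Lib.Trans3.Fi.U6Plane
import Cfsg.Agent.Lib.Trans3.Primitive
import Cfsg.Agent.Lib.Trans3.RankThree
import Cfsg.Agent.Lib.Classical.UnitaryGen

/-!
Small configurations of transvections in `PSU₆(2)`: common neighbours and the four pairwise
non-commuting transvections which cannot all avoid a given one.
-/

set_option autoImplicit false
set_option linter.unusedSectionVars false
set_option linter.unusedSimpArgs false

namespace CfsgLib.Trans3.Fi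

open Matrix CfsgLib.MaxSub CfsgLib.Classical CfsgLib.Trans3.TvSU

section Model

variable {F : Type*} [Field F] [Fintype F] (hF : Fintype.card F = 2 ^ 2)
include hF

theorem exists_outside {n : ℕ} (hn : n + 2 ≤ 6) (p : Fin 6 → F) (vs : Fin n → Fin 6 → F) :
    ∃ x, x ∉ Submodule.span F {p} ∧ ∀ i, hh x (vs i) = 0 := by
  let φ : (Fin 6 → F) →ₗ[F] (Fin n → F) :=
    { toFun := fun z i => hh z (vs i)
      map_add' := fun a b => funext fun i => hh_add_left hF a b (vs i)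
      map_smul' := fun c a => funext fun i => hh_smul_left hF c a (vs i) }
  by_contra! hno
  have hle : LinearMap.ker φ ≤ Submodule.span F {p} := fun x hx => by
    by_contra hx'
    obtain ⟨i, hi⟩ := hno x hx'
    exact hi (congrFun (LinearMap.mem_ker.1 hx) i)
  have h1 := LinearMap.finrank_range_add_finrank_ker φ
  have h2 : Module.finrank F (LinearMap.range φ) ≤ n := by
    simpa using Submodule.finrank_le (LinearMap.range φ)
  have h3 : Module.finrank F (LinearMap.ker φ) ≤ 1 :=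
    (Submodule.finrank_mono hle).trans
      ((finrank_span_le_card _).trans (by simp))
  rw [Module.finrank_pi, Fintype.card_fin] at h1
  omega

theorem exists_iso_outside {p q r : Fin 6 → F} (hpp : hh p p = 0) :
    ∃ u, u ∉ Submodule.span F {p} ∧ hh u u = 0 ∧ hh u p = 0 ∧ hh u q = 0 ∧ hh u r = 0 := by
  obtain ⟨x, hx, hx'⟩ := exists_outside hF (n := 3) (by norm_num) p ![p, q, r]
  rcases hh_self hF x with hxx | hxx
  · exact ⟨x, hx, hxx, hx' 0, hx' 1, hx' 2⟩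
  obtain ⟨y, hy, hy'⟩ := exists_outside hF (n := 4) (by norm_num) p ![p, q, r, x]
  rcases hh_self hF y with hyy | hyy
  · exact ⟨y, hy, hyy, hy' 0, hy' 1, hy' 2⟩
  have hyx : hh y x = 0 := hy' 3
  have a0 : hh x p = 0 := hx' 0
  have a1 : hh x q = 0 := hx' 1
  have a2 : hh x r = 0 := hx' 2
  have b0 : hh y p = 0 := hy' 0
  have b1 : hh y q = 0 := hy' 1
  have b2 : hh y r = 0 := hy' 2
  refine ⟨x + y, fun h => ?_, ?_, ?_, ?_, ?_⟩
  · obtain ⟨c, hc⟩ := Submodule.mem_span_singleton.1 h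
    have := congrArg (fun z => hh z x) hc
    simp only [hh_smul_left hF, hh_add_left hF, hxx, hyx, hh_symm_zero hF a0, mul_zero,
      add_zero] at this
    exact zero_ne_one this
  · rw [hh_add_left hF, hh_add_right hF, hh_add_right hF, hxx, hyy, hyx, hh_symm_zero hF hyx,
      add_zero, zero_add, add_self hF]
  · rw [hh_add_left hF, a0, b0, add_zero]
  · rw [hh_add_left hF, a1, b1, add_zero]
  · rw [hh_add_left hF, a2, b2, add_zero]

variable {Y : Type*} [Group Y] {D : Set Y} (f : ↥(Cfsg.SU 6 F 2) →* Y)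
  (hf : Function.Surjective f) (hk : f.ker = Subgroup.center ↥(Cfsg.SU 6 F 2))
  (hD : Cfsg.IsThreeTranspositionGroup D)
include hf hk hD

theorem mid {a q r : Y} (ha : a ∈ D) (hq : q ∈ D) (hr : r ∈ D) (haq : Commute a q)
    (har : Commute a r) :
    ∃ u ∈ D, u ≠ a ∧ Commute u a ∧ Commute u q ∧ Commute u r := by
  obtain ⟨p, hp, hpp, rfl⟩ := exists_pt hF f hf hk hD ha
  obtain ⟨v, hv, hvv, rfl⟩ := exists_pt hF f hf hk hD hq
  obtain ⟨w, hw, hww, rfl⟩ := exists_pt hF f hf hk hD hr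
  obtain ⟨u, hu, huu, h1, h2, h3⟩ := exists_iso_outside hF (p := p) (q := v) (r := w) hpp
  have hu0 : u ≠ 0 := fun h => hu (h ▸ zero_mem _)
  exact ⟨_, pt_mem hF f hf hk hD hu0 huu, fun h => hu (by
      obtain ⟨c, -, hc⟩ := pt_eq hF f hk hu0 huu hpp h
      exact Submodule.mem_span_singleton.2 ⟨c, hc.symm⟩),
    (pt_commute hF f hk hu0 hp huu hpp).2 h1, (pt_commute hF f hk hu0 hv huu hvv).2 h2,
    (pt_commute hF f hk hu0 hw huu hww).2 h3⟩

theorem combine {u v w₁ w₂ : Y} (hu : u ∈ D) (hv : v ∈ D) (h₁ : w₁ ∈ D) (h₂ : w₂ ∈ D)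
    (n₁ : ¬ Commute w₁ u) (n₂ : ¬ Commute w₂ v) :
    ∃ w ∈ D, ¬ Commute w u ∧ ¬ Commute w v ∧
      ∀ e ∈ D, Commute w₁ e → Commute w₂ e → Commute w e := by
  by_cases c1 : Commute w₁ v
  swap
  · exact ⟨w₁, h₁, n₁, c1, fun _ _ he _ => he⟩
  by_cases c2 : Commute w₂ u
  swap
  · exact ⟨w₂, h₂, c2, n₂, fun _ _ _ he => he⟩
  by_cases c12 : Commute w₁ w₂
  · obtain ⟨p, hp, hpp, rfl⟩ := exists_pt hF f hf hk hD h₁
    obtain ⟨r, hr, hrr, rfl⟩ := exists_pt hF f hf hk hD h₂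
    obtain ⟨x, hx, hxx, rfl⟩ := exists_pt hF f hf hk hD hu
    obtain ⟨y, hy, hyy, rfl⟩ := exists_pt hF f hf hk hD hv
    rw [pt_commute hF f hk hp hx hpp hxx] at n₁
    rw [pt_commute hF f hk hr hy hrr hyy] at n₂
    rw [pt_commute hF f hk hp hy hpp hyy] at c1
    rw [pt_commute hF f hk hr hx hrr hxx] at c2
    rw [pt_commute hF f hk hp hr hpp hrr] at c12
    have s1 : hh (p + r) x = hh p x := by rw [hh_add_left hF, c2, add_zero]
    have s0 : p + r ≠ 0 := fun h => n₁ (by rw [← s1, h, hh_zero_left hF])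
    have ss : hh (p + r) (p + r) = 0 := by
      rw [hh_add_left hF, hh_add_right hF, hh_add_right hF, hpp, hrr, c12, hh_symm_zero hF c12]
      simp
    refine ⟨_, pt_mem hF f hf hk hD s0 ss, ?_, ?_, ?_⟩
    · rw [pt_commute hF f hk s0 hx ss hxx, s1]; exact n₁
    · rw [pt_commute hF f hk s0 hy ss hyy, hh_add_left hF, c1, zero_add]; exact n₂
    · intro e he e1 e2
      obtain ⟨z, hz, hzz, rfl⟩ := exists_pt hF f hf hk hD he
      rw [pt_commute hF f hk hp hz hpp hzz] at e1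
      rw [pt_commute hF f hk hr hz hrr hzz] at e2
      rw [pt_commute hF f hk s0 hz ss hzz, hh_add_left hF, e1, e2, add_zero]
  · refine ⟨w₁ * w₂ * w₁, self_conj_mem hD h₁ h₂, fun h => n₁ ?_, fun h => n₂ ?_,
      fun e _ e1 e2 => (e1.mul_left e2).mul_left e1⟩
    · rw [braid hD.1 h₁ h₂ c12] at h
      have := (c2.mul_left h).mul_left c2
      rwa [show w₂ * (w₂ * w₁ * w₂) * w₂ = (w₂ * w₂) * w₁ * (w₂ * w₂) by group,
        Trans3.sq_one hD.1 h₂, one_mul, mul_one] at this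
    · have := (c1.mul_left h).mul_left c1
      rwa [show w₁ * (w₁ * w₂ * w₁) * w₁ = (w₁ * w₁) * w₂ * (w₁ * w₁) by group,
        Trans3.sq_one hD.1 h₁, one_mul, mul_one] at this

omit hk in
theorem third {x y : Fin 6 → F} (hx : x ≠ 0) (hxx : hh x x = 0) (hyy : hh y y = 0) :
    pt hF f x * pt hF f y * pt hF f x = pt hF f (y + hh y x • x) := by
  have h := conj_pt hF f (tv hF x) hyy
  rw [tv_act hF hxx, show f (tv hF x) = pt hF f x from rfl] at h
  rw [← h, inv_eq_of_mul_eq_one_right (a := pt hF f x) (b := pt hF f x) (by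
    rw [pt, ← map_mul, tv_sq hF hxx, map_one])]

theorem third_commute {x y z : Fin 6 → F} (hx : x ≠ 0) (hy : y ≠ 0) (hz : z ≠ 0)
    (hxx : hh x x = 0) (hyy : hh y y = 0) (hzz : hh z z = 0) :
    Commute (pt hF f x * pt hF f y * pt hF f x) (pt hF f z) ↔
      hh y z + hh y x * hh x z = 0 := by
  have e : y + hh y x • x = act (tv hF x) y := (tv_act hF hxx y).symm
  have h0 : y + hh y x • x ≠ 0 := e ▸ act_ne_zero hF _ hy
  have hh0 : hh (y + hh y x • x) (y + hh y x • x) = 0 := by rw [e, hh_act]; exact hyy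
  rw [third hF f hf hD hx hxx hyy, pt_commute hF f hk h0 hz hh0 hzz, hh_add_left hF,
    hh_smul_left hF]

omit hf hk hD in
theorem root_of_ne {a : F} (h0 : a ≠ 0) (h1 : a ≠ 1) : a ^ 2 + a + 1 = 0 := by
  refine (mul_eq_zero.1 ?_).resolve_left (sub_ne_zero.2 h1)
  linear_combination cube_one hF h0

theorem no_bad {p A B C E : Y} (hp : p ∈ D) (hA : A ∈ D) (hB : B ∈ D) (hC : C ∈ D) (hE : E ∈ D)
    (nab : ¬ Commute A B) (nac : ¬ Commute A C) (nae : ¬ Commute A E) (nbc : ¬ Commute B C)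
    (nbe : ¬ Commute B E) (nce : ¬ Commute C E) (t₁ : Commute (A * B * A) C)
    (t₂ : Commute (A * B * A) E) (t₃ : Commute (A * C * A) E) (na : ¬ Commute A p)
    (nb : ¬ Commute B p) (nc : ¬ Commute C p) (ne : ¬ Commute E p)
    (mab : ¬ Commute (A * B * A) p) (mac : ¬ Commute (A * C * A) p)
    (mae : ¬ Commute (A * E * A) p) (mbc : ¬ Commute (B * C * B) p)
    (mbe : ¬ Commute (B * E * B) p) (mce : ¬ Commute (C * E * C) p) : False := by
  obtain ⟨w, hw, hww, rfl⟩ := exists_pt hF f hf hk hD hp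
  have norm : ∀ {X : Y}, X ∈ D → ¬ Commute X (pt hF f w) →
      ∃ x, x ≠ 0 ∧ hh x x = 0 ∧ hh x w = 1 ∧ X = pt hF f x := by
    intro X hX hn
    obtain ⟨x, hx, hxx, rfl⟩ := exists_pt hF f hf hk hD hX
    rw [pt_commute hF f hk hx hw hxx hww] at hn
    refine ⟨(hh x w)⁻¹ • x, smul_ne_zero (inv_ne_zero hn) hx, ?_, ?_,
      (pt_smul hF f hxx (inv_ne_zero hn)).symm⟩
    · rw [hh_smul_left hF, hh_smul_right hF, hxx, mul_zero, mul_zero]
    · rw [hh_smul_left hF, inv_mul_cancel₀ hn]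
  obtain ⟨a, a0, aa, aw, rfl⟩ := norm hA na
  obtain ⟨b, b0, bb, bw, rfl⟩ := norm hB nb
  obtain ⟨c, c0, cc, cw, rfl⟩ := norm hC nc
  obtain ⟨e, e0, ee, ew, rfl⟩ := norm hE ne
  have key : ∀ {x y : Fin 6 → F}, x ≠ 0 → y ≠ 0 → hh x x = 0 → hh y y = 0 → hh x w = 1 →
      hh y w = 1 → ¬ Commute (pt hF f x) (pt hF f y) →
      ¬ Commute (pt hF f x * pt hF f y * pt hF f x) (pt hF f w) →
      hh y x ≠ 0 ∧ hh y x ≠ 1 := by
    intro x y hx hy hxx hyy hxw hyw hn hm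
    rw [pt_commute hF f hk hx hy hxx hyy] at hn
    rw [third_commute hF f hf hk hD hx hy hw hxx hyy hww, hxw, hyw, mul_one] at hm
    exact ⟨fun h => hn (hh_symm_zero hF h), fun h => hm (by rw [h, add_self hF])⟩
  obtain ⟨qb0, qb1⟩ := key a0 b0 aa bb aw bw nab mab
  obtain ⟨qc0, qc1⟩ := key a0 c0 aa cc aw cw nac mac
  obtain ⟨qe0, qe1⟩ := key a0 e0 aa ee aw ew nae mae
  have tri : ∀ {y z : Fin 6 → F}, y ≠ 0 → z ≠ 0 → hh y y = 0 → hh z z = 0 → hh y w = 1 →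
      hh z w = 1 → hh z a ≠ 0 → ¬ Commute (pt hF f y) (pt hF f z) →
      ¬ Commute (pt hF f y * pt hF f z * pt hF f y) (pt hF f w) →
      Commute (pt hF f a * pt hF f y * pt hF f a) (pt hF f z) → hh y a ≠ hh z a := by
    intro y z hy hz hyy hzz hyw hzw hza hn hm ht hq
    rw [third_commute hF f hf hk hD a0 hy hz aa hyy hzz, hq, ← hh_conj hF z a] at ht
    obtain ⟨-, h1⟩ := key hy hz hyy hzz hyw hzw hn hm
    refine h1 ?_
    rw [← hh_conj hF y z, show hh y z = 1 by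
      linear_combination ht - cube_one hF hza - add_self hF 1, one_pow]
  have d1 := tri b0 c0 bb cc bw cw qc0 nbc mbc t₁
  have d2 := tri b0 e0 bb ee bw ew qe0 nbe mbe t₂
  have d3 := tri c0 e0 cc ee cw ew qe0 nce mce t₃
  have r1 := root_of_ne hF qb0 qb1
  have r2 := root_of_ne hF qc0 qc1
  have r3 := root_of_ne hF qe0 qe1
  apply d3
  have u1 : hh b a + hh c a + 1 = 0 := (mul_eq_zero.1
    (show (hh b a - hh c a) * (hh b a + hh c a + 1) = 0 by linear_combination r1 - r2)).resolve_left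
    (sub_ne_zero.2 d1)
  have u2 : hh b a + hh e a + 1 = 0 := (mul_eq_zero.1
    (show (hh b a - hh e a) * (hh b a + hh e a + 1) = 0 by linear_combination r1 - r3)).resolve_left
    (sub_ne_zero.2 d2)
  linear_combination u1 - u2

end Model

/-- Four pairwise non-commuting common neighbours of `a` and `c`, three thirds commuting. -/
structure Quad {G : Type*} [Group G] (D : Set G) (a c A B C E : G) : Prop where
  mem : ∀ x ∈ [A, B, C, E], x ∈ D ∧ Commute a x ∧ Commute c x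
  ab : ¬ Commute A B
  ac : ¬ Commute A C
  ae : ¬ Commute A E
  bc : ¬ Commute B C
  be : ¬ Commute B E
  ce : ¬ Commute C E
  t₁ : Commute (A * B * A) C
  t₂ : Commute (A * B * A) E
  t₃ : Commute (A * C * A) E

section Frame

variable {F : Type*} [Field F] [Fintype F] (hF : Fintype.card F = 2 ^ 2)
variable {Y : Type*} [Group Y] {D : Set Y} (f : ↥(Cfsg.SU 6 F 2) →* Y)
  (hf : Function.Surjective f) (hk : f.ker = Subgroup.center ↥(Cfsg.SU 6 F 2))
  (hD : Cfsg.IsThreeTranspositionGroup D)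
include hF hf hk hD

theorem exists_quad : ∃ a c A B C E : Y, a ∈ D ∧ c ∈ D ∧ ¬ Commute a c ∧ Quad D a c A B C E := by
  obtain ⟨ω, hω⟩ := exists_omega hF
  have hω0 : ω ≠ 0 := fun h => by rw [h] at hω; simp at hω
  have h3 := cube_one hF hω0
  have h2 := add_self hF (1 : F)
  obtain ⟨p, ep⟩ : ∃ p : Fin 6 → F, p = ![1, 1, 0, 0, 0, 0] := ⟨_, rfl⟩
  obtain ⟨r, er⟩ : ∃ r : Fin 6 → F, r = ![ω, ω ^ 2, 0, 0, 0, 0] := ⟨_, rfl⟩
  obtain ⟨a, ea⟩ : ∃ r : Fin 6 → F, r = ![0, 0, 1, 0, 0, 1] := ⟨_, rfl⟩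
  obtain ⟨b, eb⟩ : ∃ r : Fin 6 → F, r = ![0, 0, 1, 0, 0, ω ^ 2] := ⟨_, rfl⟩
  obtain ⟨c, ec⟩ : ∃ r : Fin 6 → F, r = ![0, 0, 1, ω ^ 2, ω, ω] := ⟨_, rfl⟩
  obtain ⟨e, ee⟩ : ∃ r : Fin 6 → F, r = ![0, 0, 1, ω, ω ^ 2, ω] := ⟨_, rfl⟩
  have hsum : ∀ u v : Fin 6 → F, hh u v = ∑ i, u i * v i ^ 2 := fun _ _ => rfl
  have w4 : ω ^ 4 = ω := by linear_combination ω * h3
  have w6 : ω ^ 6 = 1 := by linear_combination (ω ^ 3 + 1) * h3
  have ne1 : ω ≠ 1 := fun h => by rw [h, one_pow, h2] at hω; exact zero_ne_one hω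
  have nz : ∀ (v : Fin 6 → F) i, v i ≠ 0 → v ≠ 0 := fun v i h h' => h (congrFun h' i)
  have p0 : p ≠ 0 := nz p 0 (by simp [ep])
  have r0 : r ≠ 0 := nz r 0 (by simp [er, hω0])
  have a0 : a ≠ 0 := nz a 2 (by simp [ea])
  have b0 : b ≠ 0 := nz b 2 (by simp [eb])
  have c0 : c ≠ 0 := nz c 2 (by simp [ec])
  have e0 : e ≠ 0 := nz e 2 (by simp [ee])
  have pp : hh p p = 0 := by simp [hsum, ep, Fin.sum_univ_succ, h2]
  have rr : hh r r = 0 := by
    simp [hsum, er, Fin.sum_univ_succ]; linear_combination h2 + h3 + (ω ^ 3 + 1) * h3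
  have pr : hh p r ≠ 0 := by
    have : hh p r = 1 := by
      simp [hsum, ep, er, Fin.sum_univ_succ]; linear_combination hω + ω * h3
    rw [this]; exact one_ne_zero
  have aa : hh a a = 0 := by simp [hsum, ea, Fin.sum_univ_succ, h2]
  have bb : hh b b = 0 := by
    simp [hsum, eb, Fin.sum_univ_succ]; linear_combination h2 + (ω ^ 3 + 1) * h3
  have cc : hh c c = 0 := by
    simp [hsum, ec, Fin.sum_univ_succ]; linear_combination 2 * h2 + (ω ^ 3 + 1) * h3 + 2 * h3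
  have ee' : hh e e = 0 := by
    simp [hsum, ee, Fin.sum_univ_succ]; linear_combination 2 * h2 + (ω ^ 3 + 1) * h3 + 2 * h3
  have ab : hh a b = ω ^ 2 := by
    simp [hsum, ea, eb, Fin.sum_univ_succ]
    linear_combination hω + ω * h3 - (ω ^ 2 - 1) * h2
  have ac : hh a c = ω := by
    simp [hsum, ea, ec, Fin.sum_univ_succ]; linear_combination hω - (ω - 1) * h2
  have ae : hh a e = ω := by
    simp [hsum, ea, ee, Fin.sum_univ_succ]; linear_combination hω - (ω - 1) * h2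
  have ba : hh b a = ω := by rw [← hh_conj hF a b, ab]; linear_combination ω * h3
  have ca : hh c a = ω ^ 2 := by rw [← hh_conj hF a c, ac]
  have bc : hh b c = ω ^ 2 := by
    simp [hsum, eb, ec, Fin.sum_univ_succ]; linear_combination hω + ω * h3 - (ω ^ 2 - 1) * h2
  have be : hh b e = ω ^ 2 := by
    simp [hsum, eb, ee, Fin.sum_univ_succ]; linear_combination hω + ω * h3 - (ω ^ 2 - 1) * h2
  have ce : hh c e = 1 := by
    simp [hsum, ec, ee, Fin.sum_univ_succ]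
    linear_combination (ω + 1) * h3 + (ω ^ 2 + 1) * h3 + hω + h2 - h3
  have ω20 : ω ^ 2 ≠ 0 := pow_ne_zero _ hω0
  have pc := fun {x y : Fin 6 → F} => pt_commute hF f hk (p := x) (r := y)
  have hperp : ∀ {x : Fin 6 → F}, x ≠ 0 → hh x x = 0 → x 0 = 0 → x 1 = 0 →
      pt hF f x ∈ D ∧ Commute (pt hF f p) (pt hF f x) ∧ Commute (pt hF f r) (pt hF f x) :=
    fun {x} hx hxx h0 h1 => ⟨pt_mem hF f hf hk hD hx hxx,
      (pc p0 hx pp hxx).2 (by simp [hsum, ep, Fin.sum_univ_succ, h0, h1]),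
      (pc r0 hx rr hxx).2 (by simp [hsum, er, Fin.sum_univ_succ, h0, h1])⟩
  refine ⟨pt hF f p, pt hF f r, pt hF f a, pt hF f b, pt hF f c, pt hF f e,
    pt_mem hF f hf hk hD p0 pp, pt_mem hF f hf hk hD r0 rr, fun h => pr ((pc p0 r0 pp rr).1 h),
    ⟨?_, fun h => ω20 (ab ▸ (pc a0 b0 aa bb).1 h), fun h => hω0 (ac ▸ (pc a0 c0 aa cc).1 h),
      fun h => hω0 (ae ▸ (pc a0 e0 aa ee').1 h), fun h => ω20 (bc ▸ (pc b0 c0 bb cc).1 h),
      fun h => ω20 (be ▸ (pc b0 e0 bb ee').1 h),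
      fun h => one_ne_zero (ce ▸ (pc c0 e0 cc ee').1 h),
      (third_commute hF f hf hk hD a0 b0 c0 aa bb cc).2 (by
        rw [bc, ba, ac]; linear_combination ω ^ 2 * h2),
      (third_commute hF f hf hk hD a0 b0 e0 aa bb ee').2 (by
        rw [be, ba, ae]; linear_combination ω ^ 2 * h2),
      (third_commute hF f hf hk hD a0 c0 e0 aa cc ee').2 (by
        rw [ce, ca, ae]; linear_combination h3 + h2)⟩⟩
  simp only [List.mem_cons, List.not_mem_nil, or_false, forall_eq_or_imp, forall_eq]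
  exact ⟨hperp a0 aa (by simp [ea]) (by simp [ea]), hperp b0 bb (by simp [eb]) (by simp [eb]),
    hperp c0 cc (by simp [ec]) (by simp [ec]), hperp e0 ee' (by simp [ee]) (by simp [ee])⟩

end Frame

section Wrap

variable {G : Type*} [Group G] {D : Set G} (hU : IsU6 G) (hD : Cfsg.IsThreeTranspositionGroup D)
include hU hD

theorem u6_mid {a q r : G} (ha : a ∈ D) (hq : q ∈ D) (hr : r ∈ D) (haq : Commute a q)
    (har : Commute a r) :
    ∃ u ∈ D, u ≠ a ∧ Commute u a ∧ Commute u q ∧ Commute u r := by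
  obtain ⟨F, _, _, f, hF, hf, hk⟩ := exists_model hU hD
  exact mid hF f hf hk hD ha hq hr haq har

theorem u6_combine {u v w₁ w₂ : G} (hu : u ∈ D) (hv : v ∈ D) (h₁ : w₁ ∈ D) (h₂ : w₂ ∈ D)
    (n₁ : ¬ Commute w₁ u) (n₂ : ¬ Commute w₂ v) :
    ∃ w ∈ D, ¬ Commute w u ∧ ¬ Commute w v ∧
      ∀ e ∈ D, Commute w₁ e → Commute w₂ e → Commute w e := by
  obtain ⟨F, _, _, f, hF, hf, hk⟩ := exists_model hU hD
  exact combine hF f hf hk hD hu hv h₁ h₂ n₁ n₂

/-- A member commuting with neither member of a hyperbolic pair's perp pair. -/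
theorem u6_perp {b y u v : G} (hb : b ∈ D) (hy : y ∈ D) (hby : ¬ Commute b y) (hu : u ∈ D)
    (hv : v ∈ D) (hub : Commute u b) (huy : Commute u y) (hvb : Commute v b) (hvy : Commute v y) :
    ∃ w ∈ D, Commute w b ∧ Commute w y ∧ ¬ Commute w u ∧ ¬ Commute w v := by
  have key : ∀ s ∈ D, Commute s b → Commute s y →
      ∃ w ∈ D, Commute w b ∧ Commute w y ∧ ¬ Commute w s := by
    intro s hs hsb hsy
    by_contra! hall
    rcases u6_hyper hU hD hb hy hs hby (fun e he e1 e2 => hall e he e1 e2) with rfl | rfl | rfl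
    · exact hby hsy
    · exact hby hsb.symm
    · have h1 := conj_eq_of_commute hsb.symm
      rw [inv_eq hD.1 hb, show b * (b * y * b) * b = (b * b) * y * (b * b) by group,
        Trans3.sq_one hD.1 hb, one_mul, mul_one] at h1
      exact hby (h1 ▸ hsb.symm)
  obtain ⟨w₁, h₁, a₁, b₁, n₁⟩ := key u hu hub huy
  obtain ⟨w₂, h₂, a₂, b₂, n₂⟩ := key v hv hvb hvy
  obtain ⟨w, hw, nu, nv, hall⟩ := u6_combine hU hD hu hv h₁ h₂ n₁ n₂
  exact ⟨w, hw, hall b hb a₁ a₂, hall y hy b₁ b₂, nu, nv⟩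

theorem u6_no_bad {p A B C E : G} (hp : p ∈ D) {a c : G} (hq : Quad D a c A B C E)
    (na : ¬ Commute A p) (nb : ¬ Commute B p) (nc : ¬ Commute C p) (ne : ¬ Commute E p)
    (mab : ¬ Commute (A * B * A) p) (mac : ¬ Commute (A * C * A) p)
    (mae : ¬ Commute (A * E * A) p) (mbc : ¬ Commute (B * C * B) p)
    (mbe : ¬ Commute (B * E * B) p) (mce : ¬ Commute (C * E * C) p) : False := by
  obtain ⟨F, _, _, f, hF, hf, hk⟩ := exists_model hU hD
  exact no_bad hF f hf hk hD hp (hq.mem A (by simp)).1 (hq.mem B (by simp)).1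
    (hq.mem C (by simp)).1 (hq.mem E (by simp)).1 hq.ab hq.ac hq.ae hq.bc hq.be hq.ce hq.t₁
    hq.t₂ hq.t₃ na nb nc ne mab mac mae mbc mbe mce

theorem u6_prim [Finite G] :
    Cfsg.IsPrimitiveUnderConj D ∧ ∃ u ∈ D, ∃ v ∈ D, u ≠ v ∧ Commute u v := by
  obtain ⟨F, i₁, i₂, hF4, ⟨e⟩⟩ := id hU
  have hF4' : Fintype.card F = 2 ^ 2 := hF4
  haveI := CfsgLib.Classical.isSimpleGroup_psu hF4' (n := 6) (by norm_num) (by norm_num)
  haveI : IsSimpleGroup G := e.isSimpleGroup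
  have hN := (u6Facts hU hD).toNice
  obtain ⟨a, ha, c, hc, hac⟩ := hN.pair
  have hC : Cfsg.IsThreeTranspositionClass D := ⟨hD.1, ⟨_, ha, Set.ext fun y =>
    ⟨fun hy => by obtain ⟨g, rfl⟩ := hN.conj a ha y hy; exact isConj_iff.2 ⟨g, rfl⟩,
     fun hy => by obtain ⟨g, rfl⟩ := isConj_iff.1 hy; exact hD.2.1 g _ ha⟩⟩, hD.2.2⟩
  have h2 : Cfsg.pCore 2 G ≤ Subgroup.center G := by
    haveI := CfsgLib.Amalgam.normal_pCore (G := G) (p := 2)
    rcases (inferInstance : (Cfsg.pCore 2 G).Normal).eq_bot_or_eq_top with h | h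
    · rw [h]; exact bot_le
    · exfalso
      refine ne_of_not_commute hac ?_
      have h3 := cube_eq_one_of_mem_two_pCore (h.ge (Subgroup.mem_top _)) (pow_three hD.1 ha hc hac)
      rw [eq_inv_of_mul_eq_one_left h3, inv_eq hD.1 hc]
  refine ⟨primitive_of_normal hC ⟨_, ha, _, hc, ne_of_not_commute hac⟩ h2 ⊤ (by simp)
    fun K hK => hK.eq_bot_or_eq_top.elim (fun h => Or.inr (h ▸ bot_le)) fun h => Or.inl h.ge, ?_⟩
  obtain ⟨a₁, b₁, c₁, x₁, y₁, z₁, -, -, -, ⟨n1, m1, co1, -⟩, -, -⟩ := u6_planes hU hD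
  simp only [List.nodup_cons, List.mem_cons, List.not_mem_nil, or_false, not_or] at n1
  exact ⟨a₁, m1 a₁ (by simp), b₁, m1 b₁ (by simp), n1.1.1, co1 a₁ (by simp) b₁ (by simp)⟩

/-- Any non-commuting pair has such a configuration. -/
theorem u6_quad [Finite G] {a c : G} (ha : a ∈ D) (hc : c ∈ D) (hac : ¬ Commute a c) :
    ∃ A B C E, Quad D a c A B C E := by
  obtain ⟨F, _, _, f, hF, hf, hk⟩ := exists_model hU hD
  obtain ⟨a₀, c₀, A, B, C, E, ha₀, hc₀, hn₀, hq⟩ := exists_quad hF f hf hk hD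
  obtain ⟨hP, hw⟩ := u6_prim hU hD
  obtain ⟨g₁, hg₁⟩ := hP.1 a₀ ha₀ a ha
  obtain ⟨g₂, hg₂, hg₂'⟩ := trans_noncomm hD hP hw ha (hD.2.1 g₁ c₀ hc₀)
    (fun h' => hn₀ (by rw [← hg₁] at h'; exact (commute_conj_iff g₁ a₀ c₀).1 h')) hc hac
  obtain ⟨g, eg⟩ : ∃ g, g = g₂ * g₁ := ⟨_, rfl⟩
  have ea : g * a₀ * g⁻¹ = a := by
    rw [eg]; conv_rhs => rw [← hg₂, ← hg₁]
    group
  have ec : g * c₀ * g⁻¹ = c := by rw [eg, ← hg₂']; group
  have cj : ∀ x y : G, Commute (g * x * g⁻¹) (g * y * g⁻¹) ↔ Commute x y := commute_conj_iff g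
  have c3 : ∀ x y : G, g * x * g⁻¹ * (g * y * g⁻¹) * (g * x * g⁻¹) = g * (x * y * x) * g⁻¹ :=
    fun x y => by group
  refine ⟨g * A * g⁻¹, g * B * g⁻¹, g * C * g⁻¹, g * E * g⁻¹, ⟨?_, mt (cj _ _).1 hq.ab,
    mt (cj _ _).1 hq.ac, mt (cj _ _).1 hq.ae, mt (cj _ _).1 hq.bc, mt (cj _ _).1 hq.be,
    mt (cj _ _).1 hq.ce, ?_, ?_, ?_⟩⟩
  · have := hq.mem
    simp only [List.mem_cons, List.not_mem_nil, or_false, forall_eq_or_imp, forall_eq] at this ⊢
    rw [← ea, ← ec]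
    obtain ⟨⟨m1, p1, q1⟩, ⟨m2, p2, q2⟩, ⟨m3, p3, q3⟩, m4, p4, q4⟩ := this
    exact ⟨⟨hD.2.1 g _ m1, (cj _ _).2 p1, (cj _ _).2 q1⟩, ⟨hD.2.1 g _ m2, (cj _ _).2 p2, (cj _ _).2 q2⟩,
      ⟨hD.2.1 g _ m3, (cj _ _).2 p3, (cj _ _).2 q3⟩, hD.2.1 g _ m4, (cj _ _).2 p4, (cj _ _).2 q4⟩
  · rw [c3, cj]; exact hq.t₁
  · rw [c3, cj]; exact hq.t₂
  · rw [c3, cj]; exact hq.t₃

end Wrap

end CfsgLib.Trans3.Fi
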