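import Cfsg.Agent.Lib.Trans3.Fi.U6Count
import Cfsg.Agent.Lib.Trans3.Fi.U6Config
import Cfsg.Agent.Lib.KnownC.UnitarySpectrum

/-!
In `PSU₆(2)` the centraliser of two non-commuting transvections is `U₄(2)`, generated by the
transvections commuting with both, with trivial centre.
-/

set_option autoImplicit false
set_option linter.unusedSectionVars false
set_option linter.unusedSimpArgs false

namespace CfsgLib.Trans3.Fi

open Matrix CfsgLib.MaxSub CfsgLib.Classical CfsgLib.Trans3.TvSU

variable {F : Type*} [Field F] [Fintype F] (hF : Fintype.card F = 2 ^ 2)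
include hF

theorem card_su_four : Nat.card ↥(Cfsg.SU 4 F 2) = 25920 := by
  have h := card_su_mul hF (n := 4) (by norm_num)
  rw [card_gu hF] at h
  simp [Finset.prod_range_succ, Nat.even_iff] at h
  norm_num at h
  omega

theorem center_su_four : Subgroup.center ↥(Cfsg.SU 4 F 2) = ⊥ :=
  Subgroup.card_eq_one.1 (by rw [card_center_su hF (by norm_num)]; rfl)

variable {Y : Type*} [Group Y] {D : Set Y} (f : ↥(Cfsg.SU 6 F 2) →* Y)
  (hf : Function.Surjective f) (hk : f.ker = Subgroup.center ↥(Cfsg.SU 6 F 2))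
  (hD : Cfsg.IsThreeTranspositionGroup D)
include hf hk hD

omit hD in
theorem blkHom_inj : Function.Injective fun A => f (blkHom hF A) := by
  intro A B h
  have h' : f (blkHom hF (A⁻¹ * B)) = 1 := by
    rw [map_mul, map_inv, map_mul, map_inv]
    exact inv_mul_eq_one.2 h
  have hz := (map_eq_one_iff' hF f hk).1 h'
  have key : ∀ w : Fin 4 → F, suVal (A⁻¹ * B) *ᵥ w = w := by
    intro w
    -- a central block commutes with a transvection moving `e₀`
    obtain ⟨p, ep⟩ : ∃ p : Fin 6 → F, p = pad (fun _ => 1) w := ⟨_, rfl⟩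
    obtain ⟨c, hc⟩ : ∃ c : F, ∀ x, act (blkHom hF (A⁻¹ * B)) x = c • x := by
      obtain ⟨c, -, hc⟩ := CfsgLib.KnownC.UnitarySpectrum.scalar_of_mk_eq_one hF (by norm_num)
        (blkHom hF (A⁻¹ * B)) ((QuotientGroup.eq_one_iff _).2 hz)
      exact ⟨c, fun x => by
        show suVal _ *ᵥ x = _
        rw [show suVal (blkHom hF (A⁻¹ * B)) = c • (1 : Matrix (Fin 6) (Fin 6) F) from hc,
          Matrix.smul_mulVec, Matrix.one_mulVec]⟩
    have h0 := hc p
    rw [blkHom_act hF, ep, low_pad] at h0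
    have hc1 : c = 1 := by
      have := congrFun h0 0
      simpa [pad] using this.symm
    rw [hc1, one_smul] at h0
    have h2 := congrArg low h0
    rwa [low_pad, low_pad] at h2
  have : A⁻¹ * B = 1 := suVal_injective (Matrix.toLin'.injective (LinearMap.ext fun w => by
    simp only [Matrix.toLin'_apply, key w, map_one, Matrix.one_mulVec]))
  exact inv_mul_eq_one.1 this

/-- The block subgroup lies in the group of transvections fixing both frame vectors. -/
theorem blk_mem_pair {ω : F} {p r : Fin 6 → F} (ep : p = ![1, 1, 0, 0, 0, 0])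
    (er : r = ![ω, ω ^ 2, 0, 0, 0, 0]) (hr0 : r ≠ 0) (hrr : hh r r = 0)
    (A : ↥(Cfsg.SU 4 F 2)) :
    f (blkHom hF A) ∈
      Subgroup.closure {e : Y | e ∈ D ∧ Commute (pt hF f p) e ∧ Commute (pt hF f r) e} := by
  have hA : A ∈ Subgroup.closure {A : ↥(Cfsg.SU 4 F 2) | ∃ (v : Fin 4 → F) (c : F),
      Cfsg.hermForm 4 F 2 v v = 0 ∧
        ((A : Matrix.SpecialLinearGroup (Fin 4) F) : Matrix (Fin 4) (Fin 4) F) =
          Cfsg.unitaryTransvection 4 2 v c} := by
    rw [closure_transvections_eq_top hF (by norm_num) (by norm_num)]; trivial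
  induction hA using Subgroup.closure_induction with
  | mem A hA =>
    obtain ⟨v, c, hvv, hAv⟩ := hA
    have hval : ∀ z, suVal A *ᵥ z = z + (c * Cfsg.hermForm 4 F 2 z v) • v := by
      intro z
      show ((A : Matrix.SpecialLinearGroup (Fin 4) F) : Matrix (Fin 4) (Fin 4) F) *ᵥ z = _
      rw [hAv, unitaryTransvection_mulVec hF, hermB_apply]
    obtain ⟨w, ew⟩ : ∃ w, w = pad (0 : Fin 6 → F) v := ⟨_, rfl⟩
    have hww : hh w w = 0 := by rw [ew, hh_pad hF, hvv]; simp
    have hact : ∀ x, act (blkHom hF A) x = x + (c * hh x w) • w := by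
      intro x
      have hxw : hh x w = Cfsg.hermForm 4 F 2 (low x) v := by
        conv_lhs => rw [← pad_low hF x]
        rw [ew, hh_pad hF]; simp
      rw [blkHom_act hF, hval, hxw, ew]
      funext i
      fin_cases i <;> simp [pad, low]
    by_cases hw0 : w = 0
    · have : blkHom hF A = 1 := act_ext fun x => by rw [hact, hw0, smul_zero, add_zero, act_one]
      rw [this, map_one]; exact one_mem _
    obtain ⟨z, -, hz⟩ := exists_hh hF (S := ⊥) (r := w) (by simpa using hw0)
    have hc : c ^ 2 = c := by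
      have h1 := hh_act (blkHom hF A) z z
      rw [hact, hh_add_left hF, hh_add_right hF, hh_add_right hF, hh_smul_left hF,
        hh_smul_left hF, hh_smul_right hF, hh_smul_right hF, hww, hz, hh_symm_one hF hz] at h1
      linear_combination h1 - add_self hF c
    rcases fixed hF hc with rfl | rfl
    · have : blkHom hF A = 1 := act_ext fun x => by rw [hact, zero_mul, zero_smul, add_zero, act_one]
      rw [this, map_one]; exact one_mem _
    · have : blkHom hF A = tv hF w := act_ext fun x => by rw [hact, tv_act hF hww, one_mul]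
      rw [this]
      have hp0 : p ≠ 0 := fun h => by simpa [ep] using congrFun h 0
      have hsum : ∀ u v : Fin 6 → F, hh u v = ∑ i, u i * v i ^ 2 := fun _ _ => rfl
      have hpp : hh p p = 0 := by simp [hsum, ep, Fin.sum_univ_succ, add_self hF]
      refine Subgroup.subset_closure ⟨pt_mem hF f hf hk hD hw0 hww,
        (pt_commute hF f hk hp0 hw0 hpp hww).2 ?_, (pt_commute hF f hk hr0 hw0 hrr hww).2 ?_⟩
      · simp [hsum, ep, ew, pad, Fin.sum_univ_succ]
      · simp [hsum, er, ew, pad, Fin.sum_univ_succ]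
  | one => rw [map_one, map_one]; exact one_mem _
  | mul A B _ _ ha hb => rw [map_mul, map_mul]; exact mul_mem ha hb
  | inv A _ ha => rw [map_inv, map_inv]; exact Subgroup.inv_mem _ ha

theorem exists_pair_stab : ∃ a c : Y, a ∈ D ∧ c ∈ D ∧ ¬ Commute a c ∧
    (∀ x, Commute x a → Commute x c →
      x ∈ Subgroup.closure {e : Y | e ∈ D ∧ Commute a e ∧ Commute c e}) ∧
    Nat.card {x : Y // Commute x a ∧ Commute x c} = 25920 ∧
    ∀ z, Commute z a → Commute z c → (∀ e ∈ D, Commute a e → Commute c e → Commute z e) → z = 1 := by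
  obtain ⟨ω, hω⟩ := exists_omega hF
  have hω0 : ω ≠ 0 := fun h => by rw [h] at hω; simp at hω
  obtain ⟨p, ep⟩ : ∃ p : Fin 6 → F, p = ![1, 1, 0, 0, 0, 0] := ⟨_, rfl⟩
  obtain ⟨r, er⟩ : ∃ r : Fin 6 → F, r = ![ω, ω ^ 2, 0, 0, 0, 0] := ⟨_, rfl⟩
  have hp0 : p ≠ 0 := fun h => by simpa [ep] using congrFun h 0
  have hr0 : r ≠ 0 := fun h => hω0 (by simpa [er] using congrFun h 0)
  have hsum : ∀ u v : Fin 6 → F, hh u v = ∑ i, u i * v i ^ 2 := fun _ _ => rfl
  have hpp : hh p p = 0 := by simp [hsum, ep, Fin.sum_univ_succ, add_self hF]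
  have hpr : hh p r = 1 := by
    simp [hsum, ep, er, Fin.sum_univ_succ, pow_four hF]
    linear_combination hω
  have hrr : hh r r = 0 := by
    simp [hsum, er, Fin.sum_univ_succ, pow_four hF]
    linear_combination (ω ^ 3) * add_self hF 1
  have hpm := pt_mem hF f hf hk hD hp0 hpp
  have hrm := pt_mem hF f hf hk hD hr0 hrr
  have eig : ∀ {g : ↥(Cfsg.SU 6 F 2)} {u}, u ≠ 0 → hh u u = 0 → Commute (f g) (pt hF f u) →
      ∃ α : F, α ≠ 0 ∧ act g u = α • u := by
    intro g u hu huu hcu
    have h1 := conj_pt hF f g huu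
    rw [conj_eq_of_commute hcu] at h1
    exact pt_eq hF f hk (act_ne_zero hF g hu) (by rw [hh_act]; exact huu) huu h1.symm
  have hex : ∀ x, Commute x (pt hF f p) → Commute x (pt hF f r) → ∃ A, x = f (blkHom hF A) := by
    intro x h1 h2
    obtain ⟨g, rfl⟩ := hf x
    obtain ⟨α, hα, hαp⟩ := eig hp0 hpp h1
    obtain ⟨β, -, hβr⟩ := eig hr0 hrr h2
    exact fix_frame hF f hf hk hD hω ep er hα hαp hβr
  have hmem := blk_mem_pair hF f hf hk hD ep er hr0 hrr
  have hcomm : ∀ A, Commute (f (blkHom hF A)) (pt hF f p) ∧ Commute (f (blkHom hF A)) (pt hF f r) := by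
    intro A
    constructor <;>
    · have := hmem A
      generalize f (blkHom hF A) = y at this
      induction this using Subgroup.closure_induction with
      | mem u hu => first | exact hu.2.1.symm | exact hu.2.2.symm
      | one => exact Commute.one_left _
      | mul _ _ _ _ h1 h2 => exact h1.mul_left h2
      | inv _ _ h1 => exact h1.inv_left
  refine ⟨_, _, hpm, hrm, fun h => ?_, fun x h1 h2 => ?_, ?_, fun z h1 h2 hz => ?_⟩
  · rw [(pt_commute hF f hk hp0 hr0 hpp hrr).1 h] at hpr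
    exact zero_ne_one hpr
  · obtain ⟨A, rfl⟩ := hex x h1 h2
    exact hmem A
  · have hbij : Function.Bijective (fun A : ↥(Cfsg.SU 4 F 2) =>
        (⟨f (blkHom hF A), hcomm A⟩ : {x : Y // Commute x (pt hF f p) ∧ Commute x (pt hF f r)})) :=
      ⟨fun A B h => blkHom_inj hF f hf hk (congrArg Subtype.val h), fun x => by
        obtain ⟨A, hA⟩ := hex x.1 x.2.1 x.2.2
        exact ⟨A, Subtype.ext hA.symm⟩⟩
    rw [← Nat.card_congr (Equiv.ofBijective _ hbij), card_su_four hF]
  · obtain ⟨A, rfl⟩ := hex z h1 h2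
    have hA : A ∈ Subgroup.center ↥(Cfsg.SU 4 F 2) := by
      rw [Subgroup.mem_center_iff]
      intro B
      refine blkHom_inj hF f hf hk ?_
      have hcl : Commute (f (blkHom hF A)) (f (blkHom hF B)) := by
        have := hmem B
        generalize f (blkHom hF B) = y at this
        induction this using Subgroup.closure_induction with
        | mem u hu => exact hz u hu.1 hu.2.1 hu.2.2
        | one => exact Commute.one_right _
        | mul _ _ _ _ h1 h2 => exact h1.mul_right h2
        | inv _ _ h1 => exact h1.inv_right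
      simp only [map_mul]
      exact hcl.eq.symm
    rw [center_su_four hF, Subgroup.mem_bot] at hA
    rw [hA, map_one, map_one]

end CfsgLib.Trans3.Fi

namespace CfsgLib.Trans3.Fi

variable {G : Type*} [Group G] [Finite G] {D : Set G}

theorem u6_pair_stab (hU : IsU6 G) (hD : Cfsg.IsThreeTranspositionGroup D) {a c : G} (ha : a ∈ D)
    (hc : c ∈ D) (hac : ¬ Commute a c) :
    (∀ x, Commute x a → Commute x c →
      x ∈ Subgroup.closure {e : G | e ∈ D ∧ Commute a e ∧ Commute c e}) ∧
    Nat.card {x : G // Commute x a ∧ Commute x c} = 25920 ∧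
    ∀ z, Commute z a → Commute z c → (∀ e ∈ D, Commute a e → Commute c e → Commute z e) → z = 1 := by
  obtain ⟨F, _, _, f, hF, hf, hk⟩ := exists_model hU hD
  obtain ⟨a₀, c₀, ha₀, hc₀, hn₀, h1, h2, h3⟩ := exists_pair_stab hF f hf hk hD
  obtain ⟨hP, hw⟩ := u6_prim hU hD
  obtain ⟨g₁, hg₁⟩ := hP.1 a₀ ha₀ a ha
  obtain ⟨g₂, hg₂, hg₂'⟩ := trans_noncomm hD hP hw ha (hD.2.1 g₁ c₀ hc₀)
    (fun h' => hn₀ (by rw [← hg₁] at h'; exact (commute_conj_iff g₁ a₀ c₀).1 h')) hc hac
  obtain ⟨g, eg⟩ : ∃ g, g = g₂ * g₁ := ⟨_, rfl⟩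
  have ea : g * a₀ * g⁻¹ = a := by
    rw [eg]; conv_rhs => rw [← hg₂, ← hg₁]
    group
  have ec : g * c₀ * g⁻¹ = c := by rw [eg, ← hg₂']; group
  subst ea ec
  have back : ∀ x y : G, Commute x (g * y * g⁻¹) ↔ Commute (g⁻¹ * x * g) y := fun x y => by
    conv_lhs => rw [show x = g * (g⁻¹ * x * g) * g⁻¹ by group]
    exact commute_conj_iff g _ y
  refine ⟨fun x hx1 hx2 => ?_, ?_, fun z hz1 hz2 hz => ?_⟩
  · have hx := h1 _ ((back x a₀).1 hx1) ((back x c₀).1 hx2)
    have hle : (Subgroup.closure {e : G | e ∈ D ∧ Commute a₀ e ∧ Commute c₀ e}).map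
        (MulAut.conj g).toMonoidHom ≤ Subgroup.closure
          {e : G | e ∈ D ∧ Commute (g * a₀ * g⁻¹) e ∧ Commute (g * c₀ * g⁻¹) e} := by
      rw [MonoidHom.map_closure]
      refine Subgroup.closure_mono ?_
      rintro _ ⟨e, ⟨he, e1, e2⟩, rfl⟩
      exact ⟨hD.2.1 g e he, (commute_conj_iff g a₀ e).2 e1, (commute_conj_iff g c₀ e).2 e2⟩
    exact hle ⟨_, hx, by simp [mul_assoc]⟩
  · rw [← h2]
    exact Nat.card_congr ((MulAut.conj g).symm.toEquiv.subtypeEquiv fun x =>
      and_congr (back x a₀) (back x c₀))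
  · have := h3 _ ((back z a₀).1 hz1) ((back z c₀).1 hz2) fun e he e1 e2 => by
      refine (back z e).1 (hz _ (hD.2.1 g e he) ((commute_conj_iff g a₀ e).2 e1)
        ((commute_conj_iff g c₀ e).2 e2))
    calc z = g * (g⁻¹ * z * g) * g⁻¹ := by group
      _ = 1 := by rw [this]; group

end CfsgLib.Trans3.Fi
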