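import Cfsg.Agent.Lib.Trans3.Fi.M22Count
import Cfsg.Agent.Lib.Trans3.Fi.PairStab
import Cfsg.Agent.Lib.Trans3.Fi.ReflSix

/-!
A group of type M(22) has 3510 transpositions, order `|Fi₂₂|` and width 22.
-/

set_option autoImplicit false
set_option linter.unusedSectionVars false

namespace CfsgLib.Trans3.Fi

variable {G : Type*} [Group G] [Finite G] {D : Set G}
variable (hD : Cfsg.IsThreeTranspositionGroup D) (hP : Cfsg.IsPrimitiveUnderConj D)
variable (h : Cfsg.IsOfTypeM22 G D)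
include hD hP h

omit hP in
/-- Lifting from the perp of two members of a neighbourhood group. -/
theorem lift_perp_two {e d c : G} (hd : d ∈ nbrs D e) (hc : c ∈ nbrs D e) {q : Qd D e}
    (hq : q ∈ Subgroup.closure {v | v ∈ Db D e ∧ Commute (bar hd) v ∧ Commute (bar hc) v}) :
    ∃ k : ↥(Hd D e), (k : G) ∈ Subgroup.closure {w | w ∈ D ∧ Commute d w ∧ Commute c w} ∧
      (k : Qd D e) = q := by
  have hPre := pre_of_group hD
  induction hq using Subgroup.closure_induction with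
  | mem v hv =>
    obtain ⟨w, hw, rfl⟩ := exists_bar hv.1
    exact ⟨⟨w, Subgroup.subset_closure hw⟩, Subgroup.subset_closure
      ⟨hw.1, (commute_bar hPre hd hw).1 hv.2.1, (commute_bar hPre hc hw).1 hv.2.2⟩, rfl⟩
  | one => exact ⟨1, by simpa using one_mem _, rfl⟩
  | mul x y _ _ hx hy =>
    obtain ⟨k, hk, rfl⟩ := hx
    obtain ⟨l, hl, rfl⟩ := hy
    exact ⟨k * l, mul_mem hk hl, rfl⟩
  | inv x _ hx =>
    obtain ⟨k, hk, rfl⟩ := hx
    exact ⟨k⁻¹, inv_mem hk, rfl⟩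

/-- The joint centraliser of a non-commuting pair and a common neighbour. -/
theorem pair_point {d c e : G} (hd : d ∈ D) (hc : c ∈ D) (hdc : ¬ Commute d c) (he : e ∈ D)
    (hde : Commute d e) (hce : Commute c e) :
    (∀ x, Commute x d → Commute x c → Commute x e →
      x ∈ Subgroup.closure {w | w ∈ D ∧ Commute d w ∧ Commute c w}) ∧
    Nat.card ↥(Subgroup.centralizer ({d} : Set G) ⊓ Subgroup.centralizer ({c} : Set G) ⊓
      Subgroup.centralizer ({e} : Set G)) = 51840 ∧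
    ∀ z, Commute z d → Commute z c → Commute z e →
      (∀ w ∈ D, Commute d w → Commute c w → Commute z w) → z = 1 ∨ z = e := by
  have hPre := pre_of_group hD
  have hN := nice_m22 hD h
  have nd : d ∈ nbrs D e := ⟨hd, fun x => hdc (x ▸ hce.symm), hde.symm⟩
  have nc : c ∈ nbrs D e := ⟨hc, fun x => hdc (x ▸ hde), hce.symm⟩
  obtain ⟨s1, s2, s3⟩ := u6_pair_stab (m22_isU6 hD h he) (hN.group_Db he) (bar_mem nd) (bar_mem nc)
    fun x => hdc ((commute_bar hPre nd nc).1 x)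
  have toHd : ∀ x, Commute x e → x ∈ Hd D e := fun x hx => by
    rw [m22_gate hD hP h he]; exact Subgroup.mem_centralizer_singleton_iff.2 hx
  have mkc : ∀ (x : ↥(Hd D e)) {y : G} (hy : y ∈ nbrs D e), Commute (x : G) y →
      Commute (x : Qd D e) (bar hy) := fun x y hy hx => by
    show (QuotientGroup.mk _ : Qd D e) * QuotientGroup.mk _ = _
    rw [← QuotientGroup.mk_mul, ← QuotientGroup.mk_mul]
    exact congrArg QuotientGroup.mk (Subtype.ext hx.eq)
  have hker : ∀ x : ↥(Hd D e), (x : Qd D e) = 1 → (x : G) ∈ Subgroup.zpowers e := by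
    intro x hx
    have := (QuotientGroup.eq_one_iff x).1 hx
    rwa [m22_center_Hd hD hP h he, Subgroup.mem_subgroupOf] at this
  have hzc : ∀ x ∈ Subgroup.zpowers e, Commute x d ∧ Commute x c ∧ Commute x e := by
    rintro _ ⟨n, rfl⟩
    exact ⟨hde.symm.zpow_left n, hce.symm.zpow_left n, (Commute.refl e).zpow_left n⟩
  refine ⟨fun x xd xc xe => ?_, ?_, fun z zd zc ze hz => ?_⟩
  · obtain ⟨k, hk, hkx⟩ := lift_perp_two hD h nd nc
      (s1 _ (mkc ⟨x, toHd x xe⟩ nd xd) (mkc ⟨x, toHd x xe⟩ nc xc))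
    have h1 := hker (k⁻¹ * ⟨x, toHd x xe⟩) (by
      rw [QuotientGroup.mk_mul, QuotientGroup.mk_inv, hkx, inv_mul_cancel])
    have h2 : Subgroup.zpowers e ≤ Subgroup.closure {w | w ∈ D ∧ Commute d w ∧ Commute c w} :=
      Subgroup.zpowers_le.2 (Subgroup.subset_closure ⟨he, hde, hce⟩)
    have h3 := mul_mem hk (h2 h1)
    rwa [Subgroup.coe_mul, Subgroup.coe_inv, mul_inv_cancel_left] at h3
  · obtain ⟨K, eK⟩ : ∃ K : Subgroup G, K = Subgroup.centralizer ({d} : Set G) ⊓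
      Subgroup.centralizer ({c} : Set G) ⊓ Subgroup.centralizer ({e} : Set G) := ⟨_, rfl⟩
    rw [← eK]
    have hK : ∀ x, x ∈ K ↔ (Commute x d ∧ Commute x c) ∧ Commute x e := fun x => by
      rw [eK]; simp only [Subgroup.mem_inf, Subgroup.mem_centralizer_singleton_iff]; rfl
    have hKH : K ≤ Hd D e := fun x hx => toHd x ((hK x).1 hx).2
    let ψ : ↥K →* Qd D e := (QuotientGroup.mk' _).comp (Subgroup.inclusion hKH)
    have hkercard : Nat.card ψ.ker = 2 := by
      have e1 : ψ.ker = (Subgroup.zpowers e).subgroupOf K := by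
        ext x
        rw [MonoidHom.mem_ker, Subgroup.mem_subgroupOf]
        constructor
        · exact fun hx => hker (Subgroup.inclusion hKH x) hx
        · intro hx
          refine (QuotientGroup.eq_one_iff _).2 ?_
          rw [m22_center_Hd hD hP h he, Subgroup.mem_subgroupOf]
          exact hx
      have hle : Subgroup.zpowers e ≤ K := fun x hx =>
        (hK x).2 ⟨⟨(hzc x hx).1, (hzc x hx).2.1⟩, (hzc x hx).2.2⟩
      rw [e1, Nat.card_congr (Subgroup.subgroupOfEquivOfLe hle).toEquiv, Nat.card_zpowers,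
        hD.1.1 e he]
    have hrange : (ψ.range : Set (Qd D e)) =
        {q | Commute q (bar nd) ∧ Commute q (bar nc)} := by
      ext q
      constructor
      · rintro ⟨x, rfl⟩
        exact ⟨mkc _ nd ((hK _).1 x.2).1.1, mkc _ nc ((hK _).1 x.2).1.2⟩
      · rintro ⟨q1, q2⟩
        obtain ⟨k, hk, rfl⟩ := lift_perp_two hD h nd nc (s1 q q1 q2)
        have hgen : Commute (k : G) d ∧ Commute (k : G) c := by
          suffices ∀ g ∈ Subgroup.closure {w | w ∈ D ∧ Commute d w ∧ Commute c w},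
              Commute g d ∧ Commute g c from this _ hk
          intro g hg
          induction hg using Subgroup.closure_induction with
          | mem u hu => exact ⟨hu.2.1.symm, hu.2.2.symm⟩
          | one => exact ⟨Commute.one_left _, Commute.one_left _⟩
          | mul _ _ _ _ h1 h2 => exact ⟨h1.1.mul_left h2.1, h1.2.mul_left h2.2⟩
          | inv _ _ h1 => exact ⟨h1.1.inv_left, h1.2.inv_left⟩
        exact ⟨⟨k, (hK _).2 ⟨hgen, (commute_Hd k.2).symm⟩⟩, rfl⟩
    have hrc : Nat.card ψ.range = 25920 := by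
      rw [← s2, ← SetLike.coe_sort_coe, hrange]; rfl
    rw [Subgroup.card_eq_card_quotient_mul_card_subgroup ψ.ker,
      Nat.card_congr (QuotientGroup.quotientKerEquivRange ψ).toEquiv, hrc, hkercard]
  · have h1 := s3 _ (mkc ⟨z, toHd z ze⟩ nd zd) (mkc ⟨z, toHd z ze⟩ nc zc) fun q hq q1 q2 => by
      obtain ⟨w, hw, rfl⟩ := exists_bar hq
      exact mkc ⟨z, toHd z ze⟩ hw
        (hz w hw.1 ((commute_bar hPre nd hw).1 q1) ((commute_bar hPre nc hw).1 q2))
    obtain ⟨n, hn⟩ := hker ⟨z, toHd z ze⟩ h1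
    have hn' : e ^ n = z := hn
    rcases Int.even_or_odd' n with ⟨k, rfl | rfl⟩
    · left; rw [← hn', zpow_mul, zpow_two, Trans3.sq_one hD.1 he, one_zpow]
    · right
      rw [← hn', zpow_add, zpow_mul, zpow_two, Trans3.sq_one hD.1 he, one_zpow, one_mul, zpow_one]

theorem card_common {d c : G} (hd : d ∈ D) (hc : c ∈ D) (hdc : ¬ Commute d c) {c₃ : ZMod 3}
    (hc₃ : c₃ ≠ 0)
    (hL : Cfsg.IsProjReflectionGroupModThree (↥(Ld D d c) ⧸ Subgroup.center ↥(Ld D d c)) 6 1 c₃) :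
    {y | y ∈ D ∧ Commute d y ∧ Commute c y}.ncard * 51840 = 6065280 ∨
      {y | y ∈ D ∧ Commute d y ∧ Commute c y}.ncard * 51840 = 6531840 := by
  obtain ⟨S, eS⟩ : ∃ S : Set G, S = {y | y ∈ D ∧ Commute d y ∧ Commute c y} := ⟨_, rfl⟩
  have hset : nbrs D d ∩ nbrs D c = S := by
    rw [eS]; ext y
    exact ⟨fun ⟨⟨h1, _, h2⟩, _, _, h3⟩ => ⟨h1, h2, h3⟩, fun ⟨h1, h2, h3⟩ =>
      ⟨⟨h1, fun x => hdc (x ▸ h3).symm, h2⟩, h1, fun x => hdc (x ▸ h2), h3⟩⟩
  obtain ⟨L, eL⟩ : ∃ L : Subgroup G, L = Subgroup.closure S := ⟨_, rfl⟩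
  have hLd : Ld D d c = L := by rw [eL, ← hset]
  rw [← eS]
  obtain ⟨e₀, he₀, hed, hec⟩ := exists_common hD hP h hd hc hdc
  have hLc : ∀ x ∈ L, Commute x d ∧ Commute x c := by
    intro x hx
    rw [eL, eS] at hx
    induction hx using Subgroup.closure_induction with
    | mem u hu => exact ⟨hu.2.1.symm, hu.2.2.symm⟩
    | one => exact ⟨Commute.one_left _, Commute.one_left _⟩
    | mul _ _ _ _ h1 h2 => exact ⟨h1.1.mul_left h2.1, h1.2.mul_left h2.2⟩
    | inv _ _ h1 => exact ⟨h1.1.inv_left, h1.2.inv_left⟩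
  obtain ⟨p1, p2, -⟩ := pair_point hD hP h hd hc hdc he₀ hed.symm hec.symm
  have hstab : L ⊓ Subgroup.centralizer ({e₀} : Set G) = Subgroup.centralizer ({d} : Set G) ⊓
      Subgroup.centralizer ({c} : Set G) ⊓ Subgroup.centralizer ({e₀} : Set G) := by
    ext x
    simp only [Subgroup.mem_inf, Subgroup.mem_centralizer_singleton_iff]
    exact ⟨fun ⟨hx, hxe⟩ => ⟨⟨(hLc x hx).1, (hLc x hx).2⟩, hxe⟩,
      fun ⟨⟨h1, h2⟩, h3⟩ => ⟨by rw [eL, eS]; exact p1 x h1 h2 h3, h3⟩⟩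
  have horb := card_orbit_mul (H := L) (x := e₀) (O := S) (fun g hg => ?_) (fun o ho => ?_)
  · rw [hstab, p2] at horb
    have hZ : Subgroup.center ↥L = ⊥ := by
      rw [Subgroup.eq_bot_iff_forall]
      rintro ⟨z, hzL⟩ hz
      have hzc : ∀ w ∈ D, Commute d w → Commute c w → Commute z w := fun w hw h1 h2 =>
        (congrArg Subtype.val (Subgroup.mem_center_iff.1 hz
          ⟨w, eL ▸ Subgroup.subset_closure (eS ▸ ⟨hw, h1, h2⟩)⟩)).symm
      have hz' : ∀ e ∈ D, Commute d e → Commute c e → z = 1 ∨ z = e := fun e he h1 h2 =>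
        (pair_point hD hP h hd hc hdc he h1 h2).2.2 z (hLc z hzL).1 (hLc z hzL).2 (hzc e he h1 h2) hzc
      refine Subtype.ext ((hz' e₀ he₀ hed.symm hec.symm).resolve_right fun e1 => ?_)
      have hPre := pre_of_group hD
      have hN := nice_m22 hD h
      have nd : d ∈ nbrs D e₀ := ⟨hd, fun x => hdc (x ▸ hec), hed⟩
      have nc : c ∈ nbrs D e₀ := ⟨hc, fun x => hdc (x ▸ hed).symm, hec⟩
      obtain ⟨qA, qB, qC, qE, hq⟩ := u6_quad (m22_isU6 hD h he₀) (hN.group_Db he₀) (bar_mem nd)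
        (bar_mem nc) fun x => hdc ((commute_bar hPre nd nc).1 x)
      obtain ⟨m, m1, m2⟩ := hq.mem qA (by simp)
      obtain ⟨A, hA, rfl⟩ := exists_bar m
      rw [commute_bar hPre] at m1 m2
      rcases hz' A hA.1 m1 m2 with e2 | e2
      · exact invol_ne_one (hD.1.1 _ he₀) (e1.symm.trans e2)
      · exact hA.2.1 (e2.symm.trans e1)
    have hq : Nat.card (↥L ⧸ Subgroup.center ↥L) = S.ncard * 51840 := by
      rw [← horb, Subgroup.card_eq_card_quotient_mul_card_subgroup (Subgroup.center ↥L), hZ,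
        Subgroup.card_bot, mul_one]
    rw [hLd] at hL
    obtain ⟨Q, hQ, hdet, ⟨iso⟩⟩ := hL
    rw [← hq, Nat.card_congr iso.toEquiv]
    exact ReflSix.card_quotient Q hQ hc₃ hdet
  · obtain ⟨h1, h2⟩ := hLc g hg
    rw [eS]
    refine ⟨hD.2.1 g e₀ he₀, ?_, ?_⟩
    · rw [← conj_eq_of_commute h1]; exact (commute_conj_iff g d e₀).2 hed.symm
    · rw [← conj_eq_of_commute h2]; exact (commute_conj_iff g c e₀).2 hec.symm
  · rw [eS] at ho
    obtain ⟨k, -, -, hk, hkL⟩ := trans_common hD hP h hd hc hdc he₀ hed.symm hec.symm ho.1 ho.2.1 ho.2.2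
    exact ⟨k, by rw [eL, eS]; exact hkL, hk⟩

/-- The number of transpositions. -/
theorem m22_card_D : D.ncard = 3510 := by
  classical
  have hN := nice_m22 hD h
  obtain ⟨-, d, hd, c, hc, hdc, -, c₃, hc₃, hL⟩ := id h
  have hμ := card_common hD hP h hd hc hdc hc₃ hL
  obtain ⟨b₀, hb₀, -⟩ := m22_pair hD h hd
  have hw : ∃ u ∈ D, ∃ v ∈ D, u ≠ v ∧ Commute u v := ⟨b₀, hb₀.1, d, hd, hb₀.2.1, hb₀.2.2.symm⟩
  obtain ⟨far, efar⟩ : ∃ far : Set G, far = {y | y ∈ D ∧ ¬ Commute d y} := ⟨_, rfl⟩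
  obtain ⟨μ, eμ⟩ : ∃ μ, μ = {y | y ∈ D ∧ Commute d y ∧ Commute c y}.ncard := ⟨_, rfl⟩
  rw [← eμ] at hμ
  have hA : ∀ y ∈ far, {e | e ∈ nbrs D d ∧ Commute e y}.ncard = μ := by
    intro y hy
    rw [efar] at hy
    obtain ⟨g, hg, rfl⟩ := trans_noncomm hD hP hw hd hc hdc hy.1 hy.2
    rw [eμ, ← ncard_common_conj hD (c := c) hg]
    congr 1
    ext e
    exact ⟨fun ⟨⟨h1, _, h2⟩, h3⟩ => ⟨h1, h2, h3.symm⟩, fun ⟨h1, h2, h3⟩ =>
      ⟨⟨h1, fun x => hy.2 (x ▸ h3).symm, h2⟩, h3.symm⟩⟩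
  have hB : ∀ e ∈ nbrs D d, {y | y ∈ far ∧ Commute e y}.ncard = 512 := by
    intro e he
    have ne : d ∈ nbrs D e := ⟨hd, Ne.symm he.2.1, he.2.2.symm⟩
    have hu : nbrs D e = insert d ((nbrs D e ∩ nbrs D d) ∪ {y | y ∈ far ∧ Commute e y}) := by
      ext y
      simp only [Set.mem_insert_iff, Set.mem_union, Set.mem_inter_iff, Set.mem_ofPred_eq, efar]
      constructor
      · intro hy
        by_cases h1 : y = d
        · exact Or.inl h1
        by_cases h2 : Commute d y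
        · exact Or.inr (Or.inl ⟨hy, hy.1, h1, h2⟩)
        · exact Or.inr (Or.inr ⟨⟨hy.1, h2⟩, hy.2.2⟩)
      · rintro (rfl | ⟨hy, -⟩ | ⟨⟨hy, h2⟩, h3⟩)
        exacts [ne, hy, ⟨hy, fun x => h2 (x ▸ he.2.2), h3⟩]
    have h1 := card_nbrs hD h he.1
    rw [hu, Set.ncard_insert_of_notMem, Set.ncard_union_eq, card_nbrs_two hD h he.1 ne] at h1
    · omega
    · rw [Set.disjoint_left]
      rintro y ⟨-, hy⟩ ⟨hy', -⟩
      rw [efar] at hy'
      exact hy'.2 hy.2.2
    · rintro (⟨-, hy⟩ | ⟨hy, -⟩)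
      · exact hy.2.1 rfl
      · rw [efar] at hy; exact hy.2 (Commute.refl d)
  -- double counting
  have hdc' : far.ncard * μ = 693 * 512 := by
    haveI := Fintype.ofFinite G
    have h1 := Finset.sum_card_bipartiteAbove_eq_sum_card_bipartiteBelow
      (fun y e : G => Commute e y) (s := far.toFinset) (t := (nbrs D d).toFinset)
    rw [Finset.sum_const_nat (m := μ) (fun y hy => ?_),
      Finset.sum_const_nat (m := 512) (fun e he => ?_)] at h1
    · rwa [← Set.ncard_eq_toFinset_card', ← Set.ncard_eq_toFinset_card', card_nbrs hD h hd] at h1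
    · rw [Set.mem_toFinset] at he
      rw [← hB e he, ← Set.ncard_coe_finset]
      congr 1
      ext y
      simp [Finset.bipartiteBelow]
    · rw [Set.mem_toFinset] at hy
      rw [← hA y hy, ← Set.ncard_coe_finset]
      congr 1
      ext e
      simp [Finset.bipartiteAbove]
  have hμ' : μ = 126 := by
    rcases hμ with h' | h'
    · exfalso
      obtain rfl : μ = 117 := by omega
      omega
    · omega
  subst hμ'
  have hfar : far.ncard = 2816 := by omega
  have hu : D = insert d (nbrs D d ∪ far) := by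
    ext y
    simp only [Set.mem_insert_iff, Set.mem_union, efar, Set.mem_ofPred_eq]
    constructor
    · intro hy
      by_cases h1 : y = d
      · exact Or.inl h1
      by_cases h2 : Commute d y
      · exact Or.inr (Or.inl ⟨hy, h1, h2⟩)
      · exact Or.inr (Or.inr ⟨hy, h2⟩)
    · rintro (rfl | ⟨hy, -⟩ | ⟨hy, -⟩) <;> assumption
  rw [hu, Set.ncard_insert_of_notMem, Set.ncard_union_eq, card_nbrs hD h hd, hfar]
  · rw [Set.disjoint_left]
    intro y hy hy'
    rw [efar] at hy'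
    exact hy'.2 hy.2.2
  · rintro (hy | hy)
    · exact hy.2.1 rfl
    · rw [efar] at hy; exact hy.2 (Commute.refl d)

theorem m22_card : Nat.card G = 2 ^ 17 * 3 ^ 9 * 5 ^ 2 * 7 * 11 * 13 := by
  obtain ⟨a, ha, -⟩ := (nice_m22 hD h).pair
  have h1 := card_orbit_mul (H := (⊤ : Subgroup G)) (x := a) (O := D)
    (fun g _ => hD.2.1 g a ha) (fun o ho => by
      obtain ⟨g, hg⟩ := hP.1 a ha o ho
      exact ⟨g, Subgroup.mem_top g, hg⟩)
  rw [Subgroup.card_top, top_inf_eq, card_centralizer hD hP h ha, m22_card_D hD hP h] at h1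
  rw [h1]
  norm_num

theorem m22_width : Cfsg.commutingWidth D = 22 := by
  classical
  have hN := nice_m22 hD h
  have hPre := pre_of_group hD
  obtain ⟨a, ha, -⟩ := hN.pair
  have hle : ∀ E : Set G, E ⊆ D → (∀ x ∈ E, ∀ y ∈ E, Commute x y) → E.ncard ≤ 22 := by
    intro E hE hc
    by_cases hne : E = ∅
    · rw [hne, Set.ncard_empty]; omega
    obtain ⟨e, he⟩ := Set.nonempty_iff_ne_empty.2 hne
    have hsub : E \ {e} ⊆ nbrs D e := fun y hy => ⟨hE hy.1, hy.2, hc e he y hy.1⟩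
    have h1 := u6_width_le (m22_isU6 hD h (hE he)) (hN.group_Db (hE he))
      (E := {q | ∃ y, ∃ hy : y ∈ nbrs D e, y ∈ E \ {e} ∧ q = bar hy})
      (by rintro q ⟨y, hy, -, rfl⟩; exact bar_mem hy)
      (by
        rintro q ⟨y, hy, hyE, rfl⟩ q' ⟨z, hz, hzE, rfl⟩
        exact (commute_bar hPre hy hz).2 (hc y hyE.1 z hzE.1))
    rw [← card_bar_image hD h (hE he) hsub] at h1
    have h2 := Set.ncard_diff_singleton_add_one he (Set.toFinite E)
    omega
  obtain ⟨E, hE, hEc, hE21⟩ := u6_width_ge (m22_isU6 hD h ha) (hN.group_Db ha)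
  obtain ⟨T, eT⟩ : ∃ T : Set G, T = {y | ∃ hy : y ∈ nbrs D a, bar hy ∈ E} := ⟨_, rfl⟩
  have hT : T ⊆ nbrs D a := by rw [eT]; exact fun y ⟨hy, _⟩ => hy
  have hT21 : T.ncard = 21 := by
    rw [card_bar_image hD h ha hT, ← hE21]
    congr 1
    ext q
    rw [eT]
    constructor
    · rintro ⟨y, hy, ⟨hy', hyE⟩, rfl⟩; exact hyE
    · intro hq
      obtain ⟨y, hy, rfl⟩ := exists_bar (hE hq)
      exact ⟨y, hy, ⟨hy, hq⟩, rfl⟩
  have hmem : 22 ∈ {n : ℕ | ∃ E : Set G, E ⊆ D ∧ E.Finite ∧ (∀ a ∈ E, ∀ b ∈ E, Commute a b) ∧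
      E.ncard = n} := by
    refine ⟨insert a T, Set.insert_subset ha fun y hy => (hT hy).1, Set.toFinite _, ?_, ?_⟩
    · rintro x (rfl | hx) y (rfl | hy)
      · exact Commute.refl _
      · exact (hT hy).2.2
      · exact (hT hx).2.2.symm
      · rw [eT] at hx hy
        obtain ⟨hx1, hx2⟩ := hx
        obtain ⟨hy1, hy2⟩ := hy
        exact (commute_bar hPre hx1 hy1).1 (hEc _ hx2 _ hy2)
    · rw [Set.ncard_insert_of_notMem (fun hm => (hT hm).2.1 rfl), hT21]
  refine le_antisymm (csSup_le ⟨22, hmem⟩ ?_) (le_csSup ⟨22, ?_⟩ hmem) <;>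
  · rintro n ⟨E, h1, -, h2, rfl⟩
    exact hle E h1 h2

end CfsgLib.Trans3.Fi
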