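import Cfsg.Agent.Lib.Trans3.Fi.M24Triple
import Cfsg.Agent.Lib.Trans3.Y332.Main
import Cfsg.Agent.Lib.KnownA.FischerOut.T22Out

/-!
A group of type M(24): the centraliser, in the commutator subgroup, of a product of two commuting
members is an extension by a group of order two of `Aut Fi22`.
-/

set_option autoImplicit false
set_option linter.unusedSectionVars false
set_option linter.style.haveILetI false

namespace CfsgLib.Trans3.Fi

theorem card_mulAut_fi22 :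
    Nat.card (MulAut Cfsg.Spor.Fi22) = 2 * Nat.card Cfsg.Spor.Fi22 := by
  haveI : Finite Cfsg.Spor.Fi22 := CfsgLib.InvChar.SporFi22.card_le.1
  haveI := CfsgLib.InvChar.SporFi22.isSimpleGroup
  have hc : Subgroup.center Cfsg.Spor.Fi22 = ⊥ := by
    refine (Subgroup.Normal.eq_bot_or_eq_top inferInstance).resolve_right fun e => ?_
    letI := Group.commGroupOfCenterEqTop e
    have h1 := IsSimpleGroup.prime_card (α := Cfsg.Spor.Fi22)
    rw [CfsgLib.InvChar.SporFi22.card_eq.1] at h1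
    norm_num at h1
  have hk : (MulAut.conj : Cfsg.Spor.Fi22 →* MulAut Cfsg.Spor.Fi22).ker = ⊥ := by
    rw [eq_bot_iff, ← hc]
    intro g hg
    rw [Subgroup.mem_center_iff]
    intro y
    exact (mul_inv_eq_iff_eq_mul.1 (DFunLike.congr_fun (MonoidHom.mem_ker.1 hg) y)).symm
  rw [← Nat.card_congr (MonoidHom.ofInjective ((MonoidHom.ker_eq_bot_iff _).1 hk)).symm.toEquiv,
    Subgroup.card_eq_card_quotient_mul_card_subgroup (Cfsg.Inn Cfsg.Spor.Fi22)]
  exact congrArg (fun n => n * _) CfsgLib.KnownA.FischerOut.T22.card_out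

variable {G : Type*} [Group G] [Finite G] {D : Set G}
variable (hD : Cfsg.IsThreeTranspositionGroup D) (hP : Cfsg.IsPrimitiveUnderConj D)
variable (h : Cfsg.IsOfTypeM24 G D)
include hD hP h

/-- The joint centraliser of a commuting pair in the commutator subgroup. -/
theorem m24_pair_core {d₁ d₂ : G} (h₁ : d₁ ∈ D) (n₂ : d₂ ∈ nbrs D d₁) {K : Subgroup G}
    (hK : ∀ x, x ∈ K ↔ x ∈ commutator G ∧ Commute x d₁ ∧ Commute x d₂) :
    d₁ * d₂ ∈ K ∧ Cfsg.IsQuasisimple ↥K ∧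
      (Subgroup.center ↥K).map K.subtype = Subgroup.zpowers (d₁ * d₂) ∧
      Nonempty (↥K ⧸ Subgroup.center ↥K ≃* Cfsg.Spor.Fi22) := by
  have hN := nice_m24 hD hP h
  have hPre := pre_of_group hD
  have hL : ∀ a ∈ D, Lvl (Db D a) := fun _ ha => m24_lvl_below hD hP h ha
  have hX := hN.group_Db h₁
  have hXP := m24_prim_below hD hP h h₁
  have hX23 := m24_below hD hP h h₁
  have hY := (nice_m23 hX hX23).group_Db (bar_mem n₂)
  have hgate := m23_gate hX hXP hX23 (bar_mem n₂)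
  have hK' : ∀ q, q ∈ Hd (Db D d₁) (bar n₂) ↔ Commute q (bar n₂) := fun q => by
    rw [hgate]; exact Subgroup.mem_centralizer_singleton_iff
  have hin : ∀ k : ↥K, (k : G) ∈ Hd D d₁ := fun k => by
    rw [m24_gate hD hP h h₁]
    exact Subgroup.mem_centralizer_singleton_iff.2 ((hK k).1 k.2).2.1
  let ι : ↥K →* Qd D d₁ :=
    (QuotientGroup.mk' _).comp (Subgroup.inclusion (show K ≤ Hd D d₁ from fun x hx => hin ⟨x, hx⟩))
  have hι : ∀ k : ↥K, ι k ∈ Hd (Db D d₁) (bar n₂) := fun k => (hK' _).2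
    (commute_mk (⟨(k : G), hin k⟩ : ↥(Hd D d₁)) n₂ ((hK k).1 k.2).2.2)
  let π : ↥K →* ↥(Hd (Db D d₁) (bar n₂)) := ι.codRestrict _ hι
  have hd1 : ∀ x : ↥(Hd D d₁), (x : G) = d₁ → (x : Qd D d₁) = 1 := fun x e => by
    rw [QuotientGroup.eq_one_iff]
    exact central_Hd fun y hy => by rw [e]; exact hy.2.2
  have hinj : Function.Injective π := by
    rw [← MonoidHom.ker_eq_bot_iff, Subgroup.eq_bot_iff_forall]
    intro k hk
    have h1 : ι k = 1 := congrArg Subtype.val hk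
    rcases m24_center_mem hD hP h h₁ ((QuotientGroup.eq_one_iff _).1 h1) with e | e
    · exact Subtype.ext e
    · exact absurd ((hK k).1 k.2).1
        ((show (k : G) = d₁ from e) ▸ m24_not_commutator hD hP h h₁)
  have hsurj : Function.Surjective π := by
    rintro ⟨q, hq⟩
    obtain ⟨k₀, rfl⟩ := QuotientGroup.mk_surjective q
    obtain ⟨k, hk, ek⟩ : ∃ k : ↥(Hd D d₁), (k : G) ∈ commutator G ∧ (k : Qd D d₁) = k₀ := by
      rcases m24_adjust hD hP h h₁ k₀ with e | e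
      · exact ⟨k₀, e, rfl⟩
      · refine ⟨k₀ * ⟨d₁, m24_mem hD hP h h₁⟩, e, ?_⟩
        rw [QuotientGroup.mk_mul, hd1 ⟨d₁, m24_mem hD hP h h₁⟩ rfl, mul_one]
    rw [← ek] at hq
    exact ⟨⟨k, (hK _).2 ⟨hk, (commute_Hd k.2).symm,
      commute_of_conj_eq (Up.conj_bar hN hP hL h₁ k n₂ n₂ (conj_eq_of_commute ((hK' _).1 hq)))⟩⟩,
      Subtype.ext ek⟩
  let e : ↥K ≃* ↥(Hd (Db D d₁) (bar n₂)) := MulEquiv.ofBijective π ⟨hinj, hsurj⟩
  have m2 : d₁ * d₂ ∈ K := (hK _).2 ⟨(Subgroup.mul_mem_iff_of_index_two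
    (m24_commutator_index hD hP h)).2 (iff_of_false (m24_not_commutator hD hP h h₁)
      (m24_not_commutator hD hP h n₂.1)),
    (Commute.refl d₁).mul_left n₂.2.2.symm, n₂.2.2.mul_left (Commute.refl d₂)⟩
  have himg : ι ⟨_, m2⟩ = bar n₂ := by
    show (QuotientGroup.mk (⟨d₁ * d₂, _⟩ : ↥(Hd D d₁)) : Qd D d₁) = _
    rw [show (⟨d₁ * d₂, _⟩ : ↥(Hd D d₁)) = ⟨d₁, m24_mem hD hP h h₁⟩ *
      ⟨d₂, Subgroup.subset_closure n₂⟩ from rfl, QuotientGroup.mk_mul, hd1 _ rfl, one_mul]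
  have hcen : ∀ x : ↥K, x ∈ Subgroup.center ↥K ↔ π x ∈ Subgroup.center ↥(Hd (Db D d₁) (bar n₂)) :=
    fun x => by
    simp only [Subgroup.mem_center_iff]
    constructor
    · intro hx q
      obtain ⟨y, rfl⟩ := hsurj q
      rw [← map_mul, ← map_mul, hx y]
    · intro hx y
      exact hinj (by rw [map_mul, map_mul]; exact hx _)
  have hzc := m23_center_Hd hX hXP hX23 (bar_mem n₂)
  obtain ⟨φ, -⟩ := Y332.m22_iso_fi22 hY (m23_prim_below hX hX23 hXP (bar_mem n₂))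
    (m23_below hX hX23 (bar_mem n₂))
  refine ⟨m2, CfsgLib.Comp.isQuasisimple_congr e.symm (m23_quasisimple hX hXP hX23 (bar_mem n₂)), ?_,
    ⟨(CfsgLib.Classical.centerQuotCongr e).trans φ.symm⟩⟩
  refine le_antisymm ?_ (Subgroup.zpowers_le.2 ⟨⟨_, m2⟩, (hcen _).2 ?_, rfl⟩)
  · rintro _ ⟨x, hx, rfl⟩
    have h1 := (hcen x).1 hx
    rw [hzc, Subgroup.mem_subgroupOf, Subgroup.mem_zpowers_iff] at h1
    obtain ⟨n, hn⟩ := h1
    have h2 : π (⟨_, m2⟩ ^ n) = π x :=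
      Subtype.ext ((map_zpow ι _ n).trans (by rw [himg]; exact hn))
    exact Subgroup.mem_zpowers_iff.2 ⟨n, congrArg Subtype.val (hinj h2)⟩
  · rw [hzc, Subgroup.mem_subgroupOf]
    show ι ⟨_, m2⟩ ∈ _
    rw [himg]
    exact Subgroup.mem_zpowers _

/-- The centraliser of a product of two commuting members. -/
theorem m24_pair_structure {d₁ d₂ : G} (h₁ : d₁ ∈ D) (h₂ : d₂ ∈ D) (h12 : d₁ ≠ d₂)
    (c12 : Commute d₁ d₂) (CL K : Subgroup G)
    (hCL : ∀ x, x ∈ CL ↔ x ∈ commutator G ∧ Commute x (d₁ * d₂))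
    (hK : ∀ x, x ∈ K ↔ x ∈ commutator G ∧ Commute x d₁ ∧ Commute x d₂) :
    Cfsg.IsQuasisimple ↥K ∧ K = (Cfsg.generalizedFittingSubgroup ↥CL).map CL.subtype ∧ K ≤ CL ∧
      (K.subgroupOf CL).index = 2 ∧ d₁ * d₂ ∈ K ∧
      ∃ θ : ↥CL →* MulAut Cfsg.Spor.Fi22, Function.Surjective θ ∧
        θ.ker = (Subgroup.zpowers (d₁ * d₂)).subgroupOf CL := by
  have hN := nice_m24 hD hP h
  have hPre := pre_of_group hD
  have n₂ : d₂ ∈ nbrs D d₁ := ⟨h₂, h12.symm, c12⟩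
  obtain ⟨m2, hq, hzc, ⟨eF⟩⟩ := m24_pair_core hD hP h h₁ n₂ hK
  obtain ⟨q, hq'⟩ := m23_nbr (hN.group_Db h₁) (m24_below hD hP h h₁) (bar_mem n₂)
  obtain ⟨d, hd, rfl⟩ := exists_bar hq'.1
  have hdd : d ≠ d₂ := fun e => hq'.2.1 (by subst e; rfl)
  have c2d : Commute d₂ d := (commute_bar hPre n₂ hd).1 hq'.2.2
  obtain ⟨-, -, -, -, -, s, hs, -, sb, sc⟩ := m24_triple_core hD hP h hd.1 h₁ h₂ hd.2.1 hdd h12
    hd.2.2.symm c2d.symm c12
    (K := commutator G ⊓ Subgroup.centralizer ({d, d₁, d₂} : Set G)) (fun x => by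
      rw [Subgroup.mem_inf, Subgroup.mem_centralizer_iff]
      exact and_congr_right fun _ => ⟨fun h => ⟨(h d (by simp)).symm, (h d₁ (by simp)).symm,
        (h d₂ (by simp)).symm⟩, fun h y hy => by
          rcases hy with rfl | rfl | rfl
          exacts [h.1.symm.eq, h.2.1.symm.eq, h.2.2.symm.eq]⟩)
  have hKC : K ≤ CL := fun x hx => (hCL x).2 ⟨((hK x).1 hx).1,
    ((hK x).1 hx).2.1.mul_right ((hK x).1 hx).2.2⟩
  have hfix : ∀ x ∈ CL, x * d₁ * x⁻¹ = d₁ → x ∈ K := by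
    intro x hx e
    obtain ⟨hxL, hxj⟩ := (hCL x).1 hx
    have c1 : Commute x d₁ := commute_of_conj_eq e
    refine (hK x).2 ⟨hxL, c1, ?_⟩
    have := c1.mul_right hxj
    rwa [← mul_assoc, Trans3.sq_one hD.1 h₁, one_mul] at this
  have hsw : ∀ x ∈ CL, x ∉ K → x * d₁ * x⁻¹ = d₂ ∧ x * d₂ * x⁻¹ = d₁ := by
    intro x hx hxK
    have e1 := (m24_fac_pair hD hP h h₁ h₂ h12 c12 ((hCL x).1 hx).2).resolve_left
      fun e => hxK (hfix x hx e)
    refine ⟨e1, ?_⟩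
    calc x * d₂ * x⁻¹ = x * (d₁ * (d₁ * d₂)) * x⁻¹ := by
          rw [← mul_assoc d₁, Trans3.sq_one hD.1 h₁, one_mul]
      _ = (x * d₁ * x⁻¹) * (x * (d₁ * d₂) * x⁻¹) := by group
      _ = d₂ * (d₂ * d₁) := by rw [e1, conj_eq_of_commute ((hCL x).1 hx).2, c12.eq]
      _ = d₁ := by rw [← mul_assoc, Trans3.sq_one hD.1 h₂, one_mul]
  have hsC : s ∈ CL := (hCL s).2 ⟨hs, commute_of_conj_eq (by
    calc s * (d₁ * d₂) * s⁻¹ = (s * d₁ * s⁻¹) * (s * d₂ * s⁻¹) := by group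
      _ = d₁ * d₂ := by rw [sb, sc]; exact c12.symm.eq)⟩
  have hidx : (K.subgroupOf CL).index = 2 := by
    refine Subgroup.index_eq_two_iff.2 ⟨⟨s, hsC⟩, ?_⟩
    rintro ⟨x, hx⟩
    simp only [Subgroup.mem_subgroupOf, Subgroup.coe_mul]
    have hn : ∀ y ∈ K, y * d₁ * y⁻¹ = d₁ := fun y hy => conj_eq_of_commute ((hK y).1 hy).2.1
    by_cases hxK : x ∈ K
    · refine Or.inr ⟨hxK, fun hm => h12 ?_⟩
      calc d₁ = x * s * d₁ * (x * s)⁻¹ := (hn _ hm).symm
        _ = x * (s * d₁ * s⁻¹) * x⁻¹ := by group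
        _ = d₂ := by rw [sb]; exact conj_eq_of_commute ((hK x).1 hxK).2.2
    · refine Or.inl ⟨hfix _ (mul_mem hx hsC) ?_, hxK⟩
      calc x * s * d₁ * (x * s)⁻¹ = x * (s * d₁ * s⁻¹) * x⁻¹ := by group
        _ = d₁ := by rw [sb]; exact (hsw x hx hxK).2
  have mdd : d₁ * d ∈ K := (hK _).2 ⟨(Subgroup.mul_mem_iff_of_index_two
    (m24_commutator_index hD hP h)).2 (iff_of_false (m24_not_commutator hD hP h h₁)
      (m24_not_commutator hD hP h hd.1)),
    (Commute.refl d₁).mul_left hd.2.2.symm, c12.mul_left c2d.symm⟩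
  haveI hKn : (K.subgroupOf CL).Normal := Subgroup.normal_of_index_eq_two hidx
  let eK : ↥(K.subgroupOf CL) ≃* ↥K := Subgroup.subgroupOfEquivOfLe hKC
  have hqN : Cfsg.IsQuasisimple ↥(K.subgroupOf CL) := CfsgLib.Comp.isQuasisimple_congr eK.symm hq
  have hcentral : ∀ x : ↥CL, x ∈ Subgroup.centralizer (K.subgroupOf CL : Set ↥CL) →
      (x : G) ∈ Subgroup.zpowers (d₁ * d₂) := by
    intro x hx
    rw [Subgroup.mem_centralizer_iff] at hx
    have hxK : ∀ k ∈ K, (k : G) * x = x * k := fun k hk =>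
      congrArg Subtype.val (hx ⟨k, hKC hk⟩ hk)
    have hxd : Commute (x : G) (d₁ * d) := (hxK _ mdd).symm
    have e1 : (x : G) * d₁ * (x : G)⁻¹ = d₁ := by
      by_contra hne
      have a := (m24_fac_pair hD hP h h₁ hd.1 hd.2.1.symm hd.2.2 hxd).resolve_left hne
      have b := (m24_fac_pair hD hP h h₁ h₂ h12 c12 ((hCL x).1 x.2).2).resolve_left hne
      exact hdd (a.symm.trans b)
    rw [← hzc]
    exact ⟨⟨x, hfix _ x.2 e1⟩, Subgroup.mem_center_iff.2 fun k => Subtype.ext (hxK k k.2), rfl⟩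
  have hjK : Subgroup.zpowers (d₁ * d₂) ≤ K := Subgroup.zpowers_le.2 m2
  have hFs := fstar_eq_of_quasisimple (K.subgroupOf CL) hqN fun x hx => hjK (hcentral x hx)
  let θ : ↥CL →* MulAut (↥(K.subgroupOf CL) ⧸ Subgroup.center ↥(K.subgroupOf CL)) :=
    (CfsgLib.KnownC.centerQuotAut _).comp MulAut.conjNormal
  have hθ : θ.ker = (Subgroup.zpowers (d₁ * d₂)).subgroupOf CL := by
    ext x
    rw [MonoidHom.mem_ker, Subgroup.mem_subgroupOf]
    constructor
    · intro hx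
      haveI := hqN.1
      refine hcentral x (centralizes_of_mod_center _ fun k => ?_)
      have e := DFunLike.congr_fun hx (k : ↥(K.subgroupOf CL) ⧸ _)
      change (QuotientGroup.mk (MulAut.conjNormal x k) :
        ↥(K.subgroupOf CL) ⧸ Subgroup.center ↥(K.subgroupOf CL)) = QuotientGroup.mk k at e
      rw [← QuotientGroup.eq_one_iff, QuotientGroup.mk_mul, QuotientGroup.mk_inv, e, mul_inv_cancel]
    · intro hx
      refine MulEquiv.ext fun q => ?_
      obtain ⟨k, rfl⟩ := QuotientGroup.mk_surjective q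
      show (QuotientGroup.mk (MulAut.conjNormal x k) :
        ↥(K.subgroupOf CL) ⧸ Subgroup.center ↥(K.subgroupOf CL)) = QuotientGroup.mk k
      congr 1
      apply Subtype.ext; apply Subtype.ext
      simp only [MulAut.conjNormal_apply, Subgroup.coe_mul, Subgroup.coe_inv]
      rw [← hzc] at hx
      obtain ⟨z, hz, hzx⟩ := hx
      have := congrArg Subtype.val (Subgroup.mem_center_iff.1 hz ⟨_, k.2⟩)
      rw [← hzx]
      exact conj_eq_of_commute (this.symm : Commute (z : G) _)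
  let eQ : (↥(K.subgroupOf CL) ⧸ Subgroup.center ↥(K.subgroupOf CL)) ≃* Cfsg.Spor.Fi22 :=
    (CfsgLib.Classical.centerQuotCongr eK).trans eF
  let θ' : ↥CL →* MulAut Cfsg.Spor.Fi22 := (MulAut.congr eQ).toMonoidHom.comp θ
  have hθ' : θ'.ker = (Subgroup.zpowers (d₁ * d₂)).subgroupOf CL := by
    rw [← hθ]; ext x
    simp only [θ', MonoidHom.mem_ker, MonoidHom.comp_apply, MulEquiv.coe_toMonoidHom,
      EmbeddingLike.map_eq_one_iff]
  haveI : Finite Cfsg.Spor.Fi22 := CfsgLib.InvChar.SporFi22.card_le.1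
  have hzK : (Subgroup.zpowers (d₁ * d₂)).subgroupOf K = Subgroup.center ↥K := by
    rw [← hzc, Subgroup.subgroupOf, Subgroup.comap_map_eq_self_of_injective K.subtype_injective]
  haveI : Finite (MulAut Cfsg.Spor.Fi22) :=
    Finite.of_injective (fun f => (f : Cfsg.Spor.Fi22 → Cfsg.Spor.Fi22)) DFunLike.coe_injective
  have hsurj : Function.Surjective θ' := by
    rw [← MonoidHom.range_eq_top]
    refine Subgroup.eq_top_of_card_eq _ ?_
    rw [← Subgroup.index_ker, hθ', card_mulAut_fi22,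
      ← Subgroup.relIndex, ← Subgroup.relIndex_mul_relIndex _ K CL hjK hKC]
    show (Subgroup.subgroupOf _ K).index * (K.subgroupOf CL).index = _
    rw [hidx, hzK, mul_comm]
    exact congrArg (2 * ·) (Nat.card_congr eF.toEquiv)
  exact ⟨hq, by rw [hFs, Subgroup.map_subgroupOf_eq_of_le hKC], hKC, hidx, m2, θ', hsurj, hθ'⟩

end CfsgLib.Trans3.Fi
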