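import Cfsg.Agent.Lib.Geom.ReflThreeIndex
import Cfsg.Agent.Lib.Geom.ReflThreeGraph
import Cfsg.Agent.Lib.KnownC.AutPOmegaOdd
import Cfsg.Agent.Lib.Classical.OrthOrder

/-!
The order of a projective reflection group of a seven dimensional space whose discriminant is
minus the norm of the reflections over the
field with three elements.
-/

set_option autoImplicit false
set_option linter.unusedSectionVars false

namespace CfsgLib.Trans3.Fi.ReflSeven

open QuadraticMap (polar)
open CfsgLib.Geom CfsgLib.Geom.ReflThree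

local instance : Fact (Nat.Prime 3) := ⟨Nat.prime_three⟩

variable (Q : QuadraticForm (ZMod 3) (Fin 7 → ZMod 3))
  (hQ : (QuadraticMap.polarBilin Q).Nondegenerate)

theorem li_of_orth {k : ℕ} (v : Fin k → Fin 7 → ZMod 3) (hv : ∀ i, Q (v i) ≠ 0)
    (ho : ∀ i j, i ≠ j → polar Q (v i) (v j) = 0) : LinearIndependent (ZMod 3) v := by
  rw [Fintype.linearIndependent_iff]
  intro g hg i
  have h1 : QuadraticMap.polarBilin Q (v i) (∑ j, g j • v j) = 0 := by rw [hg, map_zero]
  rw [map_sum, Finset.sum_eq_single i (fun j _ hj => by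
    rw [map_smul, smul_eq_mul, QuadraticMap.polarBilin_apply_apply, ho i j (Ne.symm hj), mul_zero])
    (by simp), map_smul, smul_eq_mul, QuadraticMap.polarBilin_apply_apply, polar_self_two] at h1
  rcases mul_eq_zero.1 h1 with h | h
  · exact h
  · exact absurd h (mul_ne_zero two_ne (hv i))

include hQ

theorem exists_six {c : ZMod 3} (hc : c ≠ 0) :
    ∀ k, k ≤ 6 → ∃ v : Fin k → Fin 7 → ZMod 3,
      (∀ i, Q (v i) = c) ∧ ∀ i j, i ≠ j → polar Q (v i) (v j) = 0 := by
  intro k
  induction k with
  | zero => intro _; exact ⟨Fin.elim0, fun i => i.elim0, fun i => i.elim0⟩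
  | succ k ih =>
    intro hk
    obtain ⟨v, hv, ho⟩ := ih (by omega)
    obtain ⟨S, eS⟩ : ∃ S, S = Submodule.span (ZMod 3) (Set.range v) := ⟨_, rfl⟩
    have hdim : Module.finrank (ZMod 3) S ≤ k := by
      rw [eS]; exact (finrank_range_le_card v).trans (by simp)
    have hR : LinearMap.BilinForm.orthogonal (QuadraticMap.polarBilin Q) S ⊓ S = ⊥ := by
      rw [Submodule.eq_bot_iff]
      rintro x ⟨hxU, hxS⟩
      rw [eS] at hxS
      obtain ⟨g, rfl⟩ := Submodule.mem_span_range_iff_exists_fun (ZMod 3) |>.1 hxS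
      refine Finset.sum_eq_zero fun i _ => ?_
      have h1 : QuadraticMap.polarBilin Q (v i) (∑ j, g j • v j) = 0 :=
        hxU (v i) (eS ▸ Submodule.subset_span ⟨i, rfl⟩)
      rw [map_sum, Finset.sum_eq_single i (fun j _ hj => by
        rw [map_smul, smul_eq_mul, QuadraticMap.polarBilin_apply_apply, ho i j (Ne.symm hj),
          mul_zero]) (by simp), map_smul, smul_eq_mul, QuadraticMap.polarBilin_apply_apply,
        polar_self_two, hv] at h1
      rcases mul_eq_zero.1 h1 with h | h
      · rw [h, zero_smul]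
      · exact absurd h (mul_ne_zero two_ne hc)
    obtain ⟨z, hz, hzS⟩ := exists_value_orth Q hQ S (by rw [hR, finrank_bot]; omega) hc
    refine ⟨Fin.snoc v z, fun i => ?_, fun i j hij => ?_⟩
    · induction i using Fin.lastCases with
      | last => rwa [Fin.snoc_last]
      | cast i => rw [Fin.snoc_castSucc]; exact hv i
    · have hz' : ∀ i, polar Q (v i) z = 0 := fun i => hzS _ (eS ▸ Submodule.subset_span ⟨i, rfl⟩)
      induction i using Fin.lastCases with
      | last =>
        induction j using Fin.lastCases with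
        | last => exact absurd rfl hij
        | cast j => rw [Fin.snoc_last, Fin.snoc_castSucc, QuadraticMap.polar_comm]; exact hz' j
      | cast i =>
        induction j using Fin.lastCases with
        | last => rw [Fin.snoc_last, Fin.snoc_castSucc]; exact hz' i
        | cast j =>
          rw [Fin.snoc_castSucc, Fin.snoc_castSucc]
          exact ho i j fun e => hij (congrArg Fin.castSucc e)

theorem exists_basis {c : ZMod 3} (hc : c ≠ 0) (hdisc : Cfsg.polarGramDet (⇑Q) = -c) :
    ∃ b : Fin 7 → Fin 7 → ZMod 3, (∀ i, Q (b i) = c) ∧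
      (∀ i j, i ≠ j → polar Q (b i) (b j) = 0) ∧
      Submodule.span (ZMod 3) (Set.range b) = ⊤ := by
  obtain ⟨v, hv, ho⟩ := exists_six Q hQ hc 6 le_rfl
  let φ : (Fin 7 → ZMod 3) →ₗ[ZMod 3] (Fin 6 → ZMod 3) :=
    LinearMap.pi fun i => QuadraticMap.polarBilin Q (v i)
  obtain ⟨z, hz, hz0⟩ : ∃ z, φ z = 0 ∧ z ≠ 0 := by
    by_contra! hno
    have hinj : Function.Injective φ := (injective_iff_map_eq_zero φ).2 hno
    have := LinearMap.finrank_le_finrank_of_injective hinj
    simp at this
  have hzv : ∀ i, polar Q (v i) z = 0 := fun i => congrFun hz i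
  have hzn : z ∉ Submodule.span (ZMod 3) (Set.range v) := by
    intro hm
    obtain ⟨g, rfl⟩ := Submodule.mem_span_range_iff_exists_fun (ZMod 3) |>.1 hm
    refine hz0 (Finset.sum_eq_zero fun i _ => ?_)
    have h1 : QuadraticMap.polarBilin Q (v i) (∑ j, g j • v j) = 0 := hzv i
    rw [map_sum, Finset.sum_eq_single i (fun j _ hj => by
      rw [map_smul, smul_eq_mul, QuadraticMap.polarBilin_apply_apply, ho i j (Ne.symm hj),
        mul_zero]) (by simp), map_smul, smul_eq_mul, QuadraticMap.polarBilin_apply_apply,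
      polar_self_two, hv] at h1
    rcases mul_eq_zero.1 h1 with h | h
    · rw [h, zero_smul]
    · exact absurd h (mul_ne_zero two_ne hc)
  obtain ⟨b, eb⟩ : ∃ b : Fin 7 → Fin 7 → ZMod 3, b = Fin.snoc v z := ⟨_, rfl⟩
  have hli : LinearIndependent (ZMod 3) b := by
    rw [eb]
    exact linearIndependent_finSnoc.2 ⟨li_of_orth Q v (fun i => by rw [hv]; exact hc) ho, hzn⟩
  have hspan : Submodule.span (ZMod 3) (Set.range b) = ⊤ :=
    hli.span_eq_top_of_card_eq_finrank (by simp)
  have hob : ∀ i j, i ≠ j → polar Q (b i) (b j) = 0 := by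
    intro i j hij
    rw [eb]
    induction i using Fin.lastCases with
    | last =>
      induction j using Fin.lastCases with
      | last => exact absurd rfl hij
      | cast j => rw [Fin.snoc_last, Fin.snoc_castSucc, QuadraticMap.polar_comm]; exact hzv j
    | cast i =>
      induction j using Fin.lastCases with
      | last => rw [Fin.snoc_last, Fin.snoc_castSucc]; exact hzv i
      | cast j =>
        rw [Fin.snoc_castSucc, Fin.snoc_castSucc]
        exact ho i j fun e => hij (congrArg Fin.castSucc e)
  obtain ⟨G0, eG⟩ : ∃ G0 : Matrix (Fin 7) (Fin 7) (ZMod 3),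
      G0 = Matrix.of fun i j => polar Q (Pi.single i 1) (Pi.single j 1) := ⟨_, rfl⟩
  have hprod : Matrix.of b * G0 * (Matrix.of b).transpose =
      Matrix.diagonal fun i => 2 * Q (b i) := by
    ext i j
    have hij : (Matrix.of b * G0 * (Matrix.of b).transpose) i j = polar Q (b i) (b j) := by
      conv_rhs => rw [← QuadraticMap.polarBilin_apply_apply, pi_eq_sum_univ' (b i),
        pi_eq_sum_univ' (b j)]
      simp only [Matrix.mul_apply, Matrix.transpose_apply, Matrix.of_apply, eG, map_sum, map_smul,
        LinearMap.sum_apply, LinearMap.smul_apply, smul_eq_mul, QuadraticMap.polarBilin_apply_apply,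
        Finset.sum_mul, Finset.mul_sum]
      refine Finset.sum_congr rfl fun k _ => Finset.sum_congr rfl fun l _ => ?_
      ring
    rw [hij]
    by_cases e : i = j
    · subst e; rw [Matrix.diagonal_apply_eq, polar_self_two]
    · rw [Matrix.diagonal_apply_ne _ e, hob i j e]
  have hdet := congrArg Matrix.det hprod
  rw [Matrix.det_mul, Matrix.det_mul, Matrix.det_transpose, Matrix.det_diagonal,
    show G0.det = -c by rw [eG]; exact hdisc] at hdet
  have hQz : Q z ≠ 0 := by
    intro h0
    refine hz0 (sep_of_nondegenerate Q hQ z fun y => ?_)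
    have hle : Submodule.span (ZMod 3) (Set.range b) ≤ LinearMap.ker (QuadraticMap.polarBilin Q z) := by
      rw [Submodule.span_le]
      rintro _ ⟨i, rfl⟩
      rw [SetLike.mem_coe, LinearMap.mem_ker, QuadraticMap.polarBilin_apply_apply, eb]
      induction i using Fin.lastCases with
      | last => rw [Fin.snoc_last, polar_self_two, h0, mul_zero]
      | cast i => rw [Fin.snoc_castSucc, QuadraticMap.polar_comm]; exact hzv i
    exact LinearMap.mem_ker.1 (hle (hspan ▸ Submodule.mem_top))
  have key : ∀ c d m : ZMod 3, c ≠ 0 → d ≠ 0 →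
      m * -c * m = 2 * c * (2 * c) * (2 * c) * (2 * c) * (2 * c) * (2 * c) * (2 * d) → d = c := by decide
  have hQz' : Q z = c := key c (Q z) (Matrix.of b).det hc hQz (hdet.trans (by
    rw [Fin.prod_univ_castSucc]
    simp only [eb, Fin.snoc_castSucc, Fin.snoc_last, hv, Fin.prod_univ_six]))
  refine ⟨b, fun i => ?_, hob, hspan⟩
  rw [eb]
  induction i using Fin.lastCases with
  | last => rw [Fin.snoc_last]; exact hQz'
  | cast i => rw [Fin.snoc_castSucc]; exact hv i

omit hQ in
theorem act_ext_span {b : Fin 7 → Fin 7 → ZMod 3}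
    (hspan : Submodule.span (ZMod 3) (Set.range b) = ⊤) {g h : Og Q}
    (e : ∀ i, act Q g (b i) = act Q h (b i)) : g = h := by
  refine og_ext Q fun x => ?_
  have hx : x ∈ Submodule.span (ZMod 3) (Set.range b) := hspan ▸ Submodule.mem_top
  induction hx using Submodule.span_induction with
  | mem u hu => obtain ⟨i, rfl⟩ := hu; exact e i
  | zero => simp [act]
  | add u v _ _ h1 h2 => simp only [act, Matrix.mulVec_add] at h1 h2 ⊢; rw [h1, h2]
  | smul s u _ h1 => simp only [act, Matrix.mulVec_smul] at h1 ⊢; rw [h1]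

theorem card_center {c : ZMod 3} (hc : c ≠ 0) (hdisc : Cfsg.polarGramDet (⇑Q) = -c) :
    Nat.card ↥(Subgroup.center ↥(Cfsg.reflectionSubgroup (⇑Q) c)) = 2 := by
  classical
  obtain ⟨b, hb, hob, hspan⟩ := exists_basis Q hQ hc hdisc
  have hr : ∀ i, ∃ r : ↥(Cfsg.reflectionSubgroup (⇑Q) c), IsRefl Q r.1 (b i) := fun i => by
    obtain ⟨g, hg⟩ := exists_refl Q (v := b i) (by rw [hb]; exact hc)
    exact ⟨⟨g, mem_refl Q (hb i) hg⟩, hg⟩
  choose r hr using hr
  have hself : ∀ i, act Q (r i).1 (b i) = -b i := fun i => by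
    rw [(hr i).act_eq, polar_self_two, hb, show c⁻¹ * (2 * c) = 2 by field_simp]
    funext k
    simp only [Pi.sub_apply, Pi.smul_apply, smul_eq_mul, Pi.neg_apply]
    ring
  have hoth : ∀ i j, i ≠ j → act Q (r i).1 (b j) = b j := fun i j hij => by
    rw [(hr i).act_eq, hob i j hij, mul_zero, zero_smul, sub_zero]
  have hlist : ∀ l : List (Fin 7), l.Nodup → ∀ j,
      act Q ((l.map r).prod).1 (b j) = if j ∈ l then -b j else b j := by
    intro l
    induction l with
    | nil => intro _ j; simp [act]
    | cons i t ih =>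
      intro hnd j
      obtain ⟨hit, hnt⟩ := List.nodup_cons.1 hnd
      rw [List.map_cons, List.prod_cons, Subgroup.coe_mul, act_mul, ih hnt j]
      by_cases hji : j = i
      · subst hji
        rw [if_neg hit, if_pos List.mem_cons_self, hself]
      · simp only [List.mem_cons, hji, false_or]
        split_ifs
        · have := hoth i j (Ne.symm hji)
          simp only [act, Matrix.mulVec_neg] at this ⊢
          rw [this]
        · exact hoth i j (Ne.symm hji)
  obtain ⟨m, em⟩ : ∃ m, m = ((List.finRange 7).map r).prod := ⟨_, rfl⟩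
  have hm : ∀ x, act Q m.1 x = -x := by
    intro x
    have hx : x ∈ Submodule.span (ZMod 3) (Set.range b) := hspan ▸ Submodule.mem_top
    induction hx using Submodule.span_induction with
    | mem u hu =>
      obtain ⟨i, rfl⟩ := hu
      rw [em, hlist _ (List.nodup_finRange 7) i, if_pos (List.mem_finRange i)]
    | zero => simp [act]
    | add u v _ _ h1 h2 => simp only [act, Matrix.mulVec_add] at h1 h2 ⊢; rw [h1, h2, neg_add]
    | smul s u _ h1 => simp only [act, Matrix.mulVec_smul] at h1 ⊢; rw [h1, smul_neg]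
  have hmc : m ∈ Subgroup.center _ := Subgroup.mem_center_iff.2 fun g => Subtype.ext (og_ext Q fun x => by
    rw [Subgroup.coe_mul, Subgroup.coe_mul, act_mul, act_mul, hm, hm]
    exact (Matrix.mulVec_neg _ _))
  have hm1 : m ≠ 1 := fun e => by
    have h1 : act Q m.1 (b 0) = b 0 := by rw [e]; simp [act]
    rw [hm] at h1
    have h2 : Q (b 0) = 0 := by
      have hz : b 0 = 0 := by
        funext k
        have := congrFun h1 k
        have key : ∀ a : ZMod 3, -a = a → a = 0 := by decide
        exact key _ this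
      rw [hz, QuadraticMap.map_zero]
    exact hc (hb 0 ▸ h2)
  have hcases : ∀ z ∈ Subgroup.center ↥(Cfsg.reflectionSubgroup (⇑Q) c), z = 1 ∨ z = m := by
    intro z hz
    have line : ∀ u, Q u = c → ∃ s : ZMod 3, act Q z.1 u = s • u := by
      intro u hu
      obtain ⟨g, hg⟩ := exists_refl Q (v := u) (by rw [hu]; exact hc)
      have h1 := congrArg Subtype.val (Subgroup.mem_center_iff.1 hz ⟨g, mem_refl Q hu hg⟩)
      simp only [Subgroup.coe_mul] at h1
      have h2 := hg.conj Q z.1
      rw [show z.1 * g * (z.1)⁻¹ = g by rw [← h1, mul_inv_cancel_right]] at h2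
      exact hg.parallel Q h2 (by rw [map_act, hu]; exact hc)
    choose s hs using fun i => line (b i) (hb i)
    have quad : ∀ i j k l, i ≠ j → i ≠ k → i ≠ l → j ≠ k → j ≠ l → k ≠ l →
        s i = s j ∧ s i = s k ∧ s i = s l := by
      intro i j k l hij hik hil hjk hjl hkl
      have hu : Q (b i + b j + b k + b l) = c := by
        rw [QuadraticMap.map_add (⇑Q), QuadraticMap.map_add (⇑Q), QuadraticMap.map_add (⇑Q),
          QuadraticMap.polar_add_left, QuadraticMap.polar_add_left, QuadraticMap.polar_add_left]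
        simp only [hb, hob i j hij, hob i k hik, hob i l hil, hob j k hjk, hob j l hjl,
          hob k l hkl, add_zero, zero_add]
        have key : ∀ c : ZMod 3, c + c + c + c = c := by decide
        exact key c
      obtain ⟨t, ht⟩ := line _ hu
      have e : act Q z.1 (b i + b j + b k + b l) =
          s i • b i + s j • b j + s k • b k + s l • b l := by
        rw [← hs, ← hs, ← hs, ← hs]
        simp only [act, Matrix.mulVec_add]
      rw [e] at ht
      have get : ∀ x, polar Q x (s i • b i + s j • b j + s k • b k + s l • b l) =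
          polar Q x (t • (b i + b j + b k + b l)) := fun x => by rw [ht]
      have cancel : ∀ a : ZMod 3, a * (2 * c) = t * (2 * c) → a = t := fun a h' =>
        mul_right_cancel₀ (mul_ne_zero two_ne hc) h'
      have gi := get (b i)
      have gj := get (b j)
      have gk := get (b k)
      have gl := get (b l)
      simp only [QuadraticMap.polar_add_right, QuadraticMap.polar_smul_right, smul_eq_mul,
        polar_self_two, hb, hob i j hij, hob i k hik, hob i l hil, hob j k hjk, hob j l hjl,
        hob k l hkl, hob j i hij.symm, hob k i hik.symm, hob l i hil.symm, hob k j hjk.symm,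
        hob l j hjl.symm, hob l k hkl.symm, mul_zero, add_zero, zero_add] at gi gj gk gl
      rw [cancel _ gi, cancel _ gj, cancel _ gk, cancel _ gl]
      exact ⟨rfl, rfl, rfl⟩
    have hall : ∀ i, s i = s 0 := by
      obtain ⟨a1, a2, a3⟩ := quad 0 1 2 3 (by decide) (by decide) (by decide) (by decide) (by decide) (by decide)
      obtain ⟨-, -, a4⟩ := quad 0 1 2 4 (by decide) (by decide) (by decide) (by decide) (by decide) (by decide)
      obtain ⟨-, -, a5⟩ := quad 0 1 2 5 (by decide) (by decide) (by decide) (by decide) (by decide) (by decide)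
      obtain ⟨-, -, a6⟩ := quad 0 1 2 6 (by decide) (by decide) (by decide) (by decide) (by decide) (by decide)
      intro i
      fin_cases i
      exacts [rfl, a1.symm, a2.symm, a3.symm, a4.symm, a5.symm, a6.symm]
    have hs2 : c = s 0 * s 0 * c := by
      have h1 := map_act Q z.1 (b 0)
      rw [hs, QuadraticMap.map_smul, hb, smul_eq_mul] at h1
      exact h1.symm
    have key : ∀ c s : ZMod 3, c ≠ 0 → c = s * s * c → s = 1 ∨ s = -1 := by decide
    rcases key c _ hc hs2 with e | e
    · left
      exact Subtype.ext (act_ext_span Q hspan fun i => by rw [hs, hall i, e, one_smul]; simp [act])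
    · right
      exact Subtype.ext (act_ext_span Q hspan fun i => by
        rw [hs, hall i, e, hm, neg_one_smul])
  have hset : (Subgroup.center ↥(Cfsg.reflectionSubgroup (⇑Q) c) : Set _) = {1, m} :=
    Set.ext fun z => ⟨fun hz => hcases z hz, fun hz => by
      rcases hz with rfl | rfl
      · exact one_mem _
      · exact hmc⟩
  rw [← SetLike.coe_sort_coe, Nat.card_coe_set_eq, hset, Set.ncard_pair hm1.symm]

theorem card_quotient {c : ZMod 3} (hc : c ≠ 0) (hdisc : Cfsg.polarGramDet (⇑Q) = -c) :
    Nat.card (↥(Cfsg.reflectionSubgroup (⇑Q) c) ⧸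
        Subgroup.center ↥(Cfsg.reflectionSubgroup (⇑Q) c)) = 4585351680 := by
  have h1 := (Cfsg.reflectionSubgroup (⇑Q) c).card_mul_index
  rw [index_reflectionSubgroup Q (by norm_num) hQ hc,
    Subgroup.card_eq_card_quotient_mul_card_subgroup (Subgroup.center ↥(Cfsg.reflectionSubgroup (⇑Q) c)),
    card_center Q hQ hc hdisc, ← Nat.card_congr (orEquiv Q).toEquiv] at h1
  let σ : Unit ⊕ (Fin 3 ⊕ Fin 3) ≃ Fin 7 := Fintype.equivFinOfCardEq (by simp)
  let L : (Fin 7 → ZMod 3) ≃ₗ[ZMod 3] (Unit ⊕ (Fin 3 ⊕ Fin 3) → ZMod 3) :=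
    LinearEquiv.funCongrLeft (ZMod 3) (ZMod 3) σ
  let R : QuadraticForm (ZMod 3) (Unit ⊕ (Fin 3 ⊕ Fin 3) → ZMod 3) := Q.comp L.symm.toLinearMap
  obtain ⟨M, e, he, hM⟩ := CfsgLib.KnownC.similar_qfOdd (m := 3) two_ne R fun x hx => by
    have h0 : L.symm x = 0 := sep_of_nondegenerate Q hQ _ fun y => by
      have := hx (L y)
      simp only [R, QuadraticMap.polar, QuadraticMap.comp_apply, LinearEquiv.coe_coe, map_add,
        LinearEquiv.symm_apply_apply] at this
      exact this
    exact L.symm.map_eq_zero_iff.1 h0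
  have hiso : Nat.card (CfsgLib.Geom.quadIsoms Q) =
      Nat.card (CfsgLib.Geom.quadIsoms (CfsgLib.Classical.qfOdd 3 (ZMod 3))) := by
    rw [← CfsgLib.Classical.card_quadIsoms_congr (e • CfsgLib.Classical.qfOdd 3 (ZMod 3)) Q
      (M.trans L.symm) fun v => hM v]
    refine Nat.card_congr (Equiv.subtypeEquivRight fun g => ?_)
    exact forall_congr' fun v => ⟨fun h => mul_left_cancel₀ he h, fun h => congrArg (e * ·) h⟩
  rw [hiso, CfsgLib.Classical.card_qfOdd_isoms two_ne 3, ZMod.card] at h1
  simp [Finset.prod_range_succ] at h1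
  omega

end CfsgLib.Trans3.Fi.ReflSeven
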