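import Cfsg.Agent.Lib.Trans3.Fi.Up
import Cfsg.Agent.Lib.Trans3.Fi.ReflSeven
import Cfsg.Agent.Lib.Trans3.Structure

/-!
Groups of type M(23): the type below at every member, common neighbours inside a neighbourhood,
and the primitivity one level down.
-/

set_option autoImplicit false
set_option linter.unusedSectionVars false

namespace CfsgLib.Trans3.Fi

section Congr

variable {G G' : Type*} [Group G] [Group G'] {D : Set G}

theorem nbrs_map (e : G ≃* G') (d : G) : nbrs (e '' D) (e d) = e '' nbrs D d := by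
  ext y
  constructor
  · rintro ⟨⟨u, hu, rfl⟩, hne, hc⟩
    exact ⟨u, ⟨hu, fun h => hne (h ▸ rfl), hc.of_map (f := e.toMonoidHom) e.injective⟩, rfl⟩
  · rintro ⟨u, ⟨hu, hne, hc⟩, rfl⟩
    exact ⟨⟨u, hu, rfl⟩, fun h => hne (e.injective h), hc.map e.toMonoidHom⟩

theorem sub_congr (e : G ≃* G') {S : Set G} {S' : Set G'} (hS : e '' S = S') :
    ∃ ψ : (↥(Subgroup.closure S) ⧸ Subgroup.center ↥(Subgroup.closure S)) ≃*
        (↥(Subgroup.closure S') ⧸ Subgroup.center ↥(Subgroup.closure S')),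
      ψ '' ((QuotientGroup.mk : ↥(Subgroup.closure S) → _) '' {x | (x : G) ∈ S}) =
        (QuotientGroup.mk : ↥(Subgroup.closure S') → _) '' {x | (x : G') ∈ S'} := by
  subst hS
  have hH : (Subgroup.closure S).map (e : G →* G') = Subgroup.closure (e '' S) := by
    rw [MonoidHom.map_closure]
    rfl
  let e₁ : ↥(Subgroup.closure S) ≃* ↥(Subgroup.closure (e '' S)) :=
    (MulEquiv.subgroupMap e (Subgroup.closure S)).trans (MulEquiv.subgroupCongr hH)
  let ψ := QuotientGroup.congr (Subgroup.center ↥(Subgroup.closure S))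
    (Subgroup.center ↥(Subgroup.closure (e '' S))) e₁ (by
      ext x
      simp only [Subgroup.mem_map, Subgroup.mem_center_iff]
      constructor
      · rintro ⟨y, hy, rfl⟩ z
        obtain ⟨z, rfl⟩ := e₁.surjective z
        exact (map_mul e₁ z y).symm.trans ((congrArg e₁ (hy z)).trans (map_mul e₁ y z))
      · intro hx
        refine ⟨e₁.symm x, fun z => e₁.injective ?_, e₁.apply_symm_apply x⟩
        rw [map_mul, map_mul, e₁.apply_symm_apply]
        exact hx _)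
  refine ⟨ψ, ?_⟩
  ext q
  constructor
  · rintro ⟨_, ⟨x, hx, rfl⟩, rfl⟩
    exact ⟨e₁ x, ⟨_, hx, rfl⟩, rfl⟩
  · rintro ⟨y, hy, rfl⟩
    obtain ⟨x, rfl⟩ := e₁.surjective y
    refine ⟨_, ⟨x, ?_, rfl⟩, rfl⟩
    obtain ⟨u, hu, he⟩ := hy
    rw [Set.mem_ofPred_eq, ← e.injective (he : e u = e (x : G))]
    exact hu

theorem center_congr (e : G ≃* G') (h : Subgroup.center G = ⊥) : Subgroup.center G' = ⊥ := by
  rw [Subgroup.eq_bot_iff_forall]
  intro z hz
  have : e.symm z ∈ Subgroup.center G := Subgroup.mem_center_iff.2 fun g => e.injective (by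
    rw [map_mul, map_mul, e.apply_symm_apply]; exact Subgroup.mem_center_iff.1 hz _)
  rw [h, Subgroup.mem_bot] at this
  simpa using this

theorem proj_congr {n : ℕ} {μ c : ZMod 3} (e : G ≃* G')
    (h : Cfsg.IsProjReflectionGroupModThree G n μ c) :
    Cfsg.IsProjReflectionGroupModThree G' n μ c := by
  obtain ⟨Q, h1, h2, ⟨i⟩⟩ := h
  exact ⟨Q, h1, h2, ⟨e.symm.trans i⟩⟩

theorem m22_congr (e : G ≃* G') {D' : Set G'} (hE : e '' D = D')
    (h : Cfsg.IsOfTypeM22 G D) : Cfsg.IsOfTypeM22 G' D' := by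
  obtain ⟨hZ, d, hd, c, hc, hdc, ⟨F, i₁, i₂, hF, ⟨iso⟩⟩, c₃, hc₃, hL⟩ := h
  subst hE
  obtain ⟨ψ, -⟩ := sub_congr e (nbrs_map (D := D) e d).symm
  obtain ⟨φ, -⟩ := sub_congr e (S := nbrs D d ∩ nbrs D c)
    (S' := nbrs (e '' D) (e d) ∩ nbrs (e '' D) (e c))
    (by rw [nbrs_map, nbrs_map, Set.image_inter e.injective])
  exact ⟨center_congr e hZ, e d, ⟨d, hd, rfl⟩, e c, ⟨c, hc, rfl⟩,
    fun x => hdc (x.of_map (f := e.toMonoidHom) e.injective), ⟨F, i₁, i₂, hF, ⟨ψ.symm.trans iso⟩⟩,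
    c₃, hc₃, proj_congr φ hL⟩

theorem m23_congr (e : G ≃* G') {D' : Set G'} (hE : e '' D = D')
    (h : Cfsg.IsOfTypeM23 G D) : Cfsg.IsOfTypeM23 G' D' := by
  obtain ⟨hZ, d, hd, c, hc, hdc, h22, c₃, hc₃, hL⟩ := h
  subst hE
  obtain ⟨ψ, hψ⟩ := sub_congr e (nbrs_map (D := D) e d).symm
  obtain ⟨φ, -⟩ := sub_congr e (S := nbrs D d ∩ nbrs D c)
    (S' := nbrs (e '' D) (e d) ∩ nbrs (e '' D) (e c))
    (by rw [nbrs_map, nbrs_map, Set.image_inter e.injective])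
  exact ⟨center_congr e hZ, e d, ⟨d, hd, rfl⟩, e c, ⟨c, hc, rfl⟩,
    fun x => hdc (x.of_map (f := e.toMonoidHom) e.injective), m22_congr ψ hψ h22, c₃, hc₃,
    proj_congr φ hL⟩

end Congr

variable {G : Type*} [Group G] [Finite G] {D : Set G}
variable (hD : Cfsg.IsThreeTranspositionGroup D) (h : Cfsg.IsOfTypeM23 G D)
include hD h

theorem m23_below {a : G} (ha : a ∈ D) : Cfsg.IsOfTypeM22 (Qd D a) (Db D a) := by
  have hN := nice_m23 hD h
  obtain ⟨-, d, hd, c, hc, hdc, h22, -⟩ := h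
  obtain ⟨g, rfl⟩ := hN.conj d hd a ha
  obtain ⟨ψ, hψ⟩ := sub_congr (MulAut.conj g) (Nice.nbrs_conj hD g d).symm
  exact m22_congr ψ hψ h22

theorem m23_nbr {a : G} (ha : a ∈ D) : ∃ b, b ∈ nbrs D a := by
  obtain ⟨-, q, hq, -⟩ := m23_below hD h ha
  obtain ⟨b, hb, -⟩ := exists_bar hq
  exact ⟨b, hb⟩

variable (hP : Cfsg.IsPrimitiveUnderConj D)
include hP

omit h in
theorem ld_card_five {d c : G} {c₃ : ZMod 3} (hc₃ : c₃ ≠ 0)
    (hL : Cfsg.IsProjReflectionGroupModThree (↥(Ld D d c) ⧸ Subgroup.center ↥(Ld D d c)) 7 (-c₃) c₃) :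
    5 ∣ Nat.card ↥(Ld D d c) := by
  obtain ⟨Q, hQ, hdet, ⟨iso⟩⟩ := hL
  refine Dvd.dvd.trans ?_ (Subgroup.card_quotient_dvd_card (Subgroup.center ↥(Ld D d c)))
  rw [Nat.card_congr iso.toEquiv, ReflSeven.card_quotient Q hQ hc₃ hdet]
  norm_num

omit h in
/-- Each common neighbour of a non-commuting pair commutes with another one. -/
theorem partner_of_five (hw : ∃ p ∈ D, ∃ q ∈ D, p ≠ q ∧ Commute p q) {d c : G} (hd : d ∈ D)
    (hc : c ∈ D) (hdc : ¬ Commute d c) (h5 : 5 ∣ Nat.card ↥(Ld D d c)) {u v e : G} (hu : u ∈ D)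
    (hv : v ∈ D) (huv : ¬ Commute u v) (he : e ∈ D) (hue : Commute u e) (hve : Commute v e) :
    ∃ f ∈ D, f ≠ e ∧ Commute e f ∧ Commute u f ∧ Commute v f := by
  obtain ⟨g, hg⟩ := hP.1 u hu d hd
  have hgv : ¬ Commute d (g * v * g⁻¹) := by rw [← hg, commute_conj_iff]; exact huv
  obtain ⟨k, hk, hk'⟩ := trans_noncomm hD hP hw hd (hD.2.1 g v hv) hgv hc hdc
  obtain ⟨m, em⟩ : ∃ m, m = k * g := ⟨_, rfl⟩
  have m1 : m * u * m⁻¹ = d := by
    calc m * u * m⁻¹ = k * (g * u * g⁻¹) * k⁻¹ := by rw [em]; group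
      _ = d := by rw [hg, hk]
  have m2 : m * v * m⁻¹ = c := by rw [em, ← hk']; group
  obtain ⟨S, eS⟩ : ∃ S : Set G, S = nbrs D d ∩ nbrs D c := ⟨_, rfl⟩
  have hSmem : ∀ y, y ∈ S ↔ y ∈ D ∧ Commute d y ∧ Commute c y := by
    intro y
    rw [eS]
    exact ⟨fun ⟨⟨h1, _, h2⟩, _, _, h3⟩ => ⟨h1, h2, h3⟩, fun ⟨h1, h2, h3⟩ =>
      ⟨⟨h1, fun x => hdc (x ▸ h3).symm, h2⟩, h1, fun x => hdc (x ▸ h2), h3⟩⟩
  have hconj : ∀ x, Commute x d → Commute x c → ∀ y ∈ S, x * y * x⁻¹ ∈ S := by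
    intro x xd xc y hy
    rw [hSmem] at hy ⊢
    refine ⟨hD.2.1 x y hy.1, ?_, ?_⟩
    · rw [← conj_eq_of_commute xd, commute_conj_iff]; exact hy.2.1
    · rw [← conj_eq_of_commute xc, commute_conj_iff]; exact hy.2.2
  suffices key : ∀ y ∈ S, ∃ f ∈ S, f ≠ y ∧ Commute y f by
    obtain ⟨f, hf, hne, hc'⟩ := key (m * e * m⁻¹) ((hSmem _).2 ⟨hD.2.1 m e he,
      m1 ▸ (commute_conj_iff m u e).2 hue, m2 ▸ (commute_conj_iff m v e).2 hve⟩)
    obtain ⟨hfD, hdf, hcf⟩ := (hSmem f).1 hf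
    have back : ∀ {p q : G}, m * p * m⁻¹ = q → Commute q f → Commute p (m⁻¹ * f * m) := by
      intro p q hpq hqf
      rw [← commute_conj_iff m, hpq, show m * (m⁻¹ * f * m) * m⁻¹ = f by group]
      exact hqf
    exact ⟨m⁻¹ * f * m, by simpa using hD.2.1 m⁻¹ f hfD, fun x => hne (by rw [← x]; group),
      back rfl hc', back m1 hdf, back m2 hcf⟩
  by_contra! hno
  obtain ⟨y₀, hy₀, hiso⟩ := hno
  -- then the common neighbours commute in no pair
  have hall : ∀ y ∈ S, ∀ f ∈ S, f ≠ y → ¬ Commute y f := by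
    intro y hy f hf hne hyf
    by_cases hyy : y = y₀
    · exact hiso f hf (hyy ▸ hne) (hyy ▸ hyf)
    have hnc := hiso y hy hyy
    obtain ⟨a1, a2, a3⟩ := (hSmem y₀).1 hy₀
    obtain ⟨b1, b2, b3⟩ := (hSmem y).1 hy
    have hg := conj_of_noncomm hD.1 a1 b1 hnc
    refine hiso ((y₀ * y)⁻¹ * f * (y₀ * y)) ?_ (fun x => hne ?_) ?_
    · have := hconj (y₀ * y)⁻¹ (a2.symm.mul_left b2.symm).inv_left (a3.symm.mul_left b3.symm).inv_left
        f hf
      rwa [inv_inv] at this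
    · calc f = y₀ * y * ((y₀ * y)⁻¹ * f * (y₀ * y)) * (y₀ * y)⁻¹ := by group
        _ = y := by rw [x, hg]
    · rw [← commute_conj_iff (y₀ * y), hg,
        show y₀ * y * ((y₀ * y)⁻¹ * f * (y₀ * y)) * (y₀ * y)⁻¹ = f by group]
      exact hyf
  have hsq : ∀ x ∈ S, x * x = 1 := fun x hx => Trans3.sq_one hD.1 ((hSmem x).1 hx).1
  have hinv : ∀ x ∈ S, x⁻¹ = x := fun x hx => inv_eq hD.1 ((hSmem x).1 hx).1
  have hSc : ∀ x ∈ S, ∀ y ∈ S, x * y * x ∈ S := fun x hx y hy => by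
    have := hconj x ((hSmem x).1 hx).2.1.symm ((hSmem x).1 hx).2.2.symm y hy
    rwa [hinv x hx] at this
  obtain ⟨P, eP⟩ : ∃ P : Subgroup G, P = Subgroup.closure {x | ∃ a ∈ S, ∃ b ∈ S, x = a * b} :=
    ⟨_, rfl⟩
  have hP3 : IsPGroup 3 P := eP ▸ isPGroup_products hsq (fun x hx y hy => by
    by_cases hxy : y = x
    · rw [hxy, hsq x hx, one_pow]
    · exact pow_three hD.1 ((hSmem x).1 hx).1 ((hSmem y).1 hy).1 (hall x hx y hy hxy)) hSc
  have hnorm : ∀ p ∈ P, y₀ * p * y₀ ∈ P := by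
    intro p hp
    rw [eP] at hp ⊢
    induction hp using Subgroup.closure_induction with
    | mem x hx =>
      obtain ⟨a, ha, b, hb, rfl⟩ := hx
      refine Subgroup.subset_closure ⟨_, hSc y₀ hy₀ a ha, _, hSc y₀ hy₀ b hb, ?_⟩
      rw [show y₀ * a * y₀ * (y₀ * b * y₀) = y₀ * a * (y₀ * y₀) * b * y₀ by group, hsq y₀ hy₀]
      group
    | one => rw [mul_one, hsq y₀ hy₀]; exact one_mem _
    | mul x z _ _ h1 h2 =>
      have := mul_mem h1 h2
      rwa [show y₀ * x * y₀ * (y₀ * z * y₀) = y₀ * x * (y₀ * y₀) * z * y₀ by group, hsq y₀ hy₀,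
        mul_one, show y₀ * x * z * y₀ = y₀ * (x * z) * y₀ by group] at this
    | inv x _ h1 =>
      have := inv_mem h1
      rwa [mul_inv_rev, mul_inv_rev, hinv y₀ hy₀, ← mul_assoc] at this
  have hcos : ∀ x ∈ Subgroup.closure S, x ∈ P ∨ y₀ * x ∈ P := by
    intro x hx
    induction hx using Subgroup.closure_induction with
    | mem y hy => exact Or.inr (eP ▸ Subgroup.subset_closure ⟨y₀, hy₀, y, hy, rfl⟩)
    | one => exact Or.inl (one_mem P)
    | mul a b _ _ h1 h2 =>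
      rcases h1 with h1 | h1 <;> rcases h2 with h2 | h2
      · exact Or.inl (mul_mem h1 h2)
      · right
        have := mul_mem (hnorm a h1) h2
        rwa [show y₀ * a * y₀ * (y₀ * b) = y₀ * a * (y₀ * y₀) * b by group, hsq y₀ hy₀, mul_one,
          mul_assoc y₀] at this
      · right
        have := mul_mem h1 h2
        rwa [mul_assoc y₀] at this
      · left
        have := mul_mem (hnorm _ h1) h2
        rwa [show y₀ * (y₀ * a) * y₀ * (y₀ * b) = (y₀ * y₀) * a * (y₀ * y₀) * b by group,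
          hsq y₀ hy₀, one_mul, mul_one] at this
    | inv a _ h1 =>
      rcases h1 with h1 | h1
      · exact Or.inl (inv_mem h1)
      · right
        have := hnorm _ (inv_mem h1)
        rwa [mul_inv_rev, hinv y₀ hy₀, mul_assoc, mul_assoc, hsq y₀ hy₀, mul_one] at this
  haveI : Fact (Nat.Prime 5) := ⟨by norm_num⟩
  haveI : Fact (Nat.Prime 3) := ⟨Nat.prime_three⟩
  obtain ⟨⟨x, hx⟩, ho⟩ := exists_prime_orderOf_dvd_card' 5 h5
  rw [Subgroup.orderOf_mk] at ho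
  have no5 : ∀ p ∈ P, orderOf p ≠ 5 := by
    intro p hp h5
    obtain ⟨n, hn⟩ := hP3 ⟨p, hp⟩
    have hd' : orderOf (⟨p, hp⟩ : P) ∣ 3 ^ n := orderOf_dvd_of_pow_eq_one hn
    rw [Subgroup.orderOf_mk, h5] at hd'
    exact absurd ((Nat.Prime.dvd_of_dvd_pow (by norm_num) hd')) (by norm_num)
  rcases hcos x (eS ▸ hx) with hp | hp
  · exact no5 x hp ho
  · refine no5 (x ^ 2) ?_ ?_
    · have := mul_mem (hnorm _ hp) hp
      rwa [show y₀ * (y₀ * x) * y₀ * (y₀ * x) = (y₀ * y₀) * x * (y₀ * y₀) * x by group,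
        hsq y₀ hy₀, one_mul, mul_one, ← pow_two] at this
    · rw [orderOf_pow, ho]; norm_num

theorem m23_partner {u v e : G} (hu : u ∈ D) (hv : v ∈ D) (huv : ¬ Commute u v)
    (he : e ∈ D) (hue : Commute u e) (hve : Commute v e) :
    ∃ f ∈ D, f ≠ e ∧ Commute e f ∧ Commute u f ∧ Commute v f := by
  obtain ⟨a₀, ha₀, -⟩ := (nice_m23 hD h).pair
  obtain ⟨b₀, hb₀⟩ := m23_nbr hD h ha₀
  obtain ⟨-, d, hd, c, hc, hdc, -, c₃, hc₃, hL⟩ := h
  exact partner_of_five hD hP ⟨a₀, ha₀, b₀, hb₀.1, Ne.symm hb₀.2.1, hb₀.2.2⟩ hd hc hdc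
    (ld_card_five hD hP hc₃ hL) hu hv huv he hue hve

/-- Two neighbours that do not commute have a further common neighbour in the neighbourhood. -/
theorem m23_db_common {a : G} (ha : a ∈ D) {p q : Qd D a} (hp : p ∈ Db D a) (hq : q ∈ Db D a)
    (hpq : ¬ Commute p q) : ∃ r ∈ Db D a, Commute p r ∧ Commute q r := by
  obtain ⟨u, hu, rfl⟩ := exists_bar hp
  obtain ⟨v, hv, rfl⟩ := exists_bar hq
  have hPre := pre_of_group hD
  obtain ⟨f, hf, hne, hc, huf, hvf⟩ := m23_partner hD h hP hu.1 hv.1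
    (fun x => hpq ((commute_bar hPre hu hv).2 x)) ha hu.2.2.symm hv.2.2.symm
  have hf' : f ∈ nbrs D a := ⟨hf, hne, hc⟩
  exact ⟨bar hf', bar_mem hf', (commute_bar hPre hu hf').2 huf, (commute_bar hPre hv hf').2 hvf⟩

theorem m23_prim_below {a : G} (ha : a ∈ D) : Cfsg.IsPrimitiveUnderConj (Db D a) := by
  have hN := nice_m23 hD h
  have h22 := m23_below hD h ha
  have hg := hN.group_Db ha
  have hM := nice_m22 hg h22
  obtain ⟨p₀, hp₀, q₀, hq₀, hpq₀⟩ := hM.pair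
  have hD2 : ∃ x ∈ Db D a, ∃ y ∈ Db D a, x ≠ y := ⟨p₀, hp₀, q₀, hq₀, ne_of_not_commute hpq₀⟩
  have hC : Cfsg.IsThreeTranspositionClass (Db D a) := by
    refine ⟨hg.1, ⟨p₀, hp₀, Set.ext fun x => ⟨fun hx => ?_, fun hx => ?_⟩⟩, hg.2.2⟩
    · exact isConj_iff.2 (hM.conj p₀ hp₀ x hx)
    · obtain ⟨g, rfl⟩ := isConj_iff.1 hx; exact hg.2.1 g p₀ hp₀
  have h2 : Cfsg.pCore 2 (Qd D a) ≤ Subgroup.center (Qd D a) := by
    by_contra hn
    obtain ⟨v, hv, hne⟩ := exists_vRel_ne hC hn hp₀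
    exact hne (hM.twins p₀ hp₀ v hv.2.1 hv.2.2).symm
  have h3 : Cfsg.pCore 3 (Qd D a) ≤ Subgroup.center (Qd D a) := by
    by_contra hn
    obtain ⟨w, hw, hne⟩ := exists_wRel_ne hC hn hp₀
    obtain ⟨r, hr, hpr, hwr⟩ := m23_db_common hD h hP ha hp₀ hw.2.1 (hw.not_commute hne)
    have hPre := pre_of_group hg
    have hrp : r ≠ p₀ := fun x => hw.not_commute hne (x ▸ hwr).symm
    have np : p₀ ∈ nbrs (Db D a) r := ⟨hp₀, Ne.symm hrp, hpr.symm⟩
    have nw : w ∈ nbrs (Db D a) r :=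
      ⟨hw.2.1, fun x => hw.not_commute hne (x ▸ hpr), hwr.symm⟩
    obtain ⟨U, hU⟩ : ∃ U, U = m22_u6 hg h22 hr := ⟨_, rfl⟩
    obtain ⟨x, hx⟩ : ∃ x, x ∈ nbrs (Db (Db D a) r) (bar np) := by
      obtain ⟨A, hA, B, hB, hne', hAB⟩ := (u6_prim (m22_isU6 hg h22 hr) U.group).2
      obtain ⟨k, hk⟩ := U.conj A hA (bar np) (bar_mem np)
      exact ⟨k * B * k⁻¹, U.group.2.1 k B hB, fun e => hne' (mul_left_cancel (mul_right_cancel
        (hk.trans e.symm))), hk ▸ (commute_conj_iff k A B).2 hAB⟩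
    obtain ⟨t₁, t₂, t₃, ⟨hnd, hmem, hco, hpr'⟩, -⟩ :=
      U.line (bar np) x (bar_mem np) hx.1 (Ne.symm hx.2.1) hx.2.2
    simp only [List.prod_cons, List.prod_nil, mul_one] at hpr'
    have hwt : ∀ t ∈ [x, t₁, t₂, t₃], Commute (bar nw) t := by
      intro t ht
      obtain ⟨y, hy, rfl⟩ := exists_bar (hmem t (List.mem_cons_of_mem _ ht))
      have hyp : y ≠ p₀ := by
        rintro rfl
        exact (List.nodup_cons.1 hnd).1 ht
      exact (commute_bar hPre nw hy).2 (hw.commute_of_commute hy.1 hyp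
        ((commute_bar hPre np hy).1 (hco _ List.mem_cons_self _ (List.mem_cons_of_mem _ ht)))).2
    refine hw.not_commute hne ((commute_bar hPre np nw).1 (Commute.symm ?_))
    rw [eq_inv_of_mul_eq_one_left hpr']
    exact ((hwt x (by simp)).mul_right ((hwt t₁ (by simp)).mul_right
      ((hwt t₂ (by simp)).mul_right (hwt t₃ (by simp))))).inv_right
  obtain ⟨L, hLn, hLq, hLF⟩ := exists_quasisimple hC hD2 h2 h3
  haveI := hLn
  have hconn : (Cfsg.commutingGraph (Db D a)).Connected := by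
    haveI : Nonempty (Db D a) := ⟨⟨p₀, hp₀⟩⟩
    refine ⟨fun x y => ?_⟩
    have adj : ∀ u v : Db D a, Commute (u : Qd D a) v → (Cfsg.commutingGraph (Db D a)).Reachable u v := by
      intro u v huv
      by_cases e : u = v
      · exact e ▸ SimpleGraph.Reachable.refl _
      · exact SimpleGraph.Adj.reachable ⟨e, Or.inl huv⟩
    by_cases hxy : Commute (x : Qd D a) y
    · exact adj x y hxy
    · obtain ⟨r, hr, hxr, hyr⟩ := m23_db_common hD h hP ha x.2 y.2 hxy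
      exact (adj x ⟨r, hr⟩ hxr).trans (adj ⟨r, hr⟩ y hyr.symm)
  exact primitive_of_normal hC hD2 h2 L (index_le_two_of_connected hC L hLq hconn).1
    (quasisimple_minimal hg h2 h3 L hLq hLF)

/-- Every neighbourhood of a member is a level. -/
theorem m23_lvl_below {a : G} (ha : a ∈ D) : Lvl (Db D a) :=
  lvl_m22 ((nice_m23 hD h).group_Db ha) (m23_prim_below hD h hP ha) (m23_below hD h ha)

end CfsgLib.Trans3.Fi
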