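import Cfsg.Agent.Lib.Trans3.Fi.Gate
import Cfsg.Agent.Lib.Trans3.Fi.PairStab

/-!
What one level of the series PSU₆(2), M(22), M(23), M(24) needs from the level below, and its
validity for `PSU₆(2)`.
-/

set_option autoImplicit false
set_option linter.unusedSectionVars false

namespace CfsgLib.Trans3.Fi

/-- The group generated by the members commuting with `a`. -/
abbrev Cd {G : Type*} [Group G] (D : Set G) (a : G) : Subgroup G :=
  Subgroup.closure {y : G | y ∈ D ∧ Commute a y}

/-- The properties of a level used one level higher. -/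
structure Lvl {G : Type*} [Group G] (D : Set G) : Prop extends Nice D where
  prim : Cfsg.IsPrimitiveUnderConj D
  pairc : ∃ u ∈ D, ∃ v ∈ D, u ≠ v ∧ Commute u v
  stab : ∀ a x : G, a ∈ D → Commute x a → x ∈ Cd D a
  mid : ∀ a q r : G, a ∈ D → q ∈ D → r ∈ D → Commute a q → Commute a r →
    ∃ u ∈ D, u ≠ a ∧ Commute u a ∧ Commute u q ∧ Commute u r
  common : ∀ a c : G, a ∈ D → c ∈ D → ¬ Commute a c → ∃ e ∈ D, Commute e a ∧ Commute e c
  transCommon : ∀ b y e f : G, b ∈ D → y ∈ D → ¬ Commute b y → e ∈ D → Commute b e → Commute y e →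
    f ∈ D → Commute b f → Commute y f →
    ∃ k ∈ Subgroup.closure {w | w ∈ D ∧ Commute b w ∧ Commute y w}, k * e * k⁻¹ = f
  hyper : ∀ a c s : G, a ∈ D → c ∈ D → s ∈ D → ¬ Commute a c →
    (∀ e ∈ D, Commute e a → Commute e c → Commute e s) → s = a ∨ s = c ∨ s = a * c * a
  nonab : ∀ a c : G, a ∈ D → c ∈ D → ¬ Commute a c → ∃ A ∈ D, ∃ B ∈ D,
    Commute a A ∧ Commute c A ∧ Commute a B ∧ Commute c B ∧ ¬ Commute A B

theorem lvl_u6 {G : Type*} [Group G] [Finite G] {D : Set G} (hU : IsU6 G)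
    (hD : Cfsg.IsThreeTranspositionGroup D) : Lvl D := by
  obtain ⟨hP, hw⟩ := u6_prim hU hD
  refine
    { toNice := (u6Facts hU hD).toNice
      prim := hP
      pairc := hw
      stab := fun a x ha hx => u6_stab hU hD ha hx
      mid := fun a q r ha hq hr h1 h2 => u6_mid hU hD ha hq hr h1 h2
      common := fun a c ha hc hac => ?_
      transCommon := ?_
      hyper := fun a c s ha hc hs hac h => u6_hyper hU hD ha hc hs hac h
      nonab := fun a c ha hc hac => ?_ }
  · obtain ⟨A, B, C, E, hq⟩ := u6_quad hU hD ha hc hac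
    obtain ⟨h1, h2, h3⟩ := hq.mem A (by simp)
    exact ⟨A, h1, h2.symm, h3.symm⟩
  · intro b y e f hb hy hby he beh yeh hf bfh yfh
    obtain ⟨L, eL⟩ : ∃ L, L = Subgroup.closure {w | w ∈ D ∧ Commute b w ∧ Commute y w} := ⟨_, rfl⟩
    have step : ∀ {u v : G}, u ∈ D → Commute b u → Commute y u → v ∈ D → Commute b v →
        Commute y v → ¬ Commute u v → Trans3.Orb L u v := by
      intro u v hu bu yu hv bv yv huv
      exact ⟨u * v, eL ▸ mul_mem (Subgroup.subset_closure ⟨hu, bu, yu⟩)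
        (Subgroup.subset_closure ⟨hv, bv, yv⟩), conj_of_noncomm hD.1 hu hv huv⟩
    rw [← eL]
    suffices hL : Trans3.Orb L e f by exact hL
    by_cases hef : Commute e f
    swap
    · exact step he beh yeh hf bfh yfh hef
    obtain ⟨w, hw, w1, w2, w3, w4⟩ :=
      u6_perp hU hD hb hy hby he hf beh.symm yeh.symm bfh.symm yfh.symm
    exact (step he beh yeh hw w1.symm w2.symm fun x => w3 x.symm).trans
      (step hw w1.symm w2.symm hf bfh yfh w4)
  · obtain ⟨A, B, C, E, hq⟩ := u6_quad hU hD ha hc hac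
    obtain ⟨hA, h1, h2⟩ := hq.mem A (by simp)
    obtain ⟨hB, h3, h4⟩ := hq.mem B (by simp)
    exact ⟨A, hA, B, hB, h1, h2, h3, h4, hq.ab⟩

end CfsgLib.Trans3.Fi
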