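import Cfsg.Agent.Lib.Trans3.Fi.U6Count
import Cfsg.Agent.Lib.Trans3.Fi.M22Count

/-!
Semisimple elements of `SU₆(2)`: lifting from `PSU₆(2)`, determinants on monomial bases, groups
acting without fixed points.
-/

set_option autoImplicit false
set_option linter.unusedSectionVars false
set_option linter.style.haveILetI false

namespace CfsgLib.Trans3.Fi

open Matrix CfsgLib.MaxSub CfsgLib.Classical CfsgLib.Trans3.TvSU

/-- All elements of prime order `p` are conjugate when `p` divides the order once and the Sylow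
count forces the automiser to be everything. -/
theorem conj_of_sylow {G : Type*} [Group G] [Finite G] {p c : ℕ} (hp : p.Prime)
    (h2 : ¬ p ^ 2 ∣ Nat.card G)
    (hc : ∀ x : G, orderOf x = p → Nat.card ↥(Subgroup.centralizer ({x} : Set G)) = c)
    (harith : ∀ e, 1 ≤ e → e < p → e * c ∣ Nat.card G → Nat.card G / (e * c) % p = 1 → e = p - 1)
    (x y : G) (hx : orderOf x = p) (hy : orderOf y = p) : IsConj x y := by
  classical
  haveI := Fact.mk hp
  have syl : ∀ z : G, orderOf z = p → ∃ P : Sylow p G, (P : Subgroup G) = Subgroup.zpowers z := by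
    intro z hz
    obtain ⟨P, hP⟩ := (IsPGroup.of_card (p := p) (n := 1)
      (show Nat.card ↥(Subgroup.zpowers z) = p ^ 1 by
        rw [Nat.card_zpowers, hz, pow_one])).exists_le_sylow
    refine ⟨P, (Subgroup.eq_of_le_of_card_ge hP ?_).symm⟩
    rw [Nat.card_zpowers, hz, Sylow.card_eq_multiplicity]
    calc p ^ (Nat.card G).factorization p ≤ p ^ 1 := by
          refine Nat.pow_le_pow_right hp.pos ?_
          by_contra! hh
          exact h2 ((hp.pow_dvd_iff_le_factorization Nat.card_pos.ne').2 hh)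
      _ = p := pow_one p
  obtain ⟨P, hP⟩ := syl x hx
  obtain ⟨O, eO⟩ : ∃ O : Set G, O = {o | ∃ g ∈ Subgroup.normalizer ((P : Subgroup G) : Set G),
    g * x * g⁻¹ = o} := ⟨_, rfl⟩
  have hxP : x ∈ (P : Subgroup G) := hP ▸ Subgroup.mem_zpowers x
  have hx1 : x ≠ 1 := fun e => by rw [e, orderOf_one] at hx; exact hp.one_lt.ne hx
  have hOsub : O ⊆ ((P : Subgroup G) : Set G) \ {1} := by
    rw [eO]
    rintro _ ⟨g, hg, rfl⟩
    exact ⟨(Subgroup.mem_normalizer_iff.1 hg x).1 hxP, fun h => hx1 (conj_eq_one_iff.1 h)⟩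
  have hsize : (((P : Subgroup G) : Set G) \ {1}).ncard = p - 1 := by
    rw [Set.ncard_sdiff_singleton_of_mem (one_mem _), ← Nat.card_coe_set_eq, SetLike.coe_sort_coe,
      hP, Nat.card_zpowers, hx]
  have hN := card_orbit_mul (H := Subgroup.normalizer ((P : Subgroup G) : Set G)) (x := x) (O := O)
    (fun g hg => by rw [eO]; exact ⟨g, hg, rfl⟩) (fun o ho => by rw [eO] at ho; exact ho)
  have hC : Subgroup.centralizer ({x} : Set G) ≤ Subgroup.normalizer ((P : Subgroup G) : Set G) := by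
    refine le_trans (le_of_eq ?_) (Subgroup.centralizer_le_normalizer _)
    rw [hP, Subgroup.zpowers_eq_closure, Subgroup.centralizer_closure]
  rw [inf_eq_right.2 hC, hc x hx] at hN
  have hidx := Subgroup.card_mul_index (Subgroup.normalizer ((P : Subgroup G) : Set G))
  have hn : Nat.card (Sylow p G) =
      (Subgroup.normalizer ((P : Subgroup G) : Set G)).index := Sylow.card_eq_index_normalizer P
  rw [hN, ← hn] at hidx
  have hcpos : 0 < c := hc x hx ▸ Nat.card_pos
  have he1 : 1 ≤ O.ncard := (Set.ncard_pos (Set.toFinite _)).2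
    ⟨x, by rw [eO]; exact ⟨1, one_mem _, by simp⟩⟩
  have hle := Set.ncard_le_ncard hOsub (Set.toFinite _)
  rw [hsize] at hle
  have hpe := hp.two_le
  have heq := harith O.ncard he1 (by omega) ⟨_, hidx.symm⟩ (by
    rw [← hidx, Nat.mul_div_cancel_left _ (Nat.mul_pos he1 hcpos)]
    have := card_sylow_modEq_one p G
    rw [Nat.ModEq, Nat.mod_eq_of_lt hp.one_lt] at this
    exact this)
  have hO : O = ((P : Subgroup G) : Set G) \ {1} :=
    Set.eq_of_subset_of_ncard_le hOsub (by rw [hsize, heq]) (Set.toFinite _)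
  obtain ⟨Q, hQ⟩ := syl y hy
  obtain ⟨g, hg⟩ := MulAction.exists_smul_eq G Q P
  have h1 : g * y * g⁻¹ ∈ (P : Subgroup G) := by
    rw [← hg, Sylow.coe_subgroup_smul]
    exact ⟨y, hQ ▸ Subgroup.mem_zpowers y, rfl⟩
  have h1' : g * y * g⁻¹ ∈ O := by
    rw [hO]
    refine ⟨h1, fun h => ?_⟩
    rw [Set.mem_singleton_iff, conj_eq_one_iff] at h
    rw [h, orderOf_one] at hy
    exact hp.one_lt.ne hy
  rw [eO] at h1'
  obtain ⟨k, -, hk⟩ := h1'
  exact isConj_iff.2 ⟨g⁻¹ * k, by
    calc g⁻¹ * k * x * (g⁻¹ * k)⁻¹ = g⁻¹ * (k * x * k⁻¹) * g := by group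
      _ = y := by rw [hk]; group⟩

variable {F : Type*} [Field F] [Fintype F] (hF : Fintype.card F = 2 ^ 2)

/-- The action of an element as a linear map. -/
noncomputable def lin (g : ↥(Cfsg.SU 6 F 2)) : (Fin 6 → F) →ₗ[F] (Fin 6 → F) :=
  Matrix.toLin' (suVal g)

theorem lin_apply (g : ↥(Cfsg.SU 6 F 2)) (x : Fin 6 → F) : lin g x = act g x :=
  Matrix.toLin'_apply _ _

theorem det_lin (g : ↥(Cfsg.SU 6 F 2)) : LinearMap.det (lin g) = 1 := by
  rw [lin, LinearMap.det_toLin']
  exact g.1.2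

include hF

omit hF in
theorem span_six {b : Fin 6 → (Fin 6 → F)} (hb : LinearIndependent F b) :
    Submodule.span F (Set.range b) = ⊤ :=
  hb.span_eq_top_of_card_eq_finrank (by rw [Fintype.card_fin, Module.finrank_pi, Fintype.card_fin])

/-- On a monomial basis the product of the scalars is the determinant. -/
theorem det_monomial {g : ↥(Cfsg.SU 6 F 2)} {b : Fin 6 → (Fin 6 → F)}
    (hb : LinearIndependent F b) (σ : Equiv.Perm (Fin 6)) (e : Fin 6 → F)
    (h : ∀ j, act g (b j) = e j • b (σ j)) : ∏ j, e j = 1 := by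
  classical
  obtain ⟨B, hB⟩ : ∃ B : Module.Basis (Fin 6) F (Fin 6 → F), ∀ j, B j = b j :=
    ⟨Module.Basis.mk hb (span_six hb).ge, fun j => Module.Basis.mk_apply _ _ _⟩
  have hM : LinearMap.toMatrix B B (lin g) = (Matrix.diagonal e).submatrix σ.symm id := by
    ext i j
    rw [LinearMap.toMatrix_apply, lin_apply, hB, h, ← hB, map_smul, Module.Basis.repr_self,
      Finsupp.smul_single, smul_eq_mul, mul_one, Finsupp.single_apply, Matrix.submatrix_apply,
      Matrix.diagonal_apply]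
    by_cases hij : σ j = i
    · subst hij; simp
    · rw [if_neg hij, if_neg]
      intro e'
      exact hij (by rw [id_eq] at e'; rw [← e', Equiv.apply_symm_apply])
  have h1 := det_lin g
  rw [← LinearMap.det_toMatrix B, hM, Matrix.det_permute, Matrix.det_diagonal] at h1
  have h2 : ((Equiv.Perm.sign σ.symm : ℤ) : F) = 1 := by
    rcases Int.units_eq_one_or (Equiv.Perm.sign σ.symm) with e' | e' <;> rw [e'] <;> simp [neg_eq hF]
  rwa [h2, one_mul] at h1

omit hF in
/-- A group without fixed points on an invariant set has order dividing its size. -/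
theorem card_dvd_of_free {H : Subgroup ↥(Cfsg.SU 6 F 2)} {A : Set (Fin 6 → F)}
    (hA : ∀ k ∈ H, ∀ a ∈ A, act k a ∈ A) (hfree : ∀ k ∈ H, ∀ a ∈ A, act k a = a → k = 1) :
    Nat.card ↥H ∣ A.ncard := by
  classical
  letI : MulAction ↥H A :=
    { smul := fun k a => ⟨act (k : ↥(Cfsg.SU 6 F 2)) a, hA k k.2 a a.2⟩
      one_smul := fun a => Subtype.ext (act_one _)
      mul_smul := fun k l a => Subtype.ext (act_mul _ _ _) }
  have hstab : ∀ a : A, MulAction.stabilizer ↥H a = ⊥ := by
    intro a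
    rw [Subgroup.eq_bot_iff_forall]
    intro k hk
    exact Subtype.ext (hfree k k.2 a a.2 (congrArg Subtype.val (MulAction.mem_stabilizer_iff.1 hk)))
  rw [← Nat.card_coe_set_eq, Nat.card_congr (MulAction.selfEquivSigmaOrbitsQuotientStabilizer ↥H A),
    Nat.card_sigma]
  refine Finset.dvd_sum fun ω _ => ?_
  rw [hstab, ← Subgroup.index_eq_card, Subgroup.index_bot]

theorem exists_scalar {c : F} (hc : c ≠ 0) :
    ∃ z ∈ Subgroup.center ↥(Cfsg.SU 6 F 2), ∀ x, act z x = c • x := by
  have h3 := cube_one hF hc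
  let z : ↥(Cfsg.SU 6 F 2) := ⟨⟨Matrix.diagonal (fun _ => c), by
      rw [Matrix.det_diagonal, Finset.prod_const, Finset.card_univ, Fintype.card_fin,
        show 6 = 3 * 2 from rfl, pow_mul, h3, one_pow]⟩, fun x y => by
    show hh (Matrix.diagonal (fun _ => c) *ᵥ x) (Matrix.diagonal (fun _ => c) *ᵥ y) = hh x y
    have e : ∀ u : Fin 6 → F, Matrix.diagonal (fun _ => c) *ᵥ u = c • u := fun u =>
      funext fun i => Matrix.mulVec_diagonal _ u i
    rw [e, e, hh_smul_left hF, hh_smul_right hF, ← mul_assoc,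
      show c * c ^ 2 = c ^ 3 by ring, h3, one_mul]⟩
  have hz : ∀ x, act z x = c • x := fun x => funext fun i => Matrix.mulVec_diagonal _ x i
  exact ⟨z, mem_center_of_scalar hF hz, hz⟩

variable {Y : Type*} [Group Y] {D : Set Y} (f : ↥(Cfsg.SU 6 F 2) →* Y)
  (hf : Function.Surjective f) (hk : f.ker = Subgroup.center ↥(Cfsg.SU 6 F 2))
include hf hk

/-- A lift of the same prime order. -/
theorem exists_lift {x : Y} {p m : ℕ} (hx : x ^ p = 1) (h3 : 3 ∣ m) (hm : m % p = 1) :
    ∃ g, f g = x ∧ g ^ p = 1 := by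
  obtain ⟨g₀, rfl⟩ := hf x
  have hz : g₀ ^ p ∈ Subgroup.center ↥(Cfsg.SU 6 F 2) := (map_eq_one_iff' hF f hk).1 (by
    rw [map_pow, hx])
  refine ⟨g₀ ^ m, ?_, ?_⟩
  · rw [map_pow, ← Nat.div_add_mod m p, hm, pow_add, pow_mul, hx, one_pow, one_mul, pow_one]
  · obtain ⟨k, rfl⟩ := h3
    rw [← pow_mul, mul_comm (3 * k) p, pow_mul, pow_mul, center_cube hF hz, one_pow]

/-- What commutes with the image commutes with the lift. -/
theorem comm_lift {g k : ↥(Cfsg.SU 6 F 2)} {p : ℕ} (hg : g ^ p = 1) (hp : Nat.Coprime p 3)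
    (h : Commute (f k) (f g)) : Commute k g := by
  obtain ⟨z, ez⟩ : ∃ z, z = k * g * k⁻¹ * g⁻¹ := ⟨_, rfl⟩
  have hz : z ∈ Subgroup.center ↥(Cfsg.SU 6 F 2) := (map_eq_one_iff' hF f hk).1 (by
    rw [ez, map_mul, map_mul, map_mul, h.eq, map_inv, map_inv, mul_inv_cancel_right, mul_inv_cancel])
  have hzg : k * g * k⁻¹ = z * g := by rw [ez, inv_mul_cancel_right]
  have h1 : z ^ p = 1 := by
    have h' : (z * g) ^ p = 1 := by rw [← hzg, conj_pow, hg, mul_one, mul_inv_cancel]
    rwa [(show Commute z g from (Subgroup.mem_center_iff.1 hz g).symm).mul_pow, hg, mul_one] at h'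
  have h2 : z = 1 := by
    have := pow_gcd_eq_one.2 ⟨h1, center_cube hF hz⟩
    rwa [hp, pow_one] at this
  rw [h2, one_mul] at hzg
  exact mul_inv_eq_iff_eq_mul.1 hzg

/-- The order of the centraliser of a member, from the counts. -/
theorem card_stab_member [Finite Y] (hD : Cfsg.IsThreeTranspositionGroup D) {a : Y} (ha : a ∈ D) :
    Nat.card ↥(Subgroup.centralizer ({a} : Set Y)) = 13271040 := by
  have h := card_orbit_mul (H := (⊤ : Subgroup Y)) (x := a) (O := D)
    (fun g _ => hD.2.1 g a ha) (fun o ho => by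
      obtain ⟨g, hg⟩ := conj_all hF f hf hk hD ha ho
      exact ⟨g, Subgroup.mem_top g, hg⟩)
  rw [Subgroup.card_top, top_inf_eq, ← Nat.card_coe_set_eq, card_D hF f hf hk hD,
    Nat.card_congr (QuotientGroup.quotientKerEquivOfSurjective f hf).toEquiv.symm, hk] at h
  rw [show Nat.card (↥(Cfsg.SU 6 F 2) ⧸ Subgroup.center ↥(Cfsg.SU 6 F 2)) = 9196830720 from
    card_psu_six hF] at h
  omega

end CfsgLib.Trans3.Fi
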