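import Cfsg.Agent.Lib.Trans3.Fi.M24Sign

/-!
In groups of type PSU₆(2), M(22), M(23), M(24) there is no other class of 3-transpositions: an
involution fixes a member or swaps two commuting ones, and a product of two commuting members is not
a 3-transposition.
-/

set_option autoImplicit false
set_option linter.unusedSectionVars false

namespace CfsgLib.Trans3.Fi

/-- A conjugation-invariant set of 3-transpositions, generating or not. -/
abbrev ThreeSet {G : Type*} [Group G] (U : Set G) : Prop :=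
  Cfsg.IsThreeTranspositionSet U ∧ ∀ g : G, ∀ u ∈ U, g * u * g⁻¹ ∈ U

section General

variable {G : Type*} [Group G] [Finite G] {D U : Set G}

theorem group_of_simple [IsSimpleGroup G] (hU : ThreeSet U) {u : G} (hu : u ∈ U) :
    Cfsg.IsThreeTranspositionGroup U := by
  refine ⟨hU.1, hU.2, ?_⟩
  have hn : (Subgroup.closure U).Normal := ⟨fun x hx g => by
    induction hx using Subgroup.closure_induction with
    | mem v hv => exact Subgroup.subset_closure (hU.2 g v hv)
    | one => simp
    | mul v w _ _ h1 h2 =>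
      rw [show g * (v * w) * g⁻¹ = g * v * g⁻¹ * (g * w * g⁻¹) by group]; exact mul_mem h1 h2
    | inv v _ h1 =>
      rw [show g * v⁻¹ * g⁻¹ = (g * v * g⁻¹)⁻¹ by group]; exact inv_mem h1⟩
  refine hn.eq_bot_or_eq_top.resolve_left fun e => invol_ne_one (hU.1.1 u hu) ?_
  exact Subgroup.mem_bot.1 (e ▸ Subgroup.subset_closure hu)

/-- An involution fixes a member or swaps two commuting members. -/
theorem fix_or_swap (hD : Cfsg.IsThreeTranspositionGroup D) (hne : D.Nonempty) {e : G}
    (he : e * e = 1) :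
    (∃ t ∈ D, Commute e t) ∨ ∃ t ∈ D, e * t * e ≠ t ∧ Commute t (e * t * e) := by
  haveI : Fact (Nat.Prime 2) := ⟨Nat.prime_two⟩
  obtain ⟨d, hd⟩ := hne
  have hz : ∀ {w : G}, w * w = 1 → IsPGroup 2 (Subgroup.zpowers w) := by
    intro w hw
    have := isPGroup_two_closure_of_commute (E := ({w} : Set G))
      (fun a ha b hb => by rw [Set.mem_singleton_iff] at ha hb; rw [ha, hb])
      fun a ha => by rw [Set.mem_singleton_iff] at ha; rw [ha]; exact hw
    rwa [← Subgroup.zpowers_eq_closure] at this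
  obtain ⟨P, hP⟩ := (hz he).exists_le_sylow
  obtain ⟨Q, hQ⟩ := (hz (Trans3.sq_one hD.1 hd)).exists_le_sylow
  obtain ⟨g, hg⟩ := MulAction.exists_smul_eq G Q P
  have ht : g * d * g⁻¹ ∈ (P : Subgroup G) := by
    rw [← hg]
    exact ⟨d, hQ (Subgroup.mem_zpowers d), rfl⟩
  have heP : e ∈ (P : Subgroup G) := hP (Subgroup.mem_zpowers e)
  have hinv : e⁻¹ = e := inv_eq_of_mul_eq_one_right he
  by_cases h : e * (g * d * g⁻¹) * e = g * d * g⁻¹
  · refine Or.inl ⟨_, hD.2.1 g d hd, commute_of_conj_eq ?_⟩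
    rw [hinv]; exact h
  · refine Or.inr ⟨_, hD.2.1 g d hd, h, commute_of_mem_two_group hD.1 P.isPGroup'
      (hD.2.1 g d hd) ?_ ht (mul_mem (mul_mem heP ht) heP)⟩
    have := hD.2.1 e _ (hD.2.1 g d hd)
    rwa [hinv] at this

/-- If a member of another such set swaps two commuting members, it fixes one, provided their joint
centraliser has no non-central abelian subgroup normalised by the members in it. -/
theorem swap_fix (hD : Cfsg.IsThreeTranspositionGroup D) (hU : ThreeSet U) (h3 : NoRel D 3)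
    (h4 : NoRel D 4)
    (hab : ∀ a b : G, a ∈ D → b ∈ nbrs D a →
      (∃ c ∈ D, c ≠ a ∧ c ≠ b ∧ Commute c a ∧ Commute c b) ∧
      ∀ M : Subgroup G, (∀ x ∈ M, Commute x a ∧ Commute x b) → (∀ x ∈ M, ∀ y ∈ M, Commute x y) →
        (∀ c ∈ D, c ≠ a → c ≠ b → Commute c a → Commute c b → ∀ x ∈ M, c * x * c⁻¹ ∈ M) →
        ∀ x ∈ M, x = 1 ∨ x = a ∨ x = b ∨ x = a * b)
    {e a : G} (he : e ∈ U) (ha : a ∈ D) (hne : e * a * e ≠ a) (hc : Commute a (e * a * e)) :
    ∃ t ∈ D, Commute e t := by
  have hee := Trans3.sq_one hU.1 he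
  have hei := inv_eq hU.1 he
  obtain ⟨b, eb⟩ : ∃ b, b = e * a * e := ⟨_, rfl⟩
  rw [← eb] at hc hne
  have hb : b ∈ D := by
    have := hD.2.1 e a ha
    rwa [hei, ← eb] at this
  have eba : e * b * e = a := by
    rw [eb, show e * (e * a * e) * e = (e * e) * a * (e * e) by group, hee, one_mul, mul_one]
  obtain ⟨⟨c, hcD, hca, hcb, cca, ccb⟩, hM⟩ := hab a b ha ⟨hb, hne, hc⟩
  obtain ⟨P, eP⟩ : ∃ P : Set G,
      P = {f | f ∈ U ∧ ∃ f' ∈ U, f ≠ f' ∧ Commute f f' ∧ f * f' = a * b} := ⟨_, rfl⟩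
  have hgc : ∀ {g g' : G}, g ∈ U → g' ∈ U → Commute g g' → g * g' = a * b → Commute g (a * b) :=
    fun hg hg' hc' e => e ▸ (Commute.refl _).mul_right hc'
  have hPc : ∀ f ∈ P, ∀ g ∈ P, Commute f g := by
    intro f hf g hg
    rw [eP] at hf hg
    obtain ⟨hf, f', hf', hff, cff, eff⟩ := hf
    obtain ⟨hg, g', hg', -, cgg, egg⟩ := hg
    have h1 : Commute g (f * f') := eff.symm ▸ hgc hg hg' cgg egg
    exact ((commute_mul_iff hU.1 hf hf' hg hff cff).1 h1).1.symm
  have hswap : ∀ {g : G}, Commute g (a * b) → ∀ f ∈ P, g * f * g⁻¹ ∈ P := by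
    intro g hg f hf
    rw [eP] at hf ⊢
    obtain ⟨hf, f', hf', hff, cff, eff⟩ := hf
    exact ⟨hU.2 g f hf, g * f' * g⁻¹, hU.2 g f' hf',
      fun e' => hff (mul_left_cancel (mul_right_cancel e')), (commute_conj_iff g f f').2 cff, by
        rw [← conj_eq_of_commute hg, ← eff]; group⟩
  have heP : e ∈ P := by
    rw [eP]
    have h2 : e * (a * e * a) = a * b := by
      rw [show e * (a * e * a) = (e * a * e) * a by group, ← eb, hc.eq]
    refine ⟨he, a * e * a, ?_, fun e' => hne ?_, ?_, h2⟩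
    · have := hU.2 a e he
      rwa [inv_eq hD.1 ha] at this
    · rw [eb]
      have : e * a = a * e := by
        calc e * a = a * e * a * a := by rw [← e']
          _ = a * e := by rw [mul_assoc (a * e), Trans3.sq_one hD.1 ha, mul_one]
      rw [this, mul_assoc, hee, mul_one]
    · show e * (a * e * a) = a * e * a * e
      rw [h2, show a * e * a * e = a * (e * a * e) by group, ← eb]
  obtain ⟨M, eM⟩ : ∃ M : Subgroup G, M = Subgroup.closure P ⊓
      (Subgroup.centralizer ({a} : Set G) ⊓ Subgroup.centralizer ({b} : Set G)) := ⟨_, rfl⟩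
  have memM : ∀ x, x ∈ M ↔ x ∈ Subgroup.closure P ∧ Commute x a ∧ Commute x b := fun x => by
    rw [eM]; simp only [Subgroup.mem_inf, Subgroup.mem_centralizer_singleton_iff]; rfl
  have cec : ∀ {x : G}, Commute x (a * b) → e * (x * e * x⁻¹) ∈ Subgroup.closure P := fun hx =>
    mul_mem (Subgroup.subset_closure heP) (Subgroup.subset_closure (hswap hx e heP))
  have hcab : Commute c (a * b) := cca.mul_right ccb
  have hci := inv_eq hD.1 hcD
  have hc'a : Commute (e * c * e) a := by
    have := (commute_conj_iff e c b).2 ccb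
    rwa [hei, eba] at this
  have hc'b : Commute (e * c * e) b := by
    have := (commute_conj_iff e c a).2 cca
    rwa [hei, ← eb] at this
  have hx : e * (c * e * c⁻¹) ∈ M := by
    rw [memM]
    refine ⟨cec hcab, ?_, ?_⟩ <;> rw [hci, show e * (c * e * c) = e * c * e * c by group]
    exacts [hc'a.mul_left cca, hc'b.mul_left ccb]
  have hcase := hM M (fun x hx => ((memM x).1 hx).2)
    (fun x hx y hy => commute_closure hPc ((memM x).1 hx).1 ((memM y).1 hy).1)
    (fun d hd hda hdb cda cdb x hx => by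
      obtain ⟨h1, h2, h3'⟩ := (memM x).1 hx
      refine (memM _).2 ⟨?_, (cda.mul_left h2).mul_left cda.inv_left,
        (cdb.mul_left h3').mul_left cdb.inv_left⟩
      clear h2 h3' hx
      induction h1 using Subgroup.closure_induction with
      | mem f hf => exact Subgroup.subset_closure (hswap (cda.mul_right cdb) f hf)
      | one => simp
      | mul v w _ _ i1 i2 =>
        rw [show d * (v * w) * d⁻¹ = d * v * d⁻¹ * (d * w * d⁻¹) by group]; exact mul_mem i1 i2
      | inv v _ i1 =>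
        rw [show d * v⁻¹ * d⁻¹ = (d * v * d⁻¹)⁻¹ by group]; exact inv_mem i1) _ hx
  refine ⟨c, hcD, ?_⟩
  -- `c` and its image
  obtain ⟨c', ec'⟩ : ∃ c', c' = e * c * e := ⟨_, rfl⟩
  have hc'D : c' ∈ D := by
    have := hD.2.1 e c hcD
    rwa [hei, ← ec'] at this
  rw [hci, show e * (c * e * c) = e * c * e * c by group, ← ec'] at hcase
  rw [← ec'] at hc'a hc'b
  have hcc : Commute c c' := by
    have h1 := hPc _ (hswap hcab e heP) _ heP
    rw [hci] at h1
    have h2 : c * c' = c' * c := by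
      rw [ec']
      calc c * (e * c * e) = (c * e * c) * e := by group
        _ = e * (c * e * c) := h1.eq
        _ = _ := by group
    exact h2
  have hc'a' : c' ≠ a := fun x => hcb (by
    have : e * c' * e = e * _ * e := congrArg (fun z => e * z * e) x
    rw [ec', show e * (e * c * e) * e = (e * e) * c * (e * e) by group, hee, one_mul, mul_one,
      ← eb] at this
    exact this)
  have hc'b' : c' ≠ b := fun x => hca (by
    have : e * c' * e = e * _ * e := congrArg (fun z => e * z * e) x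
    rw [ec', show e * (e * c * e) * e = (e * e) * c * (e * e) by group, hee, one_mul, mul_one,
      eba] at this
    exact this)
  by_cases hcc' : c' = c
  · refine commute_of_conj_eq ?_
    rw [hei, ← ec', hcc']
  exfalso
  rcases hcase with e1 | e1 | e1 | e1
  · exact hcc' (by rw [eq_inv_of_mul_eq_one_left e1, hci])
  · refine h3 [c', c, a] (by simp [hcc', hc'a', hca]) rfl (by simp [hc'D, hcD, ha])
      (by simp [hcc, hcc.symm, hc'a, hc'a.symm, cca, cca.symm]) ?_
    simp only [List.prod_cons, List.prod_nil, mul_one]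
    rw [← mul_assoc, e1, Trans3.sq_one hD.1 ha]
  · refine h3 [c', c, b] (by simp [hcc', hc'b', hcb]) rfl (by simp [hc'D, hcD, hb])
      (by simp [hcc, hcc.symm, hc'b, hc'b.symm, ccb, ccb.symm]) ?_
    simp only [List.prod_cons, List.prod_nil, mul_one]
    rw [← mul_assoc, e1, Trans3.sq_one hD.1 hb]
  · refine h4 [c', c, b, a] (by simp [hcc', hc'a', hc'b', hca, hcb, hne]) rfl
      (by simp [hc'D, hcD, ha, hb])
      (by simp [hcc, hcc.symm, hc'a, hc'a.symm, cca, cca.symm, hc'b, hc'b.symm, ccb, ccb.symm, hc,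
        hc.symm]) ?_
    simp only [List.prod_cons, List.prod_nil, mul_one]
    rw [← mul_assoc, e1, show a * b * (b * a) = a * (b * b) * a by group,
      Trans3.sq_one hD.1 hb, mul_one, Trans3.sq_one hD.1 ha]

/-- A fixed member reduces the question to its neighbourhood group. -/
theorem step_down (hN : Nice D) {a u : G} (ha : a ∈ D) (hU : ThreeSet U) (hu : u ∈ U)
    (hua : Commute u a) [IsSimpleGroup (Qd D a)]
    (hgate : ∀ x : G, Commute x a → x ∈ Hd D a)
    (hZ : ∀ x : ↥(Hd D a), x ∈ Subgroup.center ↥(Hd D a) → (x : G) = 1 ∨ (x : G) = a)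
    (hbelow : ∀ V : Set (Qd D a), Cfsg.IsThreeTranspositionGroup V → V ⊆ Db D a) :
    u = a ∨ ∃ b ∈ nbrs D a, u = b ∨ u = a * b := by
  obtain ⟨k, ek⟩ : ∃ k : ↥(Hd D a), k = ⟨u, hgate u hua⟩ := ⟨_, rfl⟩
  have hkv : (k : G) = u := by rw [ek]
  by_cases h1 : (k : Qd D a) = 1
  · left
    rcases hZ k ((QuotientGroup.eq_one_iff k).1 h1) with e | e
    · exact absurd (hkv.symm.trans e) (invol_ne_one (hU.1.1 u hu))
    · exact hkv.symm.trans e
  right
  obtain ⟨V, eV⟩ : ∃ V : Set (Qd D a),
      V = ((QuotientGroup.mk : ↥(Hd D a) → Qd D a) '' {x | (x : G) ∈ U}) \ {1} := ⟨_, rfl⟩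
  have hV : ThreeSet V := by
    refine ⟨⟨?_, ?_⟩, ?_⟩
    · rw [eV]
      rintro _ ⟨⟨x, hx, rfl⟩, hne⟩
      haveI : Fact (Nat.Prime 2) := ⟨Nat.prime_two⟩
      refine orderOf_eq_prime ?_ hne
      rw [pow_two, ← QuotientGroup.mk_mul, show x * x = 1 from Subtype.ext (Trans3.sq_one hU.1 hx),
        QuotientGroup.mk_one]
    · rw [eV]
      rintro _ ⟨⟨x, hx, rfl⟩, -⟩ _ ⟨⟨y, hy, rfl⟩, -⟩
      rw [← QuotientGroup.mk_mul, ← QuotientGroup.mk_pow, ← QuotientGroup.mk_pow]
      rcases hU.1.2 _ hx _ hy with h' | h'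
      · left; rw [show (x * y) ^ 2 = 1 from Subtype.ext h', QuotientGroup.mk_one]
      · right; rw [show (x * y) ^ 3 = 1 from Subtype.ext h', QuotientGroup.mk_one]
    · rw [eV]
      rintro q _ ⟨⟨x, hx, rfl⟩, hne⟩
      obtain ⟨g, rfl⟩ := QuotientGroup.mk_surjective q
      exact ⟨⟨g * x * g⁻¹, hU.2 g x hx, rfl⟩, fun e => hne (by simpa using e)⟩
  have hkV : (k : Qd D a) ∈ V := eV ▸ ⟨⟨k, (hkv.symm ▸ hu : (k : G) ∈ U), rfl⟩, h1⟩
  obtain ⟨b, hb, e⟩ := exists_bar (hbelow V (group_of_simple hV hkV) hkV)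
  refine ⟨b, hb, ?_⟩
  rcases hZ _ (QuotientGroup.eq.1 e.symm) with e' | e' <;>
    rw [Subgroup.coe_mul, Subgroup.coe_inv, hkv, inv_mul_eq_iff_eq_mul] at e'
  · exact Or.inl (e'.trans (mul_one b))
  · exact Or.inr (e'.trans hb.2.2.symm.eq)

/-- A product of two commuting members is not a 3-transposition. -/
theorem pair_not_mem (hL : Lvl D) (hbig : ∀ a ∈ D, 2 * (nbrs D a).ncard + 2 < D.ncard)
    (hU : ThreeSet U) {a b : G} (ha : a ∈ D) (hb : b ∈ nbrs D a) : a * b ∉ U := by
  intro hab
  have hD := hL.group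
  obtain ⟨s, hs, nsa, nsb⟩ : ∃ s ∈ D, ¬ Commute a s ∧ ¬ Commute b s := by
    by_contra! hall
    have h1 := card_split (D := D) ha
    have h2 := card_split (D := D) hb.1
    have hdis : Disjoint {y | y ∈ D ∧ ¬ Commute a y} {y | y ∈ D ∧ ¬ Commute b y} :=
      Set.disjoint_left.2 fun y hy hy' => hy'.2 (hall y hy.1 hy.2)
    have h3 := Set.ncard_le_ncard (s := {y | y ∈ D ∧ ¬ Commute a y} ∪ {y | y ∈ D ∧ ¬ Commute b y})
      (t := D) (Set.union_subset (fun y hy => hy.1) fun y hy => hy.1)
    rw [Set.ncard_union_eq hdis] at h3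
    have := hbig a ha
    have := hbig b hb.1
    omega
  obtain ⟨t, ht, tat, tst, ntb⟩ : ∃ t ∈ D, Commute t a ∧ Commute t s ∧ ¬ Commute t b := by
    by_contra! hall
    rcases hL.hyper a s b ha hs hb.1 nsa (fun e he h1 h2 => hall e he h1 h2) with e | e | e
    · exact hb.2.1 e
    · exact nsb (e ▸ Commute.refl s)
    · refine nsa ?_
      have := (commute_conj_iff a a (a * s * a⁻¹)).1 (by
        rw [mul_inv_cancel_right, inv_eq hD.1 ha, ← e,
          flip_fix hD ha hb.2.2]
        exact hb.2.2)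
      exact (commute_conj_iff a a s).1 (by rwa [mul_inv_cancel_right])
  obtain ⟨x, ex⟩ : ∃ x, x = (s * a * s) * (s * b * s) := ⟨_, rfl⟩
  obtain ⟨z, ez⟩ : ∃ z, z = a * (t * b * t) := ⟨_, rfl⟩
  have ssq := Trans3.sq_one hD.1 hs
  have asq := Trans3.sq_one hD.1 ha
  have bsq := Trans3.sq_one hD.1 hb.1
  have tsq := Trans3.sq_one hD.1 ht
  have ca : Commute (s * a * s) (s * b * s) := (flip_iff hD hs a b).2 hb.2.2
  have xsab : x = s * (a * b) * s := by
    rw [ex, show s * a * s * (s * b * s) = s * a * (s * s) * b * s by group, ssq]; group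
  have hxU : x ∈ U := by
    have := hU.2 s _ hab
    rwa [inv_eq hD.1 hs, ← xsab] at this
  have hzU : z ∈ U := by
    have := hU.2 t _ hab
    rwa [inv_eq hD.1 ht, show t * (a * b) * t = (t * a * t) * (t * b * t) by
      rw [show t * a * t * (t * b * t) = t * a * (t * t) * b * t by group, tsq]; group,
      flip_fix hD ht tat, ← ez] at this
  have xx : x * x = 1 := Trans3.sq_one hU.1 hxU
  have zz : z * z = 1 := Trans3.sq_one hU.1 hzU
  have xi : x⁻¹ = x := inv_eq_of_mul_eq_one_right xx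
  have zi : z⁻¹ = z := inv_eq_of_mul_eq_one_right zz
  have xax : x * a * x = b := by
    rw [xsab]
    calc s * (a * b) * s * a * (s * (a * b) * s)
        = s * (a * b) * (s * a * s) * (a * b) * s := by group
      _ = s * (a * b) * (a * s * a) * (a * b) * s := by rw [braid hD.1 hs ha fun c => nsa c.symm]
      _ = s * (a * b * a) * s * (a * a) * b * s := by group
      _ = s * b * s * b * s := by
          rw [asq, show a * b * a = b from flip_fix hD ha hb.2.2]; group
      _ = s * (b * s * b) * s := by group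
      _ = s * (s * b * s) * s := by rw [braid hD.1 hb.1 hs nsb]
      _ = b := by rw [flip_flip hD hs]
  have zaz : z * a * z = a := by
    have : Commute a (t * b * t) := (tat.symm.mul_right hb.2.2).mul_right tat.symm
    rw [ez]
    calc a * (t * b * t) * a * (a * (t * b * t)) = a * (t * b * t) * (a * a) * (t * b * t) := by
          group
      _ = a * ((t * b) * (t * t) * (b * t)) := by rw [asq]; group
      _ = a := by rw [tsq, mul_one, show t * b * (b * t) = t * (b * b) * t by group, bsq, mul_one, tsq, mul_one]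
  have zbz : z * b * z = t := by
    have hbt : t * b * t = b * t * b := braid hD.1 ht hb.1 ntb
    have hat : Commute a (t * b * t) := (tat.symm.mul_right hb.2.2).mul_right tat.symm
    rw [ez]
    calc a * (t * b * t) * b * (a * (t * b * t))
        = a * ((t * b * t) * b * a) * (t * b * t) := by group
      _ = a * ((b * t * b) * b * a) * (t * b * t) := by rw [hbt]
      _ = a * (b * t * (b * b) * a) * (t * b * t) := by group
      _ = a * (b * t * a) * (t * b * t) := by rw [bsq, mul_one]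
      _ = a * (b * (a * t)) * (t * b * t) := by rw [mul_assoc b t a, tat.eq]
      _ = (a * b * a) * ((t * t) * b * t) := by group
      _ = b * (b * t) := by rw [tsq, one_mul, show a * b * a = b from flip_fix hD ha hb.2.2]
      _ = t := by rw [← mul_assoc, bsq, one_mul]
  have hw : ∀ v : G, x * z * v * (x * z)⁻¹ = x * (z * v * z) * x := fun v => by
    rw [mul_inv_rev, xi, zi]; group
  rcases hU.1.2 x hxU z hzU with h2 | h3
  · -- order two
    have h := hw b
    have h' : x * z * (x * z * a * (x * z)⁻¹) * (x * z)⁻¹ = a := by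
      rw [show x * z * (x * z * a * (x * z)⁻¹) * (x * z)⁻¹ =
        (x * z) ^ 2 * a * ((x * z) ^ 2)⁻¹ by rw [pow_two]; group, h2]
      group
    rw [hw a, zaz, xax, h, zbz] at h'
    apply ntb
    have : t = b := by
      calc t = (x * x) * t * (x * x) := by rw [xx, one_mul, mul_one]
        _ = x * (x * t * x) * x := by group
        _ = b := by rw [h', xax]
    rw [this]
  · -- order three
    have h' : x * z * (x * z * (x * z * a * (x * z)⁻¹) * (x * z)⁻¹) * (x * z)⁻¹ = a := by
      rw [show x * z * (x * z * (x * z * a * (x * z)⁻¹) * (x * z)⁻¹) * (x * z)⁻¹ =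
        (x * z) ^ 3 * a * ((x * z) ^ 3)⁻¹ by simp only [pow_succ, pow_zero, one_mul]; group, h3]
      group
    rw [hw a, zaz, xax, hw b, zbz, hw] at h'
    have h'' : x * t * x = t := by
      have h4 : z * (x * t * x) * z = b := by
        calc z * (x * t * x) * z = (x * x) * (z * (x * t * x) * z) * (x * x) := by
              rw [xx, one_mul, mul_one]
          _ = x * (x * (z * (x * t * x) * z) * x) * x := by group
          _ = b := by rw [h', xax]
      calc x * t * x = (z * z) * (x * t * x) * (z * z) := by rw [zz, one_mul, mul_one]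
        _ = z * (z * (x * t * x) * z) * z := by group
        _ = t := by rw [h4, zbz]
    have hxt : Commute t x := (commute_of_conj_eq (by rw [xi]; exact h'') : Commute x t).symm
    rw [ex] at hxt
    have hne : s * a * s ≠ s * b * s := fun e =>
      hb.2.1 (mul_left_cancel (mul_right_cancel e)).symm
    have := ((commute_mul_iff hD.1 (self_conj_mem hD hs ha) (self_conj_mem hD hs hb.1) ht hne ca).1
      hxt).2
    apply ntb
    rwa [← flip_fix hD hs tst.symm, flip_iff hD hs] at this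

/-- An involution of a simple group cannot move all of `2 * odd` points. -/
theorem exists_fixed [IsSimpleGroup G] (hD : Cfsg.IsThreeTranspositionGroup D) {m : ℕ}
    (hm : D.ncard = 2 * (2 * m + 1)) (hnt : ∃ a b : G, ¬ Commute a b) {u : G} (hu : u * u = 1) :
    ∃ t ∈ D, Commute u t := by
  classical
  haveI := Fintype.ofFinite G
  by_contra! hall
  let ρ : G →* Equiv.Perm D :=
    { toFun := fun g =>
        { toFun := fun d => ⟨g * d * g⁻¹, hD.2.1 g d d.2⟩
          invFun := fun d => ⟨g⁻¹ * d * g, by simpa using hD.2.1 g⁻¹ d d.2⟩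
          left_inv := fun d => Subtype.ext (by simp [mul_assoc])
          right_inv := fun d => Subtype.ext (by simp [mul_assoc]) }
      map_one' := Equiv.ext fun d => Subtype.ext (by simp)
      map_mul' := fun g k => Equiv.ext fun d => Subtype.ext (by simp [mul_assoc]) }
  have htriv : Equiv.Perm.sign.comp ρ = 1 := by
    rw [← MonoidHom.ker_eq_top_iff]
    refine ((inferInstance : (Equiv.Perm.sign.comp ρ).ker.Normal).eq_bot_or_eq_top).resolve_left
      fun e => ?_
    obtain ⟨a, b, hab⟩ := hnt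
    exact hab ((MonoidHom.ker_eq_bot_iff _).1 e (by rw [map_mul, map_mul]; exact mul_comm _ _))
  have hsq : ρ u ^ 2 = 1 := by rw [← map_pow, pow_two, hu, map_one]
  haveI : Fact (Nat.Prime 2) := ⟨Nat.prime_two⟩
  have hfix : IsEmpty (Function.fixedPoints (ρ u)) := ⟨fun ⟨d, hd⟩ => hall d d.2
    (commute_of_conj_eq (congrArg Subtype.val hd))⟩
  have h1 := Equiv.Perm.sign_of_cycleType_eq_replicate (σ := ρ u) (n := 2) (by norm_num)
    (Equiv.Perm.cycleType_of_pow_prime_eq_one hsq)
  rw [show Equiv.Perm.sign (ρ u) = 1 from DFunLike.congr_fun htriv u, if_neg (by decide),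
    Fintype.card_eq_zero (α := Function.fixedPoints (ρ u)), ← Nat.card_eq_fintype_card,
    Nat.card_coe_set_eq, hm, Nat.sub_zero, Nat.mul_div_cancel_left _ (by norm_num : 0 < 2),
    (odd_two_mul_add_one m).neg_one_pow] at h1
  exact absurd h1 (by decide)

end General

section Types

variable {G : Type*} [Group G] [Finite G] {D : Set G}

theorem u6_simple (hU : IsU6 G) : IsSimpleGroup G := by
  obtain ⟨F, i₁, i₂, hF4, ⟨e⟩⟩ := id hU
  have hF4' : Fintype.card F = 2 ^ 2 := hF4
  haveI := CfsgLib.Classical.isSimpleGroup_psu hF4' (n := 6) (by norm_num) (by norm_num)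
  exact e.isSimpleGroup

theorem u6_unique (hU6 : IsU6 G) (hD : Cfsg.IsThreeTranspositionGroup D) {V : Set G}
    (hV : Cfsg.IsThreeTranspositionGroup V) : V ⊆ D := by
  intro v hv
  obtain ⟨F, _, _, f, hF, hf, hk⟩ := exists_model hU6 hD
  obtain ⟨p, hp, hpp, rfl⟩ := exists_pt hF f hf hk hV hv
  exact pt_mem hF f hf hk hD hp hpp

variable (hD : Cfsg.IsThreeTranspositionGroup D) (hP : Cfsg.IsPrimitiveUnderConj D)
include hD hP

theorem m22_unique (h : Cfsg.IsOfTypeM22 G D) {V : Set G}
    (hV : Cfsg.IsThreeTranspositionGroup V) : V ⊆ D := by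
  intro v hv
  have hN := nice_m22 hD h
  haveI := m22_simple hD hP h
  obtain ⟨a₀, -, b₀, -, hab⟩ := hN.pair
  obtain ⟨t, ht, hvt⟩ := exists_fixed hD (m := 877) (by rw [m22_card_D hD hP h]) ⟨a₀, b₀, hab⟩
    (Trans3.sq_one hV.1 hv)
  haveI := u6_simple (m22_isU6 hD h ht)
  rcases step_down hN ht (U := V) ⟨hV.1, hV.2.1⟩ hv hvt
      (fun x hx => by
        rw [m22_gate hD hP h ht]; exact Subgroup.mem_centralizer_singleton_iff.2 hx.eq)
      (fun x hx => Up.center_mem hN hP
        (fun _ hb => lvl_u6 (m22_isU6 hD h hb) (hN.group_Db hb)) ht hx)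
      (fun W hW => u6_unique (m22_isU6 hD h ht) (hN.group_Db ht) hW) with rfl | ⟨b, hb, rfl | rfl⟩
  · exact ht
  · exact hb.1
  · exact absurd hv (pair_not_mem (lvl_m22 hD hP h) (fun e he => by
      rw [card_nbrs hD h he, m22_card_D hD hP h]; norm_num) ⟨hV.1, hV.2.1⟩ ht hb)

theorem m23_unique (h : Cfsg.IsOfTypeM23 G D) {V : Set G}
    (hV : Cfsg.IsThreeTranspositionGroup V) : V ⊆ D := by
  intro v hv
  have hN := nice_m23 hD h
  have hvi := inv_eq hV.1 hv
  obtain ⟨t, ht, hvt⟩ : ∃ t ∈ D, Commute v t := by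
    rcases fix_or_swap hD ⟨_, hN.pair.choose_spec.1⟩ (Trans3.sq_one hV.1 hv) with h' | ⟨t, ht, -, -⟩
    · exact h'
    -- an involution moves an even number of members
    classical
    haveI := Fintype.ofFinite G
    by_contra! hall
    let f : Function.End D := fun d => ⟨v * d * v⁻¹, hD.2.1 v d d.2⟩
    have h2 : f ^ 2 = 1 := by
      funext d
      refine Subtype.ext ?_
      show v * (v * d * v⁻¹) * v⁻¹ = d
      rw [hvi, show v * (v * d * v) * v = (v * v) * d * (v * v) by group, Trans3.sq_one hV.1 hv,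
        one_mul, mul_one]
    haveI : Fact (Nat.Prime 2) := ⟨Nat.prime_two⟩
    haveI : IsEmpty (Function.fixedPoints f) :=
      ⟨fun ⟨d, hd⟩ => hall d d.2 (commute_of_conj_eq (congrArg Subtype.val hd))⟩
    have h3 := Equiv.Perm.card_fixedPoints_modEq (p := 2) (n := 1) (f := f) (by simpa using h2)
    have h4 : Fintype.card (Function.fixedPoints f) = 0 := Fintype.card_eq_zero
    have h5 : Fintype.card ↥D = 31671 := by
      rw [← Nat.card_eq_fintype_card, Nat.card_coe_set_eq, m23_card_D hD hP h]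
    erw [h4, h5] at h3
    exact absurd h3 (by decide)
  haveI := m22_simple (hN.group_Db ht) (m23_prim_below hD h hP ht) (m23_below hD h ht)
  rcases step_down hN ht (U := V) ⟨hV.1, hV.2.1⟩ hv hvt
      (fun x hx => by
        rw [m23_gate hD hP h ht]; exact Subgroup.mem_centralizer_singleton_iff.2 hx.eq)
      (fun x hx => m23_center_mem hD hP h ht hx)
      (fun W hW => m22_unique (hN.group_Db ht) (m23_prim_below hD h hP ht) (m23_below hD h ht) hW)
    with rfl | ⟨b, hb, rfl | rfl⟩
  · exact ht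
  · exact hb.1
  · exact absurd hv (pair_not_mem (lvl_m23 hD hP h) (fun e he => by
      rw [card_nbrs23 hD hP h he, m23_card_D hD hP h]; norm_num) ⟨hV.1, hV.2.1⟩ ht hb)

theorem m24_pair_abelian (h : Cfsg.IsOfTypeM24 G D) {a b : G} (ha : a ∈ D) (hb : b ∈ nbrs D a) :
    (∃ c ∈ D, c ≠ a ∧ c ≠ b ∧ Commute c a ∧ Commute c b) ∧
    ∀ M : Subgroup G, (∀ x ∈ M, Commute x a ∧ Commute x b) → (∀ x ∈ M, ∀ y ∈ M, Commute x y) →
      (∀ c ∈ D, c ≠ a → c ≠ b → Commute c a → Commute c b → ∀ x ∈ M, c * x * c⁻¹ ∈ M) →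
      ∀ x ∈ M, x = 1 ∨ x = a ∨ x = b ∨ x = a * b := by
  have hN := nice_m24 hD hP h
  have hPre := pre_of_group hD
  have hg := hN.group_Db ha
  have h23 := m24_below hD hP h ha
  have hX := m24_prim_below hD hP h ha
  have hN' := nice_m23 hg h23
  have hPre' := pre_of_group hg
  have hb' := bar_mem hb
  obtain ⟨p, hp, q, hq, hpq⟩ :=
    (nice_m22 (hN'.group_Db hb') (m23_below hg h23 hb')).pair
  have liftc : ∀ r ∈ Db (Db D a) (bar hb), ∃ c, ∃ hc : c ∈ nbrs D a,
      ∃ hc' : bar hc ∈ nbrs (Db D a) (bar hb), r = bar hc' ∧ c ≠ b ∧ Commute c b := by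
    intro r hr
    obtain ⟨_, hs, rfl⟩ := exists_bar hr
    obtain ⟨c, hc, rfl⟩ := exists_bar hs.1
    exact ⟨c, hc, hs, rfl, fun e => hs.2.1 (by subst e; rfl),
      ((commute_bar hPre hb hc).1 hs.2.2).symm⟩
  refine ⟨?_, fun M hMc hMab hMn x hx => ?_⟩
  · obtain ⟨c, hc, -, -, hcb, hcb'⟩ := liftc p hp
    exact ⟨c, hc.1, hc.2.1, hcb, hc.2.2.symm, hcb'⟩
  have toH : ∀ {y : G}, Commute y a → y ∈ Hd D a := fun {y} hy => by
    rw [m24_gate hD hP h ha]; exact Subgroup.mem_centralizer_singleton_iff.2 hy.eq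
  have toK : ∀ {y : ↥(Hd D a)}, Commute (y : G) b → (y : Qd D a) ∈ Hd (Db D a) (bar hb) :=
    fun {y} hy => by
      rw [m23_gate hg hX h23 hb']
      exact Subgroup.mem_centralizer_singleton_iff.2 (commute_mk y hb hy).eq
  let θ : ↥M →* Qd (Db D a) (bar hb) := (QuotientGroup.mk' _).comp
    (((QuotientGroup.mk' (Subgroup.center ↥(Hd D a))).comp
      (Subgroup.inclusion (fun y hy => toH (hMc y hy).1 : M ≤ Hd D a))).codRestrict
      (Hd (Db D a) (bar hb)) fun y => toK (hMc y y.2).2)
  haveI := m22_simple (hN'.group_Db hb') (m23_prim_below hg h23 hX hb') (m23_below hg h23 hb')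
  have hθ : θ.range.Normal := by
    rw [← Subgroup.normalizer_eq_top_iff, eq_top_iff, ← (hN'.group_Db hb').2.2, Subgroup.closure_le]
    intro r hr
    obtain ⟨c, hc, hc', rfl, hcb, hcb'⟩ := liftc r hr
    have hsq : bar hc' * bar hc' = 1 := Trans3.sq_one (hN'.group_Db hb').1 (bar_mem hc')
    have hone : ∀ q ∈ θ.range, bar hc' * q * (bar hc')⁻¹ ∈ θ.range := by
      rintro _ ⟨⟨y, hy⟩, rfl⟩
      exact ⟨⟨_, hMn c hc.1 hc.2.1 hcb hc.2.2.symm hcb' y hy⟩, rfl⟩
    rw [SetLike.mem_coe, Subgroup.mem_normalizer_iff]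
    intro q
    refine ⟨hone q, fun hq => ?_⟩
    have := hone _ hq
    rw [inv_eq_of_mul_eq_one_right hsq] at this
    rwa [show bar hc' * (bar hc' * q * bar hc') * bar hc' = (bar hc' * bar hc') * q *
      (bar hc' * bar hc') by group, hsq, one_mul, mul_one] at this
  have hbot : θ.range = ⊥ := by
    refine hθ.eq_bot_or_eq_top.resolve_right fun e => ?_
    obtain ⟨⟨y, hy⟩, ey⟩ := e.ge (Subgroup.mem_top p)
    obtain ⟨⟨y', hy'⟩, ey'⟩ := e.ge (Subgroup.mem_top q)
    apply hpq
    rw [← ey, ← ey']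
    exact (show Commute (⟨y, hy⟩ : ↥M) ⟨y', hy'⟩ from Subtype.ext (hMab y hy y' hy').eq).map θ
  have h1 : θ ⟨x, hx⟩ = 1 := by
    rw [← Subgroup.mem_bot, ← hbot]; exact ⟨_, rfl⟩
  obtain ⟨k, ek⟩ : ∃ k : ↥(Hd D a), k = ⟨x, toH (hMc x hx).1⟩ := ⟨_, rfl⟩
  have hkv : (k : G) = x := by rw [ek]
  rcases m23_center_mem hg hX h23 hb' ((QuotientGroup.eq_one_iff _).1 h1) with e | e
  · rcases m24_center_mem hD hP h ha (x := k)
      ((QuotientGroup.eq_one_iff k).1 (by rw [ek]; exact e)) with e' | e'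
    · exact Or.inl (hkv.symm.trans e')
    · exact Or.inr (Or.inl (hkv.symm.trans e'))
  · rcases m24_center_mem hD hP h ha (x := (⟨b, Subgroup.subset_closure hb⟩ : ↥(Hd D a))⁻¹ * k)
      (QuotientGroup.eq.1 (by rw [ek]; exact e.symm)) with e' | e' <;>
      rw [Subgroup.coe_mul, Subgroup.coe_inv, hkv, inv_mul_eq_iff_eq_mul] at e'
    · exact Or.inr (Or.inr (Or.inl (e'.trans (mul_one b))))
    · exact Or.inr (Or.inr (Or.inr (e'.trans hb.2.2.symm.eq)))

/-- A group of type M(24) has only the one class of 3-transpositions generating it. -/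
theorem m24_unique (h : Cfsg.IsOfTypeM24 G D) {D' : Set G}
    (hD' : Cfsg.IsThreeTranspositionClass D') : D' = D := by
  have hN := nice_m24 hD hP h
  have hC := primitive_isClass hD hP
  obtain ⟨v, hv, hv'⟩ := hD'.2.1
  have hU : ThreeSet D' := ⟨hD'.1, fun g u hu => class_conj_mem hD' g hu⟩
  have hvi := inv_eq hD'.1 hv
  obtain ⟨t, ht, hvt⟩ : ∃ t ∈ D, Commute v t := by
    rcases fix_or_swap hD ⟨_, hN.pair.choose_spec.1⟩ (Trans3.sq_one hD'.1 hv) with
      h' | ⟨t, ht, hne, hc⟩
    · exact h'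
    exact swap_fix hD hU (hN.noRel_succ ht (noRel_two' (hN.group_Db ht)))
      (m24_noRel hD hP h).1 (fun a b ha hb => m24_pair_abelian hD hP h ha hb) hv ht hne hc
  obtain ⟨d, hd⟩ : ∃ d, d ∈ D := ⟨t, ht⟩
  have hnc : v ∉ commutator G := by
    intro hvc
    refine m24_not_commutator hD hP h hd ?_
    have hle : Subgroup.closure D' ≤ commutator G := by
      rw [Subgroup.closure_le]
      intro u hu
      obtain ⟨g, rfl⟩ := class_exists_conj hD' hv hu
      exact (inferInstance : (commutator G).Normal).conj_mem v hvc g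
    exact hle (hD'.2.2.symm ▸ Subgroup.mem_top d)
  haveI := m23_simple (hN.group_Db ht) (m24_prim_below hD hP h ht) (m24_below hD hP h ht)
  have hvD : v ∈ D := by
    rcases step_down hN ht (U := D') hU hv hvt
        (fun x hx => by
          rw [m24_gate hD hP h ht]; exact Subgroup.mem_centralizer_singleton_iff.2 hx.eq)
        (fun x hx => m24_center_mem hD hP h ht hx)
        (fun W hW => m23_unique (hN.group_Db ht) (m24_prim_below hD hP h ht) (m24_below hD hP h ht) hW)
      with rfl | ⟨b, hb, rfl | rfl⟩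
    · exact ht
    · exact hb.1
    · refine absurd ?_ hnc
      have := congr_commutator hC ht hb.1
      rwa [inv_eq hD.1 ht] at this
  rw [hv']
  ext u
  refine ⟨fun hu => ?_, fun hu => ?_⟩
  · obtain ⟨g, rfl⟩ := isConj_iff.1 hu
    exact hD.2.1 g v hvD
  · obtain ⟨g, rfl⟩ := hP.1 v hvD u hu
    exact isConj_iff.2 ⟨g, rfl⟩

end Types

end CfsgLib.Trans3.Fi
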