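import Cfsg.Agent.Lib.Trans3.Fi.InvolLift
import Cfsg.Agent.Lib.Trans3.Fi.M22Order
import Cfsg.Agent.Lib.Trans3.Fi.Unique

/-!
A group of type M(22) has three classes of involutions.
-/

set_option autoImplicit false
set_option linter.unusedSectionVars false

namespace CfsgLib.Trans3.Fi

variable {G : Type*} [Group G] [Finite G] {D : Set G}
variable (hD : Cfsg.IsThreeTranspositionGroup D) (hP : Cfsg.IsPrimitiveUnderConj D)
variable (h : Cfsg.IsOfTypeM22 G D)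
include hD hP h

theorem m22_center_mem' {a : G} (ha : a ∈ D) {x : ↥(Hd D a)}
    (hx : x ∈ Subgroup.center ↥(Hd D a)) : (x : G) = 1 ∨ (x : G) = a :=
  Up.center_mem (nice_m22 hD h) hP
    (fun _ hb => lvl_u6 (m22_isU6 hD h hb) ((nice_m22 hD h).group_Db hb)) ha hx

/-- Every involution fixes a member. -/
theorem m22_fixed {x : G} (hx : x * x = 1) : ∃ a ∈ D, Commute x a := by
  haveI := m22_simple hD hP h
  obtain ⟨a₀, -, b₀, -, hab⟩ := (nice_m22 hD h).pair
  exact exists_fixed hD (m := 877) (by rw [m22_card_D hD hP h]) ⟨a₀, b₀, hab⟩ hx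

/-- Every involution is a product of at most three commuting members. -/
theorem m22_invol {x : G} (hx1 : x ≠ 1) (hx2 : x * x = 1) :
    ∃ m l, 1 ≤ m ∧ m ≤ 3 ∧ Fac D m x l := by
  classical
  have hN := nice_m22 hD h
  obtain ⟨a, ha, hxa⟩ := m22_fixed hD hP h hx2
  have hx : x ∈ Hd D a := by
    rw [m22_gate hD hP h ha]; exact Subgroup.mem_centralizer_singleton_iff.2 hxa.eq
  have hcm := fun (z : ↥(Hd D a)) hz => m22_center_mem' hD hP h ha (x := z) hz
  rcases classify_lift hN ha hcm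
      (R := fun p q r => ∃ t₁ t₂ t₃ s₁ s₂ s₃, Six (Db D a) [p, q, r, t₁, t₂, t₃] ∧
        Six (Db D a) [p, q, r, s₁, s₂, s₃] ∧ s₁ ∉ [t₁, t₂, t₃])
      (fun y hy hy2 => by
        rcases u6_invol (m22_isU6 hD h ha) (hN.group_Db ha) hy hy2 with e | e |
          ⟨p, q, r, t₁, t₂, t₃, s₁, s₂, s₃, e, h1, h2, h3⟩
        · exact Or.inl e
        · exact Or.inr (Or.inl e)
        · refine Or.inr (Or.inr ⟨p, q, r, e, ?_, t₁, t₂, t₃, s₁, s₂, s₃, h1, h2, h3⟩)
          obtain ⟨n1, n2, n3, -⟩ := h1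
          refine ⟨?_, rfl, fun u hu => n2 u (List.mem_append_left [t₁, t₂, t₃] hu),
            fun u hu v hv => n3 u (List.mem_append_left [t₁, t₂, t₃] hu) v
              (List.mem_append_left [t₁, t₂, t₃] hv), by simp [mul_assoc]⟩
          exact (List.nodup_append'.1 (show ([p, q, r] ++ [t₁, t₂, t₃]).Nodup from n1)).1)
      hx hx1 hx2 with e | ⟨b, c, d, hb, hc, hd, hf, ex, T₁, T₂, T₃, S₁, S₂, S₃, h1, h2, h3⟩
  · exact e
  obtain ⟨t₁, t₂, t₃, m₁, m₂, m₃, et₁, et₂, et₃, hdis, -, ht⟩ := six_lift hN ha hcm hb hc hd hf h1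
  rcases ht with ht | ht
  swap
  · exact ⟨3, _, by norm_num, le_rfl, ex ▸ ht⟩
  obtain ⟨s₁, s₂, s₃, n₁, n₂, n₃, es₁, es₂, es₃, hdis', -, hs⟩ := six_lift hN ha hcm hb hc hd hf h2
  rcases hs with hs | hs
  swap
  · exact ⟨3, _, by norm_num, le_rfl, ex ▸ hs⟩
  -- three factorisations of `b c d` are too many
  exfalso
  obtain ⟨hn, -, hmem, hco, -⟩ := hf
  simp only [List.nodup_cons, List.mem_cons, List.not_mem_nil, or_false, not_or] at hn
  obtain ⟨u₁, u₂, u₃, -, -, huniq⟩ := m22_line hD hP h (a := b) (b := c) (c := d) hb.1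
    ⟨hc.1, Ne.symm hn.1.1, hco b (by simp) c (by simp)⟩
    ⟨hd.1, Ne.symm hn.1.2, hco b (by simp) d (by simp)⟩ hn.2.1 (hco c (by simp) d (by simp))
  have hmem' : s₁ ∈ [t₁, t₂, t₃] :=
    (huniq _ ht hdis s₁).2 ((huniq _ hs hdis' s₁).1 (by simp))
  refine h3 ?_
  simp only [List.mem_cons, List.not_mem_nil, or_false] at hmem' ⊢
  rw [← es₁, ← et₁, ← et₂, ← et₃]
  rcases hmem' with e | e | e <;> subst e
  exacts [Or.inl rfl, Or.inr (Or.inl rfl), Or.inr (Or.inr rfl)]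

theorem m22_tuple_pair : TupleConj D 2 :=
  tupleConj_succ (nice_m22 hD h) hP
    (fun _ hb => lvl_u6 (m22_isU6 hD h hb) ((nice_m22 hD h).group_Db hb))
    fun _ ha => tupleConj_one
      (lvl_u6 (m22_isU6 hD h ha) ((nice_m22 hD h).group_Db ha)).prim.1

theorem m22_tuple_triple : TupleConj D 3 := by
  intro l l' hl hl' hn hn' hm hm' hc hc'
  match l, l', hl, hl' with
  | [a, b, c], [a', b', c'], _, _ =>
    simp only [List.nodup_cons, List.mem_cons, List.not_mem_nil, or_false, not_or] at hn hn'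
    obtain ⟨g, g1, g2, g3⟩ := triple_conj hD hP h (hm a (by simp))
      ⟨hm b (by simp), Ne.symm hn.1.1, hc a (by simp) b (by simp)⟩
      ⟨hm c (by simp), Ne.symm hn.1.2, hc a (by simp) c (by simp)⟩
      ⟨hm c (by simp), Ne.symm hn.2.1, hc b (by simp) c (by simp)⟩ (hm' a' (by simp))
      ⟨hm' b' (by simp), Ne.symm hn'.1.1, hc' a' (by simp) b' (by simp)⟩
      ⟨hm' c' (by simp), Ne.symm hn'.1.2, hc' a' (by simp) c' (by simp)⟩
      ⟨hm' c' (by simp), Ne.symm hn'.2.1, hc' b' (by simp) c' (by simp)⟩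
    exact ⟨g, by simp [g1, g2, g3]⟩

omit hP in
theorem m22_noRel_le {k : ℕ} (h1 : 1 ≤ k) (h5 : k ≤ 5) : NoRel D k := by
  obtain ⟨n3, n4, n5⟩ := m22_noRel hD h
  interval_cases k
  exacts [noRel_one hD, noRel_two' hD, n3, n4, n5]

omit hP in
theorem m22_clique : ∃ a b c : G, Fac D 3 (a * b * c) [a, b, c] := by
  obtain ⟨a, ha, -⟩ := (nice_m22 hD h).pair
  obtain ⟨b, hb, c, hc, hbc, hcomm⟩ := m22_pair hD h ha
  exact ⟨a, b, c, by simp [Ne.symm hb.2.1, Ne.symm hc.2.1, hbc], rfl, by simp [ha, hb.1, hc.1],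
    by simp [hb.2.2, hc.2.2, hcomm, hb.2.2.symm, hc.2.2.symm, hcomm.symm], by simp [mul_assoc]⟩

end CfsgLib.Trans3.Fi
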