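import Cfsg.Agent.Lib.Trans3.Fi.U6Count
import Cfsg.Agent.Lib.Trans3.Fi.Lvl

/-!
Numbers of transvections of `PSU₆(2)` commuting with two orthogonal points (53), with a hyperbolic
pair (45), and with a hyperbolic pair and a common neighbour of it (13).
-/

set_option autoImplicit false
set_option linter.unusedSectionVars false
set_option linter.unusedSimpArgs false

namespace CfsgLib.Trans3.Fi

open Matrix CfsgLib.MaxSub CfsgLib.Classical CfsgLib.Trans3.TvSU

/-- The members commuting with all elements of a list. -/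
abbrev meet {Y : Type*} [Group Y] (D : Set Y) (l : List Y) : Set Y :=
  {e | e ∈ D ∧ ∀ v ∈ l, Commute e v}

theorem meet_conj {Y : Type*} [Group Y] {D : Set Y} (hD : Cfsg.IsThreeTranspositionGroup D) (g : Y)
    (l : List Y) :
    (meet D (l.map fun v => g * v * g⁻¹)).ncard = (meet D l).ncard := by
  have h : meet D (l.map fun v => g * v * g⁻¹) = (MulAut.conj g) '' meet D l := by
    ext e
    constructor
    · rintro ⟨he, hc⟩
      refine ⟨g⁻¹ * e * g, ⟨by simpa using hD.2.1 g⁻¹ e he, fun v hv => ?_⟩, by simp [mul_assoc]⟩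
      rw [← commute_conj_iff g, show g * (g⁻¹ * e * g) * g⁻¹ = e by group]
      exact hc _ (List.mem_map.2 ⟨v, hv, rfl⟩)
    · rintro ⟨e, ⟨he, hc⟩, rfl⟩
      refine ⟨hD.2.1 g e he, fun v hv => ?_⟩
      obtain ⟨u, hu, rfl⟩ := List.mem_map.1 hv
      exact (commute_conj_iff g e u).2 (hc u hu)
  rw [h, Set.ncard_image_of_injective _ (MulAut.conj g).injective]

section Model

variable {F : Type*} [Field F] [Fintype F] (hF : Fintype.card F = 2 ^ 2)
include hF

theorem card_iso_two : Nat.card {v : Fin 2 → F // Cfsg.hermForm 2 F 2 v v = 0} = 10 := by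
  have h := card_herm_zero_int hF 2
  norm_num at h
  have : (Nat.card {v : Fin 2 → F // Cfsg.hermForm 2 F 2 v v = 0} : ℤ) = 10 := by linarith
  exact_mod_cast this

variable {Y : Type*} [Group Y] {D : Set Y} (f : ↥(Cfsg.SU 6 F 2) →* Y)
  (hf : Function.Surjective f) (hk : f.ker = Subgroup.center ↥(Cfsg.SU 6 F 2))
  (hD : Cfsg.IsThreeTranspositionGroup D)
include hf hk hD

theorem meet_card {l : List (Fin 6 → F)} (hl : ∀ v ∈ l, v ≠ 0 ∧ hh v v = 0) {N : ℕ}
    (hN : Nat.card {x : Fin 6 → F // hh x x = 0 ∧ ∀ v ∈ l, hh x v = 0} = N) :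
    3 * (meet D (l.map (pt hF f))).ncard + 1 = N := by
  classical
  rw [← Nat.card_coe_set_eq, ← card_vectors hF f hf hk hD (S := meet D (l.map (pt hF f)))
    fun e he => he.1, ← hN, ← card_ne (fun x : Fin 6 → F => hh x x = 0 ∧ ∀ v ∈ l, hh x v = 0) 0
    ⟨hh_zero_left hF 0, fun v _ => hh_zero_left hF v⟩]
  congr 1
  refine Nat.card_congr (Equiv.subtypeEquivRight fun x => ?_)
  constructor
  · rintro ⟨⟨x0, xx⟩, -, hc⟩
    exact ⟨x0, xx, fun v hv =>
      (pt_commute hF f hk x0 (hl v hv).1 xx (hl v hv).2).1 (hc _ (List.mem_map.2 ⟨v, hv, rfl⟩))⟩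
  · rintro ⟨x0, xx, hx⟩
    refine ⟨⟨x0, xx⟩, pt_mem hF f hf hk hD x0 xx, fun e he => ?_⟩
    obtain ⟨v, hv, rfl⟩ := List.mem_map.1 he
    exact (pt_commute hF f hk x0 (hl v hv).1 xx (hl v hv).2).2 (hx v hv)

theorem meets_model : ∃ a b c u : Y, a ∈ D ∧ b ∈ D ∧ c ∈ D ∧ u ∈ D ∧ a ≠ b ∧ Commute a b ∧
    ¬ Commute a c ∧ Commute u a ∧ Commute u c ∧ (meet D [a, b]).ncard = 53 ∧
    (meet D [a, c]).ncard = 45 ∧ (meet D [a, c, u]).ncard = 13 := by
  classical
  obtain ⟨ω, hω⟩ := exists_omega hF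
  have two : (2 : F) = 0 := by rw [← one_add_one_eq_two]; exact add_self hF 1
  have hω0 : ω ≠ 0 := fun h => by rw [h] at hω; simp at hω
  have w3 := cube_one hF hω0
  have hsum : ∀ u v : Fin 6 → F, hh u v = u 0 * v 0 ^ 2 + u 1 * v 1 ^ 2 + u 2 * v 2 ^ 2 +
      u 3 * v 3 ^ 2 + u 4 * v 4 ^ 2 + u 5 * v 5 ^ 2 := fun u v => by
    show ∑ i, u i * v i ^ 2 = _
    rw [Fin.sum_univ_six]
  have h4 : ∀ w : Fin 4 → F, Cfsg.hermForm 4 F 2 w w =
      w 0 * w 0 ^ 2 + w 1 * w 1 ^ 2 + w 2 * w 2 ^ 2 + w 3 * w 3 ^ 2 := fun w => by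
    show ∑ i, w i * w i ^ 2 = _
    rw [Fin.sum_univ_four]
  have h2 : ∀ w : Fin 2 → F, Cfsg.hermForm 2 F 2 w w = w 0 * w 0 ^ 2 + w 1 * w 1 ^ 2 := fun w => by
    show ∑ i, w i * w i ^ 2 = _
    rw [Fin.sum_univ_two]
  obtain ⟨p, ep⟩ : ∃ p : Fin 6 → F, p = ![1, 1, 0, 0, 0, 0] := ⟨_, rfl⟩
  obtain ⟨q, eq'⟩ : ∃ q : Fin 6 → F, q = ![0, 0, 1, 1, 0, 0] := ⟨_, rfl⟩
  obtain ⟨r, er⟩ : ∃ r : Fin 6 → F, r = ![1, ω, 0, 0, 0, 0] := ⟨_, rfl⟩
  have xp : ∀ x, hh x p = x 0 + x 1 := fun x => by simp [hsum, ep]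
  have xq : ∀ x, hh x q = x 2 + x 3 := fun x => by simp [hsum, eq']
  have xr : ∀ x, hh x r = x 0 + x 1 * ω ^ 2 := fun x => by simp [hsum, er]
  have hp : p ≠ 0 ∧ hh p p = 0 := ⟨fun h => by simpa [ep] using congrFun h 0, by
    rw [xp]; simp [ep, add_self hF]⟩
  have hq : q ≠ 0 ∧ hh q q = 0 := ⟨fun h => by simpa [eq'] using congrFun h 2, by
    rw [xq]; simp [eq', add_self hF]⟩
  have hr : r ≠ 0 ∧ hh r r = 0 := ⟨fun h => by simpa [er] using congrFun h 0, by
    rw [xr]; simp [er]; linear_combination w3 + two⟩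
  have hpq : hh p q = 0 := by rw [xq]; simp [ep]
  have hpr : hh p r ≠ 0 := by
    rw [xr]
    simp only [ep, Matrix.cons_val_zero, Matrix.cons_val_one, one_mul]
    intro h
    have : ω = 0 := by linear_combination hω - h + two
    exact hω0 this
  have hpne : pt hF f p ≠ pt hF f q := by
    intro h
    obtain ⟨a, -, ha⟩ := pt_eq hF f hk hp.1 hp.2 hq.2 h
    simpa [ep, eq'] using congrFun ha 0
  have eqn : ∀ s : F, ∀ t : F, s + t = 0 → t = s := fun s t h => by
    linear_combination h - add_self hF s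
  have hpr0 : ∀ s t : F, s + t = 0 → s + t * ω ^ 2 = 0 → s = 0 ∧ t = 0 := by
    intro s t h1 h1'
    have ht : t * ω = 0 := by
      linear_combination t * hω - h1' + h1 - (t * ω ^ 2) * two + (t * ω ^ 2) * two
    have ht0 : t = 0 := (mul_eq_zero.1 ht).resolve_right hω0
    exact ⟨by rw [ht0, add_zero] at h1; exact h1, ht0⟩
  -- the three sets of vectors
  have c2 : Nat.card {x : Fin 6 → F // hh x x = 0 ∧ ∀ v ∈ [p, q], hh x v = 0} = 160 := by
    let e : {x : Fin 6 → F // hh x x = 0 ∧ ∀ v ∈ [p, q], hh x v = 0} ≃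
        F × F × {u : Fin 2 → F // Cfsg.hermForm 2 F 2 u u = 0} :=
      { toFun := fun x => (x.1 0, x.1 2, ⟨![x.1 4, x.1 5], by
          have a1 := eqn _ _ ((xp x.1).symm.trans (x.2.2 p (by simp)))
          have a2 := eqn _ _ ((xq x.1).symm.trans (x.2.2 q (by simp)))
          have hx := x.2.1
          rw [hsum, a1, a2] at hx
          rw [h2]
          simp only [Matrix.cons_val_zero, Matrix.cons_val_one]
          linear_combination hx - (x.1 0 * x.1 0 ^ 2 + x.1 2 * x.1 2 ^ 2) * two⟩)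
        invFun := fun z => ⟨![z.1, z.1, z.2.1, z.2.1, z.2.2.1 0, z.2.2.1 1], by
          have hz := z.2.2.2
          rw [h2] at hz
          refine ⟨?_, ?_⟩
          · rw [hsum]
            simp only [Matrix.cons_val_zero, Matrix.cons_val_one, Matrix.cons_val]
            linear_combination hz + (z.1 * z.1 ^ 2 + z.2.1 * z.2.1 ^ 2) * two
          · intro v hv
            simp only [List.mem_cons, List.not_mem_nil, or_false] at hv
            rcases hv with rfl | rfl
            · rw [xp]; simp [add_self hF]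
            · rw [xq]; simp [add_self hF]⟩
        left_inv := fun x => by
          have a1 := eqn _ _ ((xp x.1).symm.trans (x.2.2 p (by simp)))
          have a2 := eqn _ _ ((xq x.1).symm.trans (x.2.2 q (by simp)))
          refine Subtype.ext (funext fun i => ?_)
          fin_cases i <;> simp [a1, a2]
        right_inv := fun z => by
          refine Prod.ext rfl (Prod.ext rfl (Subtype.ext (funext fun i => ?_)))
          fin_cases i <;> simp }
    rw [Nat.card_congr e, Nat.card_prod, Nat.card_prod, card_iso_two hF,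
      Nat.card_eq_fintype_card (α := F), hF]
    norm_num
  have cp : Nat.card {x : Fin 6 → F // hh x x = 0 ∧ ∀ v ∈ [p, r], hh x v = 0} = 136 := by
    let e : {x : Fin 6 → F // hh x x = 0 ∧ ∀ v ∈ [p, r], hh x v = 0} ≃
        {u : Fin 4 → F // Cfsg.hermForm 4 F 2 u u = 0} :=
      { toFun := fun x => ⟨![x.1 2, x.1 3, x.1 4, x.1 5], by
          obtain ⟨a1, a2⟩ := hpr0 _ _ ((xp x.1).symm.trans (x.2.2 p (by simp)))
            ((xr x.1).symm.trans (x.2.2 r (by simp)))
          have hx := x.2.1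
          rw [hsum, a1, a2] at hx
          rw [h4]
          simp only [Matrix.cons_val_zero, Matrix.cons_val_one, Matrix.cons_val]
          linear_combination hx⟩
        invFun := fun z => ⟨![0, 0, z.1 0, z.1 1, z.1 2, z.1 3], by
          have hz := z.2
          rw [h4] at hz
          refine ⟨?_, ?_⟩
          · rw [hsum]
            simp only [Matrix.cons_val_zero, Matrix.cons_val_one, Matrix.cons_val]
            linear_combination hz
          · intro v hv
            simp only [List.mem_cons, List.not_mem_nil, or_false] at hv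
            rcases hv with rfl | rfl
            · rw [xp]; simp
            · rw [xr]; simp⟩
        left_inv := fun x => by
          obtain ⟨a1, a2⟩ := hpr0 _ _ ((xp x.1).symm.trans (x.2.2 p (by simp)))
            ((xr x.1).symm.trans (x.2.2 r (by simp)))
          refine Subtype.ext (funext fun i => ?_)
          fin_cases i <;> simp [a1, a2]
        right_inv := fun z => by
          refine Subtype.ext (funext fun i => ?_)
          fin_cases i <;> simp }
    rw [Nat.card_congr e, card_iso_four hF]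
  have c3 : Nat.card {x : Fin 6 → F // hh x x = 0 ∧ ∀ v ∈ [p, r, q], hh x v = 0} = 40 := by
    let e : {x : Fin 6 → F // hh x x = 0 ∧ ∀ v ∈ [p, r, q], hh x v = 0} ≃
        F × {u : Fin 2 → F // Cfsg.hermForm 2 F 2 u u = 0} :=
      { toFun := fun x => (x.1 2, ⟨![x.1 4, x.1 5], by
          obtain ⟨a1, a2⟩ := hpr0 _ _ ((xp x.1).symm.trans (x.2.2 p (by simp)))
            ((xr x.1).symm.trans (x.2.2 r (by simp)))
          have a3 := eqn _ _ ((xq x.1).symm.trans (x.2.2 q (by simp)))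
          have hx := x.2.1
          rw [hsum, a1, a2, a3] at hx
          rw [h2]
          simp only [Matrix.cons_val_zero, Matrix.cons_val_one]
          linear_combination hx - (x.1 2 * x.1 2 ^ 2) * two⟩)
        invFun := fun z => ⟨![0, 0, z.1, z.1, z.2.1 0, z.2.1 1], by
          have hz := z.2.2
          rw [h2] at hz
          refine ⟨?_, ?_⟩
          · rw [hsum]
            simp only [Matrix.cons_val_zero, Matrix.cons_val_one, Matrix.cons_val]
            linear_combination hz + (z.1 * z.1 ^ 2) * two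
          · intro v hv
            simp only [List.mem_cons, List.not_mem_nil, or_false] at hv
            rcases hv with rfl | rfl | rfl
            · rw [xp]; simp
            · rw [xr]; simp
            · rw [xq]; simp [add_self hF]⟩
        left_inv := fun x => by
          obtain ⟨a1, a2⟩ := hpr0 _ _ ((xp x.1).symm.trans (x.2.2 p (by simp)))
            ((xr x.1).symm.trans (x.2.2 r (by simp)))
          have a3 := eqn _ _ ((xq x.1).symm.trans (x.2.2 q (by simp)))
          refine Subtype.ext (funext fun i => ?_)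
          fin_cases i <;> simp [a1, a2, a3]
        right_inv := fun z => by
          refine Prod.ext rfl (Subtype.ext (funext fun i => ?_))
          fin_cases i <;> simp }
    rw [Nat.card_congr e, Nat.card_prod, card_iso_two hF, Nat.card_eq_fintype_card (α := F), hF]
    norm_num
  have k2 := meet_card hF f hf hk hD (l := [p, q]) (by simp [hp, hq]) c2
  have kp := meet_card hF f hf hk hD (l := [p, r]) (by simp [hp, hr]) cp
  have k3 := meet_card hF f hf hk hD (l := [p, r, q]) (by simp [hp, hq, hr]) c3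
  simp only [List.map_cons, List.map_nil] at k2 kp k3
  have hrq : hh q r = 0 := by rw [xr]; simp [eq']
  exact ⟨pt hF f p, pt hF f q, pt hF f r, pt hF f q, pt_mem hF f hf hk hD hp.1 hp.2,
    pt_mem hF f hf hk hD hq.1 hq.2, pt_mem hF f hf hk hD hr.1 hr.2,
    pt_mem hF f hf hk hD hq.1 hq.2, hpne, (pt_commute hF f hk hp.1 hq.1 hp.2 hq.2).2 hpq,
    fun h => hpr ((pt_commute hF f hk hp.1 hr.1 hp.2 hr.2).1 h),
    ((pt_commute hF f hk hp.1 hq.1 hp.2 hq.2).2 hpq).symm,
    (pt_commute hF f hk hq.1 hr.1 hq.2 hr.2).2 hrq, by omega, by omega, by omega⟩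

end Model

section Wrap

variable {G : Type*} [Group G] [Finite G] {D : Set G}
variable (hU : IsU6 G) (hD : Cfsg.IsThreeTranspositionGroup D)
include hU hD

theorem u6_meet_pair {a c : G} (ha : a ∈ D) (hc : c ∈ D) (hac : ¬ Commute a c) :
    (meet D [a, c]).ncard = 45 ∧
      ∀ u ∈ D, Commute u a → Commute u c → (meet D [a, c, u]).ncard = 13 := by
  obtain ⟨F, _, _, f, hF, hf, hk⟩ := exists_model hU hD
  obtain ⟨a₀, -, c₀, u₀, ha₀, -, hc₀, hu₀, -, -, hn₀, hua, huc, -, h45, h13⟩ :=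
    meets_model hF f hf hk hD
  have hL := lvl_u6 hU hD
  obtain ⟨g₁, hg₁⟩ := hL.prim.1 a₀ ha₀ a ha
  obtain ⟨g₂, hg₂, hg₂'⟩ := trans_noncomm hD hL.prim hL.pairc ha (hD.2.1 g₁ c₀ hc₀)
    (fun h' => hn₀ (by rw [← hg₁] at h'; exact (commute_conj_iff g₁ a₀ c₀).1 h')) hc hac
  obtain ⟨g, eg⟩ : ∃ g, g = g₂ * g₁ := ⟨_, rfl⟩
  have ea : g * a₀ * g⁻¹ = a := by
    rw [eg]; conv_rhs => rw [← hg₂, ← hg₁]
    group
  have ec : g * c₀ * g⁻¹ = c := by rw [eg, ← hg₂']; group
  refine ⟨?_, fun u hu hua' huc' => ?_⟩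
  · rw [← h45, ← meet_conj hD g [a₀, c₀]]
    simp [ea, ec]
  have h1 : Commute a (g * u₀ * g⁻¹) := by
    rw [← ea]; exact (commute_conj_iff g a₀ u₀).2 hua.symm
  have h2 : Commute c (g * u₀ * g⁻¹) := by
    rw [← ec]; exact (commute_conj_iff g c₀ u₀).2 huc.symm
  obtain ⟨k, hk', hku⟩ := hL.transCommon a c _ u ha hc hac (hD.2.1 g u₀ hu₀) h1 h2 hu hua'.symm
    huc'.symm
  have hkc : Commute k a ∧ Commute k c := by
    clear hku
    induction hk' using Subgroup.closure_induction with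
    | mem w hw => exact ⟨hw.2.1.symm, hw.2.2.symm⟩
    | one => exact ⟨Commute.one_left _, Commute.one_left _⟩
    | mul _ _ _ _ x y => exact ⟨x.1.mul_left y.1, x.2.mul_left y.2⟩
    | inv _ _ x => exact ⟨x.1.inv_left, x.2.inv_left⟩
  rw [← h13, ← meet_conj hD g [a₀, c₀, u₀], ← meet_conj hD k ([a₀, c₀, u₀].map _)]
  simp [ea, ec, hku, conj_eq_of_commute hkc.1, conj_eq_of_commute hkc.2]

theorem u6_meet_two {a b : G} (ha : a ∈ D) (hb : b ∈ D) (hab : a ≠ b) (hc : Commute a b) :
    (meet D [a, b]).ncard = 53 := by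
  obtain ⟨F, _, _, f, hF, hf, hk⟩ := exists_model hU hD
  obtain ⟨a₀, b₀, -, -, ha₀, hb₀, -, -, hne₀, hc₀, -, -, -, h53, -, -⟩ := meets_model hF f hf hk hD
  have hL := lvl_u6 hU hD
  obtain ⟨g₁, hg₁⟩ := hL.prim.1 a₀ ha₀ a ha
  obtain ⟨g₂, hg₂, hg₂'⟩ := trans_comm hD hL.prim hL.pairc ha (hD.2.1 g₁ b₀ hb₀)
    (fun e => hne₀ (by rw [← hg₁] at e; exact (mul_left_cancel (mul_right_cancel e)).symm))
    (by rw [← hg₁]; exact (commute_conj_iff g₁ a₀ b₀).2 hc₀) hb hab.symm hc
  rw [← h53, ← meet_conj hD g₁ [a₀, b₀], ← meet_conj hD g₂ ([a₀, b₀].map _)]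
  simp [hg₁, hg₂, hg₂']

end Wrap

end CfsgLib.Trans3.Fi
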