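import Cfsg.Agent.Lib.Trans3.Fi.U6Triple
import Cfsg.Agent.Lib.Trans3.Fi.U6Count

/-!
`PSU₆(2)`: two orthogonal non-commuting pairs, and the largest number of pairwise commuting common
partners of a non-commuting pair.
-/

set_option autoImplicit false
set_option linter.unusedSectionVars false
set_option linter.unusedSimpArgs false

namespace CfsgLib.Trans3.Fi

open Matrix CfsgLib.MaxSub CfsgLib.Classical CfsgLib.Trans3.TvSU

section Model

variable {F : Type*} [Field F] [Fintype F] (hF : Fintype.card F = 2 ^ 2)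
include hF

/-- A vector orthogonal to the isotropic vectors of the perp of two orthogonal hyperbolic pairs is
orthogonal to the whole perp. -/
theorem perp_four {A C U V S : Fin 6 → F} (hAA : hh A A = 0) (hCC : hh C C = 0) (hUU : hh U U = 0)
    (hVV : hh V V = 0) (hAC : hh A C ≠ 0) (hUV : hh U V ≠ 0) (hUA : hh U A = 0) (hUC : hh U C = 0)
    (hVA : hh V A = 0) (hVC : hh V C = 0)
    (hiso : ∀ x, hh x A = 0 → hh x C = 0 → hh x U = 0 → hh x V = 0 → hh x x = 0 → hh x S = 0)
    {y : Fin 6 → F} (yA : hh y A = 0) (yC : hh y C = 0) (yU : hh y U = 0) (yV : hh y V = 0) :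
    hh y S = 0 := by
  rcases hh_self hF y with hyy | hyy
  · exact hiso y yA yC yU yV hyy
  obtain ⟨ω, hω⟩ := exists_omega hF
  obtain ⟨z, zA, zC, zU, zV, zy, zz⟩ :
      ∃ z, hh z A = 0 ∧ hh z C = 0 ∧ hh z U = 0 ∧ hh z V = 0 ∧ hh z y = 0 ∧ hh z z = 1 := by
    by_contra! hno
    let φ : (Fin 6 → F) →ₗ[F] F × F × F × F × F :=
      { toFun := fun z => (hh z A, hh z C, hh z U, hh z V, hh z y)
        map_add' := fun a b => by simp [hh_add_left hF]
        map_smul' := fun c a => by simp [hh_smul_left hF] }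
    have hmem : ∀ z, z ∈ LinearMap.ker φ →
        hh z A = 0 ∧ hh z C = 0 ∧ hh z U = 0 ∧ hh z V = 0 ∧ hh z y = 0 := fun z hz => by
      simpa [φ] using hz
    have hself : ∀ z, z ∈ LinearMap.ker φ → hh z z = 0 := fun z hz => by
      obtain ⟨h1, h2, h3, h4, h5⟩ := hmem z hz
      exact (hh_self hF z).resolve_right (hno z h1 h2 h3 h4 h5)
    have htot : ∀ z w, z ∈ LinearMap.ker φ → w ∈ LinearMap.ker φ → hh z w = 0 := by
      intro z w hz hw
      have e1 := hself _ (add_mem hz hw)
      have e2 := hself _ (add_mem hz (Submodule.smul_mem _ ω hw))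
      simp only [hh_add_left hF, hh_add_right hF, hh_smul_left hF, hh_smul_right hF, hself z hz,
        hself w hw, mul_zero, add_zero, zero_add] at e1 e2
      linear_combination (ω * e1 - e2) - hh z w * hω + hh z w * ω ^ 2 * add_self hF 1
    have hbot : LinearMap.ker φ = ⊥ := by
      rw [Submodule.eq_bot_iff]
      intro z hz
      have hzS : z ∈ Submodule.span F ({A, C, U, V, y} : Set (Fin 6 → F)) := by
        by_contra hzn
        obtain ⟨x, hx, hx'⟩ := exists_hh hF hzn
        have hs : ∀ s ∈ ({A, C, U, V, y} : Set (Fin 6 → F)), hh x s = 0 := fun s hs =>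
          hx s (Submodule.subset_span hs)
        have hxk : x ∈ LinearMap.ker φ := LinearMap.mem_ker.2 (by
          show (hh x A, hh x C, hh x U, hh x V, hh x y) = 0
          simp [hs])
        rw [htot x z hxk hz] at hx'
        exact zero_ne_one hx'
      rw [show ({A, C, U, V, y} : Set (Fin 6 → F)) = {A, C} ∪ {U, V, y} by
        ext; simp; tauto, Submodule.span_union, Submodule.mem_sup] at hzS
      obtain ⟨u, hu, w, hw, rfl⟩ := hzS
      obtain ⟨c₁, c₂, rfl⟩ := Submodule.mem_span_pair.1 hu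
      obtain ⟨c₃, c₄, c₅, rfl⟩ := Submodule.mem_span_triple.1 hw
      obtain ⟨h1, h2, h3, h4, h5⟩ := hmem _ hz
      simp only [hh_add_left hF, hh_smul_left hF, hAA, hCC, hUU, hVV, hUA, hUC, hVA, hVC, yA, yC,
        yU, yV, hyy, hh_symm_zero hF hUA, hh_symm_zero hF hUC, hh_symm_zero hF hVA,
        hh_symm_zero hF hVC, hh_symm_zero hF yA, hh_symm_zero hF yC, hh_symm_zero hF yU,
        hh_symm_zero hF yV, mul_zero, mul_one, add_zero, zero_add, mul_eq_zero] at h1 h2 h3 h4 h5
      have hCA : hh C A ≠ 0 := fun e => hAC (hh_symm_zero hF e)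
      have hVU : hh V U ≠ 0 := fun e => hUV (hh_symm_zero hF e)
      rw [h1.resolve_right hCA, h2.resolve_right hAC, h3.resolve_right hVU, h4.resolve_right hUV,
        h5]
      simp
    have h1 := LinearMap.finrank_range_add_finrank_ker φ
    have h2 : Module.finrank F (LinearMap.range φ) ≤ 5 := by
      simpa using Submodule.finrank_le (LinearMap.range φ)
    rw [hbot, finrank_bot] at h1
    simp at h1
    omega
  have hω0 : ω ≠ 0 := fun h => by rw [h] at hω; simp at hω
  have hω1 : ω - 1 ≠ 0 := fun h => by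
    rw [show ω = 1 by linear_combination h] at hω
    exact one_ne_zero (hω.symm.trans (by rw [one_pow, add_self hF]))
  have yz := hh_symm_zero hF zy
  have j1 := hiso (y + z) (by simp [hh_add_left hF, yA, zA]) (by simp [hh_add_left hF, yC, zC])
    (by simp [hh_add_left hF, yU, zU]) (by simp [hh_add_left hF, yV, zV])
    (by simp [hh_add_left hF, hh_add_right hF, hyy, zz, yz, zy, add_self hF])
  have j2 := hiso (y + ω • z) (by simp [hh_add_left hF, hh_smul_left hF, yA, zA])
    (by simp [hh_add_left hF, hh_smul_left hF, yC, zC])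
    (by simp [hh_add_left hF, hh_smul_left hF, yU, zU])
    (by simp [hh_add_left hF, hh_smul_left hF, yV, zV]) (by
      simp only [hh_add_left hF, hh_add_right hF, hh_smul_left hF, hh_smul_right hF, hyy, zz,
        yz, zy, mul_zero, add_zero, zero_add, mul_one]
      linear_combination cube_one hF hω0 + add_self hF 1)
  rw [hh_add_left hF] at j1
  rw [hh_add_left hF, hh_smul_left hF] at j2
  refine (mul_eq_zero.1 (?_ : (ω - 1) * hh y S = 0)).resolve_left hω1
  linear_combination ω * j1 - j2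

variable {Y : Type*} [Group Y] {D : Set Y} (f : ↥(Cfsg.SU 6 F 2) →* Y)
  (hf : Function.Surjective f) (hk : f.ker = Subgroup.center ↥(Cfsg.SU 6 F 2))
  (hD : Cfsg.IsThreeTranspositionGroup D)
include hf hk hD

theorem pair_hyper {a c u v s : Y} (ha : a ∈ D) (hc : c ∈ D) (hu : u ∈ D) (hv : v ∈ D)
    (hs : s ∈ D) (hac : ¬ Commute a c) (huv : ¬ Commute u v) (ua : Commute u a) (uc : Commute u c)
    (va : Commute v a) (vc : Commute v c) (sa : Commute s a) (sc : Commute s c)
    (h : ∀ e ∈ D, Commute e a → Commute e c → Commute e u → Commute e v → Commute e s) :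
    s = u ∨ s = v ∨ s = u * v * u := by
  obtain ⟨A, hA, hAA, rfl⟩ := exists_pt hF f hf hk hD ha
  obtain ⟨C, hC, hCC, rfl⟩ := exists_pt hF f hf hk hD hc
  obtain ⟨U, hU, hUU, rfl⟩ := exists_pt hF f hf hk hD hu
  obtain ⟨V, hV, hVV, rfl⟩ := exists_pt hF f hf hk hD hv
  obtain ⟨S, hS, hSS, rfl⟩ := exists_pt hF f hf hk hD hs
  refine hyper hF f hf hk hD hu hv hs huv fun e he eu ev => ?_
  obtain ⟨X, hX, hXX, rfl⟩ := exists_pt hF f hf hk hD he
  have hAC : hh A C ≠ 0 := fun e => hac ((pt_commute hF f hk hA hC hAA hCC).2 e)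
  have hUV : hh U V ≠ 0 := fun e => huv ((pt_commute hF f hk hU hV hUU hVV).2 e)
  rw [pt_commute hF f hk hU hA hUU hAA] at ua
  rw [pt_commute hF f hk hU hC hUU hCC] at uc
  rw [pt_commute hF f hk hV hA hVV hAA] at va
  rw [pt_commute hF f hk hV hC hVV hCC] at vc
  rw [pt_commute hF f hk hS hA hSS hAA] at sa
  rw [pt_commute hF f hk hS hC hSS hCC] at sc
  rw [pt_commute hF f hk hX hU hXX hUU] at eu
  rw [pt_commute hF f hk hX hV hXX hVV] at ev
  rw [pt_commute hF f hk hX hS hXX hSS]
  have hCA : hh C A ≠ 0 := fun e => hAC (hh_symm_zero hF e)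
  obtain ⟨X', eX⟩ : ∃ X', X' = X + (hh X C / hh A C) • A + (hh X A / hh C A) • C := ⟨_, rfl⟩
  have h0 := perp_four hF hAA hCC hUU hVV hAC hUV ua uc va vc (S := S) (fun x xA xC xU xV xx => ?_)
    (y := X') ?_ ?_ ?_ ?_
  · rw [eX] at h0
    simpa [hh_add_left hF, hh_smul_left hF, hh_symm_zero hF sa, hh_symm_zero hF sc] using h0
  · by_cases hx : x = 0
    · rw [hx, hh_zero_left hF]
    exact (pt_commute hF f hk hx hS xx hSS).1 (h _ (pt_mem hF f hf hk hD hx xx)
      ((pt_commute hF f hk hx hA xx hAA).2 xA) ((pt_commute hF f hk hx hC xx hCC).2 xC)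
      ((pt_commute hF f hk hx hU xx hUU).2 xU) ((pt_commute hF f hk hx hV xx hVV).2 xV))
  all_goals rw [eX]
  · simp [hh_add_left hF, hh_smul_left hF, hAA, hCA, div_mul_cancel₀, add_self hF]
  · simp [hh_add_left hF, hh_smul_left hF, hCC, hAC, div_mul_cancel₀, add_self hF]
  · simp [hh_add_left hF, hh_smul_left hF, eu, hh_symm_zero hF ua, hh_symm_zero hF uc]
  · simp [hh_add_left hF, hh_smul_left hF, ev, hh_symm_zero hF va, hh_symm_zero hF vc]

theorem pair_width {a c : Y} (ha : a ∈ D) (hc : c ∈ D) (hac : ¬ Commute a c) {E : Set Y}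
    (hE : E ⊆ D) (hEa : ∀ x ∈ E, Commute x a ∧ Commute x c)
    (hco : ∀ x ∈ E, ∀ y ∈ E, Commute x y) : Nat.card E ≤ 5 := by
  classical
  obtain ⟨A, hA, hAA, rfl⟩ := exists_pt hF f hf hk hD ha
  obtain ⟨C, hC, hCC, rfl⟩ := exists_pt hF f hf hk hD hc
  have hAC : hh A C ≠ 0 := fun e => hac ((pt_commute hF f hk hA hC hAA hCC).2 e)
  let T : Set (Fin 6 → F) := {v | (v ≠ 0 ∧ hh v v = 0) ∧ pt hF f v ∈ E}
  have hT : ∀ x ∈ T, ∀ y ∈ T, hh x y = 0 := fun x hx y hy =>
    (pt_commute hF f hk hx.1.1 hy.1.1 hx.1.2 hy.1.2).1 (hco _ hx.2 _ hy.2)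
  have hTA : ∀ x ∈ T, hh x A = 0 ∧ hh x C = 0 := fun x hx =>
    ⟨(pt_commute hF f hk hx.1.1 hA hx.1.2 hAA).1 (hEa _ hx.2).1,
      (pt_commute hF f hk hx.1.1 hC hx.1.2 hCC).1 (hEa _ hx.2).2⟩
  have hperp : ∀ w, (∀ t ∈ T, hh t w = 0) → ∀ x ∈ Submodule.span F T, hh x w = 0 := by
    intro w hw x hx
    induction hx using Submodule.span_induction with
    | mem u hu => exact hw u hu
    | zero => exact hh_zero_left hF w
    | add u v _ _ h1 h2 => rw [hh_add_left hF, h1, h2, add_zero]
    | smul c u _ h1 => rw [hh_smul_left hF, h1, mul_zero]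
  have hWW : ∀ x ∈ Submodule.span F T, ∀ y ∈ Submodule.span F T, hh x y = 0 := fun x hx y hy =>
    hh_symm_zero hF (hperp x (fun t ht => hh_symm_zero hF
      (hperp t (fun s hs => hT s hs t ht) x hx)) y hy)
  have hAnot : A ∉ Submodule.span F T := fun hm => hAC (hperp C (fun t ht => (hTA t ht).2) A hm)
  have hAW : ∀ x ∈ Submodule.span F T, hh x A = 0 := hperp A fun t ht => (hTA t ht).1
  have h3 := span_isotropic_le hF (S := Submodule.span F T ⊔ Submodule.span F {A}) (by
    intro x hx y hy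
    obtain ⟨u, hu, p, hp, rfl⟩ := Submodule.mem_sup.1 hx
    obtain ⟨u', hu', p', hp', rfl⟩ := Submodule.mem_sup.1 hy
    obtain ⟨α, rfl⟩ := Submodule.mem_span_singleton.1 hp
    obtain ⟨β, rfl⟩ := Submodule.mem_span_singleton.1 hp'
    simp [hh_add_left hF, hh_add_right hF, hh_smul_left hF, hh_smul_right hF, hAA, hWW u hu u' hu',
      hAW u hu, hh_symm_zero hF (hAW u' hu')])
  have hlt : Submodule.span F T < Submodule.span F T ⊔ Submodule.span F {A} :=
    lt_of_le_of_ne le_sup_left fun e => hAnot (e ▸ Submodule.mem_sup_right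
      (Submodule.mem_span_singleton_self A))
  have h2 : Module.finrank F (Submodule.span F T) ≤ 2 := by
    have := Submodule.finrank_lt_finrank_of_lt hlt
    omega
  have hcard : Nat.card (Submodule.span F T) ≤ 16 := by
    rw [Module.natCard_eq_pow_finrank (K := F), Nat.card_eq_fintype_card, hF]
    exact (Nat.pow_le_pow_right (by norm_num) h2).trans (by norm_num)
  have h1 := card_vectors hF f hf hk hD hE
  have h4 : Nat.card T + 1 ≤ Nat.card (Submodule.span F T) := by
    rw [← Finite.card_option]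
    refine Nat.card_le_card_of_injective
      (fun o : Option T => o.elim (0 : Submodule.span F T)
        fun v => ⟨v.1, Submodule.subset_span v.2⟩) ?_
    rintro (_ | ⟨v, hv⟩) (_ | ⟨w, hw⟩) h
    · rfl
    · exact absurd (congrArg Subtype.val h).symm hw.1.1
    · exact absurd (congrArg Subtype.val h) hv.1.1
    · simpa using congrArg Subtype.val h
  change Nat.card T = 3 * Nat.card E at h1
  omega

end Model

section Wrap

variable {G : Type*} [Group G] [Finite G] {D : Set G} (hU : IsU6 G)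
  (hD : Cfsg.IsThreeTranspositionGroup D)
include hU hD

/-- A member of the common partners of a pair orthogonal to all common partners of two orthogonal
pairs is on the line of the second. -/
theorem u6_pair_hyper {a c u v s : G} (ha : a ∈ D) (hc : c ∈ D) (hu : u ∈ D) (hv : v ∈ D)
    (hs : s ∈ D) (hac : ¬ Commute a c) (huv : ¬ Commute u v) (ua : Commute u a) (uc : Commute u c)
    (va : Commute v a) (vc : Commute v c) (sa : Commute s a) (sc : Commute s c)
    (h : ∀ e ∈ D, Commute e a → Commute e c → Commute e u → Commute e v → Commute e s) :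
    s = u ∨ s = v ∨ s = u * v * u := by
  obtain ⟨F, _, _, f, hF, hf, hk⟩ := exists_model hU hD
  exact pair_hyper hF f hf hk hD ha hc hu hv hs hac huv ua uc va vc sa sc h

theorem u6_pair_width {a c : G} (ha : a ∈ D) (hc : c ∈ D) (hac : ¬ Commute a c) {E : Set G}
    (hE : E ⊆ D) (hEa : ∀ x ∈ E, Commute x a ∧ Commute x c)
    (hco : ∀ x ∈ E, ∀ y ∈ E, Commute x y) : E.ncard ≤ 5 := by
  obtain ⟨F, _, _, f, hF, hf, hk⟩ := exists_model hU hD
  rw [← Nat.card_coe_set_eq]
  exact pair_width hF f hf hk hD ha hc hac hE hEa hco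

/-- Five pairwise commuting common partners of a non-commuting pair. -/
theorem u6_pair_five {a c : G} (ha : a ∈ D) (hc : c ∈ D) (hac : ¬ Commute a c) :
    ∃ E : Set G, E ⊆ D ∧ (∀ x ∈ E, Commute x a ∧ Commute x c) ∧
      (∀ x ∈ E, ∀ y ∈ E, Commute x y) ∧ E.ncard = 5 := by
  classical
  obtain ⟨A, B, C, E, hq⟩ := u6_quad hU hD ha hc hac
  obtain ⟨hA, aA, cA⟩ := hq.mem A (by simp)
  obtain ⟨hB, aB, cB⟩ := hq.mem B (by simp)
  obtain ⟨hC, aC, cC⟩ := hq.mem C (by simp)
  have hne : A * B * A ≠ C := fun e => hq.ce (e ▸ hq.t₂)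
  obtain ⟨t₁, t₂, t₃, ⟨hnd, hmem, hco, hpr⟩, huniq⟩ :=
    (u6Facts hU hD).line _ _ (self_conj_mem hD hA hB) hC hne hq.t₁
  obtain ⟨l, el⟩ : ∃ l, l = [A * B * A, C, t₁, t₂, t₃] := ⟨_, rfl⟩
  rw [← el] at hnd hmem hco hpr
  have fix : ∀ g, g ∈ D → Commute g (A * B * A) → Commute g C → ∀ x ∈ l, Commute g x := by
    intro g hg g1 g2
    have e1 : MulAut.conj g (A * B * A) = A * B * A := conj_eq_of_commute g1
    have e2 : MulAut.conj g C = C := conj_eq_of_commute g2
    have emap : l.map (MulAut.conj g) = [A * B * A, C, MulAut.conj g t₁, MulAut.conj g t₂,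
        MulAut.conj g t₃] := by
      simp only [el, List.map_cons, List.map_nil, e1, e2]
    have hperm := huniq (MulAut.conj g t₁) (MulAut.conj g t₂) (MulAut.conj g t₃)
      (emap ▸ hnd.map (MulAut.conj g).injective)
      (emap ▸ fun x hx => by
        obtain ⟨y, hy, rfl⟩ := List.mem_map.1 hx
        exact hD.2.1 g y (hmem y hy))
      (emap ▸ fun x hx y hy => by
        obtain ⟨u, hu, rfl⟩ := List.mem_map.1 hx
        obtain ⟨v, hv, rfl⟩ := List.mem_map.1 hy
        exact (hco u hu v hv).map (MulAut.conj g).toMonoidHom)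
      (emap ▸ by rw [← map_list_prod, hpr, map_one])
    have key : ∀ t ∈ [t₁, t₂, t₃], Commute g t := by
      intro t ht
      have h1 : MulAut.conj g t ∈ [t₁, t₂, t₃] := (hperm _).1 (by
        simp only [List.mem_cons, List.not_mem_nil, or_false] at ht ⊢
        rcases ht with rfl | rfl | rfl <;> simp)
      rw [MulAut.conj_apply, self_conj_eq hD.1 hg] at h1
      have hsub : ∀ x ∈ [t₁, t₂, t₃], x ∈ l := fun x hx =>
        el ▸ List.mem_cons_of_mem _ (List.mem_cons_of_mem _ hx)
      by_contra hgt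
      exact hgt (commute_of_commute_mid hD.1 (hmem t (hsub t ht)) hg (fun h' => hgt h'.symm)
        (Commute.refl t) (hco t (hsub t ht) _ (hsub _ h1))).symm
    intro x hx
    rw [el] at hx
    simp only [List.mem_cons, List.not_mem_nil, or_false] at hx
    rcases hx with rfl | rfl | rfl | rfl | rfl
    exacts [g1, g2, key _ (by simp), key _ (by simp), key _ (by simp)]
  refine ⟨{x | x ∈ l}, hmem, fun x hx => ⟨(fix a ha ((aA.mul_right aB).mul_right aA) aC x hx).symm,
    (fix c hc ((cA.mul_right cB).mul_right cA) cC x hx).symm⟩, hco, ?_⟩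
  rw [← List.coe_toFinset, Set.ncard_coe_finset, List.toFinset_card_of_nodup hnd, el]
  rfl

end Wrap

end CfsgLib.Trans3.Fi
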