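import Cfsg.Agent.Lib.Trans3.Fi.U6
import Cfsg.Prelude.Def_FischerSpaces

/-!
The neighbourhood group of a member of a set of 3-transpositions modulo its centre, and what
passes from it to the whole group.
-/

set_option autoImplicit false
set_option linter.unusedSectionVars false

namespace CfsgLib.Trans3.Fi

variable {G : Type*} [Group G]

/-- The members of `D` other than `d` commuting with `d`. -/
abbrev nbrs (D : Set G) (d : G) : Set G := {y : G | y ∈ D ∧ y ≠ d ∧ Commute d y}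

/-- The group they generate. -/
abbrev Hd (D : Set G) (d : G) : Subgroup G := Subgroup.closure (nbrs D d)

/-- The same modulo its centre. -/
abbrev Qd (D : Set G) (d : G) : Type _ := ↥(Hd D d) ⧸ Subgroup.center ↥(Hd D d)

/-- The image of the neighbours. -/
abbrev Db (D : Set G) (d : G) : Set (Qd D d) :=
  (QuotientGroup.mk : ↥(Hd D d) → _) '' {x : ↥(Hd D d) | (x : G) ∈ nbrs D d}

/-- The joint neighbourhood group of two members. -/
abbrev Ld (D : Set G) (d c : G) : Subgroup G := Subgroup.closure (nbrs D d ∩ nbrs D c)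

/-- A group isomorphic to `PSU₆(2)`. -/
def IsU6 (Y : Type*) [Group Y] : Prop :=
  ∃ (F : Type) (_ : Field F) (_ : Fintype F), Fintype.card F = 4 ∧
    Nonempty (Y ≃* Cfsg.PSU 6 F 2)

/-- A class of 3-transpositions without twins in a group with trivial centre and large order. -/
structure Nice (D : Set G) : Prop where
  group : Cfsg.IsThreeTranspositionGroup D
  conj : ∀ a ∈ D, ∀ b ∈ D, ∃ g : G, g * a * g⁻¹ = b
  twins : ∀ a ∈ D, ∀ b ∈ D, (∀ e ∈ D, Commute b e ↔ Commute a e) → a = b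
  center : Subgroup.center G = ⊥
  pair : ∃ a ∈ D, ∃ b ∈ D, ¬ Commute a b
  card : 2 ^ 15 ∣ Nat.card G

/-- What is used of `PSU₆(2)`. -/
structure U6Facts (D : Set G) : Prop extends Nice D where
  three : NoRel D 3
  four : NoRel D 4
  line : ∀ b c : G, b ∈ D → c ∈ D → b ≠ c → Commute b c →
    ∃ t₁ t₂ t₃ : G, ([b, c, t₁, t₂, t₃].Nodup ∧ (∀ a ∈ [b, c, t₁, t₂, t₃], a ∈ D) ∧
        (∀ a ∈ [b, c, t₁, t₂, t₃], ∀ a' ∈ [b, c, t₁, t₂, t₃], Commute a a') ∧
        [b, c, t₁, t₂, t₃].prod = 1) ∧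
      ∀ w₁ w₂ w₃ : G, [b, c, w₁, w₂, w₃].Nodup → (∀ a ∈ [b, c, w₁, w₂, w₃], a ∈ D) →
        (∀ a ∈ [b, c, w₁, w₂, w₃], ∀ a' ∈ [b, c, w₁, w₂, w₃], Commute a a') →
        [b, c, w₁, w₂, w₃].prod = 1 → ∀ x, x ∈ [w₁, w₂, w₃] ↔ x ∈ [t₁, t₂, t₃]
  fixed : ∀ a y : G, a ∈ D → (∀ e ∈ D, Commute e a → Commute y e) → y = 1 ∨ y = a

theorem u6Facts {D : Set G} (hU : IsU6 G) (hD : Cfsg.IsThreeTranspositionGroup D) :
    U6Facts D := by
  obtain ⟨F, _, _, hF4, ⟨e⟩⟩ := hU
  have hF : Fintype.card F = 2 ^ 2 := hF4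
  let f : ↥(Cfsg.SU 6 F 2) →* G := e.symm.toMonoidHom.comp (QuotientGroup.mk' _)
  have hf : Function.Surjective f := e.symm.surjective.comp (QuotientGroup.mk'_surjective _)
  have hk : f.ker = Subgroup.center ↥(Cfsg.SU 6 F 2) := by
    ext x
    rw [MonoidHom.mem_ker]
    show e.symm (QuotientGroup.mk' _ x) = 1 ↔ _
    rw [e.symm.map_eq_one_iff]
    exact QuotientGroup.eq_one_iff x
  exact
    { group := hD
      conj := fun a ha b hb => conj_all hF f hf hk hD ha hb
      twins := fun a ha b hb h => no_twins hF f hf hk hD ha hb h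
      center := center_trivial hF f hf hk hD
      pair := exists_noncommuting hF f hf hk hD
      card := card_dvd hF f hf hk hD
      three := noRel_three hF f hf hk hD
      four := noRel_four hF f hf hk hD
      line := fun b c hb hc hne h => line hF f hf hk hD hb hc hne h
      fixed := fun a y ha h => eq_one_or_eq_of_commute hF f hf hk hD ha h }

/-- Like a set of 3-transpositions, but possibly containing `1`. -/
structure Pre (D : Set G) : Prop where
  sq : ∀ d ∈ D, d * d = 1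
  prod : ∀ d ∈ D, ∀ e ∈ D, (d * e) ^ 2 = 1 ∨ (d * e) ^ 3 = 1
  conj : ∀ g : G, ∀ d ∈ D, g * d * g⁻¹ ∈ D
  gen : Subgroup.closure D = ⊤

theorem pre_of_group {D : Set G} (hD : Cfsg.IsThreeTranspositionGroup D) : Pre D :=
  ⟨fun _ h => Trans3.sq_one hD.1 h, hD.1.2, hD.2.1, hD.2.2⟩

theorem Pre.group {D : Set G} (hD : Pre D) : Cfsg.IsThreeTranspositionGroup (D \ {1}) := by
  refine ⟨⟨fun d hd => ?_, fun d hd e he => hD.prod d hd.1 e he.1⟩,
    fun g d hd => ⟨hD.conj g d hd.1, fun h => hd.2 (by simpa using h)⟩, ?_⟩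
  · haveI : Fact (Nat.Prime 2) := ⟨Nat.prime_two⟩
    exact orderOf_eq_prime (by rw [pow_two]; exact hD.sq d hd.1) hd.2
  · rw [eq_top_iff, ← hD.gen, Subgroup.closure_le]
    intro x hx
    by_cases h : x = 1
    · subst h; exact one_mem _
    · exact Subgroup.subset_closure ⟨hx, h⟩

/-- The image of a neighbour. -/
abbrev bar {D : Set G} {d y : G} (hy : y ∈ nbrs D d) : Qd D d :=
  QuotientGroup.mk (⟨y, Subgroup.subset_closure hy⟩ : ↥(Hd D d))

theorem bar_mem {D : Set G} {d y : G} (hy : y ∈ nbrs D d) : bar hy ∈ Db D d :=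
  ⟨⟨y, Subgroup.subset_closure hy⟩, hy, rfl⟩

theorem exists_bar {D : Set G} {d : G} {q : Qd D d} (hq : q ∈ Db D d) :
    ∃ y, ∃ hy : y ∈ nbrs D d, q = bar hy := by
  obtain ⟨x, hx, rfl⟩ := hq
  exact ⟨x, hx, rfl⟩

theorem commute_Hd {D : Set G} {d x : G} (hx : x ∈ Hd D d) : Commute d x := by
  induction hx using Subgroup.closure_induction with
  | mem y hy => exact hy.2.2
  | one => exact Commute.one_right _
  | mul a b _ _ h1 h2 => exact h1.mul_right h2
  | inv a _ h1 => exact h1.inv_right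

theorem central_Hd {D : Set G} {d : G} {x : ↥(Hd D d)}
    (h : ∀ y ∈ nbrs D d, Commute (x : G) y) : x ∈ Subgroup.center ↥(Hd D d) := by
  rw [Subgroup.mem_center_iff]
  rintro ⟨z, hz⟩
  apply Subtype.ext
  show z * x = x * z
  induction hz using Subgroup.closure_induction with
  | mem y hy => exact (h y hy).eq.symm
  | one => simp
  | mul a b _ _ h1 h2 => exact (Commute.mul_left h1 h2 : Commute (a * b) (x : G))
  | inv a _ h1 => exact (Commute.inv_left h1 : Commute a⁻¹ (x : G))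

theorem bar_eq_one {D : Set G} {d y : G} (hy : y ∈ nbrs D d) :
    bar hy = 1 ↔ ∀ z ∈ nbrs D d, Commute y z := by
  rw [QuotientGroup.eq_one_iff]
  refine ⟨fun h z hz => ?_, fun h => central_Hd h⟩
  exact congrArg Subtype.val (Subgroup.mem_center_iff.1 h ⟨z, Subgroup.subset_closure hz⟩).symm

section Pre

variable {D : Set G} (hD : Pre D) {d : G}
include hD

theorem commute_bar {a b : G} (ha : a ∈ nbrs D d) (hb : b ∈ nbrs D d) :
    Commute (bar ha) (bar hb) ↔ Commute a b := by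
  refine ⟨fun h => ?_, fun h => ?_⟩
  · by_contra hn
    have ha1 : a ≠ 1 := fun h1 => hn (h1 ▸ Commute.one_left b)
    have hb1 : b ≠ 1 := fun h1 => hn (h1 ▸ Commute.one_right a)
    have h3 := pow_three hD.group.1 ⟨ha.1, ha1⟩ ⟨hb.1, hb1⟩ hn
    let u : ↥(Hd D d) := ⟨a, Subgroup.subset_closure ha⟩
    let v : ↥(Hd D d) := ⟨b, Subgroup.subset_closure hb⟩
    have hu : u * u = 1 := Subtype.ext (hD.sq a ha.1)
    have hv : v * v = 1 := Subtype.ext (hD.sq b hb.1)
    have h2 : (u * v) ^ 2 ∈ Subgroup.center ↥(Hd D d) := by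
      rw [← QuotientGroup.eq_one_iff, QuotientGroup.mk_pow, QuotientGroup.mk_mul, pow_two]
      have h' : bar ha * bar hb = bar hb * bar ha := h
      calc bar ha * bar hb * (bar ha * bar hb) = bar ha * bar hb * (bar hb * bar ha) := by rw [h']
        _ = ((u * (v * v) * u : ↥(Hd D d)) : Qd D d) := by
          simp only [QuotientGroup.mk_mul, mul_assoc]; rfl
        _ = 1 := by rw [hv, mul_one, hu]; rfl
    have h1 : u * v ∈ Subgroup.center ↥(Hd D d) := by
      have h4 := pow_mem h2 2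
      have h3' : (u * v) ^ 3 = 1 := Subtype.ext h3
      rwa [← pow_mul, show 2 * 2 = 3 + 1 from rfl, pow_succ, h3', one_mul] at h4
    have h5 : a * (a * b) = a * b * a := congrArg Subtype.val (Subgroup.mem_center_iff.1 h1 u)
    rw [mul_assoc a b a] at h5
    exact hn (mul_left_cancel h5)
  · show (QuotientGroup.mk _ : Qd D d) * QuotientGroup.mk _ = _
    rw [← QuotientGroup.mk_mul, ← QuotientGroup.mk_mul]
    exact congrArg QuotientGroup.mk (Subtype.ext h.eq)

theorem pre_Db : Pre (Db D d) := by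
  refine ⟨?_, ?_, ?_, ?_⟩
  · rintro _ ⟨x, hx, rfl⟩
    rw [← QuotientGroup.mk_mul, show x * x = 1 from Subtype.ext (hD.sq _ hx.1), QuotientGroup.mk_one]
  · rintro _ ⟨x, hx, rfl⟩ _ ⟨y, hy, rfl⟩
    rw [← QuotientGroup.mk_mul, ← QuotientGroup.mk_pow, ← QuotientGroup.mk_pow]
    rcases hD.prod _ hx.1 _ hy.1 with h | h
    · left; rw [show (x * y) ^ 2 = 1 from Subtype.ext h, QuotientGroup.mk_one]
    · right; rw [show (x * y) ^ 3 = 1 from Subtype.ext h, QuotientGroup.mk_one]
  · rintro q _ ⟨x, hx, rfl⟩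
    obtain ⟨g, rfl⟩ := QuotientGroup.mk_surjective q
    refine ⟨g * x * g⁻¹, ⟨hD.conj g x hx.1, fun h => hx.2.1 ?_, ?_⟩, rfl⟩
    · have hc := (commute_Hd g.2).eq
      have : (g : G) * x = g * d := by
        rw [← hc]
        exact mul_inv_eq_iff_eq_mul.1 h
      exact mul_left_cancel this
    · exact ((commute_Hd g.2).mul_right hx.2.2).mul_right (commute_Hd g.2).inv_right
  · have h : Subgroup.closure {x : ↥(Hd D d) | (x : G) ∈ nbrs D d} = ⊤ :=
      Subgroup.closure_closure_coe_preimage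
    have := congrArg (Subgroup.map (QuotientGroup.mk' (Subgroup.center ↥(Hd D d)))) h
    rwa [MonoidHom.map_closure, Subgroup.map_top_of_surjective _ (QuotientGroup.mk'_surjective _)]
      at this

/-- A single class without twins, from the neighbourhood of one member. -/
theorem nice_of_below [Finite G] (hZ : Subgroup.center G = ⊥) {c : G} (hd : d ∈ D) (hc : c ∈ D)
    (hdc : ¬ Commute d c) (hq : Nice (Db D d \ {1}))
    (hL : ¬ 2 ^ 15 ∣ Nat.card (↥(Ld D d c) ⧸ Subgroup.center ↥(Ld D d c))) :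
    Nice (D \ {1}) := by
  have hE := hD.group
  have hd' : d ∈ D \ {1} := ⟨hd, fun h => hdc ((show d = 1 from h) ▸ Commute.one_left c)⟩
  have hc' : c ∈ D \ {1} := ⟨hc, fun h => hdc ((show c = 1 from h) ▸ Commute.one_right d)⟩
  have hclass : ∀ y ∈ D \ {1}, ∃ g : G, g * d * g⁻¹ = y := by
    obtain ⟨C, eC⟩ : ∃ C : Set G, C = {y | y ∈ D \ {1} ∧ ¬ ∃ g : G, g * d * g⁻¹ = y} := ⟨_, rfl⟩
    suffices hC : ∀ y, y ∉ C by
      intro y hy
      by_contra h
      exact hC y (eC ▸ ⟨hy, h⟩)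
    intro y₀ hy₀
    have hCmem : ∀ y ∈ C, y ∈ D \ {1} ∧ ¬ ∃ g : G, g * d * g⁻¹ = y := fun y hy => by
      rw [eC] at hy; exact hy
    have hcomm : ∀ y ∈ C, ∀ x ∈ D \ {1}, (∃ g : G, g * d * g⁻¹ = x) → Commute x y := by
      intro y hy x hx ⟨g, hg⟩
      by_contra hn
      refine (hCmem y hy).2 ⟨x * y * g, ?_⟩
      calc x * y * g * d * (x * y * g)⁻¹ = x * y * (g * d * g⁻¹) * (x * y)⁻¹ := by group
        _ = y := by rw [hg]; exact conj_of_noncomm hE.1 hx (hCmem y hy).1 hn
    have hCd : ∀ y ∈ C, y ∈ nbrs D d := fun y hy =>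
      ⟨(hCmem y hy).1.1, fun h => (hCmem y hy).2 ⟨1, by rw [h]; group⟩,
        hcomm y hy d hd' ⟨1, by group⟩⟩
    have hCc : ∀ y ∈ C, y ∈ nbrs D c := fun y hy => by
      have hcd : ∃ g : G, g * d * g⁻¹ = c := ⟨d * c, conj_of_noncomm hE.1 hd' hc' hdc⟩
      exact ⟨(hCmem y hy).1.1, fun h => (hCmem y hy).2 (h ▸ hcd), hcomm y hy c hc' hcd⟩
    have hCconj : ∀ g : G, ∀ y ∈ C, g * y * g⁻¹ ∈ C := by
      intro g y hy
      rw [eC]
      refine ⟨hE.2.1 g y (hCmem y hy).1, fun ⟨k, hk⟩ => (hCmem y hy).2 ⟨g⁻¹ * k, ?_⟩⟩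
      calc g⁻¹ * k * d * (g⁻¹ * k)⁻¹ = g⁻¹ * (k * d * k⁻¹) * g := by group
        _ = y := by rw [hk]; group
    obtain ⟨K, eK⟩ : ∃ K : Subgroup G, K = Subgroup.closure C := ⟨_, rfl⟩
    have hKH : K ≤ Hd D d := eK ▸ Subgroup.closure_mono hCd
    have hKL : K ≤ Ld D d c := eK ▸ Subgroup.closure_mono fun y hy => ⟨hCd y hy, hCc y hy⟩
    have hKn : K.Normal := ⟨fun x hx g => by
      rw [eK] at hx ⊢
      induction hx using Subgroup.closure_induction with
      | mem y hy => exact Subgroup.subset_closure (hCconj g y hy)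
      | one => simp
      | mul a b _ _ h1 h2 =>
          rw [show g * (a * b) * g⁻¹ = (g * a * g⁻¹) * (g * b * g⁻¹) by group]
          exact mul_mem h1 h2
      | inv a _ h1 =>
          rw [show g * a⁻¹ * g⁻¹ = (g * a * g⁻¹)⁻¹ by group]
          exact Subgroup.inv_mem _ h1⟩
    by_cases hall : ∀ y (hy : y ∈ C), bar (hCd y hy) = 1
    · have h1 := (bar_eq_one (hCd y₀ hy₀)).1 (hall y₀ hy₀)
      have hz : y₀ ∈ Subgroup.center G := by
        rw [Subgroup.mem_center_iff]
        intro g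
        have hg : g ∈ Subgroup.closure (D \ {1}) := hE.2.2 ▸ Subgroup.mem_top g
        induction hg using Subgroup.closure_induction with
        | mem x hx =>
            by_cases hxc : ∃ g : G, g * d * g⁻¹ = x
            · exact (hcomm y₀ hy₀ x hx hxc).eq
            · exact ((h1 x (hCd x (eC ▸ ⟨hx, hxc⟩))).eq).symm
        | one => simp
        | mul a b _ _ h1 h2 => exact (Commute.mul_left h1 h2 : Commute (a * b) y₀)
        | inv a _ h1 => exact (Commute.inv_left h1 : Commute a⁻¹ y₀)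
      rw [hZ, Subgroup.mem_bot] at hz
      exact (hCmem y₀ hy₀).1.2 hz
    · push Not at hall
      obtain ⟨y, hy, hy1⟩ := hall
      let f : ↥K →* Qd D d := (QuotientGroup.mk' _).comp (Subgroup.inclusion hKH)
      let g : ↥K →* ↥(Ld D d c) ⧸ Subgroup.center ↥(Ld D d c) :=
        (QuotientGroup.mk' _).comp (Subgroup.inclusion hKL)
      have hfn : f.range.Normal := ⟨by
        rintro _ ⟨k, rfl⟩ q
        obtain ⟨h, rfl⟩ := QuotientGroup.mk_surjective q
        exact ⟨⟨(h : G) * k * (h : G)⁻¹, hKn.conj_mem k k.2 h⟩, rfl⟩⟩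
      have hsurj : f.range = ⊤ := by
        rw [eq_top_iff, ← hq.group.2.2, Subgroup.closure_le]
        intro q hqm
        have hy' : bar (hCd y hy) ∈ Db D d \ {1} := ⟨bar_mem _, hy1⟩
        obtain ⟨k, rfl⟩ := hq.conj _ hy' q hqm
        exact hfn.conj_mem _ ⟨⟨y, eK ▸ Subgroup.subset_closure hy⟩, rfl⟩ k
      have hker : g.ker ≤ f.ker := by
        intro z hz
        rw [MonoidHom.mem_ker] at hz ⊢
        have hzc := (QuotientGroup.eq_one_iff _).1 hz
        have : f z ∈ Subgroup.center (Qd D d) := by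
          rw [Subgroup.mem_center_iff]
          intro q
          obtain ⟨w, rfl⟩ := hsurj.ge (Subgroup.mem_top q)
          rw [← map_mul, ← map_mul]
          congr 1
          have hw := congrArg Subtype.val (Subgroup.mem_center_iff.1 hzc (Subgroup.inclusion hKL w))
          exact Subtype.ext hw
        rwa [hq.center, Subgroup.mem_bot] at this
      have hcard := Subgroup.index_dvd_of_le hker
      rw [Subgroup.index_ker, Subgroup.index_ker, hsurj, Subgroup.card_top] at hcard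
      exact hL ((hq.card.trans hcard).trans (Subgroup.card_subgroup_dvd_card _))
  refine ⟨hE, fun a ha b hb => ?_, fun a ha b hb h => ?_, hZ, ⟨d, hd', c, hc', hdc⟩, ?_⟩
  · obtain ⟨g, rfl⟩ := hclass a ha
    obtain ⟨k, rfl⟩ := hclass b hb
    exact ⟨k * g⁻¹, by group⟩
  · by_contra hne
    -- move the twins to `d`
    obtain ⟨g, hg⟩ := hclass a ha
    obtain ⟨v, ev⟩ : ∃ v, v = g⁻¹ * b * g := ⟨_, rfl⟩
    have hv : v ∈ D \ {1} := ev ▸ by simpa using hE.2.1 g⁻¹ b hb
    have hdv : ∀ e ∈ D \ {1}, Commute v e ↔ Commute d e := by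
      intro e he
      have := h (g * e * g⁻¹) (hE.2.1 g e he)
      rwa [show b = g * v * g⁻¹ by rw [ev]; group, ← hg, commute_conj_iff, commute_conj_iff] at this
    have hvne : v ≠ d := fun h' => hne (by rw [← hg, ← h', ev]; group)
    have hvd : Commute d v := ((hdv d hd').2 (Commute.refl d)).symm
    have hvn : v ∈ nbrs D d := ⟨hv.1, hvne, hvd⟩
    have hv1 : ∀ z ∈ nbrs D d, Commute v z := fun z hz => by
      by_cases hz1 : z = 1
      · exact hz1 ▸ Commute.one_right v
      · exact (hdv z ⟨hz.1, hz1⟩).2 hz.2.2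
    -- a neighbour with non-trivial image
    obtain ⟨p, hp, -⟩ := hq.pair
    obtain ⟨w, hw, rfl⟩ := exists_bar hp.1
    have hwd : w ∈ D \ {1} := ⟨hw.1, fun h1 => hp.2 ((bar_eq_one hw).2 fun z _ => by
      rw [show w = 1 from h1]; exact Commute.one_left z)⟩
    obtain ⟨k, hk⟩ := hclass w hwd
    obtain ⟨w', ew'⟩ : ∃ w', w' = k * v * k⁻¹ := ⟨_, rfl⟩
    have hw' : w' ∈ D \ {1} := ew' ▸ hE.2.1 k v hv
    have htw : ∀ e ∈ D \ {1}, Commute w' e ↔ Commute w e := by
      intro e he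
      have := hdv (k⁻¹ * e * k) (by simpa using hE.2.1 k⁻¹ e he)
      rw [← commute_conj_iff k v, ← commute_conj_iff k d, hk, ← ew',
        show k * (k⁻¹ * e * k) * k⁻¹ = e by group] at this
      exact this
    have hne' : w' ≠ w := fun h' => hvne (by
      rw [ew', ← hk] at h'; exact mul_left_cancel (mul_right_cancel h'))
    have hww : Commute w w' := ((htw w hwd).2 (Commute.refl w)).symm
    have hdw' : Commute d w' := ((htw d hd').2 hw.2.2.symm).symm
    have hw'd : w' ≠ d := fun h' => hp.2 ((bar_eq_one hw).2 fun z hz => by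
      by_cases hz1 : z = 1
      · exact hz1 ▸ Commute.one_right w
      · exact (htw z ⟨hz.1, hz1⟩).1 (h'.symm ▸ hz.2.2))
    have hw'n : w' ∈ nbrs D d := ⟨hw'.1, hw'd, hdw'⟩
    have hp' : bar hw'n ∈ Db D d \ {1} := ⟨bar_mem _, fun h1 => hp.2 ((bar_eq_one hw).2 fun z hz => by
      by_cases hz1 : z = 1
      · exact hz1 ▸ Commute.one_right w
      · exact (htw z ⟨hz.1, hz1⟩).1 ((bar_eq_one hw'n).1 h1 z hz))⟩
    have heq : bar hw = bar hw'n := hq.twins _ hp _ hp' fun q hqm => by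
      obtain ⟨z, hz, rfl⟩ := exists_bar hqm.1
      rw [commute_bar hD, commute_bar hD]
      by_cases hz1 : z = 1
      · rw [hz1]; exact iff_of_true (Commute.one_right _) (Commute.one_right _)
      · exact htw z ⟨hz.1, hz1⟩
    apply hp.2
    refine (bar_eq_one hw).2 fun z hz => ?_
    by_cases hz1 : z = 1
    · exact hz1 ▸ Commute.one_right w
    have hmem := QuotientGroup.eq.1 heq
    have hc1 : z * (w⁻¹ * w') = w⁻¹ * w' * z :=
      congrArg Subtype.val (Subgroup.mem_center_iff.1 hmem ⟨z, Subgroup.subset_closure hz⟩)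
    rw [inv_eq hE.1 hwd] at hc1
    exact ((commute_mul_iff hE.1 hwd hw' ⟨hz.1, hz1⟩ hne'.symm hww).1 hc1).1.symm
  · exact (hq.card.trans (Subgroup.card_quotient_dvd_card _)).trans
      (Subgroup.card_subgroup_dvd_card _)

end Pre

namespace Nice

variable [Finite G] {D : Set G} (hN : Nice D)
include hN

/-- No neighbour is central in the neighbourhood group. -/
theorem bar_ne_one {d y : G} (hd : d ∈ D) (hy : y ∈ nbrs D d) : bar hy ≠ 1 := by
  intro h
  have h1 := (bar_eq_one hy).1 h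
  have hsub : {e | e ∈ D ∧ Commute d e} ⊆ {e | e ∈ D ∧ Commute y e} := by
    rintro e ⟨he, hde⟩
    refine ⟨he, ?_⟩
    by_cases hed : e = d
    · exact hed ▸ hy.2.2.symm
    · exact h1 e ⟨he, hed, hde⟩
  obtain ⟨g, hg⟩ := hN.conj d hd y hy.1
  have himg : {e | e ∈ D ∧ Commute y e} = (MulAut.conj g) '' {e | e ∈ D ∧ Commute d e} := by
    ext e
    constructor
    · rintro ⟨he, hye⟩
      refine ⟨g⁻¹ * e * g, ⟨by simpa using hN.group.2.1 g⁻¹ e he, ?_⟩, by simp [mul_assoc]⟩
      rw [← commute_conj_iff g, hg, show g * (g⁻¹ * e * g) * g⁻¹ = e by group]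
      exact hye
    · rintro ⟨u, ⟨hu, hdu⟩, rfl⟩
      exact ⟨hN.group.2.1 g u hu, hg ▸ (commute_conj_iff g d u).2 hdu⟩
  have heq := Set.eq_of_subset_of_ncard_le hsub (by
    rw [himg, Set.ncard_image_of_injective _ (MulAut.conj g).injective])
  exact hy.2.1 (hN.twins y hy.1 d hd fun e he => by
    have := Set.ext_iff.1 heq e
    simp only [Set.mem_ofPred_eq, he, true_and] at this
    exact this)

theorem bar_inj {d a b : G} (hd : d ∈ D) (ha : a ∈ nbrs D d) (hb : b ∈ nbrs D d)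
    (h : bar ha = bar hb) : a = b := by
  by_contra hne
  refine hN.bar_ne_one hd ha ((bar_eq_one ha).2 fun z hz => ?_)
  have hab : Commute a b := (commute_bar (pre_of_group hN.group) ha hb).1 (h ▸ Commute.refl _)
  have hmem := QuotientGroup.eq.1 h
  have hc1 : z * (a⁻¹ * b) = a⁻¹ * b * z :=
    congrArg Subtype.val (Subgroup.mem_center_iff.1 hmem ⟨z, Subgroup.subset_closure hz⟩)
  rw [inv_eq hN.group.1 ha.1] at hc1
  exact ((commute_mul_iff hN.group.1 ha.1 hb.1 hz.1 hne hab).1 hc1).1.symm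

theorem Db_no_one {d : G} (hd : d ∈ D) : Db D d \ {1} = Db D d := by
  refine Set.diff_singleton_eq_self fun h => ?_
  obtain ⟨y, hy, he⟩ := exists_bar h
  exact hN.bar_ne_one hd hy he.symm

theorem group_Db {d : G} (hd : d ∈ D) : Cfsg.IsThreeTranspositionGroup (Db D d) := by
  rw [← hN.Db_no_one hd]
  exact (pre_Db (pre_of_group hN.group)).group

omit hN in
theorem nbrs_conj (hD : Cfsg.IsThreeTranspositionGroup D) (g d : G) :
    nbrs D (g * d * g⁻¹) = (MulAut.conj g) '' nbrs D d := by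
  ext e
  constructor
  · rintro ⟨he, hne, hc⟩
    refine ⟨g⁻¹ * e * g, ⟨by simpa using hD.2.1 g⁻¹ e he, fun h => hne ?_, ?_⟩, by simp [mul_assoc]⟩
    · rw [← h]; group
    · rw [← commute_conj_iff g, show g * (g⁻¹ * e * g) * g⁻¹ = e by group]
      exact hc
  · rintro ⟨u, ⟨hu, hne, hc⟩, rfl⟩
    exact ⟨hD.2.1 g u hu, fun h => hne ((MulAut.conj g).injective h), (commute_conj_iff g d u).2 hc⟩

theorem isU6_all {d : G} (hd : d ∈ D) (hU : IsU6 (Qd D d)) {a : G} (ha : a ∈ D) :
    IsU6 (Qd D a) := by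
  obtain ⟨g, rfl⟩ := hN.conj d hd a ha
  obtain ⟨F, hF₁, hF₂, hF₃, ⟨e⟩⟩ := hU
  have hH : (Hd D d).map ((MulAut.conj g : G ≃* G) : G →* G) = Hd D (g * d * g⁻¹) := by
    rw [Hd, Hd, nbrs_conj hN.group, MonoidHom.map_closure]
    rfl
  let e₁ : ↥(Hd D d) ≃* ↥(Hd D (g * d * g⁻¹)) :=
    (MulEquiv.subgroupMap (MulAut.conj g) (Hd D d)).trans (MulEquiv.subgroupCongr hH)
  exact ⟨F, hF₁, hF₂, hF₃, ⟨(QuotientGroup.congr _ _ e₁ (by
    ext x
    simp only [Subgroup.mem_map, Subgroup.mem_center_iff]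
    constructor
    · rintro ⟨y, hy, rfl⟩ z
      obtain ⟨z, rfl⟩ := e₁.surjective z
      exact (map_mul e₁ z y).symm.trans ((congrArg e₁ (hy z)).trans (map_mul e₁ y z))
    · intro hx
      refine ⟨e₁.symm x, fun z => e₁.injective ?_, e₁.apply_symm_apply x⟩
      rw [map_mul, map_mul, e₁.apply_symm_apply]
      exact hx _)).symm.trans e⟩⟩

theorem u6_all {d : G} (hd : d ∈ D) (hU : IsU6 (Qd D d)) {a : G} (ha : a ∈ D) :
    U6Facts (Db D a) :=
  u6Facts (hN.isU6_all hd hU ha) (hN.group_Db ha)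

/-- A relation descends to a relation one shorter. -/
theorem noRel_succ {d : G} (hd : d ∈ D) {k : ℕ} (h : NoRel (Db D d) k) : NoRel D (k + 1) := by
  intro l hnd hlen hmem hcomm hprod
  match l, hlen with
  | a :: t, hlen =>
    obtain ⟨g, hg⟩ := hN.conj a (hmem a List.mem_cons_self) d hd
    have hin : ∀ x ∈ t.map (MulAut.conj g), x ∈ nbrs D d := by
      intro x hx
      obtain ⟨y, hy, rfl⟩ := List.mem_map.1 hx
      refine ⟨hN.group.2.1 g y (hmem y (List.mem_cons_of_mem _ hy)), fun h' => ?_, ?_⟩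
      · have : y = a := (MulAut.conj g).injective (h'.trans hg.symm)
        exact (List.nodup_cons.1 hnd).1 (this ▸ hy)
      · rw [← hg]
        exact (commute_conj_iff g a y).2 (hcomm a List.mem_cons_self y (List.mem_cons_of_mem _ hy))
    obtain ⟨m, hm⟩ : ∃ m : List {x // x ∈ nbrs D d}, m.map Subtype.val = t.map (MulAut.conj g) :=
      ⟨(t.map (MulAut.conj g)).pmap Subtype.mk hin, by
        rw [List.map_pmap]; exact List.pmap_eq_map .. |>.trans (List.map_id _)⟩
    have hmnd : m.Nodup := List.Nodup.of_map Subtype.val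
      (hm ▸ (List.nodup_cons.1 hnd).2.map (MulAut.conj g).injective)
    refine h (m.map fun x => bar x.2) (hmnd.map fun x y hxy => Subtype.ext (hN.bar_inj hd x.2 y.2 hxy))
      ?_ ?_ ?_ ?_
    · have := congrArg List.length hm
      simp only [List.length_map, List.length_cons] at this hlen ⊢
      omega
    · intro q hq
      obtain ⟨x, -, rfl⟩ := List.mem_map.1 hq
      exact bar_mem x.2
    · intro q hq q' hq'
      obtain ⟨x, hx, rfl⟩ := List.mem_map.1 hq
      obtain ⟨y, hy, rfl⟩ := List.mem_map.1 hq'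
      refine (commute_bar (pre_of_group hN.group) x.2 y.2).2 ?_
      have hx' : (x : G) ∈ t.map (MulAut.conj g) := hm ▸ List.mem_map_of_mem hx
      have hy' : (y : G) ∈ t.map (MulAut.conj g) := hm ▸ List.mem_map_of_mem hy
      obtain ⟨u, hu, hux⟩ := List.mem_map.1 hx'
      obtain ⟨v, hv, hvy⟩ := List.mem_map.1 hy'
      rw [← hux, ← hvy]
      exact (commute_conj_iff g u v).2 (hcomm u (List.mem_cons_of_mem _ hu) v (List.mem_cons_of_mem _ hv))
    · have hval : ((m.map fun x : {x // x ∈ nbrs D d} =>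
          (⟨x.1, Subgroup.subset_closure x.2⟩ : ↥(Hd D d))).prod : G) = d := by
        rw [Subgroup.val_list_prod, List.map_map]
        show (m.map Subtype.val).prod = d
        rw [hm, ← map_list_prod]
        rw [List.prod_cons] at hprod
        rw [eq_inv_of_mul_eq_one_right hprod, map_inv, MulAut.conj_apply, hg, inv_eq hN.group.1 hd]
      have : ((m.map fun x => bar x.2).prod : Qd D d) =
          QuotientGroup.mk' _ (m.map fun x : {x // x ∈ nbrs D d} =>
          (⟨x.1, Subgroup.subset_closure x.2⟩ : ↥(Hd D d))).prod := by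
        rw [map_list_prod, List.map_map]; rfl
      rw [this]
      exact (QuotientGroup.eq_one_iff _).2 (central_Hd fun y hy => hval.symm ▸ hy.2.2)

end Nice

end CfsgLib.Trans3.Fi
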