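import Cfsg.Agent.Lib.Trans3.Fi.SumSq
import Cfsg.Agent.Lib.Geom.OrthMatrix

/-!
Diagonal quadratic spaces over the field with three elements: their isometries, the step between two
vectors by one reflection, changes of coordinates, and the reflection group as the one of a
quadratic form.
-/

set_option autoImplicit false
set_option linter.unusedSectionVars false

namespace CfsgLib.Trans3.Fi.SS

open Matrix

/-- The action of an isometry. -/
def act {n : ℕ} {Q : (Fin n → ZMod 3) → ZMod 3} (g : ↥(Cfsg.isometryGroup (ZMod 3) Q))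
    (v : Fin n → ZMod 3) : Fin n → ZMod 3 :=
  ((g : Matrix.GeneralLinearGroup (Fin n) (ZMod 3)) : Matrix (Fin n) (Fin n) (ZMod 3)) *ᵥ v

variable {n : ℕ} {Q : (Fin n → ZMod 3) → ZMod 3}

theorem act_mul (g g' : ↥(Cfsg.isometryGroup (ZMod 3) Q)) (v : Fin n → ZMod 3) :
    act (g * g') v = act g (act g' v) := by
  simp [act, Matrix.mulVec_mulVec]

theorem act_one (v : Fin n → ZMod 3) : act (1 : ↥(Cfsg.isometryGroup (ZMod 3) Q)) v = v := by
  simp [act]

theorem act_add (g : ↥(Cfsg.isometryGroup (ZMod 3) Q)) (a b : Fin n → ZMod 3) :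
    act g (a + b) = act g a + act g b := Matrix.mulVec_add _ a b

theorem act_q (g : ↥(Cfsg.isometryGroup (ZMod 3) Q)) (v : Fin n → ZMod 3) : Q (act g v) = Q v :=
  g.2 v v

theorem act_inv (g : ↥(Cfsg.isometryGroup (ZMod 3) Q)) (v : Fin n → ZMod 3) :
    act g⁻¹ (act g v) = v := by rw [← act_mul, inv_mul_cancel, act_one]

theorem act_inj (g : ↥(Cfsg.isometryGroup (ZMod 3) Q)) : Function.Injective (act g) :=
  fun a b e => by rw [← act_inv g a, e, act_inv]

theorem act_ext {g g' : ↥(Cfsg.isometryGroup (ZMod 3) Q)} (h : ∀ v, act g v = act g' v) :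
    g = g' := by
  refine Subtype.ext (Units.ext (Matrix.ext fun i j => ?_))
  have := congrFun (h (Pi.single j 1)) i
  simpa [act, Matrix.mulVec_single_one] using this

/-- An element for a map. -/
theorem exists_act {f : (Fin n → ZMod 3) → (Fin n → ZMod 3)}
    (hf : ∀ a b, f (a + b) = f a + f b) (hi : Function.Injective f) (hq : ∀ v, Q (f v) = Q v) :
    ∃ g : ↥(Cfsg.isometryGroup (ZMod 3) Q), ∀ v, act g v = f v :=
  exists_iso hf hi hq

variable {μ : Fin n → ZMod 3}

theorem qs_add (a b : Fin n → ZMod 3) : qs μ (a + b) = qs μ a + qs μ b + 2 * bs μ a b := by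
  simp only [qs_eq, bs_add]
  rw [bs_comm (a + b) a, bs_comm (a + b) b, bs_add, bs_add, bs_comm b a]
  ring

theorem qs_smul (t : ZMod 3) (a : Fin n → ZMod 3) : qs μ (t • a) = t * t * qs μ a := by
  rw [qs_eq, qs_eq, bs_smul, bs_smul', mul_assoc]

theorem qs_neg (a : Fin n → ZMod 3) : qs μ (-a) = qs μ a := by
  simp [qs]

theorem bs_neg (a b : Fin n → ZMod 3) : bs μ a (-b) = -bs μ a b := by
  simp [bs, Finset.sum_neg_distrib]

theorem act_bs (g : ↥(Cfsg.isometryGroup (ZMod 3) (qs μ))) (a b : Fin n → ZMod 3) :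
    bs μ (act g a) (act g b) = bs μ a b := by
  have h1 := act_q g (a + b)
  rw [act_add, qs_add, qs_add, act_q g a, act_q g b] at h1
  exact mul_left_cancel₀ (show (2 : ZMod 3) ≠ 0 by decide) (add_left_cancel h1)

/-- The reflection as an isometry. -/
theorem exists_refl {r : Fin n → ZMod 3} (hr : qs μ r = 1) :
    ∃ g : ↥(Cfsg.isometryGroup (ZMod 3) (qs μ)), ∀ v, act g v = rs μ r v :=
  exists_act (rs_add r) (Function.Involutive.injective (fun v => rs_rs hr v)) (qs_rs hr)

/-- One reflection carries one vector to another. -/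
theorem step_refl {a b : Fin n → ZMod 3} (hq : qs μ b = qs μ a) (hb : bs μ a b = qs μ a + 1) :
    qs μ (a - b) = 1 ∧ rs μ (a - b) a = b := by
  have h3 : (3 : ZMod 3) = 0 := by decide
  have e1 : bs μ (a - b) a = -1 := by
    rw [bs_comm, sub_eq_add_neg, bs_add, bs_neg, hb, ← qs_eq]; ring
  refine ⟨?_, ?_⟩
  · rw [sub_eq_add_neg, qs_add, qs_neg, bs_neg, hq, hb]
    linear_combination (-1 : ZMod 3) * h3
  · rw [rs, e1, neg_one_smul]
    abel

section Congr

variable {F : Type*} [Field F] {ι κ : Type} [Fintype ι] [DecidableEq ι] [Fintype κ] [DecidableEq κ]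

/-- Equivalent forms have isomorphic isometry groups. -/
theorem iso_congr (L : (ι → F) ≃ₗ[F] (κ → F)) {P : (ι → F) → F} {R : (κ → F) → F}
    (h : ∀ v, R (L v) = P v) :
    Nonempty (↥(Cfsg.isometryGroup F R) ≃* ↥(Cfsg.isometryGroup F P)) := by
  let c : ((κ → F) ≃ₗ[F] (κ → F)) ≃* ((ι → F) ≃ₗ[F] (ι → F)) :=
    { toFun := fun g => (L.trans g).trans L.symm
      invFun := fun g => (L.symm.trans g).trans L
      left_inv := fun g => by ext v; simp
      right_inv := fun g => by ext v; simp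
      map_mul' := fun g g' => LinearEquiv.ext fun v => by simp }
  let e₁ := MulEquiv.ofBijective (Geom.glOfEquiv (F := F) (ι := κ)) Geom.glOfEquiv_bijective
  let e₂ := MulEquiv.ofBijective (Geom.glOfEquiv (F := F) (ι := ι)) Geom.glOfEquiv_bijective
  let e := e₁.symm.trans (c.trans e₂)
  refine ⟨(e.subgroupMap _).trans (MulEquiv.subgroupCongr ?_)⟩
  ext A
  obtain ⟨A, rfl⟩ := e.surjective A
  obtain ⟨g, rfl⟩ := e₁.surjective A
  rw [show (↑e : GL κ F →* GL ι F) = e.toMonoidHom from rfl, Subgroup.mem_map_equiv,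
    MulEquiv.symm_apply_apply, Geom.mem_isometryGroup_iff, Geom.mem_isometryGroup_iff,
    show e (e₁ g) = e₂ (c g) by simp [e]]
  have h1 : ∀ w, ((e₁ g : GL κ F) : Matrix κ κ F) *ᵥ w = g w := Geom.glOfEquiv_mulVec g
  have h2 : ∀ w, ((e₂ (c g) : GL ι F) : Matrix ι ι F) *ᵥ w = L.symm (g (L w)) :=
    Geom.glOfEquiv_mulVec (c g)
  simp only [h1, h2, ← h, LinearEquiv.apply_symm_apply]
  exact ⟨fun hh w => hh (L w), fun hh w => by simpa using hh (L.symm w)⟩

end Congr

/-- The form. -/
def form (μ : Fin n → ZMod 3) : QuadraticForm (ZMod 3) (Fin n → ZMod 3) :=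
  QuadraticMap.weightedSumSquares (ZMod 3) μ

theorem form_coe : ⇑(form μ) = qs μ :=
  funext fun v => by simp [form, qs]

theorem form_polar (a b : Fin n → ZMod 3) : QuadraticMap.polar (qs μ) a b = 2 * bs μ a b := by
  rw [QuadraticMap.polar, qs_add]; ring

theorem form_nondeg (hμ : ∀ i, μ i ≠ 0) :
    (QuadraticMap.polarBilin (form μ)).Nondegenerate := by
  have key : ∀ a, (∀ b, QuadraticMap.polar (⇑(form μ)) a b = 0) → a = 0 := fun a ha => by
    funext i
    have h1 := ha (Pi.single i 1)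
    rw [form_coe, form_polar, bs_single, mul_one, mul_eq_zero, mul_eq_zero] at h1
    rcases h1 with e | e | e
    · exact absurd e (by decide)
    · exact absurd e (hμ i)
    · exact e
  refine ⟨fun a ha => key a fun b => ha b, fun b hb => key b fun a => ?_⟩
  rw [QuadraticMap.polar_comm]; exact hb a

theorem form_det : Cfsg.polarGramDet (⇑(form μ)) = ∏ i, 2 * μ i := by
  rw [Cfsg.polarGramDet, ← Matrix.det_diagonal]
  congr 1
  ext i j
  rw [Matrix.of_apply, form_coe, form_polar, bs_single, Matrix.diagonal_apply]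
  rcases eq_or_ne i j with rfl | hne
  · simp
  · simp [hne]

/-- The reflection of the form is the reflection. -/
theorem form_refl {r : Fin n → ZMod 3} (hr : qs μ r = 1) (v : Fin n → ZMod 3) :
    Cfsg.reflectionMatrix (qs μ) r *ᵥ v = rs μ r v := by
  rw [← form_coe, Geom.reflectionMatrix_mulVec, form_coe, hr, form_polar, inv_one, one_mul, rs,
    sub_eq_add_neg, ← neg_smul]
  congr 2
  exact (by decide : ∀ b : ZMod 3, -(2 * b) = b) _

/-- Membership among the reflections. -/
theorem mem_reflections {g : ↥(Cfsg.isometryGroup (ZMod 3) (qs μ))} :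
    g ∈ Cfsg.reflectionsOfNorm (qs μ) 1 ↔ ∃ r, qs μ r = 1 ∧ ∀ v, act g v = rs μ r v := by
  constructor
  · rintro ⟨r, hr, e⟩
    exact ⟨r, hr, fun v => by rw [act, e, form_refl hr]⟩
  · rintro ⟨r, hr, e⟩
    refine ⟨r, hr, Matrix.ext fun i j => ?_⟩
    have h1 := congrFun (e (Pi.single j 1)) i
    rw [← form_refl hr] at h1
    simpa [act, Matrix.mulVec_single_one] using h1

end CfsgLib.Trans3.Fi.SS
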