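import Cfsg.Agent.Lib.Trans3.Fi.Types

/-!
Products of two or three pairwise commuting 3-transpositions: when they determine the factors.
-/

set_option autoImplicit false

namespace CfsgLib.Trans3.Fi

variable {G : Type*} [Group G] {D : Set G}

/-- A list of `m` distinct pairwise commuting members with product `j`. -/
abbrev Fac (D : Set G) (m : ℕ) (j : G) (l : List G) : Prop :=
  l.Nodup ∧ l.length = m ∧ (∀ a ∈ l, a ∈ D) ∧ (∀ a ∈ l, ∀ b ∈ l, Commute a b) ∧ l.prod = j

theorem perm_prod {l l' : List G} (h : l.Perm l') (hc : ∀ a ∈ l, ∀ b ∈ l, Commute a b) :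
    l.prod = l'.prod :=
  h.prod_eq' (List.pairwise_of_forall_mem_list hc)

theorem fac_erase {m : ℕ} {j x : G} {l : List G} [DecidableEq G] (h : Fac D (m + 1) j l)
    (hx : x ∈ l) : Fac D m (x⁻¹ * j) (l.erase x) := by
  obtain ⟨h1, h2, h3, h4, h5⟩ := h
  refine ⟨h1.erase x, by rw [List.length_erase_of_mem hx, h2]; rfl,
    fun a ha => h3 a (List.mem_of_mem_erase ha),
    fun a ha b hb => h4 a (List.mem_of_mem_erase ha) b (List.mem_of_mem_erase hb), ?_⟩
  rw [← h5, perm_prod (List.perm_cons_erase hx) h4, List.prod_cons, inv_mul_cancel_left]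

variable (hD : Cfsg.IsThreeTranspositionGroup D)
include hD

/-- A member commutes with a product of at most three commuting members only if with each. -/
theorem commute_of_prod {m : ℕ} (hm : m ≤ 3) {j e : G} {l : List G} (h : Fac D m j l)
    (he : e ∈ D) (hej : Commute e j) : ∀ a ∈ l, Commute e a := by
  obtain ⟨h1, h2, h3, h4, rfl⟩ := h
  match l, h2 with
  | [], _ => simp
  | [a], _ => simpa using hej
  | [a, b], _ =>
    simp only [List.nodup_cons, List.mem_cons, List.not_mem_nil, or_false] at h1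
    simp only [List.prod_cons, List.prod_nil, mul_one] at hej
    have := (commute_mul_iff hD.1 (h3 a (by simp)) (h3 b (by simp)) he h1.1
      (h4 a (by simp) b (by simp))).1 hej
    simpa using this
  | [a, b, c], _ =>
    simp only [List.nodup_cons, List.mem_cons, List.not_mem_nil, or_false, not_or] at h1
    simp only [List.prod_cons, List.prod_nil, mul_one, ← mul_assoc] at hej
    have := (commute_mul_mul_iff hD.1 (h3 a (by simp)) (h3 b (by simp)) (h3 c (by simp)) he h1.1.1
      h1.1.2 h1.2.1 (h4 a (by simp) b (by simp)) (h4 a (by simp) c (by simp))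
      (h4 b (by simp) c (by simp))).1 hej
    simpa using this
  | _ :: _ :: _ :: _ :: _, h2 => simp at h2; omega

theorem fac_sq {j : G} {l : List G} {m : ℕ} (h : Fac D m j l) : j * j = 1 := by
  obtain ⟨-, -, h3, h4, rfl⟩ := h
  clear m
  induction l with
  | nil => simp
  | cons a t ih =>
    have hc : Commute a t.prod := Commute.list_prod_right _ _ fun b hb =>
      h4 a List.mem_cons_self b (List.mem_cons_of_mem _ hb)
    rw [List.prod_cons, ← mul_assoc, mul_assoc a t.prod a, ← hc.eq, ← mul_assoc,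
      Trans3.sq_one hD.1 (h3 a List.mem_cons_self), one_mul]
    exact ih (fun b hb => h3 b (List.mem_cons_of_mem _ hb))
      (fun b hb c hc' => h4 b (List.mem_cons_of_mem _ hb) c (List.mem_cons_of_mem _ hc'))

/-- Commuting factorisations with nothing in common give a relation. -/
theorem fac_append {m : ℕ} (hm : m ≤ 3) {j : G} {l l' : List G} (h : Fac D m j l)
    (h' : Fac D m j l') (hdisj : ∀ x ∈ l, x ∉ l') : Fac D (m + m) 1 (l ++ l') := by
  refine ⟨List.nodup_append'.2 ⟨h.1, h'.1, hdisj⟩, by rw [List.length_append, h.2.1, h'.2.1],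
    fun a ha => (List.mem_append.1 ha).elim (h.2.2.1 a) (h'.2.2.1 a), ?_, ?_⟩
  · have cross : ∀ a ∈ l, ∀ b ∈ l', Commute b a := by
      intro a ha b hb
      refine commute_of_prod hD hm h (h'.2.2.1 b hb) ?_ a ha
      rw [← h'.2.2.2.2]
      exact Commute.list_prod_right _ _ fun c hc => h'.2.2.2.1 b hb c hc
    intro a ha b hb
    rcases List.mem_append.1 ha with ha | ha <;> rcases List.mem_append.1 hb with hb | hb
    exacts [h.2.2.2.1 a ha b hb, (cross a ha b hb).symm, cross b hb a ha, h'.2.2.2.1 a ha b hb]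
  · rw [List.prod_append, h.2.2.2.2, h'.2.2.2.2, fac_sq hD h]

/-- Without relations of lengths `4` and (for three factors) `6` the factors are determined. -/
theorem determined {m : ℕ} (hm : m ≤ 3) (h4 : 2 ≤ m → NoRel D 4) (h6 : m = 3 → NoRel D 6)
    {j : G} {l l' : List G} (hl : Fac D m j l) (hl' : Fac D m j l') :
    ∀ x, x ∈ l ↔ x ∈ l' := by
  classical
  induction m generalizing j l l' with
  | zero =>
    rw [List.length_eq_zero_iff.1 hl.2.1, List.length_eq_zero_iff.1 hl'.2.1]
    exact fun _ => Iff.rfl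
  | succ n ih =>
    by_cases hx : ∃ x ∈ l, x ∈ l'
    · obtain ⟨x, hxl, hxl'⟩ := hx
      have := ih (by omega) (fun h => h4 (by omega)) (fun h => by omega) (fac_erase hl hxl)
        (fac_erase hl' hxl')
      intro y
      by_cases hy : y = x
      · subst hy; exact iff_of_true hxl hxl'
      · rw [← List.mem_erase_of_ne (l := l) hy, ← List.mem_erase_of_ne (l := l') hy]
        exact this y
    · simp only [not_exists, not_and] at hx
      obtain ⟨a1, a2, a3, a4, a5⟩ := fac_append hD hm hl hl' hx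
      obtain rfl | rfl | rfl : n = 0 ∨ n = 1 ∨ n = 2 := by omega
      · obtain ⟨a, rfl⟩ := List.length_eq_one_iff.1 hl.2.1
        obtain ⟨b, rfl⟩ := List.length_eq_one_iff.1 hl'.2.1
        have e1 := hl.2.2.2.2; have e2 := hl'.2.2.2.2
        simp only [List.prod_cons, List.prod_nil, mul_one] at e1 e2
        exact absurd (by simp [e1, e2]) (hx a (by simp))
      · exact absurd a5 (h4 (by omega) _ a1 a2 a3 a4)
      · exact absurd a5 (h6 rfl _ a1 a2 a3 a4)

variable [Finite G]

/-- For type M(22): the five members on the line of `b`, `c` in the neighbourhood of `a`. -/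
theorem m22_line (hP : Cfsg.IsPrimitiveUnderConj D) (h : Cfsg.IsOfTypeM22 G D) {a b c : G}
    (ha : a ∈ D) (hb : b ∈ nbrs D a) (hc : c ∈ nbrs D a) (hbc : b ≠ c) (hcomm : Commute b c) :
    ∃ t₁ t₂ t₃ : G, Fac D 3 (a * b * c) [t₁, t₂, t₃] ∧ a ∉ [t₁, t₂, t₃] ∧
      ∀ l : List G, Fac D 3 (a * b * c) l → (∀ x ∈ [a, b, c], x ∉ l) →
        ∀ x, x ∈ l ↔ x ∈ [t₁, t₂, t₃] := by
  classical
  have hN := nice_m22 hD h
  have hU := fun {x : G} (hx : x ∈ D) => m22_u6 hD h hx
  have hPre := pre_of_group hD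
  obtain ⟨-, -, h5⟩ := m22_noRel hD h
  obtain ⟨T₁, T₂, T₃, ⟨hnd, hmem, hco, hpr⟩, huniq⟩ := (hU ha).line (bar hb) (bar hc) (bar_mem hb)
    (bar_mem hc) (fun e => hbc (hN.bar_inj ha hb hc e)) ((commute_bar hPre hb hc).2 hcomm)
  obtain ⟨t₁, ht₁, rfl⟩ := exists_bar (hmem T₁ (by simp))
  obtain ⟨t₂, ht₂, rfl⟩ := exists_bar (hmem T₂ (by simp))
  obtain ⟨t₃, ht₃, rfl⟩ := exists_bar (hmem T₃ (by simp))
  obtain ⟨L, eL⟩ : ∃ L : List {x // x ∈ nbrs D a},
      L = [⟨b, hb⟩, ⟨c, hc⟩, ⟨t₁, ht₁⟩, ⟨t₂, ht₂⟩, ⟨t₃, ht₃⟩] := ⟨_, rfl⟩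
  have hLb : L.map (fun x => bar x.2) = [bar hb, bar hc, bar ht₁, bar ht₂, bar ht₃] := by
    rw [eL]; rfl
  have hLv : L.map Subtype.val = [b, c, t₁, t₂, t₃] := by rw [eL]; rfl
  have nd5 : [b, c, t₁, t₂, t₃].Nodup :=
    hLv ▸ (List.Nodup.of_map _ (hLb ▸ hnd)).map Subtype.val_injective
  have mem5 : ∀ x ∈ [b, c, t₁, t₂, t₃], x ∈ nbrs D a := by
    intro x hx
    rw [← hLv] at hx
    obtain ⟨u, -, rfl⟩ := List.mem_map.1 hx
    exact u.2
  have co5 : ∀ x ∈ [b, c, t₁, t₂, t₃], ∀ y ∈ [b, c, t₁, t₂, t₃], Commute x y := by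
    intro x hx y hy
    rw [← hLv] at hx hy
    obtain ⟨u, hu, rfl⟩ := List.mem_map.1 hx
    obtain ⟨v, hv, rfl⟩ := List.mem_map.1 hy
    exact (commute_bar hPre u.2 v.2).1 (hco _ (hLb ▸ List.mem_map_of_mem hu) _
      (hLb ▸ List.mem_map_of_mem hv))
  obtain ⟨y, ey⟩ : ∃ y, y = c * t₁ * t₂ * t₃ := ⟨_, rfl⟩
  obtain ⟨z, ez⟩ : ∃ z, z = b * y := ⟨_, rfl⟩
  have hzc : ∀ e ∈ nbrs D a, Commute z e := by
    let u : ↥(Hd D a) := ⟨b, Subgroup.subset_closure hb⟩ * (⟨c, Subgroup.subset_closure hc⟩ *
      (⟨t₁, Subgroup.subset_closure ht₁⟩ * (⟨t₂, Subgroup.subset_closure ht₂⟩ *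
      ⟨t₃, Subgroup.subset_closure ht₃⟩)))
    have hu : u ∈ Subgroup.center ↥(Hd D a) := by
      simp only [List.prod_cons, List.prod_nil, mul_one] at hpr
      exact (QuotientGroup.eq_one_iff u).1 hpr
    intro e he
    have hz : (u : G) = z := by rw [ez, ey]; simp only [u, Subgroup.coe_mul, mul_assoc]
    have := congrArg Subtype.val (Subgroup.mem_center_iff.1 hu ⟨e, Subgroup.subset_closure he⟩)
    simp only [Subgroup.coe_mul, hz] at this
    exact this.symm
  -- in the neighbourhood of `b`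
  have hbD := hb.1
  have hab : a ∈ nbrs D b := ⟨ha, Ne.symm hb.2.1, hb.2.2.symm⟩
  have nb : ∀ x ∈ [c, t₁, t₂, t₃], x ∈ nbrs D b := fun x hx =>
    ⟨(mem5 x (List.mem_cons_of_mem _ hx)).1, fun e => (List.nodup_cons.1 nd5).1 (e ▸ hx),
      co5 b List.mem_cons_self x (List.mem_cons_of_mem _ hx)⟩
  have hyH : y ∈ Hd D b := ey ▸ mul_mem (mul_mem (mul_mem (Subgroup.subset_closure (nb c (by simp)))
    (Subgroup.subset_closure (nb t₁ (by simp)))) (Subgroup.subset_closure (nb t₂ (by simp))))
    (Subgroup.subset_closure (nb t₃ (by simp)))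
  have hby : Commute b y := commute_Hd hyH
  have hay : Commute a y := by
    rw [ey]
    exact (((hc.2.2).mul_right ht₁.2.2).mul_right ht₂.2.2).mul_right ht₃.2.2
  have haz : Commute a z := ez ▸ hb.2.2.mul_right hay
  let Y : ↥(Hd D b) := ⟨y, hyH⟩
  have hY : ∀ q ∈ Db D b, Commute q (bar hab) → Commute (Y : Qd D b) q := by
    intro q hq hqa
    obtain ⟨e, he, rfl⟩ := exists_bar hq
    have hea := (commute_bar hPre he hab).1 hqa
    have hye : Commute y e := by
      by_cases h' : e = a
      · exact h' ▸ hay.symm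
      · have h1 := hzc e ⟨he.1, h', hea.symm⟩
        have : y = b * z := by rw [ez, ← mul_assoc, Trans3.sq_one hD.1 hbD, one_mul]
        rw [this]
        exact he.2.2.mul_left h1
    show (QuotientGroup.mk _ : Qd D b) * QuotientGroup.mk _ = _
    rw [← QuotientGroup.mk_mul, ← QuotientGroup.mk_mul]
    exact congrArg QuotientGroup.mk (Subtype.ext hye.eq)
  -- in both cases some `z'` centralises everything commuting with `a` or with `b`
  have final : ∀ z', Commute z' a → Commute z' b → (∀ e ∈ nbrs D a, Commute z' e) →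
      (∀ e ∈ nbrs D b, Commute z' e) → z' = 1 := by
    intro z' za zb zna znb
    obtain ⟨Γ, eΓ⟩ : ∃ Γ : Set G, Γ = {x | (x ∈ D ∧ ∀ e ∈ D, Commute x e → Commute z' e) ∧
        ∃ x' ∈ D, x' ≠ x ∧ Commute x x' ∧ ∀ e ∈ D, Commute x' e → Commute z' e} := ⟨_, rfl⟩
    have hΓa : ∀ e ∈ D, Commute a e → Commute z' e := fun e he hae => by
      by_cases h' : e = a
      · exact h' ▸ za
      · exact zna e ⟨he, h', hae⟩
    have hΓb : ∀ e ∈ D, Commute b e → Commute z' e := fun e he hbe => by
      by_cases h' : e = b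
      · exact h' ▸ zb
      · exact znb e ⟨he, h', hbe⟩
    have hall : ∀ x ∈ D, Commute z' x := by
      intro x hx
      have := closed_eq_univ hD hP ⟨a, ha, b, hbD, Ne.symm hb.2.1, hb.2.2⟩ (Z := Γ) ha
        (eΓ ▸ ⟨⟨ha, hΓa⟩, b, hbD, hb.2.1, hb.2.2, hΓb⟩) ?_ hx
      · rw [eΓ] at this
        exact this.1.2 x hx (Commute.refl x)
      rw [eΓ]
      rintro u ⟨⟨hu, hu'⟩, v, hv, hvu, huv, hv'⟩ w hw - huw
      by_cases hwu : w = u
      · subst hwu; exact ⟨⟨hu, hu'⟩, v, hv, hvu, huv, hv'⟩
      refine ⟨⟨hw, ?_⟩, u, hu, Ne.symm hwu, huw.symm, hu'⟩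
      have hvn : v ∈ nbrs D u := ⟨hv, hvu, huv⟩
      have hwn : w ∈ nbrs D u := ⟨hw, hwu, huw⟩
      obtain ⟨q, hq⟩ := (hU hu).conj _ (bar_mem hvn) _ (bar_mem hwn)
      obtain ⟨k, rfl⟩ := QuotientGroup.mk_surjective q
      have hkv : (k : G) * v * (k : G)⁻¹ ∈ nbrs D u := ⟨hD.2.1 _ v hv, fun e => hvu (by
          have : (k : G) * v = k * u := by
            rw [← (commute_Hd k.2).eq]; exact mul_inv_eq_iff_eq_mul.1 e
          exact mul_left_cancel this),
        ((commute_Hd k.2).mul_right huv).mul_right (commute_Hd k.2).inv_right⟩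
      have hkw : (k : G) * v * (k : G)⁻¹ = w := hN.bar_inj hu hkv hwn hq
      have hzk : Commute z' k := by
        suffices ∀ g ∈ Hd D u, Commute z' g from this _ k.2
        intro g hg
        induction hg using Subgroup.closure_induction with
        | mem e he => exact hu' e he.1 he.2.2
        | one => exact Commute.one_right _
        | mul _ _ _ _ h1 h2 => exact h1.mul_right h2
        | inv _ _ h1 => exact h1.inv_right
      intro e he hwe
      have h1 := hv' ((k : G)⁻¹ * e * k) (by simpa using hD.2.1 (k : G)⁻¹ e he) (by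
        rw [← commute_conj_iff (k : G), hkw,
          show (k : G) * ((k : G)⁻¹ * e * k) * (k : G)⁻¹ = e by group]
        exact hwe)
      have h2 := (hzk.mul_right h1).mul_right hzk.inv_right
      rwa [show (k : G) * ((k : G)⁻¹ * e * k) * (k : G)⁻¹ = e by group] at h2
    have : z' ∈ Subgroup.center G := by
      rw [Subgroup.mem_center_iff]
      intro g
      have hg : g ∈ Subgroup.closure D := hD.2.2 ▸ Subgroup.mem_top g
      induction hg using Subgroup.closure_induction with
      | mem e he => exact (hall e he).eq.symm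
      | one => simp
      | mul _ _ _ _ h1 h2 => exact (Commute.mul_left h1 h2 : Commute _ z')
      | inv _ _ h1 => exact (Commute.inv_left h1 : Commute _ z')
    rwa [hN.center, Subgroup.mem_bot] at this
  have hzb : Commute z b := ez ▸ (Commute.refl b).mul_left hby.symm
  have hz1 : z ≠ 1 := by
    intro hz
    exact h5 _ nd5 rfl (fun x hx => (mem5 x hx).1) co5 (by
      rw [← hz, ez, ey]; simp [mul_assoc])
  have hza : z = a := by
    rcases (hU hbD).fixed (bar hab) (Y : Qd D b) (bar_mem hab) hY with hy1 | hy1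
    · refine absurd (final z haz.symm hzb hzc fun e he => ?_) hz1
      have hye := congrArg Subtype.val
        (Subgroup.mem_center_iff.1 ((QuotientGroup.eq_one_iff _).1 hy1) ⟨e, Subgroup.subset_closure he⟩)
      rw [ez]
      exact he.2.2.mul_left (show Commute y e from hye.symm)
    · have := final (z * a) (haz.symm.mul_left (Commute.refl a)) (hzb.mul_left hb.2.2)
        (fun e he => (hzc e he).mul_left he.2.2) fun e he => by
          have hmem := QuotientGroup.eq.1 hy1.symm
          have hye : e * (a⁻¹ * y) = a⁻¹ * y * e :=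
            congrArg Subtype.val (Subgroup.mem_center_iff.1 hmem ⟨e, Subgroup.subset_closure he⟩)
          rw [inv_eq hD.1 ha] at hye
          have hza' : z * a = b * (a * y) := by rw [ez, mul_assoc, hay.eq]
          rw [hza']
          exact he.2.2.mul_left (show Commute (a * y) e from hye.symm)
      rw [eq_inv_of_mul_eq_one_left this, inv_eq hD.1 ha]
  refine ⟨t₁, t₂, t₃, ⟨(List.nodup_cons.1 (List.nodup_cons.1 nd5).2).2, rfl,
    fun x hx => (mem5 x (List.mem_cons_of_mem _ (List.mem_cons_of_mem _ hx))).1,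
    fun x hx y hy => co5 x (List.mem_cons_of_mem _ (List.mem_cons_of_mem _ hx)) y
      (List.mem_cons_of_mem _ (List.mem_cons_of_mem _ hy)), ?_⟩, ?_, ?_⟩
  · rw [show a * b * c = z * b * c by rw [hza], hzb.eq, ez, ← mul_assoc b b y,
      Trans3.sq_one hD.1 hbD, one_mul, ey]
    have k1 := co5 c (by simp) t₁ (by simp)
    have k2 := co5 c (by simp) t₂ (by simp)
    have k3 := co5 c (by simp) t₃ (by simp)
    have hcT : Commute c (t₁ * t₂ * t₃) := (k1.mul_right k2).mul_right k3
    simp only [List.prod_cons, List.prod_nil, mul_one]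
    rw [show c * t₁ * t₂ * t₃ * c = c * ((t₁ * t₂ * t₃) * c) by group, ← hcT.eq,
      invol_cancel (hD.1.1 c hc.1), mul_assoc]
  · intro hat
    exact (mem5 a (List.mem_cons_of_mem _ (List.mem_cons_of_mem _ hat))).2.1 rfl
  intro l hl hdisj
  have hcrs : ∀ x ∈ [a, b, c], ∀ w ∈ l, Commute w x := by
    intro x hx w hw
    have hFac : Fac D 3 (a * b * c) [a, b, c] := ⟨by simp [Ne.symm hb.2.1, Ne.symm hc.2.1, hbc],
      rfl, by simp [ha, hbD, hc.1], by
        simp [hb.2.2, hb.2.2.symm, hc.2.2, hc.2.2.symm, hcomm, hcomm.symm], by simp [mul_assoc]⟩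
    refine commute_of_prod hD le_rfl hFac (hl.2.2.1 w hw) ?_ x hx
    rw [← hl.2.2.2.2]
    exact Commute.list_prod_right _ _ fun v hv => hl.2.2.2.1 w hw v hv
  have hmemn : ∀ w ∈ l, w ∈ nbrs D a := fun w hw =>
    ⟨hl.2.2.1 w hw, fun e => hdisj a (by simp) (e ▸ hw), (hcrs a (by simp) w hw).symm⟩
  match l, hl, hdisj, hcrs, hmemn with
  | [w₁, w₂, w₃], hl, hdisj, hcrs, hmemn =>
    have h₁ := hmemn w₁ (by simp)
    have h₂ := hmemn w₂ (by simp)
    have h₃ := hmemn w₃ (by simp)
    obtain ⟨W, eW⟩ : ∃ W : List {x // x ∈ nbrs D a},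
        W = [⟨b, hb⟩, ⟨c, hc⟩, ⟨w₁, h₁⟩, ⟨w₂, h₂⟩, ⟨w₃, h₃⟩] := ⟨_, rfl⟩
    have hWb : W.map (fun x => bar x.2) = [bar hb, bar hc, bar h₁, bar h₂, bar h₃] := by
      rw [eW]; rfl
    have hWv : W.map Subtype.val = [b, c, w₁, w₂, w₃] := by rw [eW]; rfl
    have hbl : b ∉ [w₁, w₂, w₃] := hdisj b (by simp)
    have hcl : c ∉ [w₁, w₂, w₃] := hdisj c (by simp)
    have hWnd : W.Nodup := List.Nodup.of_map Subtype.val (by
      rw [hWv, List.nodup_cons, List.nodup_cons]
      exact ⟨fun hm => (List.mem_cons.1 hm).elim hbc hbl, hcl, hl.1⟩)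
    have hres := huniq (bar h₁) (bar h₂) (bar h₃)
      (hWb ▸ hWnd.map fun u v e => Subtype.ext (hN.bar_inj ha u.2 v.2 e))
      (by
        intro q hq
        rw [← hWb] at hq
        obtain ⟨u, -, rfl⟩ := List.mem_map.1 hq
        exact bar_mem u.2)
      (by
        intro q hq q' hq'
        rw [← hWb] at hq hq'
        obtain ⟨u, hu, rfl⟩ := List.mem_map.1 hq
        obtain ⟨v, hv, rfl⟩ := List.mem_map.1 hq'
        refine (commute_bar hPre u.2 v.2).2 ?_
        have hu' := List.mem_map_of_mem (f := Subtype.val) hu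
        have hv' := List.mem_map_of_mem (f := Subtype.val) hv
        rw [hWv, show [b, c, w₁, w₂, w₃] = [b, c] ++ [w₁, w₂, w₃] from rfl] at hu' hv'
        rcases List.mem_append.1 hu' with hu' | hu' <;> rcases List.mem_append.1 hv' with hv' | hv'
        · simp only [List.mem_cons, List.not_mem_nil, or_false] at hu' hv'
          rcases hu' with e | e <;> rcases hv' with e' | e' <;> rw [e, e']
          all_goals first | exact Commute.refl _ | exact hcomm | exact hcomm.symm
        · exact (hcrs _ (List.mem_cons_of_mem _ hu') _ hv').symm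
        · exact hcrs _ (List.mem_cons_of_mem _ hv') _ hu'
        · exact hl.2.2.2.1 _ hu' _ hv')
      (by
        let u : ↥(Hd D a) := ⟨b, Subgroup.subset_closure hb⟩ * (⟨c, Subgroup.subset_closure hc⟩ *
          (⟨w₁, Subgroup.subset_closure h₁⟩ * (⟨w₂, Subgroup.subset_closure h₂⟩ *
          ⟨w₃, Subgroup.subset_closure h₃⟩)))
        have hu : (u : G) = a := by
          show b * (c * (w₁ * (w₂ * w₃))) = a
          have hp := hl.2.2.2.2
          simp only [List.prod_cons, List.prod_nil, mul_one] at hp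
          have habc : Commute a (b * c) := hb.2.2.mul_right hc.2.2
          have hsq : b * c * (b * c) = 1 := by
            rw [hcomm.eq, mul_assoc, ← mul_assoc b c b, hcomm.eq, mul_assoc c b b,
              Trans3.sq_one hD.1 hbD, mul_one, Trans3.sq_one hD.1 hc.1]
          rw [← mul_assoc, hp, mul_assoc a b c, habc.eq, ← mul_assoc (b * c), hsq, one_mul]
        have : u ∈ Subgroup.center ↥(Hd D a) := central_Hd fun e he => hu.symm ▸ he.2.2
        simp only [List.prod_cons, List.prod_nil, mul_one]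
        exact (QuotientGroup.eq_one_iff u).2 this)
    intro x
    constructor
    · intro hx
      have hxn := hmemn x hx
      have : bar hxn ∈ [bar h₁, bar h₂, bar h₃] := by
        simp only [List.mem_cons, List.not_mem_nil, or_false] at hx
        rcases hx with rfl | rfl | rfl <;> simp
      have h' := (hres _).1 this
      simp only [List.mem_cons, List.not_mem_nil, or_false] at h' ⊢
      rcases h' with e | e | e
      exacts [Or.inl (hN.bar_inj ha hxn ht₁ e), Or.inr (Or.inl (hN.bar_inj ha hxn ht₂ e)),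
        Or.inr (Or.inr (hN.bar_inj ha hxn ht₃ e))]
    · intro hx
      have hxn := mem5 x (List.mem_cons_of_mem _ (List.mem_cons_of_mem _ hx))
      have : bar hxn ∈ [bar ht₁, bar ht₂, bar ht₃] := by
        simp only [List.mem_cons, List.not_mem_nil, or_false] at hx
        rcases hx with rfl | rfl | rfl <;> simp
      have h' := (hres _).2 this
      simp only [List.mem_cons, List.not_mem_nil, or_false] at h' ⊢
      rcases h' with e | e | e
      exacts [Or.inl (hN.bar_inj ha hxn h₁ e), Or.inr (Or.inl (hN.bar_inj ha hxn h₂ e)),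
        Or.inr (Or.inr (hN.bar_inj ha hxn h₃ e))]
  | [], hl, _, _, _ => exact absurd hl.2.1 (by simp)
  | [_], hl, _, _, _ => exact absurd hl.2.1 (by simp)
  | [_, _], hl, _, _, _ => exact absurd hl.2.1 (by simp)
  | _ :: _ :: _ :: _ :: _, hl, _, _, _ => exact absurd hl.2.1 (by simp)

end CfsgLib.Trans3.Fi
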