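import Cfsg.Agent.Lib.Trans3.Fi.U6Plane
import Cfsg.Agent.Lib.Trans3.Fi.Products
import Cfsg.Agent.Lib.Classical.UnitaryGen
import Cfsg.Prelude.Def_CaseTheorems

/-!
A group of type M(22) is simple and its transposition neighbourhood groups are quasisimple
with centre generated by the transposition.
-/

set_option autoImplicit false

namespace CfsgLib.Trans3.Fi

open scoped commutatorElement

variable {G : Type*} [Group G] [Finite G] {D : Set G}
variable (hD : Cfsg.IsThreeTranspositionGroup D) (hP : Cfsg.IsPrimitiveUnderConj D)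
variable (h : Cfsg.IsOfTypeM22 G D)
include hD h

theorem m22_isU6 {a : G} (ha : a ∈ D) : IsU6 (Qd D a) := by
  have hN := nice_m22 hD h
  obtain ⟨-, d, hd, c, hc, hdc, hU, -⟩ := h
  exact hN.isU6_all hd hU ha

/-- Two distinct commuting neighbours exist. -/
theorem m22_pair {a : G} (ha : a ∈ D) :
    ∃ b ∈ nbrs D a, ∃ c ∈ nbrs D a, b ≠ c ∧ Commute b c := by
  obtain ⟨p, q, r, x, y, z, -, -, -, ⟨h1, h2, h3, -⟩, -, -⟩ :=
    u6_planes (m22_isU6 hD h ha) ((nice_m22 hD h).group_Db ha)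
  obtain ⟨b, hb, eb⟩ := exists_bar (h2 p (by simp))
  obtain ⟨c, hc, ec⟩ := exists_bar (h2 q (by simp))
  simp only [List.nodup_cons, List.mem_cons, List.not_mem_nil, or_false, not_or] at h1
  refine ⟨b, hb, c, hc, fun e => h1.1.1 ?_, (commute_bar (pre_of_group hD) hb hc).1 ?_⟩
  · subst e; rw [eb, ec]
  · rw [← eb, ← ec]; exact h3 p (by simp) q (by simp)

include hP

/-- A member lies in its neighbourhood group, as a product of five of its neighbours. -/
theorem m22_five {a : G} (ha : a ∈ D) :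
    ∃ l : List G, l.length = 5 ∧ (∀ x ∈ l, x ∈ nbrs D a) ∧ l.prod = a := by
  obtain ⟨b, hb, c, hc, hbc, hcomm⟩ := m22_pair hD h ha
  obtain ⟨t₁, t₂, t₃, ht, hat, -⟩ := m22_line hD hP h ha hb hc hbc hcomm
  have hfac : Fac D 3 (a * b * c) [a, b, c] := ⟨by
      simp [Ne.symm hb.2.1, Ne.symm hc.2.1, hbc], rfl, by simp [ha, hb.1, hc.1], by
      simp [hb.2.2, hb.2.2.symm, hc.2.2, hc.2.2.symm, hcomm, hcomm.symm], by simp [mul_assoc]⟩
  have hat' : ∀ t ∈ [t₁, t₂, t₃], t ∈ nbrs D a := fun t htm => by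
    refine ⟨ht.2.2.1 t htm, fun e => hat (e ▸ htm), ?_⟩
    refine commute_of_prod hD le_rfl ht ha ?_ t htm
    rw [← hfac.2.2.2.2]
    exact Commute.list_prod_right _ _ fun v hv => hfac.2.2.2.1 a (by simp) v hv
  refine ⟨[b, c, t₁, t₂, t₃], rfl, ?_, ?_⟩
  · intro x hx
    rcases List.mem_cons.1 hx with rfl | hx
    · exact hb
    rcases List.mem_cons.1 hx with rfl | hx
    · exact hc
    · exact hat' x hx
  · have hp := ht.2.2.2.2
    simp only [List.prod_cons, List.prod_nil, mul_one] at hp ⊢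
    rw [hp, mul_assoc a b c, (hb.2.2.mul_right hc.2.2).eq, ← mul_assoc b c, ← mul_assoc,
      hcomm.eq]
    rw [show c * b * (c * b) = c * (b * c) * b by group, hcomm.eq,
      show c * (c * b) * b = (c * c) * (b * b) by group, Trans3.sq_one hD.1 hc.1,
      Trans3.sq_one hD.1 hb.1, one_mul, one_mul]

theorem m22_mem {a : G} (ha : a ∈ D) : a ∈ Hd D a := by
  obtain ⟨l, -, hl, hp⟩ := m22_five hD hP h ha
  have := Subgroup.list_prod_mem (Hd D a) (l := l) fun x hx => Subgroup.subset_closure (hl x hx)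
  rwa [hp] at this

/-- Only `1` and `a` centralise `a`, all its neighbours, and their group. -/
theorem m22_centralizer {a z : G} (ha : a ∈ D) (hzH : ∀ y ∈ D, Commute a y → Commute z y) :
    z = 1 ∨ z = a := by
  have hN := nice_m22 hD h
  obtain ⟨c, hc, hac⟩ := exists_noncomm_of_primitive hD hP ha
  obtain ⟨b₀, hb₀, -⟩ := m22_pair hD h ha
  have hw : ∃ u ∈ D, ∃ v ∈ D, u ≠ v ∧ Commute u v := ⟨b₀, hb₀.1, a, ha, hb₀.2.1, hb₀.2.2.symm⟩
  -- what fixes one non-commuting member is central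
  have key : ∀ w, (∀ y ∈ D, Commute a y → Commute w y) → Commute w c → w = 1 := by
    intro w hw' hwc
    have : w ∈ Subgroup.center G := by
      rw [Subgroup.mem_center_iff]
      intro g
      have hg : g ∈ Subgroup.closure D := hD.2.2 ▸ Subgroup.mem_top g
      induction hg using Subgroup.closure_induction with
      | mem y hy =>
        by_cases hay : Commute a y
        · exact (hw' y hy hay).eq.symm
        · obtain ⟨k, hk, rfl⟩ := trans_noncomm_closure hD hP hw ha hc hac hy hay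
          have hall : ∀ g' ∈ Subgroup.closure {y | y ∈ D ∧ Commute a y}, Commute w g' := by
            intro g' hg'
            induction hg' using Subgroup.closure_induction with
            | mem u hu => exact hw' u hu.1 hu.2
            | one => exact Commute.one_right _
            | mul _ _ _ _ h1 h2 => exact h1.mul_right h2
            | inv _ _ h1 => exact h1.inv_right
          have hwk : Commute w k := hall k hk
          exact ((hwk.mul_right hwc).mul_right hwk.inv_right).eq.symm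
      | one => simp
      | mul _ _ _ _ h1 h2 => exact (Commute.mul_left h1 h2 : Commute _ w)
      | inv _ _ h1 => exact (Commute.inv_left h1 : Commute _ w)
    rwa [hN.center, Subgroup.mem_bot] at this
  -- a common neighbour of `a` and `c`
  obtain ⟨c', hc', hac'⟩ : ∃ c', c' = z * c * z⁻¹ ∧ ¬ Commute a c' := ⟨_, rfl, fun h' => hac (by
    have hza : z * a * z⁻¹ = a := conj_eq_of_commute (hzH a ha (Commute.refl a))
    rw [← hza] at h'
    exact (commute_conj_iff z a c).1 h')⟩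
  have hc'D : c' ∈ D := hc' ▸ hD.2.1 z c hc
  obtain ⟨g, hb, hbc⟩ : ∃ g, g ∈ nbrs D a ∧ Commute g c := by
    have hPre := pre_of_group hD
    have hab : a ∈ nbrs D b₀ := ⟨ha, Ne.symm hb₀.2.1, hb₀.2.2.symm⟩
    have hU := m22_u6 hD h hb₀.1
    obtain ⟨q, hq, hnc⟩ : ∃ q ∈ Db D b₀, ¬ Commute (bar hab) q := by
      by_contra! hall
      obtain ⟨u, hu, v, hv, huv⟩ := hU.pair
      have : ∀ e ∈ Db D b₀, Commute u e := fun e he => by
        obtain ⟨k, hk⟩ := hU.conj _ (bar_mem hab) u hu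
        have h1 := hall (k⁻¹ * e * k) (by simpa using hU.group.2.1 k⁻¹ e he)
        rw [← hk, show e = k * (k⁻¹ * e * k) * k⁻¹ by group]
        exact h1.map (MulAut.conj k).toMonoidHom
      exact huv (this v hv)
    obtain ⟨c₀, hc₀, rfl⟩ := exists_bar hq
    obtain ⟨k, hk, hk'⟩ := trans_noncomm hD hP hw ha hc₀.1
      (fun h' => hnc ((commute_bar hPre hab hc₀).2 h')) hc hac
    refine ⟨k * b₀ * k⁻¹, ⟨hD.2.1 k b₀ hb₀.1,
      fun e => hb₀.2.1 (mul_left_cancel (mul_right_cancel (e.trans hk.symm))), ?_⟩, ?_⟩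
    · nth_rw 1 [← hk]
      exact (commute_conj_iff k a b₀).2 hb₀.2.2
    · rw [← hk']
      exact (commute_conj_iff k b₀ c₀).2 hc₀.2.2
  have hbD := hb.1
  have hzb : Commute z g := hzH g hbD hb.2.2
  have hab : a ∈ nbrs D g := ⟨ha, Ne.symm hb.2.1, hb.2.2.symm⟩
  have hcb : c ∈ nbrs D g := ⟨hc, fun e => hac (e ▸ hb.2.2), hbc⟩
  have hc'b : c' ∈ nbrs D g := by
    refine ⟨hc'D, fun e => hac' (e ▸ hb.2.2), ?_⟩
    have := (commute_conj_iff z g c).2 hbc
    rwa [conj_eq_of_commute hzb, ← hc'] at this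
  have hPre := pre_of_group hD
  rcases u6_hyper (m22_isU6 hD h hbD) (hN.group_Db hbD) (bar_mem hab) (bar_mem hcb) (bar_mem hc'b)
      (fun h' => hac ((commute_bar hPre hab hcb).1 h')) (fun q hq h1 h2 => by
        obtain ⟨e, he, rfl⟩ := exists_bar hq
        rw [commute_bar hPre] at h1 h2 ⊢
        have := (commute_conj_iff z e c).2 h2
        rwa [conj_eq_of_commute (hzH e he.1 h1.symm), ← hc'] at this) with e | e | e
  · exact absurd (hN.bar_inj hbD hc'b hab e) fun h' => hac' (h' ▸ Commute.refl a)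
  · left
    exact key z hzH (by
      have e' := hN.bar_inj hbD hc'b hcb e
      rw [hc'] at e'
      exact mul_inv_eq_iff_eq_mul.1 e')
  · right
    have hacb : a * c * a ∈ nbrs D g := ⟨self_conj_mem hD ha hc,
      fun e' => hac (by
        have h1 : Commute a (a * c * a) := e'.symm ▸ hb.2.2
        have := ((Commute.refl a).mul_right h1).mul_right (Commute.refl a)
        rwa [show a * (a * c * a) * a = (a * a) * c * (a * a) by group, Trans3.sq_one hD.1 ha,
          one_mul, mul_one] at this),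
      (hb.2.2.symm.mul_right hbc).mul_right hb.2.2.symm⟩
    have e' : c' = a * c * a := hN.bar_inj hbD hc'b hacb (e.trans (by
      show (QuotientGroup.mk _ : Qd D g) * QuotientGroup.mk _ * QuotientGroup.mk _ = _
      rw [← QuotientGroup.mk_mul, ← QuotientGroup.mk_mul]; rfl))
    have h1 : a * z = 1 := by
      refine key (a * z) (fun y hy hay => hay.mul_left (hzH y hy hay)) ?_
      show a * z * c = c * (a * z)
      have h2 : z * c = a * c * a * z := by rw [← e', hc', inv_mul_cancel_right]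
      rw [mul_assoc, h2, show a * (a * c * a * z) = (a * a) * (c * (a * z)) by group,
        Trans3.sq_one hD.1 ha, one_mul]
    rw [eq_inv_of_mul_eq_one_right h1, inv_eq hD.1 ha]

theorem m22_center_Hd {a : G} (ha : a ∈ D) :
    Subgroup.center ↥(Hd D a) = (Subgroup.zpowers a).subgroupOf (Hd D a) := by
  ext x
  rw [Subgroup.mem_subgroupOf]
  constructor
  · intro hx
    have hc : ∀ y ∈ Hd D a, Commute (x : G) y := fun y hy =>
      (congrArg Subtype.val (Subgroup.mem_center_iff.1 hx ⟨y, hy⟩)).symm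
    rcases m22_centralizer hD hP h ha (z := (x : G)) (fun y hy hay => by
        by_cases hya : y = a
        · exact hya ▸ hc a (m22_mem hD hP h ha)
        · exact hc y (Subgroup.subset_closure ⟨hy, hya, hay⟩)) with e | e
    · rw [e]; exact one_mem _
    · rw [e]; exact Subgroup.mem_zpowers a
  · intro hx
    refine central_Hd fun y hy => ?_
    obtain ⟨n, hn⟩ := hx
    rw [← hn]
    exact hy.2.2.zpow_left n

theorem m22_perfect {a : G} (ha : a ∈ D) : Group.IsPerfect ↥(Hd D a) := by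
  rw [Group.isPerfect_def]
  have hN := nice_m22 hD h
  have hPre := pre_of_group hD
  obtain ⟨N, eN⟩ : ∃ N : Subgroup ↥(Hd D a), N = commutator ↥(Hd D a) := ⟨_, rfl⟩
  haveI : N.Normal := eN ▸ inferInstance
  rw [← eN]
  have hab : ∀ p q : ↥(Hd D a), (QuotientGroup.mk' N p) * QuotientGroup.mk' N q =
      QuotientGroup.mk' N q * QuotientGroup.mk' N p := by
    intro p q
    rw [← map_mul, ← map_mul]
    refine (QuotientGroup.eq).2 ?_
    rw [eN, show (p * q)⁻¹ * (q * p) = ⁅q⁻¹, p⁻¹⁆ by rw [commutatorElement_def]; group]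
    exact Subgroup.commutator_mem_commutator (Subgroup.mem_top _) (Subgroup.mem_top _)
  -- all generators agree modulo `N`
  obtain ⟨b₀, hb₀, -⟩ := m22_pair hD h ha
  obtain ⟨β, eβ⟩ : ∃ β, β = QuotientGroup.mk' N ⟨b₀, Subgroup.subset_closure hb₀⟩ := ⟨_, rfl⟩
  have hβ : ∀ y (hy : y ∈ nbrs D a),
      QuotientGroup.mk' N ⟨y, Subgroup.subset_closure hy⟩ = β := by
    intro y hy
    obtain ⟨q, hq⟩ := (m22_u6 hD h ha).conj _ (bar_mem hb₀) _ (bar_mem hy)
    obtain ⟨k, rfl⟩ := QuotientGroup.mk_surjective q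
    let v : ↥(Hd D a) := ⟨b₀, Subgroup.subset_closure hb₀⟩
    have hk : (k : G) * b₀ * (k : G)⁻¹ ∈ nbrs D a := ⟨hD.2.1 _ _ hb₀.1, fun e => hb₀.2.1 (by
      have : (k : G) * b₀ = k * a := by
        rw [← (commute_Hd k.2).eq]; exact mul_inv_eq_iff_eq_mul.1 e
      exact mul_left_cancel this),
      ((commute_Hd k.2).mul_right hb₀.2.2).mul_right (commute_Hd k.2).inv_right⟩
    have e := hN.bar_inj ha hk hy hq
    rw [show (⟨y, Subgroup.subset_closure hy⟩ : ↥(Hd D a)) = k * v * k⁻¹ from Subtype.ext e.symm,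
      map_mul, map_mul, hab k v, mul_assoc, ← map_mul, mul_inv_cancel, map_one, mul_one, eβ]
  have hlist : ∀ (l : List G), (∀ y ∈ l, y ∈ nbrs D a) → ∃ hm : l.prod ∈ Hd D a,
      QuotientGroup.mk' N ⟨l.prod, hm⟩ = β ^ l.length := by
    intro l
    induction l with
    | nil => intro _; exact ⟨by simp, by simp; exact one_mem N⟩
    | cons y t ih =>
      intro hl
      obtain ⟨hm, he⟩ := ih fun u hu => hl u (List.mem_cons_of_mem _ hu)
      have hy := hl y List.mem_cons_self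
      have hm' : y * t.prod ∈ Hd D a := mul_mem (Subgroup.subset_closure hy) hm
      refine ⟨List.prod_cons (a := y) (l := t) ▸ hm', ?_⟩
      rw [List.length_cons, pow_succ', ← he, ← hβ y hy, ← map_mul]
      exact congrArg _ (Subtype.ext List.prod_cons)
  have hβ2 : β * β = 1 := by
    rw [eβ, ← map_mul, show (⟨b₀, Subgroup.subset_closure hb₀⟩ : ↥(Hd D a)) * ⟨b₀,
      Subgroup.subset_closure hb₀⟩ = 1 from Subtype.ext (Trans3.sq_one hD.1 hb₀.1), map_one]
  obtain ⟨l5, hl5, hm5, hp5⟩ := m22_five hD hP h ha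
  obtain ⟨hm, he5⟩ := hlist l5 hm5
  have hd5 : QuotientGroup.mk' N ⟨a, m22_mem hD hP h ha⟩ = β := by
    rw [show (⟨a, m22_mem hD hP h ha⟩ : ↥(Hd D a)) = ⟨l5.prod, hm⟩ from Subtype.ext hp5.symm, he5,
      hl5, show (5 : ℕ) = 2 * 2 + 1 from rfl, pow_succ, pow_mul, pow_two β, hβ2, one_pow, one_mul]
  suffices hβ1 : β = 1 by
    rw [eq_top_iff]
    intro x _
    have hx : x ∈ Subgroup.closure {x : ↥(Hd D a) | (x : G) ∈ nbrs D a} := by
      rw [show {x : ↥(Hd D a) | (x : G) ∈ nbrs D a} = Subtype.val ⁻¹' nbrs D a from rfl]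
      exact (Subgroup.closure_closure_coe_preimage (k := nbrs D a)).symm ▸ Subgroup.mem_top x
    refine (Subgroup.closure_le N).2 ?_ hx
    intro u hu
    have := hβ u hu
    rw [hβ1] at this
    exact (QuotientGroup.eq_one_iff _).1 this
  -- six members with product `1` in two ways
  obtain ⟨p, q, r, x, y, z, x', y', z', ⟨n1, m1, c1, e1⟩, ⟨n2, m2, c2, e2⟩, hx⟩ :=
    u6_planes (m22_isU6 hD h ha) (hN.group_Db ha)
  obtain ⟨b, hb, rfl⟩ := exists_bar (m1 p (by simp))
  obtain ⟨c, hc, rfl⟩ := exists_bar (m1 q (by simp))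
  obtain ⟨e, he, rfl⟩ := exists_bar (m1 r (by simp))
  obtain ⟨u, hu, rfl⟩ := exists_bar (m1 x (by simp))
  obtain ⟨v, hv, rfl⟩ := exists_bar (m1 y (by simp))
  obtain ⟨w, hw, rfl⟩ := exists_bar (m1 z (by simp))
  obtain ⟨u', hu', rfl⟩ := exists_bar (m2 x' (by simp))
  obtain ⟨v', hv', rfl⟩ := exists_bar (m2 y' (by simp))
  obtain ⟨w', hw', rfl⟩ := exists_bar (m2 z' (by simp))
  by_contra hne
  have six : ∀ (L : List {g // g ∈ nbrs D a}), L.length = 6 →
      (L.map fun g => bar g.2).prod = 1 → (L.map Subtype.val).prod = 1 := by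
    intro L hlen hprod
    obtain ⟨hm, he⟩ := hlist (L.map Subtype.val) (fun g hg => by
      obtain ⟨g', -, rfl⟩ := List.mem_map.1 hg
      exact g'.2)
    have hmk : QuotientGroup.mk' (Subgroup.center ↥(Hd D a)) ⟨(L.map Subtype.val).prod, hm⟩ = 1 := by
      rw [← hprod, show (⟨(L.map Subtype.val).prod, hm⟩ : ↥(Hd D a)) = (L.map fun g =>
        (⟨g.1, Subgroup.subset_closure g.2⟩ : ↥(Hd D a))).prod from Subtype.ext (by
          rw [Subgroup.val_list_prod, List.map_map]; rfl), map_list_prod, List.map_map]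
      rfl
    have hz := (QuotientGroup.eq_one_iff _).1 hmk
    rw [m22_center_Hd hD hP h ha, Subgroup.mem_subgroupOf, Subgroup.mem_zpowers_iff] at hz
    obtain ⟨n, hn⟩ := hz
    change a ^ n = (L.map Subtype.val).prod at hn
    rcases Int.even_or_odd' n with ⟨k, rfl | rfl⟩
    · rw [← hn, zpow_mul, zpow_two, Trans3.sq_one hD.1 ha, one_zpow]
    · exfalso
      have hval : (L.map Subtype.val).prod = a := by
        rw [← hn, zpow_add, zpow_mul, zpow_two, Trans3.sq_one hD.1 ha, one_zpow, one_mul, zpow_one]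
      refine hne ?_
      rw [← hd5, show (⟨a, m22_mem hD hP h ha⟩ : ↥(Hd D a)) = ⟨(L.map Subtype.val).prod, hm⟩ from
        Subtype.ext hval.symm, he, List.length_map, hlen, show (6 : ℕ) = 2 * 3 from rfl, pow_mul,
        pow_two, hβ2, one_pow]
  obtain ⟨L₁, eL₁⟩ : ∃ L : List {g // g ∈ nbrs D a},
      L = [⟨b, hb⟩, ⟨c, hc⟩, ⟨e, he⟩, ⟨u, hu⟩, ⟨v, hv⟩, ⟨w, hw⟩] := ⟨_, rfl⟩
  obtain ⟨L₂, eL₂⟩ : ∃ L : List {g // g ∈ nbrs D a},
      L = [⟨b, hb⟩, ⟨c, hc⟩, ⟨e, he⟩, ⟨u', hu'⟩, ⟨v', hv'⟩, ⟨w', hw'⟩] := ⟨_, rfl⟩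
  have fac : ∀ (L : List {g // g ∈ nbrs D a}) (s₁ s₂ s₃ t₁ t₂ t₃ : G),
      L.map Subtype.val = [s₁, s₂, s₃, t₁, t₂, t₃] → (L.map fun g => bar g.2).Nodup →
      (∀ g ∈ L.map fun g => bar g.2, ∀ g' ∈ L.map fun g => bar g.2, Commute g g') →
      (L.map fun g => bar g.2).prod = 1 →
      Fac D 3 (s₁ * s₂ * s₃) [t₁, t₂, t₃] ∧ (∀ g ∈ [s₁, s₂, s₃], g ∉ [t₁, t₂, t₃]) := by
    intro L s₁ s₂ s₃ t₁ t₂ t₃ hv' hnd' hco hprod
    have hlen : L.length = 6 := by simpa using congrArg List.length hv'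
    have h1 := six L hlen hprod
    have hnd : ([s₁, s₂, s₃] ++ [t₁, t₂, t₃]).Nodup := by
      rw [show [s₁, s₂, s₃] ++ [t₁, t₂, t₃] = L.map Subtype.val from hv'.symm]
      exact (List.Nodup.of_map _ hnd').map Subtype.val_injective
    have hmemD : ∀ g ∈ [s₁, s₂, s₃] ++ [t₁, t₂, t₃], g ∈ D := fun g hg => by
      rw [show [s₁, s₂, s₃] ++ [t₁, t₂, t₃] = L.map Subtype.val from hv'.symm] at hg
      obtain ⟨g', -, rfl⟩ := List.mem_map.1 hg
      exact g'.2.1
    have hcomm : ∀ g ∈ [s₁, s₂, s₃] ++ [t₁, t₂, t₃], ∀ g' ∈ [s₁, s₂, s₃] ++ [t₁, t₂, t₃],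
        Commute g g' := fun g hg g' hg' => by
      rw [show [s₁, s₂, s₃] ++ [t₁, t₂, t₃] = L.map Subtype.val from hv'.symm] at hg hg'
      obtain ⟨g, hgL, rfl⟩ := List.mem_map.1 hg
      obtain ⟨g', hgL', rfl⟩ := List.mem_map.1 hg'
      exact (commute_bar hPre g.2 g'.2).1 (hco _ (List.mem_map_of_mem hgL) _ (List.mem_map_of_mem hgL'))
    obtain ⟨n1', n2', n3'⟩ := List.nodup_append'.1 hnd
    have fs : Fac D 3 (s₁ * s₂ * s₃) [s₁, s₂, s₃] :=
      ⟨n1', rfl, fun g hg => hmemD g (List.mem_append_left _ hg),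
        fun g hg g' hg' => hcomm g (List.mem_append_left _ hg) g' (List.mem_append_left _ hg'),
        by simp [mul_assoc]⟩
    refine ⟨⟨n2', rfl, fun g hg => hmemD g (List.mem_append_right _ hg),
      fun g hg g' hg' => hcomm g (List.mem_append_right _ hg) g' (List.mem_append_right _ hg'), ?_⟩,
      fun g hg hg' => n3' hg hg'⟩
    rw [hv', show [s₁, s₂, s₃, t₁, t₂, t₃] = [s₁, s₂, s₃] ++ [t₁, t₂, t₃] from rfl,
      List.prod_append, fs.2.2.2.2] at h1
    rw [eq_inv_of_mul_eq_one_right h1, inv_eq_of_mul_eq_one_right (fac_sq hD fs)]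
  have v1 : L₁.map Subtype.val = [b, c, e, u, v, w] := by rw [eL₁]; rfl
  have v2 : L₂.map Subtype.val = [b, c, e, u', v', w'] := by rw [eL₂]; rfl
  obtain ⟨f1, d1⟩ := fac L₁ b c e u v w v1 (by rw [eL₁]; exact n1) (by rw [eL₁]; exact c1)
    (by rw [eL₁]; exact e1)
  obtain ⟨f2, d2⟩ := fac L₂ b c e u' v' w' v2 (by rw [eL₂]; exact n2) (by rw [eL₂]; exact c2)
    (by rw [eL₂]; exact e2)
  have hbc : Commute b c := (commute_bar hPre hb hc).1 (c1 _ (by simp) _ (by simp))
  have hbe : Commute b e := (commute_bar hPre hb he).1 (c1 _ (by simp) _ (by simp))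
  have hce : Commute c e := (commute_bar hPre hc he).1 (c1 _ (by simp) _ (by simp))
  simp only [List.nodup_cons, List.mem_cons, List.not_mem_nil, or_false, not_or] at n1
  have ebc : b ≠ c := fun e' => n1.1.1 (by subst e'; rfl)
  have ebe : b ≠ e := fun e' => n1.1.2.1 (by subst e'; rfl)
  have ece : c ≠ e := fun e' => n1.2.1.1 (by subst e'; rfl)
  obtain ⟨t₁, t₂, t₃, -, -, huniq⟩ := m22_line hD hP h hb.1 (b := c) (c := e)
    ⟨hc.1, Ne.symm ebc, hbc⟩ ⟨he.1, Ne.symm ebe, hbe⟩ ece hce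
  have hsame := ((huniq _ f1 d1) u).1 (by simp)
  rw [← huniq _ f2 d2 u] at hsame
  simp only [List.mem_cons, List.not_mem_nil, or_false, not_or] at hsame hx
  rcases hsame with e' | e' | e'
  exacts [hx.1 (by subst e'; rfl), hx.2.1 (by subst e'; rfl), hx.2.2 (by subst e'; rfl)]

theorem m22_quasisimple {a : G} (ha : a ∈ D) : Cfsg.IsQuasisimple ↥(Hd D a) := by
  refine ⟨m22_perfect hD hP h ha, ?_⟩
  obtain ⟨F, i₁, i₂, hF, ⟨e⟩⟩ := m22_isU6 hD h ha
  have hF' : Fintype.card F = 2 ^ 2 := hF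
  haveI := CfsgLib.Classical.isSimpleGroup_psu hF' (n := 6) (by norm_num) (by norm_num)
  exact e.isSimpleGroup

theorem m22_simple : IsSimpleGroup G := by
  have hN := nice_m22 hD h
  obtain ⟨a, ha, b₁, hb₁, hnc⟩ := hN.pair
  haveI : Nontrivial G := ⟨⟨a, 1, invol_ne_one (hD.1.1 a ha)⟩⟩
  refine ⟨fun N hN' => ?_⟩
  by_contra hne
  obtain ⟨hne1, hne2⟩ := not_or.1 hne
  haveI := hN'
  -- `N` is transitive on `D`
  have htrans : ∀ y ∈ D, ∃ n ∈ N, n * a * n⁻¹ = y := by
    have hR := fun {d e x : G} (hd : d ∈ D) (he : e ∈ D) (hde : d ≠ e)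
      (hr : ∃ n ∈ N, n * d * n⁻¹ = e) (hx : x ∈ D) =>
      eq_of_equivariant hD hP (fun u v => ∃ n ∈ N, n * u * n⁻¹ = v)
        (fun u _ => ⟨1, one_mem N, by group⟩)
        (fun u v ⟨n, hn, e⟩ => ⟨n⁻¹, Subgroup.inv_mem _ hn, by rw [← e]; group⟩)
        (fun u v w ⟨n, hn, e⟩ ⟨m, hm, e'⟩ => ⟨m * n, mul_mem hm hn, by rw [← e', ← e]; group⟩)
        (fun g u v ⟨n, hn, e⟩ => ⟨g * n * g⁻¹, hN'.conj_mem n hn g, by rw [← e]; group⟩)
        hd he hde hr hx
    by_cases hall : ∀ n ∈ N, ∀ d ∈ D, n * d * n⁻¹ = d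
    · exfalso
      refine hne1 ((Subgroup.eq_bot_iff_forall N).2 fun n hn => ?_)
      have : n ∈ Subgroup.center G := by
        rw [Subgroup.mem_center_iff]
        intro g
        have hg : g ∈ Subgroup.closure D := hD.2.2 ▸ Subgroup.mem_top g
        induction hg using Subgroup.closure_induction with
        | mem y hy => exact (commute_of_conj_eq (hall n hn y hy)).eq.symm
        | one => simp
        | mul _ _ _ _ h1 h2 => exact (Commute.mul_left h1 h2 : Commute _ n)
        | inv _ _ h1 => exact (Commute.inv_left h1 : Commute _ n)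
      rwa [hN.center, Subgroup.mem_bot] at this
    · push Not at hall
      obtain ⟨n, hn, d, hd, hd'⟩ := hall
      intro y hy
      obtain ⟨n1, hn1, e1⟩ := hR hd (hD.2.1 n d hd) (Ne.symm hd') ⟨n, hn, rfl⟩ ha
      obtain ⟨n2, hn2, e2⟩ := hR hd (hD.2.1 n d hd) (Ne.symm hd') ⟨n, hn, rfl⟩ hy
      exact ⟨n2 * n1⁻¹, mul_mem hn2 (Subgroup.inv_mem _ hn1), by rw [← e1, ← e2]; group⟩
  -- `N` contains no member
  have haN : a ∉ N := by
    intro haN
    refine hne2 (eq_top_iff.2 ?_)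
    rw [← hD.2.2, Subgroup.closure_le]
    intro y hy
    obtain ⟨n, hn, rfl⟩ := htrans y hy
    exact mul_mem (mul_mem hn haN) (Subgroup.inv_mem _ hn)
  -- `N` meets the centraliser of `a` trivially
  have hreg : ∀ n ∈ N, Commute n a → n = 1 := by
    obtain ⟨M, eM⟩ : ∃ M : Subgroup ↥(Hd D a), M = N.subgroupOf (Hd D a) := ⟨_, rfl⟩
    haveI : M.Normal := eM ▸ inferInstance
    have hM : M ≤ Subgroup.center ↥(Hd D a) := by
      haveI := (m22_quasisimple hD hP h ha).2
      haveI : (M.map (QuotientGroup.mk' (Subgroup.center ↥(Hd D a)))).Normal :=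
        Subgroup.Normal.map inferInstance _ (QuotientGroup.mk'_surjective _)
      rcases (this : (M.map (QuotientGroup.mk' (Subgroup.center ↥(Hd D a)))).Normal).eq_bot_or_eq_top with e | e
      · intro x hx
        rw [← QuotientGroup.eq_one_iff]
        exact Subgroup.mem_bot.1 (e ▸ Subgroup.mem_map_of_mem _ hx)
      · exfalso
        apply haN
        -- a member of the neighbourhood lies in `N` modulo `a`, so in `N`
        have hperf : commutator ↥(Hd D a) = ⊤ := (m22_perfect hD hP h ha).commutator_eq_top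
        have hle : commutator ↥(Hd D a) ≤ M := by
          rw [commutator_def, Subgroup.commutator_le]
          intro p _ q _
          obtain ⟨p', hp', ep⟩ := e.ge (Subgroup.mem_top (QuotientGroup.mk' _ p))
          obtain ⟨zp, hzp, rfl⟩ : ∃ zp ∈ Subgroup.center ↥(Hd D a), p = p' * zp :=
            ⟨p'⁻¹ * p, QuotientGroup.eq.1 ep, by group⟩
          rw [show ⁅p' * zp, q⁆ = p' * (zp * q * zp⁻¹) * p'⁻¹ * q⁻¹ by
            rw [commutatorElement_def]; group, ← Subgroup.mem_center_iff.1 hzp q,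
            mul_inv_cancel_right, show p' * q * p'⁻¹ * q⁻¹ = p' * (q * p'⁻¹ * q⁻¹) by group]
          exact mul_mem hp' (Subgroup.Normal.conj_mem inferInstance _ (Subgroup.inv_mem _ hp') q)
        have := hle (hperf.ge (Subgroup.mem_top ⟨a, m22_mem hD hP h ha⟩))
        rwa [eM, Subgroup.mem_subgroupOf] at this
    intro n hn hna
    have hcom : ∀ y ∈ D, Commute a y → Commute n y := by
      intro y hy hay
      by_cases hya : y = a
      · exact hya ▸ hna
      have hyn : y ∈ nbrs D a := ⟨hy, hya, hay⟩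
      have hyn' : n * y * n⁻¹ ∈ nbrs D a := by
        have hn' : n * a * n⁻¹ = a := conj_eq_of_commute hna
        refine ⟨hD.2.1 n y hy, fun e => hya (mul_left_cancel (mul_right_cancel (e.trans hn'.symm))), ?_⟩
        rw [← hn']
        exact (commute_conj_iff n a y).2 hay
      -- `[n, y]` lies in the centre of the neighbourhood group and in `N`
      have hm : n * y * n⁻¹ * y⁻¹ ∈ N := by
        rw [show n * y * n⁻¹ * y⁻¹ = n * (y * n⁻¹ * y⁻¹) by group]
        exact mul_mem hn (hN'.conj_mem _ (Subgroup.inv_mem _ hn) y)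
      have hmH : n * y * n⁻¹ * y⁻¹ ∈ Hd D a :=
        mul_mem (Subgroup.subset_closure hyn') (Subgroup.inv_mem _ (Subgroup.subset_closure hyn))
      have hz := hM (show (⟨_, hmH⟩ : ↥(Hd D a)) ∈ M by rw [eM, Subgroup.mem_subgroupOf]; exact hm)
      have : bar hyn' = bar hyn := by
        refine (QuotientGroup.eq_iff_div_mem).2 ?_
        rw [div_eq_mul_inv]
        exact hz
      have := hN.bar_inj ha hyn' hyn this
      exact mul_inv_eq_iff_eq_mul.1 this
    rcases m22_centralizer hD hP h ha hcom with e | e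
    · exact e
    · exact absurd (e ▸ hn) haN
  obtain ⟨b, hb, -⟩ := m22_pair hD h ha
  obtain ⟨n, hn, hnb⟩ := htrans b hb.1
  have h1 : n⁻¹ * (a * n * a⁻¹) = 1 := by
    refine hreg _ (mul_mem (Subgroup.inv_mem _ hn) (hN'.conj_mem n hn a)) ?_
    refine commute_of_conj_eq ?_
    have hab : a * b * a⁻¹ = b := conj_eq_of_commute hb.2.2
    calc n⁻¹ * (a * n * a⁻¹) * a * (n⁻¹ * (a * n * a⁻¹))⁻¹ = n⁻¹ * (a * (n * a * n⁻¹) * a⁻¹) * n := by
          group
      _ = n⁻¹ * (n * a * n⁻¹) * n := by rw [hnb, hab]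
      _ = a := by group
  have h2 : Commute n a := (mul_inv_eq_iff_eq_mul.1 (inv_mul_eq_one.1 h1).symm).symm
  exact hb.2.1 (by rw [← hnb, conj_eq_of_commute h2])

end CfsgLib.Trans3.Fi
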