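import Cfsg.Agent.Lib.Trans3.Fi.U6Plane
import Cfsg.Agent.Lib.Trans3.Primitive
import Cfsg.Agent.Lib.Trans3.RankThree
import Cfsg.Agent.Lib.Classical.UnitaryGen

/-!
In `PSU₆(2)` the centraliser of a transvection is generated by the transvections commuting
with it.
-/

set_option autoImplicit false
set_option linter.unusedSectionVars false
set_option linter.unusedSimpArgs false

namespace CfsgLib.Trans3.Fi

open Matrix CfsgLib.MaxSub CfsgLib.Classical CfsgLib.Trans3.TvSU

variable {F : Type*} [Field F]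

/-- The upper two coordinates, kept, and a new lower block. -/
def pad (x : Fin 6 → F) (w : Fin 4 → F) : Fin 6 → F := ![x 0, x 1, w 0, w 1, w 2, w 3]

/-- The lower four coordinates. -/
def low (x : Fin 6 → F) : Fin 4 → F := ![x 2, x 3, x 4, x 5]

/-- The block matrix `(1,1,A)`. -/
def blk (A : Matrix (Fin 4) (Fin 4) F) : Matrix (Fin 6) (Fin 6) F :=
  Matrix.reindex (finSumFinEquiv (m := 2) (n := 4)) (finSumFinEquiv (m := 2) (n := 4))
    (Matrix.fromBlocks 1 0 0 A)

theorem blk_mulVec (A : Matrix (Fin 4) (Fin 4) F) (x : Fin 6 → F) :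
    blk A *ᵥ x = pad x (A *ᵥ low x) := by
  funext i
  rw [blk, Matrix.reindex_apply, Matrix.submatrix_mulVec_equiv]
  simp only [Equiv.symm_symm, Function.comp_apply, Matrix.fromBlocks_mulVec]
  fin_cases i <;> simp [pad, low, finSumFinEquiv, Fin.addCases, mulVec, dotProduct, Fin.sum_univ_succ]

theorem low_pad (x : Fin 6 → F) (w : Fin 4 → F) : low (pad x w) = w := by
  funext i; fin_cases i <;> rfl

theorem low_apply (x : Fin 6 → F) (i : Fin 4) : low x i = x (Fin.natAdd 2 i) := by
  fin_cases i <;> rfl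

theorem det_blk (A : Matrix (Fin 4) (Fin 4) F) : (blk A).det = A.det := by
  rw [blk, Matrix.det_reindex_self, Matrix.det_fromBlocks_zero₂₁, Matrix.det_one, one_mul]

variable [Fintype F] (hF : Fintype.card F = 2 ^ 2)
include hF

theorem hh_pad (x y : Fin 6 → F) (v w : Fin 4 → F) :
    hh (pad x v) (pad y w) = x 0 * y 0 ^ 2 + x 1 * y 1 ^ 2 + Cfsg.hermForm 4 F 2 v w := by
  show ∑ i, pad x v i * pad y w i ^ 2 = _ + ∑ j, v j * w j ^ 2
  simp [pad, Fin.sum_univ_succ]
  ring

theorem pad_low (x : Fin 6 → F) : pad x (low x) = x := by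
  funext i; fin_cases i <;> rfl

theorem exists_blk (A : ↥(Cfsg.SU 4 F 2)) :
    ∃ g : ↥(Cfsg.SU 6 F 2), ∀ x, act g x = pad x (suVal A *ᵥ low x) := by
  have hdet : (blk (suVal A)).det = 1 := by rw [det_blk]; exact A.1.2
  refine ⟨⟨⟨blk (suVal A), hdet⟩, fun u v => ?_⟩, fun x => ?_⟩
  · show hh (blk (suVal A) *ᵥ u) (blk (suVal A) *ᵥ v) = hh u v
    conv_rhs => rw [← pad_low hF u, ← pad_low hF v]
    rw [blk_mulVec, blk_mulVec, hh_pad hF, hh_pad hF]
    exact congrArg _ (A.2 (low u) (low v))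
  · show blk (suVal A) *ᵥ x = _
    exact blk_mulVec _ x

/-- The block embedding of `SU₄(2)` fixing the first two coordinates. -/
noncomputable def blkHom : ↥(Cfsg.SU 4 F 2) →* ↥(Cfsg.SU 6 F 2) :=
  MonoidHom.mk' (fun A => (exists_blk hF A).choose) fun A B => by
    refine act_ext fun x => ?_
    rw [act_mul, (exists_blk hF A).choose_spec, (exists_blk hF B).choose_spec,
      (exists_blk hF (A * B)).choose_spec, map_mul, ← mulVec_mulVec, low_pad]
    funext i
    fin_cases i <;> simp [pad, low]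

theorem blkHom_act (A : ↥(Cfsg.SU 4 F 2)) (x : Fin 6 → F) :
    act (blkHom hF A) x = pad x (suVal A *ᵥ low x) :=
  (exists_blk hF A).choose_spec x

variable {Y : Type*} [Group Y] {D : Set Y} (f : ↥(Cfsg.SU 6 F 2) →* Y)
  (hf : Function.Surjective f) (hk : f.ker = Subgroup.center ↥(Cfsg.SU 6 F 2))
  (hD : Cfsg.IsThreeTranspositionGroup D)
include hf hk hD

/-- The block subgroup lies in the group of transvections fixing `e₀ + e₁`. -/
theorem blk_mem {p : Fin 6 → F} (hp : p = ![1, 1, 0, 0, 0, 0]) (A : ↥(Cfsg.SU 4 F 2)) :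
    f (blkHom hF A) ∈ Subgroup.closure {e : Y | e ∈ D ∧ Commute (pt hF f p) e} := by
  have hA : A ∈ Subgroup.closure {A : ↥(Cfsg.SU 4 F 2) | ∃ (v : Fin 4 → F) (c : F),
      Cfsg.hermForm 4 F 2 v v = 0 ∧
        ((A : Matrix.SpecialLinearGroup (Fin 4) F) : Matrix (Fin 4) (Fin 4) F) =
          Cfsg.unitaryTransvection 4 2 v c} := by
    rw [closure_transvections_eq_top hF (by norm_num) (by norm_num)]; trivial
  induction hA using Subgroup.closure_induction with
  | mem A hA =>
    obtain ⟨v, c, hvv, hAv⟩ := hA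
    have hval : ∀ z, suVal A *ᵥ z = z + (c * Cfsg.hermForm 4 F 2 z v) • v := by
      intro z
      show ((A : Matrix.SpecialLinearGroup (Fin 4) F) : Matrix (Fin 4) (Fin 4) F) *ᵥ z = _
      rw [hAv, unitaryTransvection_mulVec hF, hermB_apply]
    obtain ⟨w, ew⟩ : ∃ w, w = pad (0 : Fin 6 → F) v := ⟨_, rfl⟩
    have hww : hh w w = 0 := by rw [ew, hh_pad hF, hvv]; simp
    have hact : ∀ x, act (blkHom hF A) x = x + (c * hh x w) • w := by
      intro x
      have hxw : hh x w = Cfsg.hermForm 4 F 2 (low x) v := by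
        conv_lhs => rw [← pad_low hF x]
        rw [ew, hh_pad hF]; simp
      rw [blkHom_act hF, hval, hxw, ew]
      funext i
      fin_cases i <;> simp [pad, low]
    by_cases hw0 : w = 0
    · have : blkHom hF A = 1 := act_ext fun x => by rw [hact, hw0, smul_zero, add_zero, act_one]
      rw [this, map_one]; exact one_mem _
    obtain ⟨z, -, hz⟩ := exists_hh hF (S := ⊥) (r := w) (by simpa using hw0)
    have hc : c ^ 2 = c := by
      have h1 := hh_act (blkHom hF A) z z
      rw [hact, hh_add_left hF, hh_add_right hF, hh_add_right hF, hh_smul_left hF,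
        hh_smul_left hF, hh_smul_right hF, hh_smul_right hF, hww, hz, hh_symm_one hF hz] at h1
      linear_combination h1 - add_self hF c
    rcases fixed hF hc with rfl | rfl
    · have : blkHom hF A = 1 := act_ext fun x => by rw [hact, zero_mul, zero_smul, add_zero, act_one]
      rw [this, map_one]; exact one_mem _
    · have : blkHom hF A = tv hF w := act_ext fun x => by rw [hact, tv_act hF hww, one_mul]
      rw [this]
      have hp0 : p ≠ 0 := fun h => by simpa [hp] using congrFun h 0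
      have hpp : hh p p = 0 := by
        rw [hp, ← pad_low hF (![1, 1, 0, 0, 0, 0] : Fin 6 → F), hh_pad hF]
        simp [low, Cfsg.hermForm, Fin.sum_univ_succ, add_self hF]
      refine Subgroup.subset_closure ⟨pt_mem hF f hf hk hD hw0 hww,
        (pt_commute hF f hk hp0 hw0 hpp hww).2 ?_⟩
      rw [hp, ← pad_low hF (![1, 1, 0, 0, 0, 0] : Fin 6 → F), ew, hh_pad hF]
      simp [low, Cfsg.hermForm, Fin.sum_univ_succ]
  | one => rw [map_one, map_one]; exact one_mem _
  | mul A B _ _ ha hb => rw [map_mul, map_mul]; exact mul_mem ha hb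
  | inv A _ ha => rw [map_inv, map_inv]; exact Subgroup.inv_mem _ ha

/-- What fixes both vectors of the frame is a scalar times a block. -/
theorem fix_frame {ω : F} (hω : ω + ω ^ 2 = 1) {p r : Fin 6 → F} (ep : p = ![1, 1, 0, 0, 0, 0])
    (er : r = ![ω, ω ^ 2, 0, 0, 0, 0]) {g : ↥(Cfsg.SU 6 F 2)} {α β : F} (hα : α ≠ 0)
    (hαp : act g p = α • p) (hβr : act g r = β • r) : ∃ A, f g = f (blkHom hF A) := by
  have hω0 : ω ≠ 0 := fun h => by rw [h] at hω; simp at hω
  have hr0 : r ≠ 0 := fun h => hω0 (by simpa [er] using congrFun h 0)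
  have hsum : ∀ u v : Fin 6 → F, hh u v = ∑ i, u i * v i ^ 2 := fun _ _ => rfl
  have hpr : hh p r = 1 := by
    simp [hsum, ep, er, Fin.sum_univ_succ, pow_four hF]
    linear_combination hω
  have hαβ : α = β := eigen_eq hF hr0 hαp hβr (by rw [hpr]; exact one_ne_zero)
  rw [← hαβ] at hβr
  -- `g` is `α` times a block
  have he : ∀ i : Fin 2, act g (Pi.single (Fin.castAdd 4 i) (1 : F)) =
      α • (Pi.single (Fin.castAdd 4 i) 1 : Fin 6 → F) := by
    have e0 : (Pi.single 0 1 : Fin 6 → F) = ω ^ 2 • p + r := by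
      funext j
      fin_cases j <;> simp [ep, er] <;>
        first | linear_combination -hω | linear_combination -(ω ^ 2) * add_self hF 1
    have e1 : (Pi.single 1 1 : Fin 6 → F) = ω • p + r := by
      funext j
      fin_cases j <;> simp [ep, er] <;>
        first | linear_combination -hω | linear_combination -ω * add_self hF 1
    intro i
    fin_cases i
    · show act g (Pi.single 0 1) = α • (Pi.single 0 1 : Fin 6 → F)
      rw [e0, act_add hF, act_smul hF, hαp, hβr, smul_add, smul_comm]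
    · show act g (Pi.single 1 1) = α • (Pi.single 1 1 : Fin 6 → F)
      rw [e1, act_add hF, act_smul hF, hαp, hβr, smul_add, smul_comm]
  have hcoord : ∀ x, act g x 0 = α * x 0 ∧ act g x 1 = α * x 1 := by
    intro x
    have hget : ∀ (i : Fin 6) (u : Fin 6 → F), hh u (Pi.single i 1) = u i := by
      intro i u
      rw [hsum, Finset.sum_eq_single i (fun j _ hj => by simp [hj]) (by simp)]
      simp
    constructor
    · have h1 := hh_act g x (Pi.single 0 1)
      have h0 : act g (Pi.single 0 1) = α • (Pi.single 0 1 : Fin 6 → F) := he 0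
      rw [h0, hh_smul_right hF, hget, hget] at h1
      linear_combination α * h1 - act g x 0 * cube_one hF hα
    · have h1 := hh_act g x (Pi.single 1 1)
      have h0 : act g (Pi.single 1 1) = α • (Pi.single 1 1 : Fin 6 → F) := he 1
      rw [h0, hh_smul_right hF, hget, hget] at h1
      linear_combination α * h1 - act g x 1 * cube_one hF hα
  obtain ⟨B, eB⟩ : ∃ B : Matrix (Fin 4) (Fin 4) F, B = Matrix.of (fun i j : Fin 4 =>
      α ^ 2 * act g (Pi.single (Fin.natAdd 2 j) 1) (Fin.natAdd 2 i)) := ⟨_, rfl⟩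
  have hB : ∀ z : Fin 4 → F, B *ᵥ z = α ^ 2 • low (act g (pad 0 z)) := by
    intro z
    have hz : pad (0 : Fin 6 → F) z =
        ∑ j : Fin 4, z j • (Pi.single (Fin.natAdd 2 j) 1 : Fin 6 → F) := by
      rw [Fin.sum_univ_four, show Fin.natAdd 2 (0 : Fin 4) = (2 : Fin 6) from rfl,
        show Fin.natAdd 2 (1 : Fin 4) = (3 : Fin 6) from rfl,
        show Fin.natAdd 2 (2 : Fin 4) = (4 : Fin 6) from rfl,
        show Fin.natAdd 2 (3 : Fin 4) = (5 : Fin 6) from rfl]
      funext i
      fin_cases i <;> simp [pad]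
    funext i
    rw [hz, Pi.smul_apply, low_apply, smul_eq_mul]
    simp only [act, mulVec_sum, mulVec_smul, Finset.sum_apply, Pi.smul_apply, smul_eq_mul,
      Finset.mul_sum]
    show ∑ j, B i j * z j = _
    refine Finset.sum_congr rfl fun j _ => ?_
    rw [eB, Matrix.of_apply]
    simp only [act]
    ring
  have hpadz : ∀ z, act g (pad 0 z) = α • pad 0 (B *ᵥ z) := by
    intro z
    have h := hcoord (pad 0 z)
    have hα3 := cube_one hF hα
    have key : ∀ t : F, t = α * (α ^ 2 * t) := fun t => by linear_combination -t * hα3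
    funext i
    rw [hB]
    fin_cases i
    · simpa [pad] using h.1
    · simpa [pad] using h.2
    all_goals simp [pad, low]
    all_goals exact key _
  have hdec : ∀ x, act g x = α • pad x (B *ᵥ low x) := by
    intro x
    have e : x = x 0 • (Pi.single 0 1 : Fin 6 → F) + x 1 • (Pi.single 1 1 : Fin 6 → F) +
        pad 0 (low x) := by
      funext i; fin_cases i <;> simp [pad, low]
    conv_lhs => rw [e]
    have h0 : act g (Pi.single 0 1) = α • (Pi.single 0 1 : Fin 6 → F) := he 0
    have h1 : act g (Pi.single 1 1) = α • (Pi.single 1 1 : Fin 6 → F) := he 1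
    rw [act_add hF, act_add hF, act_smul hF, act_smul hF, h0, h1, hpadz]
    funext i
    fin_cases i <;> simp [pad, low] <;> ring
  have hBu : ∀ z z', Cfsg.hermForm 4 F 2 (B *ᵥ z) (B *ᵥ z') = Cfsg.hermForm 4 F 2 z z' := by
    intro z z'
    have h1 := hh_act g (pad 0 z) (pad 0 z')
    rw [hpadz, hpadz, hh_smul_left hF, hh_smul_right hF, hh_pad hF, hh_pad hF] at h1
    simp only [Pi.zero_apply, zero_mul, zero_add] at h1
    linear_combination h1 - Cfsg.hermForm 4 F 2 (B *ᵥ z) (B *ᵥ z') * cube_one hF hα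
  have hM : suVal g = α • blk B := Matrix.toLin'.injective (LinearMap.ext fun x => by
    simp only [Matrix.toLin'_apply, smul_mulVec, blk_mulVec]
    exact hdec x)
  have hdetB : B.det = 1 := by
    have h1 : (suVal g).det = 1 := g.1.2
    rw [hM, Matrix.det_smul, det_blk, Fintype.card_fin,
      show α ^ 6 = (α ^ 3) ^ 2 by ring, cube_one hF hα, one_pow, one_mul] at h1
    exact h1
  let A : ↥(Cfsg.SU 4 F 2) := ⟨⟨B, hdetB⟩, hBu⟩
  have hz : (blkHom hF A)⁻¹ * g ∈ Subgroup.center ↥(Cfsg.SU 6 F 2) := by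
    refine mem_center_of_scalar hF (c := α) fun x => ?_
    have h1 : act g x = act (blkHom hF A) (α • x) := by
      rw [blkHom_act hF, hdec]
      show α • pad x (B *ᵥ low x) = pad (α • x) (B *ᵥ low (α • x))
      have hl : low (α • x) = α • low x := by funext j; fin_cases j <;> rfl
      rw [hl, mulVec_smul]
      funext i; fin_cases i <;> simp [pad]
    rw [act_mul, h1, act_inv]
  have hfz := (map_eq_one_iff' hF f hk).2 hz
  rw [map_mul, map_inv, inv_mul_eq_one] at hfz
  exact ⟨A, hfz.symm⟩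


theorem stab_generated [Finite Y] [IsSimpleGroup Y] {a x : Y} (ha : a ∈ D) (hx : Commute x a) :
    x ∈ Subgroup.closure {e : Y | e ∈ D ∧ Commute a e} := by
  -- it is enough to treat `e₀ + e₁`
  obtain ⟨p, ep⟩ : ∃ p : Fin 6 → F, p = ![1, 1, 0, 0, 0, 0] := ⟨_, rfl⟩
  obtain ⟨ω, hω⟩ := exists_omega hF
  have hω0 : ω ≠ 0 := fun h => by rw [h] at hω; simp at hω
  obtain ⟨r, er⟩ : ∃ r : Fin 6 → F, r = ![ω, ω ^ 2, 0, 0, 0, 0] := ⟨_, rfl⟩
  have hp0 : p ≠ 0 := fun h => by simpa [ep] using congrFun h 0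
  have hr0 : r ≠ 0 := fun h => hω0 (by simpa [er] using congrFun h 0)
  have hsum : ∀ u v : Fin 6 → F, hh u v = ∑ i, u i * v i ^ 2 := fun _ _ => rfl
  have hpp : hh p p = 0 := by simp [hsum, ep, Fin.sum_univ_succ, add_self hF]
  have hpr : hh p r = 1 := by
    simp [hsum, ep, er, Fin.sum_univ_succ, pow_four hF]
    linear_combination hω
  have hrr : hh r r = 0 := by
    simp [hsum, er, Fin.sum_univ_succ, pow_four hF]
    linear_combination (ω ^ 3) * add_self hF 1
  obtain ⟨k₀, hk₀⟩ := conj_all hF f hf hk hD ha (pt_mem hF f hf hk hD hp0 hpp)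
  suffices main : ∀ x, Commute x (pt hF f p) →
      x ∈ Subgroup.closure {e : Y | e ∈ D ∧ Commute (pt hF f p) e} by
    have h1 := main (k₀ * x * k₀⁻¹) (by rw [← hk₀]; exact (commute_conj_iff k₀ x a).2 hx)
    have h2 : Subgroup.closure {e : Y | e ∈ D ∧ Commute (pt hF f p) e} ≤
        (Subgroup.closure {e : Y | e ∈ D ∧ Commute a e}).map (MulAut.conj k₀).toMonoidHom := by
      rw [Subgroup.closure_le]
      rintro e ⟨he, hpe⟩
      refine ⟨k₀⁻¹ * e * k₀, Subgroup.subset_closure ⟨by simpa using hD.2.1 k₀⁻¹ e he, ?_⟩,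
        by simp [mul_assoc]⟩
      rw [← hk₀] at hpe
      rwa [← commute_conj_iff k₀, show k₀ * (k₀⁻¹ * e * k₀) * k₀⁻¹ = e by group]
    obtain ⟨u, hu, hux⟩ := h2 h1
    exact (MulAut.conj k₀).injective hux ▸ hu
  clear hx ha hk₀ x a k₀
  intro x hx
  -- the group is primitive on `D`
  have hpm := pt_mem hF f hf hk hD hp0 hpp
  have hrm := pt_mem hF f hf hk hD hr0 hrr
  have hnc : ¬ Commute (pt hF f p) (pt hF f r) := fun h => by
    rw [(pt_commute hF f hk hp0 hr0 hpp hrr).1 h] at hpr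
    exact zero_ne_one hpr
  have hC : Cfsg.IsThreeTranspositionClass D := ⟨hD.1, ⟨_, hpm, Set.ext fun y =>
    ⟨fun hy => by obtain ⟨g, rfl⟩ := conj_all hF f hf hk hD hpm hy; exact isConj_iff.2 ⟨g, rfl⟩,
     fun hy => by obtain ⟨g, rfl⟩ := isConj_iff.1 hy; exact hD.2.1 g _ hpm⟩⟩, hD.2.2⟩
  have h2 : Cfsg.pCore 2 Y ≤ Subgroup.center Y := by
    haveI := CfsgLib.Amalgam.normal_pCore (G := Y) (p := 2)
    rcases (inferInstance : (Cfsg.pCore 2 Y).Normal).eq_bot_or_eq_top with h | h
    · rw [h]; exact bot_le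
    · exfalso
      refine ne_of_not_commute hnc ?_
      have h3 := cube_eq_one_of_mem_two_pCore (h.ge (Subgroup.mem_top _))
        (pow_three hD.1 hpm hrm hnc)
      rw [eq_inv_of_mul_eq_one_left h3, inv_eq hD.1 hrm]
  have hP : Cfsg.IsPrimitiveUnderConj D :=
    primitive_of_normal hC ⟨_, hpm, _, hrm, ne_of_not_commute hnc⟩ h2 ⊤ (by simp)
      fun K hK => hK.eq_bot_or_eq_top.elim (fun h => Or.inr (h ▸ bot_le)) fun h => Or.inl h.ge
  obtain ⟨a₁, b₁, c₁, x₁, y₁, z₁, -, -, -, ⟨n1, m1, co1, -⟩, -, -⟩ := planes hF f hf hk hD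
  have hw : ∃ u ∈ D, ∃ v ∈ D, u ≠ v ∧ Commute u v := by
    simp only [List.nodup_cons, List.mem_cons, List.not_mem_nil, or_false, not_or] at n1
    exact ⟨a₁, m1 a₁ (by simp), b₁, m1 b₁ (by simp), n1.1.1, co1 a₁ (by simp) b₁ (by simp)⟩
  -- fix `r` as well
  have hxp : x * pt hF f p * x⁻¹ = pt hF f p := conj_eq_of_commute hx
  obtain ⟨k, hk', hkr⟩ := trans_noncomm_closure hD hP hw hpm hrm hnc (hD.2.1 x _ hrm) (fun h => hnc (by
    rw [← hxp] at h
    exact (commute_conj_iff x _ _).1 h))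
  have hkp : Commute k (pt hF f p) := by
    suffices ∀ g ∈ Subgroup.closure {y | y ∈ D ∧ Commute (pt hF f p) y}, Commute g (pt hF f p) from
      this k hk'
    intro g hg
    induction hg using Subgroup.closure_induction with
    | mem u hu => exact hu.2.symm
    | one => exact Commute.one_left _
    | mul _ _ _ _ h1 h2 => exact h1.mul_left h2
    | inv _ _ h1 => exact h1.inv_left
  obtain ⟨g, hg⟩ := hf (k⁻¹ * x)
  suffices hg' : f g ∈ Subgroup.closure {e : Y | e ∈ D ∧ Commute (pt hF f p) e} by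
    have := mul_mem hk' hg'
    rwa [hg, mul_inv_cancel_left] at this
  -- `g` fixes both lines
  have eig : ∀ u, u ≠ 0 → hh u u = 0 → Commute (f g) (pt hF f u) →
      ∃ α : F, α ≠ 0 ∧ act g u = α • u := by
    intro u hu huu hcu
    have h1 := conj_pt hF f g huu
    rw [conj_eq_of_commute hcu] at h1
    exact pt_eq hF f hk (act_ne_zero hF g hu) (by rw [hh_act]; exact huu) huu h1.symm
  obtain ⟨α, hα, hαp⟩ := eig p hp0 hpp (hg ▸ hkp.inv_left.mul_left hx)
  obtain ⟨β, -, hβr⟩ := eig r hr0 hrr (hg ▸ commute_of_conj_eq (by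
    calc k⁻¹ * x * pt hF f r * (k⁻¹ * x)⁻¹ = k⁻¹ * (x * pt hF f r * x⁻¹) * k := by group
      _ = pt hF f r := by rw [← hkr]; group))
  obtain ⟨A, hA⟩ := fix_frame hF f hf hk hD hω ep er hα hαp hβr
  rw [hA]
  exact blk_mem hF f hf hk hD ep A

end CfsgLib.Trans3.Fi

namespace CfsgLib.Trans3.Fi

theorem u6_stab {G : Type*} [Group G] [Finite G] {D : Set G} (hU : IsU6 G)
    (hD : Cfsg.IsThreeTranspositionGroup D) {a x : G} (ha : a ∈ D) (hx : Commute x a) :
    x ∈ Subgroup.closure {e : G | e ∈ D ∧ Commute a e} := by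
  obtain ⟨F, i₁, i₂, hF4, ⟨e⟩⟩ := id hU
  have hF4' : Fintype.card F = 2 ^ 2 := hF4
  haveI := CfsgLib.Classical.isSimpleGroup_psu hF4' (n := 6) (by norm_num) (by norm_num)
  haveI : IsSimpleGroup G := e.isSimpleGroup
  obtain ⟨F', _, _, f, hF, hf, hk⟩ := exists_model hU hD
  exact stab_generated hF f hf hk hD ha hx

end CfsgLib.Trans3.Fi
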