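import Cfsg.Agent.Lib.Trans3.Fi.U6Config
import Cfsg.Agent.Lib.Trans3.Fi.U6Stab
import Cfsg.Agent.Lib.Trans3.Fi.Simple

/-!
In a group of type M(22) the centraliser of a member is generated by the members commuting
with it.  The proof assigns to every member `y` a coset `T y` of the neighbourhood group of `a`
and shows that the assignment is equivariant under a generating set.
-/

set_option autoImplicit false
set_option linter.unusedSectionVars false

namespace CfsgLib.Trans3.Fi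

variable {G : Type*} [Group G]

theorem conj_mem_Hd [Finite G] {D : Set G} (hD : Cfsg.IsThreeTranspositionGroup D) (g : G) {d x : G}
    (hx : x ∈ Hd D d) : g * x * g⁻¹ ∈ Hd D (g * d * g⁻¹) := by
  have h : (Hd D d).map (MulAut.conj g).toMonoidHom = Hd D (g * d * g⁻¹) := by
    rw [Hd, Hd, Nice.nbrs_conj hD, MonoidHom.map_closure]
    rfl
  rw [← h]
  exact ⟨x, hx, rfl⟩

/-- A member commuting with `r` but not with `p`. -/
theorem Nice.sep [Finite G] {D : Set G} (hN : Nice D) {r p : G} (hr : r ∈ D) (hp : p ∈ D)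
    (hne : r ≠ p) : ∃ c ∈ D, Commute c r ∧ ¬ Commute c p := by
  by_contra! hall
  obtain ⟨g, hg⟩ := hN.conj r hr p hp
  have himg : {e | e ∈ D ∧ Commute p e} = (MulAut.conj g) '' {e | e ∈ D ∧ Commute r e} := by
    ext e
    constructor
    · rintro ⟨he, hpe⟩
      refine ⟨g⁻¹ * e * g, ⟨by simpa using hN.group.2.1 g⁻¹ e he, ?_⟩, by simp [mul_assoc]⟩
      rw [← commute_conj_iff g, hg, show g * (g⁻¹ * e * g) * g⁻¹ = e by group]
      exact hpe
    · rintro ⟨u, ⟨hu, hru⟩, rfl⟩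
      exact ⟨hN.group.2.1 g u hu, hg ▸ (commute_conj_iff g r u).2 hru⟩
  have heq := Set.eq_of_subset_of_ncard_le
    (s := {e | e ∈ D ∧ Commute r e}) (t := {e | e ∈ D ∧ Commute p e})
    (fun e he => ⟨he.1, (hall e he.1 he.2.symm).symm⟩)
    (by rw [himg, Set.ncard_image_of_injective _ (MulAut.conj g).injective])
  refine hne (hN.twins r hr p hp fun e he => ?_)
  have := Set.ext_iff.1 heq e
  simp only [Set.mem_ofPred_eq, he, true_and] at this
  exact this.symm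

variable [Finite G] {D : Set G}
variable (hD : Cfsg.IsThreeTranspositionGroup D) (hP : Cfsg.IsPrimitiveUnderConj D)
variable (h : Cfsg.IsOfTypeM22 G D)
include hD hP h

theorem mem_Hd {a y : G} (ha : a ∈ D) (hy : y ∈ D) (hc : Commute a y) : y ∈ Hd D a := by
  by_cases e : y = a
  · rw [e]; exact m22_mem hD hP h ha
  · exact Subgroup.subset_closure ⟨hy, e, hc⟩

theorem closure_pair_le {b r : G} (hb : b ∈ D) (hr : r ∈ D) :
    Subgroup.closure {w | w ∈ D ∧ Commute b w ∧ Commute r w} ≤ Hd D b ⊓ Hd D r := by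
  rw [Subgroup.closure_le]
  exact fun w ⟨hw, h1, h2⟩ => ⟨mem_Hd hD hP h hb hw h1, mem_Hd hD hP h hr hw h2⟩

theorem conj_bar {b u v : G} (hb : b ∈ D) (k : ↥(Hd D b)) (hu : u ∈ nbrs D b) (hv : v ∈ nbrs D b)
    (he : (k : Qd D b) * bar hu * (k : Qd D b)⁻¹ = bar hv) : (k : G) * u * (k : G)⁻¹ = v := by
  have hk : (k : G) * u * (k : G)⁻¹ ∈ nbrs D b := ⟨hD.2.1 _ u hu.1, fun e => hu.2.1 (by
      have : (k : G) * u = k * b := by
        rw [← (commute_Hd k.2).eq]; exact mul_inv_eq_iff_eq_mul.1 e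
      exact mul_left_cancel this),
    ((commute_Hd k.2).mul_right hu.2.2).mul_right (commute_Hd k.2).inv_right⟩
  exact (nice_m22 hD h).bar_inj hb hk hv he

omit hP h in
theorem bar_third {b u v : G} (hu : u ∈ nbrs D b) (hv : v ∈ nbrs D b) :
    ∃ hm : u * v * u ∈ nbrs D b, bar hm = bar hu * bar hv * bar hu := by
  refine ⟨⟨self_conj_mem hD hu.1 hv.1, fun e => hv.2.1 ?_,
    (hu.2.2.mul_right hv.2.2).mul_right hu.2.2⟩, ?_⟩
  · have h1 := conj_eq_of_commute hu.2.2.symm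
    rw [inv_eq hD.1 hu.1] at h1
    have h2 : u * (u * v * u) * u = u * b * u := by rw [e]
    rw [h1, show u * (u * v * u) * u = (u * u) * v * (u * u) by group, Trans3.sq_one hD.1 hu.1,
      one_mul, mul_one] at h2
    exact h2
  · show (QuotientGroup.mk _ : Qd D b) = QuotientGroup.mk _ * QuotientGroup.mk _ * QuotientGroup.mk _
    rw [← QuotientGroup.mk_mul, ← QuotientGroup.mk_mul]; rfl

/-- Transitivity within a neighbourhood group. -/
theorem conj_lift {b u v : G} (hb : b ∈ D) (hu : u ∈ nbrs D b) (hv : v ∈ nbrs D b) :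
    ∃ k ∈ Hd D b, k * u * k⁻¹ = v := by
  obtain ⟨q, hq⟩ := (m22_u6 hD h hb).conj _ (bar_mem hu) _ (bar_mem hv)
  obtain ⟨k, rfl⟩ := QuotientGroup.mk_surjective q
  exact ⟨k, k.2, conj_bar hD hP h hb k hu hv hq⟩

theorem lift_perp {b r : G} (hb : b ∈ D) (hr : r ∈ nbrs D b) {q : Qd D b}
    (hq : q ∈ Subgroup.closure {v | v ∈ Db D b ∧ Commute (bar hr) v}) :
    ∃ k : ↥(Hd D b), (k : G) ∈ Subgroup.closure {w | w ∈ D ∧ Commute b w ∧ Commute r w} ∧
      (k : Qd D b) = q := by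
  induction hq using Subgroup.closure_induction with
  | mem v hv =>
    obtain ⟨w, hw, rfl⟩ := exists_bar hv.1
    exact ⟨⟨w, Subgroup.subset_closure hw⟩, Subgroup.subset_closure
      ⟨hw.1, hw.2.2, (commute_bar (pre_of_group hD) hr hw).1 hv.2⟩, rfl⟩
  | one => exact ⟨1, by simpa using one_mem _, rfl⟩
  | mul x y _ _ hx hy =>
    obtain ⟨k, hk, rfl⟩ := hx
    obtain ⟨l, hl, rfl⟩ := hy
    exact ⟨k * l, mul_mem hk hl, rfl⟩
  | inv x _ hx =>
    obtain ⟨k, hk, rfl⟩ := hx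
    exact ⟨k⁻¹, inv_mem hk, rfl⟩

theorem trans_lift {b r u v : G} (hb : b ∈ D) (hr : r ∈ nbrs D b) (hu : u ∈ nbrs D b)
    (hv : v ∈ nbrs D b) (hru : ¬ Commute r u) (hrv : ¬ Commute r v) :
    ∃ k, k ∈ Hd D b ∧ k ∈ Hd D r ∧ k * u * k⁻¹ = v := by
  have hPre := pre_of_group hD
  have hg := (nice_m22 hD h).group_Db hb
  obtain ⟨hPb, hw⟩ := u6_prim (m22_isU6 hD h hb) hg
  obtain ⟨q, hq, hq'⟩ := trans_noncomm_closure hg hPb hw (bar_mem hr) (bar_mem hu)
    (fun e => hru ((commute_bar hPre hr hu).1 e)) (bar_mem hv)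
    (fun e => hrv ((commute_bar hPre hr hv).1 e))
  obtain ⟨k, hk, rfl⟩ := lift_perp hD hP h hb hr hq
  obtain ⟨h1, h2⟩ := closure_pair_le hD hP h hb hr.1 hk
  exact ⟨k, h1, h2, conj_bar hD hP h hb k hu hv hq'⟩

/-- An element of one neighbourhood group centralising a neighbour lies in that one's group. -/
theorem stab_le {a b x : G} (ha : a ∈ D) (hb : b ∈ D) (hab : Commute a b) (hx : x ∈ Hd D b)
    (hxa : Commute x a) : x ∈ Hd D a := by
  by_cases e : a = b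
  · exact e ▸ hx
  have han : a ∈ nbrs D b := ⟨ha, e, hab.symm⟩
  obtain ⟨s, hs, hsx⟩ := lift_perp hD hP h hb han (q := ((⟨x, hx⟩ : ↥(Hd D b)) : Qd D b))
    (u6_stab (m22_isU6 hD h hb) ((nice_m22 hD h).group_Db hb) (bar_mem han) (by
      show (QuotientGroup.mk _ : Qd D b) * QuotientGroup.mk _ = _
      rw [← QuotientGroup.mk_mul, ← QuotientGroup.mk_mul]
      exact congrArg QuotientGroup.mk (Subtype.ext hxa.eq)))
  have hz := QuotientGroup.eq.1 hsx
  rw [m22_center_Hd hD hP h hb, Subgroup.mem_subgroupOf] at hz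
  have h1 : Subgroup.zpowers b ≤ Hd D a := Subgroup.zpowers_le.2 (mem_Hd hD hP h ha hb hab)
  have h2 := mul_mem (closure_pair_le hD hP h hb ha hs).2 (h1 hz)
  rwa [Subgroup.coe_mul, Subgroup.coe_inv, mul_inv_cancel_left] at h2

theorem exists_common {a c : G} (ha : a ∈ D) (hc : c ∈ D) (hac : ¬ Commute a c) :
    ∃ e ∈ D, Commute e a ∧ Commute e c := by
  obtain ⟨b₀, hb₀, -⟩ := m22_pair hD h ha
  have hw : ∃ u ∈ D, ∃ v ∈ D, u ≠ v ∧ Commute u v := ⟨b₀, hb₀.1, a, ha, hb₀.2.1, hb₀.2.2.symm⟩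
  have hN := nice_m22 hD h
  have hab : a ∈ nbrs D b₀ := ⟨ha, Ne.symm hb₀.2.1, hb₀.2.2.symm⟩
  have hU := m22_u6 hD h hb₀.1
  obtain ⟨p, hp, r, hr, hpr⟩ := hU.pair
  obtain ⟨g, hg⟩ := hU.conj p hp (bar hab) (bar_mem hab)
  obtain ⟨c₀, hc₀, e₀⟩ := exists_bar (hU.group.2.1 g r hr)
  have hn : ¬ Commute a c₀ := fun h' => hpr ((commute_conj_iff g p r).1 (by
    rw [hg, e₀]; exact (commute_bar (pre_of_group hD) hab hc₀).2 h'))
  obtain ⟨k, hk, hk'⟩ := trans_noncomm hD hP hw ha hc₀.1 hn hc hac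
  exact ⟨k * b₀ * k⁻¹, hD.2.1 k b₀ hb₀.1, hk ▸ (commute_conj_iff k b₀ a).2 hb₀.2.2.symm,
    hk' ▸ (commute_conj_iff k b₀ c₀).2 hc₀.2.2⟩

/-- A commuting pair and a member not commuting with the first have a common neighbour. -/
theorem exists_common_three {a b y : G} (ha : a ∈ D) (hb : b ∈ nbrs D a) (hy : y ∈ D)
    (hay : ¬ Commute a y) : ∃ e ∈ D, Commute e a ∧ Commute e b ∧ Commute e y := by
  by_contra! hall
  obtain ⟨e₀, he₀, hea, hey⟩ := exists_common hD hP h ha hy hay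
  have hPre := pre_of_group hD
  have hN := nice_m22 hD h
  have na : a ∈ nbrs D e₀ := ⟨ha, fun e => hay (e ▸ hey), hea⟩
  have ny : y ∈ nbrs D e₀ := ⟨hy, fun e => hay (e ▸ hea.symm), hey⟩
  obtain ⟨qA, qB, qC, qE, hq⟩ := u6_quad (m22_isU6 hD h he₀) (hN.group_Db he₀) (bar_mem na)
    (bar_mem ny) fun e => hay ((commute_bar hPre na ny).1 e)
  have get : ∀ q ∈ [qA, qB, qC, qE], ∃ x, ∃ hx : x ∈ nbrs D e₀, q = bar hx ∧ Commute a x ∧
      Commute y x ∧ x ∈ nbrs D a ∧ ¬ Commute x b := by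
    intro q hq'
    obtain ⟨m, c1, c2⟩ := hq.mem q hq'
    obtain ⟨x, hx, rfl⟩ := exists_bar m
    rw [commute_bar hPre] at c1 c2
    exact ⟨x, hx, rfl, c1, c2, ⟨hx.1, fun e => hay (e ▸ c2.symm), c1⟩,
      fun e => hall x hx.1 c1.symm e c2.symm⟩
  obtain ⟨A, hA, rfl, aA, yA, nA, bA⟩ := get qA (by simp)
  obtain ⟨B, hB, rfl, aB, yB, nB, bB⟩ := get qB (by simp)
  obtain ⟨C, hC, rfl, aC, yC, nC, bC⟩ := get qC (by simp)
  obtain ⟨E, hE, rfl, aE, yE, nE, bE⟩ := get qE (by simp)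
  have n2 : ∀ {u v : G} (hu : u ∈ nbrs D e₀) (hv : v ∈ nbrs D e₀) (hu' : u ∈ nbrs D a)
      (hv' : v ∈ nbrs D a), ¬ Commute (bar hu) (bar hv) → ¬ Commute (bar hu') (bar hv') :=
    fun hu hv hu' hv' e e' => e ((commute_bar hPre hu hv).2 ((commute_bar hPre hu' hv').1 e'))
  have n3 : ∀ {u v w : G} (hu : u ∈ nbrs D e₀) (hv : v ∈ nbrs D e₀) (hw : w ∈ nbrs D e₀)
      (hu' : u ∈ nbrs D a) (hv' : v ∈ nbrs D a) (hw' : w ∈ nbrs D a),
      Commute (bar hu * bar hv * bar hu) (bar hw) →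
      Commute (bar hu' * bar hv' * bar hu') (bar hw') := by
    intro u v w hu hv hw hu' hv' hw' e
    obtain ⟨m, em⟩ := bar_third hD hu hv
    obtain ⟨m', em'⟩ := bar_third hD hu' hv'
    rw [← em, commute_bar hPre] at e
    rw [← em', commute_bar hPre]; exact e
  have n4 : ∀ {u v : G} (hu : u ∈ nbrs D a) (hv : v ∈ nbrs D a), Commute y u → Commute y v →
      ¬ Commute (bar hu * bar hv * bar hu) (bar hb) := by
    intro u v hu hv yu yv e
    obtain ⟨m, em⟩ := bar_third hD hu hv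
    rw [← em, commute_bar hPre] at e
    exact hall _ m.1 m.2.2.symm e ((yu.mul_right yv).mul_right yu).symm
  have n1 : ∀ {u : G} (hu : u ∈ nbrs D a), ¬ Commute u b → ¬ Commute (bar hu) (bar hb) :=
    fun hu e e' => e ((commute_bar hPre hu hb).1 e')
  refine u6_no_bad (m22_isU6 hD h ha) (hN.group_Db ha) (bar_mem hb) (a := 1) (c := 1)
    (A := bar nA) (B := bar nB) (C := bar nC) (E := bar nE)
    ⟨?_, n2 hA hB nA nB hq.ab, n2 hA hC nA nC hq.ac, n2 hA hE nA nE hq.ae, n2 hB hC nB nC hq.bc,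
      n2 hB hE nB nE hq.be, n2 hC hE nC nE hq.ce, n3 hA hB hC nA nB nC hq.t₁,
      n3 hA hB hE nA nB nE hq.t₂, n3 hA hC hE nA nC nE hq.t₃⟩
    (n1 nA bA) (n1 nB bB) (n1 nC bC) (n1 nE bE) (n4 nA nB yA yB) (n4 nA nC yA yC) (n4 nA nE yA yE)
    (n4 nB nC yB yC) (n4 nB nE yB yE) (n4 nC nE yC yE)
  intro x hx
  simp only [List.mem_cons, List.not_mem_nil, or_false] at hx
  refine ⟨?_, Commute.one_left x, Commute.one_left x⟩
  rcases hx with rfl | rfl | rfl | rfl <;> exact bar_mem _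

/-- The common neighbours of a non-commuting pair are conjugate under their group. -/
theorem trans_common {b y e f : G} (hb : b ∈ D) (hy : y ∈ D) (hby : ¬ Commute b y)
    (he : e ∈ D) (heb : Commute b e) (hey : Commute y e) (hf : f ∈ D) (hfb : Commute b f)
    (hfy : Commute y f) :
    ∃ k, k ∈ Hd D b ∧ k ∈ Hd D y ∧ k * e * k⁻¹ = f ∧
      k ∈ Subgroup.closure {w | w ∈ D ∧ Commute b w ∧ Commute y w} := by
  have hPre := pre_of_group hD
  have hN := nice_m22 hD h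
  obtain ⟨L, eL⟩ : ∃ L, L = Subgroup.closure {w | w ∈ D ∧ Commute b w ∧ Commute y w} := ⟨_, rfl⟩
  have step : ∀ {u v : G}, u ∈ D → Commute b u → Commute y u → v ∈ D → Commute b v → Commute y v →
      ¬ Commute u v → Orb L u v := by
    intro u v hu bu yu hv bv yv huv
    refine ⟨u * v, eL ▸ mul_mem (Subgroup.subset_closure ⟨hu, bu, yu⟩)
      (Subgroup.subset_closure ⟨hv, bv, yv⟩), ?_⟩
    exact conj_of_noncomm hD.1 hu hv huv
  have conn : ∀ {g u v : G}, g ∈ D → Commute g b → Commute g y → u ∈ nbrs D g → Commute b u →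
      Commute y u → v ∈ nbrs D g → Commute b v → Commute y v → Orb L u v := by
    intro g u v hg gb gy hu bu yu hv bv yv
    by_cases huv : Commute u v
    swap
    · exact step hu.1 bu yu hv.1 bv yv huv
    have nb : b ∈ nbrs D g := ⟨hb, fun e => hby (e ▸ gy), gb⟩
    have ny : y ∈ nbrs D g := ⟨hy, fun e => hby (e ▸ gb.symm), gy⟩
    obtain ⟨q, hq, q1, q2, q3, q4⟩ := u6_perp (m22_isU6 hD h hg) (hN.group_Db hg) (bar_mem nb)
      (bar_mem ny) (fun e => hby ((commute_bar hPre nb ny).1 e)) (bar_mem hu) (bar_mem hv)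
      ((commute_bar hPre hu nb).2 bu.symm) ((commute_bar hPre hu ny).2 yu.symm)
      ((commute_bar hPre hv nb).2 bv.symm) ((commute_bar hPre hv ny).2 yv.symm)
    obtain ⟨w, hw, rfl⟩ := exists_bar hq
    rw [commute_bar hPre] at q1 q2 q3 q4
    exact (step hu.1 bu yu hw.1 q1.symm q2.symm fun e => q3 e.symm).trans
      (step hw.1 q1.symm q2.symm hv.1 bv yv q4)
  suffices hL : Orb L e f by
    obtain ⟨k, hk, hke⟩ := hL
    obtain ⟨h1, h2⟩ := closure_pair_le hD hP h hb hy (eL ▸ hk)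
    exact ⟨k, h1, h2, hke, eL ▸ hk⟩
  by_cases hef : Commute e f
  swap
  · exact step he heb hey hf hfb hfy hef
  by_cases hfe : f = e
  · subst hfe; exact Orb.rfl' f
  have nf : f ∈ nbrs D e := ⟨hf, hfe, hef⟩
  have nb : b ∈ nbrs D e := ⟨hb, fun x => hby (x ▸ hey.symm), heb.symm⟩
  have ny : y ∈ nbrs D e := ⟨hy, fun x => hby (x ▸ heb), hey.symm⟩
  obtain ⟨q, hq, q0, q1, q2, q3⟩ := u6_mid (m22_isU6 hD h he) (hN.group_Db he) (bar_mem nf)
    (bar_mem nb) (bar_mem ny) ((commute_bar hPre nf nb).2 hfb.symm)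
    ((commute_bar hPre nf ny).2 hfy.symm)
  obtain ⟨u, hu, rfl⟩ := exists_bar hq
  rw [commute_bar hPre] at q1 q2 q3
  have huf : u ≠ f := fun x => q0 (by subst x; rfl)
  have h1 : Orb L e u := conn hf hfb.symm hfy.symm ⟨he, Ne.symm hfe, hef.symm⟩ heb hey
    ⟨hu.1, huf, q1.symm⟩ q2.symm q3.symm
  have h2 : Orb L u f := conn he heb.symm hey.symm hu q2.symm q3.symm nf hfb hfy
  exact h1.trans h2

/-- An element of a neighbourhood group fixing a member outside lies in that one's group. -/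
theorem fix_far {b y x : G} (hb : b ∈ D) (hy : y ∈ D) (hby : ¬ Commute b y) (hx : x ∈ Hd D b)
    (hxy : Commute x y) : x ∈ Hd D y := by
  obtain ⟨e, he, heb, hey⟩ := exists_common hD hP h hb hy hby
  have hbx : Commute x b := (commute_Hd hx).symm
  have f1 : Commute (x * e * x⁻¹) b := (hbx.mul_left heb).mul_left hbx.inv_left
  have f2 : Commute (x * e * x⁻¹) y := (hxy.mul_left hey).mul_left hxy.inv_left
  obtain ⟨k, hkb, hky, hke, -⟩ := trans_common hD hP h hb hy hby he heb.symm hey.symm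
    (hD.2.1 x e he) f1.symm f2.symm
  have hc : Commute (k⁻¹ * x) e := commute_of_conj_eq (by
    calc k⁻¹ * x * e * (k⁻¹ * x)⁻¹ = k⁻¹ * (x * e * x⁻¹) * k := by group
      _ = e := by rw [← hke]; group)
  have h1 := stab_le hD hP h he hb heb (mul_mem (inv_mem hkb) hx) hc
  have h2 := stab_le hD hP h hy he hey.symm h1 ((commute_Hd hky).symm.inv_left.mul_left hxy)
  have := mul_mem hky h2
  rwa [mul_inv_cancel_left] at this

/-! ### The cosets -/

omit [Finite G] hD hP h in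
/-- `g` lies in the coset attached to `y`. -/
def Tr (D : Set G) (a y g : G) : Prop :=
  ∃ e ∈ nbrs D a, ∃ g₀ ∈ Hd D e, g₀ * a * g₀⁻¹ = y ∧ g₀⁻¹ * g ∈ Hd D a

theorem tr_step {a y e e' g g' : G} (ha : a ∈ D) (hya : y ≠ a) (hay : Commute a y)
    (he : e ∈ nbrs D a) (he' : e' ∈ nbrs D a) (hee : Commute e e') (hg : g ∈ Hd D e)
    (hg' : g' ∈ Hd D e') (hgy : g * a * g⁻¹ = y) (hgy' : g' * a * g'⁻¹ = y) :
    g⁻¹ * g' ∈ Hd D a := by
  have same : ∀ {e g g' : G}, e ∈ nbrs D a → g ∈ Hd D e → g' ∈ Hd D e → g * a * g⁻¹ = y →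
      g' * a * g'⁻¹ = y → g⁻¹ * g' ∈ Hd D a := by
    intro e g g' he hg hg' hgy hgy'
    refine stab_le hD hP h ha he.1 he.2.2 (mul_mem (inv_mem hg) hg') (commute_of_conj_eq ?_)
    calc g⁻¹ * g' * a * (g⁻¹ * g')⁻¹ = g⁻¹ * (g' * a * g'⁻¹) * g := by group
      _ = a := by rw [hgy', ← hgy]; group
  by_cases hne : e' = e
  · exact same he hg (hne ▸ hg') hgy hgy'
  have hPre := pre_of_group hD
  have hN := nice_m22 hD h
  have hyD : y ∈ D := hgy ▸ hD.2.1 g a ha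
  have fix : ∀ {e g : G}, g ∈ Hd D e → g * a * g⁻¹ = y → e ∈ nbrs D a →
      y ∈ nbrs D e := by
    intro e g hg hgy he
    refine ⟨hyD, fun x => he.2.1 ?_, ?_⟩
    · have h1 : g * a * g⁻¹ = g * e * g⁻¹ := by
        rw [hgy, conj_eq_of_commute (commute_Hd hg).symm, x]
      exact (mul_left_cancel (mul_right_cancel h1)).symm
    · rw [← hgy]; exact ((commute_Hd hg).mul_right he.2.2.symm).mul_right (commute_Hd hg).inv_right
  have ny := fix hg hgy he
  have ny' := fix hg' hgy' he'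
  have na : a ∈ nbrs D e := ⟨ha, Ne.symm he.2.1, he.2.2.symm⟩
  have ne' : e' ∈ nbrs D e := ⟨he'.1, hne, hee⟩
  have hU := m22_u6 hD h he.1
  obtain ⟨w₁, h₁, c₁, n₁⟩ := hU.sep (bar_mem ne') (bar_mem na)
    fun x => he'.2.1 (hN.bar_inj he.1 ne' na x)
  obtain ⟨w₂, h₂, c₂, n₂⟩ := hU.sep (bar_mem ne') (bar_mem ny)
    fun x => ny'.2.1 (hN.bar_inj he.1 ne' ny x).symm
  obtain ⟨q, hq, q1, q2, q3⟩ := u6_combine (m22_isU6 hD h he.1) (hN.group_Db he.1) (bar_mem na)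
    (bar_mem ny) h₁ h₂ n₁ n₂
  obtain ⟨c, hc, rfl⟩ := exists_bar hq
  have q4 := (commute_bar hPre hc ne').1 (q3 _ (bar_mem ne') c₁ c₂)
  rw [commute_bar hPre] at q1 q2
  obtain ⟨g₀, eg⟩ : ∃ g₀, g₀ = c * (a * y) * c := ⟨_, rfl⟩
  have sw : g₀ * a * g₀⁻¹ = y := by
    rw [eg, mul_inv_rev, mul_inv_rev, mul_inv_rev, inv_eq hD.1 hc.1, inv_eq hD.1 ha,
      inv_eq hD.1 hyD, ← hay.eq, ← mul_assoc]
    calc c * (a * y) * c * a * c * (a * y * c)
        = c * (a * y) * (c * a * c) * (a * y) * c := by group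
      _ = c * (y * a) * (a * c * a) * (a * y) * c := by rw [hay.eq, braid hD.1 hc.1 ha q1]
      _ = c * y * (a * a) * c * (a * a) * y * c := by group
      _ = c * (y * c * y) * c := by rw [Trans3.sq_one hD.1 ha]; group
      _ = c * (c * y * c) * c := by rw [braid hD.1 hyD hc.1 fun x => q2 x.symm]
      _ = (c * c) * y * (c * c) := by group
      _ = y := by rw [Trans3.sq_one hD.1 hc.1, one_mul, mul_one]
  have m1 : g₀ ∈ Hd D e := eg ▸ mul_mem (mul_mem (Subgroup.subset_closure hc)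
    (mul_mem (Subgroup.subset_closure na) (Subgroup.subset_closure ny))) (Subgroup.subset_closure hc)
  have hce : c ∈ nbrs D e' := ⟨hc.1, fun x => q1 (x ▸ he'.2.2.symm), q4.symm⟩
  have na' : a ∈ nbrs D e' := ⟨ha, Ne.symm he'.2.1, he'.2.2.symm⟩
  have m2 : g₀ ∈ Hd D e' := eg ▸ mul_mem (mul_mem (Subgroup.subset_closure hce)
    (mul_mem (Subgroup.subset_closure na') (Subgroup.subset_closure ny'))) (Subgroup.subset_closure hce)
  have := mul_mem (same he hg m1 hgy sw) (same he' m2 hg' sw hgy')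
  rwa [show g⁻¹ * g₀ * (g₀⁻¹ * g') = g⁻¹ * g' by group] at this

theorem tr_wd {a y e e' g g' : G} (ha : a ∈ D) (he : e ∈ nbrs D a) (he' : e' ∈ nbrs D a)
    (hg : g ∈ Hd D e) (hg' : g' ∈ Hd D e') (hgy : g * a * g⁻¹ = y) (hgy' : g' * a * g'⁻¹ = y) :
    g⁻¹ * g' ∈ Hd D a := by
  have hyD : y ∈ D := hgy ▸ hD.2.1 g a ha
  have hcy : ∀ {e g : G}, e ∈ nbrs D a → g ∈ Hd D e → g * a * g⁻¹ = y → Commute e y :=
    fun he hg hgy => hgy ▸ ((commute_Hd hg).mul_right he.2.2.symm).mul_right (commute_Hd hg).inv_right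
  by_cases hya : y = a
  · subst hya
    exact mul_mem (inv_mem (stab_le hD hP h ha he.1 he.2.2 hg (commute_of_conj_eq hgy)))
      (stab_le hD hP h ha he'.1 he'.2.2 hg' (commute_of_conj_eq hgy'))
  by_cases hay : Commute a y
  · have hPre := pre_of_group hD
    have hN := nice_m22 hD h
    have ny : y ∈ nbrs D a := ⟨hyD, hya, hay⟩
    obtain ⟨q, hq, q0, q1, q2, q3⟩ := u6_mid (m22_isU6 hD h ha) (hN.group_Db ha) (bar_mem ny)
      (bar_mem he) (bar_mem he') ((commute_bar hPre ny he).2 (hcy he hg hgy).symm)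
      ((commute_bar hPre ny he').2 (hcy he' hg' hgy').symm)
    obtain ⟨u, hu, rfl⟩ := exists_bar hq
    rw [commute_bar hPre] at q1 q2 q3
    obtain ⟨k, hk, hka⟩ := conj_lift hD hP h hu.1
      (show a ∈ nbrs D u from ⟨ha, Ne.symm hu.2.1, hu.2.2.symm⟩)
      (show y ∈ nbrs D u from ⟨hyD, fun x => q0 (by subst x; rfl), q1⟩)
    have := mul_mem (tr_step hD hP h ha hya hay he hu q2.symm hg hk hgy hka)
      (tr_step hD hP h ha hya hay hu he' q3 hk hg' hka hgy')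
    rwa [show g⁻¹ * k * (k⁻¹ * g') = g⁻¹ * g' by group] at this
  · obtain ⟨t, et⟩ : ∃ t, t = a * y * a := ⟨_, rfl⟩
    have ht : t * a * t⁻¹ = y := by
      rw [et, inv_eq hD.1 (self_conj_mem hD ha hyD)]
      calc a * y * a * a * (a * y * a) = a * y * (a * a) * a * y * a := by group
        _ = a * (y * a * y) * a := by rw [Trans3.sq_one hD.1 ha]; group
        _ = a * (a * y * a) * a := by rw [braid hD.1 hyD ha fun x => hay x.symm]
        _ = (a * a) * y * (a * a) := by group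
        _ = y := by rw [Trans3.sq_one hD.1 ha, one_mul, mul_one]
    have mem : ∀ {e g : G}, e ∈ nbrs D a → g ∈ Hd D e → g * a * g⁻¹ = y → t⁻¹ * g ∈ Hd D a := by
      intro e g he hg hgy
      have h1 : t ∈ Hd D e := et ▸ mul_mem (mul_mem (mem_Hd hD hP h he.1 ha he.2.2.symm)
        (mem_Hd hD hP h he.1 hyD (hcy he hg hgy))) (mem_Hd hD hP h he.1 ha he.2.2.symm)
      refine stab_le hD hP h ha he.1 he.2.2 (mul_mem (inv_mem h1) hg) (commute_of_conj_eq ?_)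
      calc t⁻¹ * g * a * (t⁻¹ * g)⁻¹ = t⁻¹ * (g * a * g⁻¹) * t := by group
        _ = a := by rw [hgy, ← ht]; group
    have := mul_mem (inv_mem (mem he hg hgy)) (mem he' hg' hgy')
    rwa [show (t⁻¹ * g)⁻¹ * (t⁻¹ * g') = g⁻¹ * g' by group] at this

theorem tr_unique {a y g g' : G} (ha : a ∈ D) (h₁ : Tr D a y g) (h₂ : Tr D a y g') :
    g⁻¹ * g' ∈ Hd D a := by
  obtain ⟨e, he, k, hk, hky, hkg⟩ := h₁
  obtain ⟨e', he', k', hk', hky', hkg'⟩ := h₂
  have := mul_mem (mul_mem (inv_mem hkg) (tr_wd hD hP h ha he he' hk hk' hky hky')) hkg'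
  rwa [show (k⁻¹ * g)⁻¹ * (k⁻¹ * k') * (k'⁻¹ * g') = g⁻¹ * g' by group] at this

omit [Finite G] hD hP h in
theorem tr_of {a y g g' : G} (h₁ : Tr D a y g) (h₂ : g⁻¹ * g' ∈ Hd D a) : Tr D a y g' := by
  obtain ⟨e, he, k, hk, hky, hkg⟩ := h₁
  refine ⟨e, he, k, hk, hky, ?_⟩
  have := mul_mem hkg h₂
  rwa [show k⁻¹ * g * (g⁻¹ * g') = k⁻¹ * g' by group] at this

omit [Finite G] hD hP h in
theorem tr_mk {a y e g : G} (he : e ∈ nbrs D a) (hg : g ∈ Hd D e) (hgy : g * a * g⁻¹ = y) :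
    Tr D a y g :=
  ⟨e, he, g, hg, hgy, by rw [inv_mul_cancel]; exact one_mem _⟩

omit [Finite G] hD hP h in
theorem tr_conj {a y g : G} (h₁ : Tr D a y g) : g * a * g⁻¹ = y := by
  obtain ⟨e, -, k, -, hky, hkg⟩ := h₁
  have hc := conj_eq_of_commute (commute_Hd hkg).symm
  calc g * a * g⁻¹ = k * (k⁻¹ * g * a * (k⁻¹ * g)⁻¹) * k⁻¹ := by group
    _ = y := by rw [hc, hky]

theorem tr_exists {a y : G} (ha : a ∈ D) (hy : y ∈ D) : ∃ g, Tr D a y g := by
  by_cases hya : y = a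
  · obtain ⟨e, he, -⟩ := m22_pair hD h ha
    exact ⟨1, tr_mk he (one_mem _) (by rw [hya]; group)⟩
  by_cases hay : Commute a y
  · have hPre := pre_of_group hD
    have hN := nice_m22 hD h
    have ny : y ∈ nbrs D a := ⟨hy, hya, hay⟩
    obtain ⟨q, hq, q0, q1, -, -⟩ := u6_mid (m22_isU6 hD h ha) (hN.group_Db ha) (bar_mem ny)
      (bar_mem ny) (bar_mem ny) (Commute.refl _) (Commute.refl _)
    obtain ⟨u, hu, rfl⟩ := exists_bar hq
    rw [commute_bar hPre] at q1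
    obtain ⟨k, hk, hka⟩ := conj_lift hD hP h hu.1
      (show a ∈ nbrs D u from ⟨ha, Ne.symm hu.2.1, hu.2.2.symm⟩)
      (show y ∈ nbrs D u from ⟨hy, fun x => q0 (by subst x; rfl), q1⟩)
    exact ⟨k, tr_mk hu hk hka⟩
  · obtain ⟨e, he, hea, hey⟩ := exists_common hD hP h ha hy hay
    exact ⟨a * y, tr_mk (e := e) ⟨he, fun x => hay (x ▸ hey), hea.symm⟩
      (mul_mem (mem_Hd hD hP h he ha hea) (mem_Hd hD hP h he hy hey))
      (conj_of_noncomm hD.1 ha hy hay)⟩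

omit hP h in
theorem tr_left {a y g m : G} (hm : m ∈ Hd D a) (h₁ : Tr D a y g) :
    Tr D a (m * y * m⁻¹) (m * g) := by
  obtain ⟨e, he, k, hk, hky, hkg⟩ := h₁
  have hma : m * a * m⁻¹ = a := conj_eq_of_commute (commute_Hd hm).symm
  refine ⟨m * e * m⁻¹, ⟨hD.2.1 m e he.1, fun x => he.2.1 ?_, ?_⟩, m * k * m⁻¹,
    conj_mem_Hd hD m hk, ?_, ?_⟩
  · exact mul_left_cancel (mul_right_cancel (x.trans hma.symm))
  · nth_rw 1 [← hma]; exact (commute_conj_iff m a e).2 he.2.2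
  · conv_lhs => rw [← hma]
    rw [← hky]; group
  · have := mul_mem hm hkg
    rwa [show (m * k * m⁻¹)⁻¹ * (m * g) = m * (k⁻¹ * g) by group]

/-- A member outside `D_b` comes from one in `D_a` by the group of `b`. -/
theorem far_rep {a b y : G} (ha : a ∈ D) (hb : b ∈ nbrs D a) (hy : y ∈ D) (hby : ¬ Commute b y) :
    ∃ y₁ k g₁, y₁ ∈ nbrs D a ∧ ¬ Commute b y₁ ∧ k ∈ Hd D b ∧ k * y₁ * k⁻¹ = y ∧
      Tr D a y₁ g₁ ∧ Tr D a y (k * g₁) := by
  by_cases hay : Commute a y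
  · obtain ⟨g, hg⟩ := tr_exists hD hP h ha hy
    exact ⟨y, 1, g, ⟨hy, fun x => hby (x ▸ hb.2.2.symm), hay⟩, hby, one_mem _, by group, hg,
      by rwa [one_mul]⟩
  obtain ⟨e, he, hea, heb, hey⟩ := exists_common_three hD hP h ha hb hy hay
  have hPre := pre_of_group hD
  have hN := nice_m22 hD h
  have na : a ∈ nbrs D e := ⟨ha, fun x => hay (x ▸ hey), hea⟩
  have nb : b ∈ nbrs D e := ⟨hb.1, fun x => hby (x ▸ hey), heb⟩
  have ny : y ∈ nbrs D e := ⟨hy, fun x => hay (x ▸ hea.symm), hey⟩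
  obtain ⟨q, hq, q1, q2⟩ := (m22_u6 hD h he).sep (bar_mem na) (bar_mem nb)
    fun x => hb.2.1 (hN.bar_inj he na nb x).symm
  obtain ⟨y₁, hy₁, rfl⟩ := exists_bar hq
  rw [commute_bar hPre] at q1 q2
  have hby₁ : ¬ Commute b y₁ := fun x => q2 x.symm
  obtain ⟨k, hke, hkb, hky⟩ := trans_lift hD hP h he nb hy₁ ny hby₁ hby
  obtain ⟨g, hg, hgy⟩ := conj_lift hD hP h he na hy₁
  have nea : e ∈ nbrs D a := ⟨he, Ne.symm na.2.1, hea.symm⟩
  refine ⟨y₁, k, g, ⟨hy₁.1, fun x => q2 (x ▸ hb.2.2), q1.symm⟩, hby₁, hkb, hky,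
    tr_mk nea hg hgy, tr_mk nea (mul_mem hke hg) ?_⟩
  calc k * g * a * (k * g)⁻¹ = k * (g * a * g⁻¹) * k⁻¹ := by group
    _ = y := by rw [hgy, hky]

theorem tr_gen {a b y g s : G} (ha : a ∈ D) (hb : b ∈ nbrs D a) (hs : s ∈ D) (hbs : Commute b s)
    (h₁ : Tr D a y g) : Tr D a (s * y * s⁻¹) (s * g) := by
  have hgy := tr_conj h₁
  have hy : y ∈ D := hgy ▸ hD.2.1 g a ha
  by_cases hsy : Commute s y
  · rw [conj_eq_of_commute hsy]
    refine tr_of h₁ ?_
    have hm : g⁻¹ * s * g ∈ Hd D a := by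
      refine mem_Hd hD hP h ha (by simpa using hD.2.1 g⁻¹ s hs) ?_
      rw [← commute_conj_iff g, hgy, show g * (g⁻¹ * s * g) * g⁻¹ = s by group]
      exact hsy.symm
    rwa [← mul_assoc]
  by_cases hby : Commute b y
  · have nya : y ≠ b := fun x => hsy (x ▸ hbs.symm)
    obtain ⟨k, hk, hka⟩ := conj_lift hD hP h hb.1
      (show a ∈ nbrs D b from ⟨ha, Ne.symm hb.2.1, hb.2.2.symm⟩) ⟨hy, nya, hby⟩
    have h2 : Tr D a (s * y * s⁻¹) (s * k) :=
      tr_mk hb (mul_mem (mem_Hd hD hP h hb.1 hs hbs) hk) (by rw [← hka]; group)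
    refine tr_of h2 ?_
    rw [show (s * k)⁻¹ * (s * g) = k⁻¹ * g by group]
    exact tr_unique hD hP h ha (tr_mk hb hk hka) h₁
  obtain ⟨y₁, k, g₁, hy₁, hby₁, hk, hky, t₁, t₂⟩ := far_rep hD hP h ha hb hy hby
  have hby' : ¬ Commute b (s * y * s⁻¹) := fun x => hby (by
    rw [← conj_eq_of_commute hbs.symm] at x
    exact (commute_conj_iff s b y).1 x)
  obtain ⟨y₂, k', g₂, hy₂, hby₂, hk', hky', t₁', t₂'⟩ :=
    far_rep hD hP h ha hb (hD.2.1 s y hy) hby'
  obtain ⟨l, hla, hlb, hly⟩ := trans_lift hD hP h ha hb hy₁ hy₂ hby₁ hby₂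
  obtain ⟨x, ex⟩ : ∃ x, x = (k' * l)⁻¹ * (s * k) := ⟨_, rfl⟩
  have hxb : x ∈ Hd D b := ex ▸ mul_mem (inv_mem (mul_mem hk' hlb))
    (mul_mem (mem_Hd hD hP h hb.1 hs hbs) hk)
  have hxy : Commute x y₁ := commute_of_conj_eq (by
    rw [ex]
    calc (k' * l)⁻¹ * (s * k) * y₁ * ((k' * l)⁻¹ * (s * k))⁻¹
        = l⁻¹ * (k'⁻¹ * (s * (k * y₁ * k⁻¹) * s⁻¹) * k') * l := by group
      _ = y₁ := by rw [hky, ← hky', ← hly]; group)
  have hxM : g₁⁻¹ * x * g₁ ∈ Hd D a := by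
    have h3 := conj_mem_Hd hD g₁⁻¹ (fix_far hD hP h hb.1 hy₁.1 hby₁ hxb hxy)
    rw [inv_inv, show g₁⁻¹ * y₁ * g₁ = a by rw [← tr_conj t₁]; group] at h3
    exact h3
  have hl : g₂⁻¹ * (l * g₁) ∈ Hd D a :=
    tr_unique hD hP h ha t₁' (hly ▸ tr_left hD hla t₁)
  have hg1 : g₁⁻¹ * (k⁻¹ * g) ∈ Hd D a := by
    have h4 := tr_unique hD hP h ha t₂ h₁
    rwa [show (k * g₁)⁻¹ * g = g₁⁻¹ * (k⁻¹ * g) by group] at h4
  refine tr_of t₂' ?_
  have h5 := mul_mem (mul_mem hl hxM) hg1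
  rwa [ex, show g₂⁻¹ * (l * g₁) * (g₁⁻¹ * ((k' * l)⁻¹ * (s * k)) * g₁) * (g₁⁻¹ * (k⁻¹ * g)) =
    (k' * g₂)⁻¹ * (s * g) by group] at h5

/-- **The centraliser of a member is generated by the members commuting with it.** -/
theorem m22_gate {a : G} (ha : a ∈ D) : Hd D a = Subgroup.centralizer ({a} : Set G) := by
  refine le_antisymm (fun x hx =>
    Subgroup.mem_centralizer_singleton_iff.2 (commute_Hd hx).symm.eq) ?_
  intro x hx
  have hxa : Commute x a := Subgroup.mem_centralizer_singleton_iff.1 hx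
  obtain ⟨b, hb, -⟩ := m22_pair hD h ha
  have hN := nice_m22 hD h
  -- the two sets of generators generate
  obtain ⟨P, eP⟩ : ∃ P : Subgroup G, P = Subgroup.closure
      ((Hd D a : Set G) ∪ {s | s ∈ D ∧ Commute b s}) := ⟨_, rfl⟩
  have hbP : Hd D b ≤ P := by
    rw [eP, Hd, Subgroup.closure_le]
    exact fun w hw => Subgroup.subset_closure (Or.inr ⟨hw.1, hw.2.2⟩)
  have haP : Hd D a ≤ P := fun w hw => eP ▸ Subgroup.subset_closure (Or.inl hw)
  have hall : ∀ u ∈ D, Hd D u ≤ P := by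
    intro u hu
    have hz := closed_eq_univ hD hP ⟨a, ha, b, hb.1, Ne.symm hb.2.1, hb.2.2⟩
      (Z := {u | u ∈ D ∧ Hd D u ≤ P ∧ ∃ v ∈ nbrs D u, Hd D v ≤ P}) ha
      ⟨ha, haP, b, hb, hbP⟩ ?_ hu
    · exact hz.2.1
    rintro u ⟨hu, huP, v, hv, hvP⟩ w hw - huw
    by_cases hwu : w = u
    · exact hwu ▸ ⟨hu, huP, v, hv, hvP⟩
    obtain ⟨k, hk, hkw⟩ := conj_lift hD hP h hu hv ⟨hw, hwu, huw⟩
    refine ⟨hw, fun z hz => ?_, u, ⟨hu, Ne.symm hwu, huw.symm⟩, huP⟩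
    have h1 := conj_mem_Hd hD k⁻¹ hz
    rw [inv_inv, show k⁻¹ * w * k = v by rw [← hkw]; group] at h1
    have h2 := mul_mem (mul_mem (huP hk) (hvP h1)) (inv_mem (huP hk))
    rwa [show k * (k⁻¹ * z * k) * k⁻¹ = z by group] at h2
  have hxP : x ∈ Subgroup.closure ((Hd D a : Set G) ∪ {s | s ∈ D ∧ Commute b s}) := by
    rw [← eP]
    have : x ∈ Subgroup.closure D := hD.2.2 ▸ Subgroup.mem_top x
    exact (Subgroup.closure_le P).2 (fun u hu => hall u hu (m22_mem hD hP h hu)) this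
  have key : ∀ y g, Tr D a y g → Tr D a (x * y * x⁻¹) (x * g) := by
    clear hx hxa
    induction hxP using Subgroup.closure_induction with
    | mem s hs =>
      intro y g hyg
      rcases hs with hs | ⟨hs, hbs⟩
      · exact tr_left hD hs hyg
      · exact tr_gen hD hP h ha hb hs hbs hyg
    | one => intro y g hyg; simpa using hyg
    | mul u v _ _ h1 h2 =>
      intro y g hyg
      have := h1 _ _ (h2 _ _ hyg)
      rwa [show u * (v * y * v⁻¹) * u⁻¹ = u * v * y * (u * v)⁻¹ by group, ← mul_assoc] at this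
    | inv u _ h1 =>
      intro y g hyg
      have hy : y ∈ D := tr_conj hyg ▸ hD.2.1 g a ha
      obtain ⟨g', hg'⟩ := tr_exists hD hP h ha (hD.2.1 u⁻¹ y hy)
      have h2 := h1 _ _ hg'
      rw [show u * (u⁻¹ * y * u⁻¹⁻¹) * u⁻¹ = y by group] at h2
      refine tr_of hg' ?_
      have := tr_unique hD hP h ha h2 hyg
      rwa [show (u * g')⁻¹ * g = g'⁻¹ * (u⁻¹ * g) by group] at this
  have t1 : Tr D a a 1 := tr_mk hb (one_mem _) (by group)
  have := tr_unique hD hP h ha t1 (by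
    have := key a 1 t1
    rwa [conj_eq_of_commute hxa] at this)
  simpa using this

end CfsgLib.Trans3.Fi
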