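import Cfsg.Agent.Lib.Trans3.Fi.InvolBase

/-!
The shape of the theorems on classes of involutions with three classes.
-/

set_option autoImplicit false
set_option linter.unusedSectionVars false

namespace CfsgLib.Trans3.Fi

variable {G : Type*} [Group G] [Finite G] {D : Set G}

theorem fac_take {a b c : G} (h : Fac D 3 (a * b * c) [a, b, c]) {m : ℕ} (hm : m ≤ 3) :
    Fac D m (([a, b, c].take m).prod) ([a, b, c].take m) := by
  obtain ⟨h1, -, h3, h4, -⟩ := h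
  exact ⟨List.Nodup.sublist (List.take_sublist m _) h1, by simp [hm],
    fun u hu => h3 u (List.mem_of_mem_take hu),
    fun u hu v hv => h4 u (List.mem_of_mem_take hu) v (List.mem_of_mem_take hv), rfl⟩

theorem three_classes (hD : Cfsg.IsThreeTranspositionGroup D)
    (hcls : ∀ {x : G}, x ≠ 1 → x * x = 1 → ∃ m l, 1 ≤ m ∧ m ≤ 3 ∧ Fac D m x l)
    (hT : ∀ m, 1 ≤ m → m ≤ 3 → TupleConj D m)
    (hno : ∀ {k : ℕ}, 1 ≤ k → k ≤ 5 → NoRel D k)
    (hclq : ∃ a b c : G, Fac D 3 (a * b * c) [a, b, c]) :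
    (∀ x : G, orderOf x = 2 → ∃ m : ℕ, 1 ≤ m ∧ m ≤ 3 ∧ (∃ l : List G, Fac D m x l)) ∧
    (∀ m : ℕ, 1 ≤ m → m ≤ 3 → (∃ x : G, orderOf x = 2 ∧ (∃ l : List G, Fac D m x l)) ∧
      ∀ x y : G, (∃ l : List G, Fac D m x l) → (∃ l : List G, Fac D m y l) → IsConj x y) ∧
    ∀ (m m' : ℕ) (x : G), 1 ≤ m → m ≤ 3 → 1 ≤ m' → m' ≤ 3 → (∃ l : List G, Fac D m x l) →
      (∃ l : List G, Fac D m' x l) → m = m' := by
  refine ⟨fun x hx => ?_, fun m h1 h3 => ⟨?_, ?_⟩, ?_⟩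
  · have hx1 : x ≠ 1 := fun e => by rw [e, orderOf_one] at hx; omega
    have hx2 : x * x = 1 := by rw [← pow_two, ← hx, pow_orderOf_eq_one]
    obtain ⟨m, l, h1, h3, hl⟩ := hcls hx1 hx2
    exact ⟨m, h1, h3, l, hl⟩
  · obtain ⟨a, b, c, hf⟩ := hclq
    exact ⟨_, fac_orderOf hD (fac_take hf h3) (hno h1 (by omega)), _, fac_take hf h3⟩
  · rintro x y ⟨l, hl⟩ ⟨l', hl'⟩
    exact (hT m h1 h3).isConj hl hl'
  · rintro m m' x h1 h3 h1' h3' ⟨l, hl⟩ ⟨l', hl'⟩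
    rcases lt_trichotomy m m' with e | e | e
    · exact (fac_ne hD h3 e hl hl' fun k hk hk1 _ => hno hk1 (by omega)).elim
    · exact e
    · exact (fac_ne hD h3' e hl' hl fun k hk hk1 _ => hno hk1 (by omega)).elim

end CfsgLib.Trans3.Fi
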