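import Cfsg.Agent.Lib.Trans3.Fi.Up

/-!
The joint centraliser of a non-commuting pair is generated by the common neighbours, and nothing
non-trivial centralises all of them: from one level to the next.
-/

set_option autoImplicit false
set_option linter.unusedSectionVars false

namespace CfsgLib.Trans3.Fi

/-- The common neighbours of two members. -/
abbrev CN {G : Type*} [Group G] (D : Set G) (a c : G) : Set G :=
  {w | w ∈ D ∧ Commute a w ∧ Commute c w}

/-- The joint centraliser of a non-commuting pair comes from its common neighbours. -/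
structure PairGen {G : Type*} [Group G] (D : Set G) : Prop where
  gen : ∀ a c x : G, a ∈ D → c ∈ D → ¬ Commute a c → Commute x a → Commute x c →
    x ∈ Subgroup.closure (CN D a c)
  triv : ∀ a c z : G, a ∈ D → c ∈ D → ¬ Commute a c → Commute z a → Commute z c →
    (∀ w ∈ CN D a c, Commute z w) → z = 1

theorem pairGen_u6 {G : Type*} [Group G] [Finite G] {D : Set G} (hU : IsU6 G)
    (hD : Cfsg.IsThreeTranspositionGroup D) : PairGen D :=
  ⟨fun _ _ x ha hc hac => (u6_pair_stab hU hD ha hc hac).1 x,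
    fun _ _ z ha hc hac hza hzc hz => (u6_pair_stab hU hD ha hc hac).2.2 z hza hzc
      fun e he h1 h2 => hz e ⟨he, h1, h2⟩⟩

namespace Up

variable {G : Type*} [Group G] [Finite G] {D : Set G}
variable (hN : Nice D) (hP : Cfsg.IsPrimitiveUnderConj D) (hL : ∀ a ∈ D, Lvl (Db D a))
  (hQ : CommonThree D) (hG : ∀ a ∈ D, PairGen (Db D a))
include hN hP hL hQ hG

omit hG in
theorem closure_CN {a c g : G} (hg : g ∈ Subgroup.closure (CN D a c)) :
    Commute g a ∧ Commute g c := by
  induction hg using Subgroup.closure_induction with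
  | mem u hu => exact ⟨hu.2.1.symm, hu.2.2.symm⟩
  | one => exact ⟨Commute.one_left _, Commute.one_left _⟩
  | mul _ _ _ _ h1 h2 => exact ⟨h1.1.mul_left h2.1, h1.2.mul_left h2.2⟩
  | inv _ _ h1 => exact ⟨h1.1.inv_left, h1.2.inv_left⟩

theorem pairGen : PairGen D := by
  have hPre := pre_of_group hN.group
  have mkc : ∀ {e : G} (k : ↥(Hd D e)) {y : G} (hy : y ∈ nbrs D e), Commute (k : G) y →
      Commute (k : Qd D e) (bar hy) := fun k y hy hx => by
    show (QuotientGroup.mk _ : Qd D _) * QuotientGroup.mk _ = _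
    rw [← QuotientGroup.mk_mul, ← QuotientGroup.mk_mul]
    exact congrArg QuotientGroup.mk (Subtype.ext hx.eq)
  -- an element fixing `a`, `c` and a common neighbour `e`, written inside `Hd e`
  have inHd : ∀ {a c e x : G}, e ∈ CN D a c → Commute x a → Commute x c → Commute x e →
      ∃ k : ↥(Hd D e), ∃ i ∈ Subgroup.zpowers e, x = k * i ∧ Commute (k : G) a ∧ Commute (k : G) c := by
    intro a c e x he xa xc xe
    obtain ⟨k, hk, i, hi, rfl⟩ := Cd_split (gate hN hP hL hQ he.1 xe)
    refine ⟨⟨k, hk⟩, i, hi, rfl, ?_⟩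
    obtain ⟨n, rfl⟩ := hi
    refine ⟨?_, ?_⟩
    · have := xa.mul_left (he.2.1.symm.zpow_left n).inv_left
      rwa [mul_inv_cancel_right] at this
    · have := xc.mul_left (he.2.2.symm.zpow_left n).inv_left
      rwa [mul_inv_cancel_right] at this
  have ne : ∀ {a c e : G}, a ∈ D → c ∈ D → ¬ Commute a c → e ∈ CN D a c →
      ∃ na : a ∈ nbrs D e, ∃ nc : c ∈ nbrs D e, ¬ Commute (bar na) (bar nc) := by
    intro a c e ha hc hac he
    have na : a ∈ nbrs D e := ⟨ha, fun x => hac (x ▸ he.2.2.symm), he.2.1.symm⟩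
    have nc : c ∈ nbrs D e := ⟨hc, fun x => hac (x ▸ he.2.1), he.2.2.symm⟩
    exact ⟨na, nc, fun x => hac ((commute_bar hPre na nc).1 x)⟩
  refine ⟨fun a c x ha hc hac xa xc => ?_, fun a c z ha hc hac za zc hz => ?_⟩
  · obtain ⟨e, he, hea, hec⟩ := exists_common hN hP hL ha hc hac
    have f1 : Commute (x * e * x⁻¹) a := (xa.mul_left hea).mul_left xa.inv_left
    have f2 : Commute (x * e * x⁻¹) c := (xc.mul_left hec).mul_left xc.inv_left
    obtain ⟨m, hm, hme⟩ := trans_common hN hP hL ha hc hac he hea.symm hec.symm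
      (hN.group.2.1 x e he) f1.symm f2.symm
    obtain ⟨ma, mc⟩ := closure_CN hN hP hL hQ hm
    have hxe : Commute (m⁻¹ * x) e := commute_of_conj_eq (by
      calc m⁻¹ * x * e * (m⁻¹ * x)⁻¹ = m⁻¹ * (x * e * x⁻¹) * m := by group
        _ = e := by rw [← hme]; group)
    have hee : e ∈ CN D a c := ⟨he, hea.symm, hec.symm⟩
    obtain ⟨k, i, hi, ek, ka, kc⟩ := inHd hee (ma.inv_left.mul_left xa) (mc.inv_left.mul_left xc) hxe
    obtain ⟨na, nc, hn⟩ := ne ha hc hac hee
    have hmem := (hG e he).gen _ _ _ (bar_mem na) (bar_mem nc) hn (mkc k na ka) (mkc k nc kc)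
    have lift : ∀ q ∈ Subgroup.closure (CN (Db D e) (bar na) (bar nc)),
        ∃ l : ↥(Hd D e), (l : G) ∈ Subgroup.closure (CN D a c) ∧ (l : Qd D e) = q := by
      intro q hq
      induction hq using Subgroup.closure_induction with
      | mem v hv =>
        obtain ⟨w, hw, rfl⟩ := exists_bar hv.1
        exact ⟨⟨w, Subgroup.subset_closure hw⟩, Subgroup.subset_closure
          ⟨hw.1, (commute_bar hPre na hw).1 hv.2.1, (commute_bar hPre nc hw).1 hv.2.2⟩, rfl⟩
      | one => exact ⟨1, by simpa using one_mem _, rfl⟩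
      | mul x y _ _ hx hy =>
        obtain ⟨k, hk, rfl⟩ := hx
        obtain ⟨l, hl, rfl⟩ := hy
        exact ⟨k * l, mul_mem hk hl, rfl⟩
      | inv x _ hx =>
        obtain ⟨k, hk, rfl⟩ := hx
        exact ⟨k⁻¹, inv_mem hk, rfl⟩
    obtain ⟨l, hl, hlk⟩ := lift _ hmem
    have hei : e ∈ Subgroup.closure (CN D a c) := Subgroup.subset_closure hee
    have hkS : (k : G) ∈ Subgroup.closure (CN D a c) := by
      have := center_mem hN hP hL he (QuotientGroup.eq.1 hlk)
      rw [Subgroup.coe_mul, Subgroup.coe_inv] at this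
      rcases this with e1 | e1
      · exact inv_mul_eq_one.1 e1 ▸ hl
      · rw [← mul_eq_of_eq_inv_mul e1.symm]; exact mul_mem hl hei
    have := mul_mem hm (mul_mem hkS (Subgroup.zpowers_le.2 hei hi))
    rwa [← ek, mul_inv_cancel_left] at this
  · have key : ∀ e ∈ CN D a c, z = 1 ∨ z = e := by
      intro e he
      obtain ⟨k, i, hi, ek, ka, kc⟩ := inHd he za zc (hz e he)
      obtain ⟨na, nc, hn⟩ := ne ha hc hac he
      have hk1 := (hG e he.1).triv _ _ _ (bar_mem na) (bar_mem nc) hn (mkc k na ka) (mkc k nc kc)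
        fun q hq => by
          obtain ⟨w, hw, rfl⟩ := exists_bar hq.1
          refine mkc k hw ?_
          obtain ⟨n, hn'⟩ := hi
          have := (hz w ⟨hw.1, (commute_bar hPre na hw).1 hq.2.1,
            (commute_bar hPre nc hw).1 hq.2.2⟩).mul_left (hw.2.2.zpow_left n).inv_left
          simp only at hn'
          rwa [hn', ek, mul_inv_cancel_right] at this
      have hzp : z ∈ Subgroup.zpowers e := by
        rw [ek]
        refine mul_mem ?_ hi
        rcases center_mem hN hP hL he.1 ((QuotientGroup.eq_one_iff k).1 hk1) with e1 | e1 <;> rw [e1]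
        exacts [one_mem _, Subgroup.mem_zpowers e]
      obtain ⟨n, hn'⟩ := hzp
      simp only at hn'
      rcases Int.even_or_odd' n with ⟨j, rfl | rfl⟩
      · left; rw [← hn', zpow_mul, zpow_two, Trans3.sq_one hN.group.1 he.1, one_zpow]
      · right
        rw [← hn', zpow_add, zpow_mul, zpow_two, Trans3.sq_one hN.group.1 he.1, one_zpow, one_mul,
          zpow_one]
    obtain ⟨A, hA, B, hB, aA, cA, aB, cB, hAB⟩ := nonab hN hP hL ha hc hac
    rcases key A ⟨hA, aA, cA⟩ with e1 | e1
    · exact e1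
    · refine (key B ⟨hB, aB, cB⟩).resolve_right fun e2 => hAB ?_
      rw [← e1, ← e2]

end Up

end CfsgLib.Trans3.Fi
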