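import Cfsg.Agent.Lib.Trans3.Fi.M23Common
import Cfsg.Agent.Lib.Trans3.Fi.M22Order
import Cfsg.Agent.Lib.Trans3.Fi.PairUp
import Cfsg.Agent.Lib.Trans3.Width

/-!
A group of type M(23): the centralisers of members, simplicity, and the numbers.
-/

set_option autoImplicit false
set_option linter.unusedSectionVars false

namespace CfsgLib.Trans3.Fi

open scoped commutatorElement

variable {G : Type*} [Group G] [Finite G] {D : Set G}

theorem pairGen_m22 (hD : Cfsg.IsThreeTranspositionGroup D) (hP : Cfsg.IsPrimitiveUnderConj D)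
    (h : Cfsg.IsOfTypeM22 G D) : PairGen D :=
  Up.pairGen (nice_m22 hD h) hP
    (fun _ ha => lvl_u6 (m22_isU6 hD h ha) ((nice_m22 hD h).group_Db ha))
    (fun _ _ _ ha hb hy hay => exists_common_three hD hP h ha hb hy hay)
    fun _ ha => pairGen_u6 (m22_isU6 hD h ha) ((nice_m22 hD h).group_Db ha)

theorem ncard_Db (hN : Nice D) {a : G} (ha : a ∈ D) : (nbrs D a).ncard = (Db D a).ncard :=
  Set.ncard_congr (fun _ hy => bar hy) (fun _ hy => bar_mem hy)
    (fun _ _ hy hz e => hN.bar_inj ha hy hz e) fun q hq => by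
      obtain ⟨y, hy, rfl⟩ := exists_bar hq
      exact ⟨y, hy, rfl⟩

theorem cd_eq_hd {a : G} (h : a ∈ Hd D a) : Cd D a = Hd D a := by
  refine le_antisymm ((Subgroup.closure_le _).2 fun y hy => ?_) (Up.Hd_le_Cd a)
  by_cases e : y = a
  · exact e ▸ h
  · exact Subgroup.subset_closure ⟨hy.1, e, hy.2⟩

variable (hD : Cfsg.IsThreeTranspositionGroup D) (hP : Cfsg.IsPrimitiveUnderConj D)
variable (h : Cfsg.IsOfTypeM23 G D)
include hD hP h

theorem pairGen_m23 : PairGen D :=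
  Up.pairGen (nice_m23 hD h) hP (fun _ ha => m23_lvl_below hD h hP ha) (m23_commonThree hD hP h)
    fun _ ha => pairGen_m22 ((nice_m23 hD h).group_Db ha) (m23_prim_below hD h hP ha)
      (m23_below hD h ha)

/-- A member is the product of six pairwise commuting neighbours. -/
theorem m23_six_clique {a : G} (ha : a ∈ D) :
    ∃ l : List G, l.length = 6 ∧ (∀ x ∈ l, x ∈ nbrs D a) ∧ l.prod = a ∧ l.Nodup ∧
      ∀ x ∈ l, ∀ y ∈ l, Commute x y := by
  have hN := nice_m23 hD h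
  have hPre := pre_of_group hD
  have hg := hN.group_Db ha
  have h22 := m23_below hD h ha
  obtain ⟨p, hp, -⟩ := (nice_m22 hg h22).pair
  obtain ⟨q, hq, r, hr, hqr, hc⟩ := m22_pair hg h22 hp
  obtain ⟨b, hb, rfl⟩ := exists_bar hp
  obtain ⟨c, hc', rfl⟩ := exists_bar hq.1
  obtain ⟨n, hn, rfl⟩ := exists_bar hr.1
  have cbc := (commute_bar hPre hb hc').1 hq.2.2
  have cbn := (commute_bar hPre hb hn).1 hr.2.2
  have ccn := (commute_bar hPre hc' hn).1 hc
  have nbc : b ≠ c := fun e => hq.2.1 (by subst e; rfl)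
  have nbn : b ≠ n := fun e => hr.2.1 (by subst e; rfl)
  have ncn : c ≠ n := fun e => hqr (by subst e; rfl)
  obtain ⟨t₁, t₂, t₃, ht, hprops⟩ := m23_seven hD hP h ha hb hc' hn nbc nbn ncn cbc cbn ccn
  refine ⟨[b, c, n, t₁, t₂, t₃], rfl, fun x hx => ?_, ?_, ?_, ?_⟩
  · rw [show [b, c, n, t₁, t₂, t₃] = [b, c, n] ++ [t₁, t₂, t₃] from rfl] at hx
    rcases List.mem_append.1 hx with hx | hx
    · simp only [List.mem_cons, List.not_mem_nil, or_false] at hx
      rcases hx with rfl | rfl | rfl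
      exacts [hb, hc', hn]
    · exact (hprops x hx).1
  · have hs : Fac D 3 (b * c * n) [b, c, n] := ⟨by simp [nbc, nbn, ncn], rfl,
      by simp [hb.1, hc'.1, hn.1], by simp [cbc, cbc.symm, cbn, cbn.symm, ccn, ccn.symm],
      by simp [mul_assoc]⟩
    rw [show [b, c, n, t₁, t₂, t₃] = [b, c, n] ++ [t₁, t₂, t₃] from rfl, List.prod_append,
      hs.2.2.2.2, ht.2.2.2.2, show b * c * n * (b * c * (n * a)) = (b * c * n) * (b * c * n) * a by
        group, fac_sq hD hs, one_mul]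
  · rw [show [b, c, n, t₁, t₂, t₃] = [b, c, n] ++ [t₁, t₂, t₃] from rfl, List.nodup_append']
    exact ⟨by simp [nbc, nbn, ncn], ht.1, fun u hu hu' => (hprops u hu').2.1 hu⟩
  · intro u hu v hv
    rw [show [b, c, n, t₁, t₂, t₃] = [b, c, n] ++ [t₁, t₂, t₃] from rfl] at hu hv
    rcases List.mem_append.1 hu with hu | hu <;> rcases List.mem_append.1 hv with hv | hv
    · simp only [List.mem_cons, List.not_mem_nil, or_false] at hu hv
      rcases hu with e1 | e1 | e1 <;> rcases hv with e2 | e2 | e2 <;> rw [e1, e2] <;>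
        first | exact Commute.refl _ | exact cbc | exact cbc.symm | exact cbn | exact cbn.symm | exact ccn | exact ccn.symm
    · exact ((hprops v hv).2.2 u hu).symm
    · exact (hprops u hu).2.2 v hv
    · exact ht.2.2.2.1 u hu v hv

/-- A member is a product of six of its neighbours. -/
theorem m23_six {a : G} (ha : a ∈ D) :
    ∃ l : List G, l.length = 6 ∧ (∀ x ∈ l, x ∈ nbrs D a) ∧ l.prod = a := by
  obtain ⟨l, h1, h2, h3, -⟩ := m23_six_clique hD hP h ha
  exact ⟨l, h1, h2, h3⟩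

theorem m23_mem {a : G} (ha : a ∈ D) : a ∈ Hd D a := by
  obtain ⟨l, -, hl, hp⟩ := m23_six hD hP h ha
  have := Subgroup.list_prod_mem (Hd D a) (l := l) fun x hx => Subgroup.subset_closure (hl x hx)
  rwa [hp] at this

theorem m23_center_Hd {a : G} (ha : a ∈ D) :
    Subgroup.center ↥(Hd D a) = (Subgroup.zpowers a).subgroupOf (Hd D a) := by
  ext x
  rw [Subgroup.mem_subgroupOf]
  refine ⟨fun hx => ?_, fun hx => central_Hd fun y hy => ?_⟩
  · rcases m23_center_mem hD hP h ha hx with e | e <;> rw [e]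
    exacts [one_mem _, Subgroup.mem_zpowers a]
  · obtain ⟨n, hn⟩ := hx
    rw [← hn]
    exact hy.2.2.zpow_left n

theorem m23_gate {a : G} (ha : a ∈ D) : Hd D a = Subgroup.centralizer ({a} : Set G) := by
  refine le_antisymm (fun x hx =>
    Subgroup.mem_centralizer_singleton_iff.2 (commute_Hd hx).symm.eq) fun x hx => ?_
  rw [← cd_eq_hd (m23_mem hD hP h ha)]
  exact (lvl_m23 hD hP h).stab a x ha (Subgroup.mem_centralizer_singleton_iff.1 hx)

theorem m23_perfect {a : G} (ha : a ∈ D) : Group.IsPerfect ↥(Hd D a) := by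
  rw [Group.isPerfect_def]
  have hN := nice_m23 hD h
  obtain ⟨N, eN⟩ : ∃ N : Subgroup ↥(Hd D a), N = commutator ↥(Hd D a) := ⟨_, rfl⟩
  haveI : N.Normal := eN ▸ inferInstance
  rw [← eN]
  have hab : ∀ p q : ↥(Hd D a), (QuotientGroup.mk' N p) * QuotientGroup.mk' N q =
      QuotientGroup.mk' N q * QuotientGroup.mk' N p := by
    intro p q
    rw [← map_mul, ← map_mul]
    refine (QuotientGroup.eq).2 ?_
    rw [eN, show (p * q)⁻¹ * (q * p) = ⁅q⁻¹, p⁻¹⁆ by rw [commutatorElement_def]; group]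
    exact Subgroup.commutator_mem_commutator (Subgroup.mem_top _) (Subgroup.mem_top _)
  obtain ⟨b₀, hb₀⟩ := m23_nbr hD h ha
  obtain ⟨β, eβ⟩ : ∃ β, β = QuotientGroup.mk' N ⟨b₀, Subgroup.subset_closure hb₀⟩ := ⟨_, rfl⟩
  have hβ : ∀ y (hy : y ∈ nbrs D a),
      QuotientGroup.mk' N ⟨y, Subgroup.subset_closure hy⟩ = β := by
    intro y hy
    obtain ⟨q, hq⟩ := (m23_prim_below hD h hP ha).1 _ (bar_mem hb₀) _ (bar_mem hy)
    obtain ⟨k, rfl⟩ := QuotientGroup.mk_surjective q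
    let v : ↥(Hd D a) := ⟨b₀, Subgroup.subset_closure hb₀⟩
    have e := Up.conj_bar hN hP (fun _ hb => m23_lvl_below hD h hP hb) ha k hb₀ hy hq
    rw [show (⟨y, Subgroup.subset_closure hy⟩ : ↥(Hd D a)) = k * v * k⁻¹ from Subtype.ext e.symm,
      map_mul, map_mul, hab k v, mul_assoc, ← map_mul, mul_inv_cancel, map_one, mul_one, eβ]
  have hlist : ∀ (l : List G), (∀ y ∈ l, y ∈ nbrs D a) → ∃ hm : l.prod ∈ Hd D a,
      QuotientGroup.mk' N ⟨l.prod, hm⟩ = β ^ l.length := by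
    intro l
    induction l with
    | nil => intro _; exact ⟨by simp, by simp; exact one_mem N⟩
    | cons y t ih =>
      intro hl
      obtain ⟨hm, he⟩ := ih fun u hu => hl u (List.mem_cons_of_mem _ hu)
      have hy := hl y List.mem_cons_self
      have hm' : y * t.prod ∈ Hd D a := mul_mem (Subgroup.subset_closure hy) hm
      refine ⟨List.prod_cons (a := y) (l := t) ▸ hm', ?_⟩
      rw [List.length_cons, pow_succ', ← he, ← hβ y hy, ← map_mul]
      exact congrArg _ (Subtype.ext List.prod_cons)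
  have hβ2 : β * β = 1 := by
    rw [eβ, ← map_mul, show (⟨b₀, Subgroup.subset_closure hb₀⟩ : ↥(Hd D a)) * ⟨b₀,
      Subgroup.subset_closure hb₀⟩ = 1 from Subtype.ext (Trans3.sq_one hD.1 hb₀.1), map_one]
  obtain ⟨l6, hl6, hm6, hp6⟩ := m23_six hD hP h ha
  obtain ⟨hm, he6⟩ := hlist l6 hm6
  have ha1 : (⟨a, m23_mem hD hP h ha⟩ : ↥(Hd D a)) ∈ N := by
    rw [← QuotientGroup.eq_one_iff]
    show QuotientGroup.mk' N _ = 1
    rw [show (⟨a, m23_mem hD hP h ha⟩ : ↥(Hd D a)) = ⟨l6.prod, hm⟩ from Subtype.ext hp6.symm, he6,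
      hl6, show (6 : ℕ) = 2 * 3 from rfl, pow_mul, pow_two, hβ2, one_pow]
  -- the centre lies in `N`, and `N` covers the simple quotient
  have hZN : Subgroup.center ↥(Hd D a) ≤ N := by
    intro x hx
    rcases m23_center_mem hD hP h ha hx with e | e
    · rw [show x = 1 from Subtype.ext e]; exact one_mem _
    · rw [show x = ⟨a, m23_mem hD hP h ha⟩ from Subtype.ext e]; exact ha1
  have hg := hN.group_Db ha
  have h22 := m23_below hD h ha
  haveI := m22_simple hg (m23_prim_below hD h hP ha) h22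
  have hXperf : commutator (Qd D a) = ⊤ := by
    refine ((inferInstance : (commutator (Qd D a)).Normal).eq_bot_or_eq_top).resolve_left fun e => ?_
    obtain ⟨p, hp, q, hq, hpq⟩ := (nice_m22 hg h22).pair
    have hm : ⁅p, q⁆ ∈ (⊥ : Subgroup (Qd D a)) :=
      e ▸ Subgroup.commutator_mem_commutator (Subgroup.mem_top _) (Subgroup.mem_top _)
    exact hpq (commutatorElement_eq_one_iff_commute.1 (Subgroup.mem_bot.1 hm))
  have hmap : N.map (QuotientGroup.mk' (Subgroup.center ↥(Hd D a))) = ⊤ := by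
    rw [eN, commutator_def, Subgroup.map_commutator,
      Subgroup.map_top_of_surjective _ (QuotientGroup.mk'_surjective _), ← commutator_def, hXperf]
  have := congrArg (Subgroup.comap (QuotientGroup.mk' (Subgroup.center ↥(Hd D a)))) hmap
  rwa [Subgroup.comap_map_eq, QuotientGroup.ker_mk', Subgroup.comap_top, sup_eq_left.2 hZN] at this

theorem m23_quasisimple {a : G} (ha : a ∈ D) : Cfsg.IsQuasisimple ↥(Hd D a) :=
  ⟨m23_perfect hD hP h ha, m22_simple ((nice_m23 hD h).group_Db ha) (m23_prim_below hD h hP ha)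
    (m23_below hD h ha)⟩

theorem m23_simple : IsSimpleGroup G := by
  have hN := nice_m23 hD h
  obtain ⟨a, ha, b₁, hb₁, hnc⟩ := hN.pair
  haveI : Nontrivial G := ⟨⟨a, 1, invol_ne_one (hD.1.1 a ha)⟩⟩
  refine ⟨fun N hN' => ?_⟩
  by_contra hne
  obtain ⟨hne1, hne2⟩ := not_or.1 hne
  haveI := hN'
  -- `N` is transitive on `D`
  have htrans : ∀ y ∈ D, ∃ n ∈ N, n * a * n⁻¹ = y := by
    have hR := fun {d e x : G} (hd : d ∈ D) (he : e ∈ D) (hde : d ≠ e)
      (hr : ∃ n ∈ N, n * d * n⁻¹ = e) (hx : x ∈ D) =>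
      eq_of_equivariant hD hP (fun u v => ∃ n ∈ N, n * u * n⁻¹ = v)
        (fun u _ => ⟨1, one_mem N, by group⟩)
        (fun u v ⟨n, hn, e⟩ => ⟨n⁻¹, Subgroup.inv_mem _ hn, by rw [← e]; group⟩)
        (fun u v w ⟨n, hn, e⟩ ⟨m, hm, e'⟩ => ⟨m * n, mul_mem hm hn, by rw [← e', ← e]; group⟩)
        (fun g u v ⟨n, hn, e⟩ => ⟨g * n * g⁻¹, hN'.conj_mem n hn g, by rw [← e]; group⟩)
        hd he hde hr hx
    by_cases hall : ∀ n ∈ N, ∀ d ∈ D, n * d * n⁻¹ = d
    · exfalso
      refine hne1 ((Subgroup.eq_bot_iff_forall N).2 fun n hn => ?_)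
      have : n ∈ Subgroup.center G := by
        rw [Subgroup.mem_center_iff]
        intro g
        have hg : g ∈ Subgroup.closure D := hD.2.2 ▸ Subgroup.mem_top g
        induction hg using Subgroup.closure_induction with
        | mem y hy => exact (commute_of_conj_eq (hall n hn y hy)).eq.symm
        | one => simp
        | mul _ _ _ _ h1 h2 => exact (Commute.mul_left h1 h2 : Commute _ n)
        | inv _ _ h1 => exact (Commute.inv_left h1 : Commute _ n)
      rwa [hN.center, Subgroup.mem_bot] at this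
    · push Not at hall
      obtain ⟨n, hn, d, hd, hd'⟩ := hall
      intro y hy
      obtain ⟨n1, hn1, e1⟩ := hR hd (hD.2.1 n d hd) (Ne.symm hd') ⟨n, hn, rfl⟩ ha
      obtain ⟨n2, hn2, e2⟩ := hR hd (hD.2.1 n d hd) (Ne.symm hd') ⟨n, hn, rfl⟩ hy
      exact ⟨n2 * n1⁻¹, mul_mem hn2 (Subgroup.inv_mem _ hn1), by rw [← e1, ← e2]; group⟩
  -- `N` contains no member
  have haN : a ∉ N := by
    intro haN
    refine hne2 (eq_top_iff.2 ?_)
    rw [← hD.2.2, Subgroup.closure_le]
    intro y hy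
    obtain ⟨n, hn, rfl⟩ := htrans y hy
    exact mul_mem (mul_mem hn haN) (Subgroup.inv_mem _ hn)
  -- `N` meets the centraliser of `a` trivially
  have hreg : ∀ n ∈ N, Commute n a → n = 1 := by
    have hq := m23_quasisimple hD hP h ha
    intro n hn hna
    have hnH : n ∈ Hd D a := by
      rw [m23_gate hD hP h ha]; exact Subgroup.mem_centralizer_singleton_iff.2 hna
    haveI : IsSimpleGroup (↥(Hd D a) ⧸ Subgroup.center ↥(Hd D a)) := hq.2
    obtain ⟨M, eM⟩ : ∃ M : Subgroup ↥(Hd D a), M = N.subgroupOf (Hd D a) := ⟨_, rfl⟩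
    haveI : M.Normal := eM ▸ inferInstance
    haveI : (M.map (QuotientGroup.mk' (Subgroup.center ↥(Hd D a)))).Normal :=
      Subgroup.Normal.map inferInstance _ (QuotientGroup.mk'_surjective _)
    rcases (this : (M.map (QuotientGroup.mk' (Subgroup.center ↥(Hd D a)))).Normal).eq_bot_or_eq_top
      with e | e
    · have hm : (⟨n, hnH⟩ : ↥(Hd D a)) ∈ Subgroup.center ↥(Hd D a) := by
        rw [← QuotientGroup.eq_one_iff]
        exact Subgroup.mem_bot.1 (e ▸ Subgroup.mem_map_of_mem _ (by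
          rw [eM, Subgroup.mem_subgroupOf]; exact hn))
      rcases m23_center_mem hD hP h ha hm with e' | e'
      · exact e'
      · exact absurd ((show n = a from e') ▸ hn) haN
    · exfalso
      apply haN
      have hperf : commutator ↥(Hd D a) = ⊤ := (m23_perfect hD hP h ha).commutator_eq_top
      have hle : commutator ↥(Hd D a) ≤ M := by
        rw [commutator_def, Subgroup.commutator_le]
        intro p _ q _
        obtain ⟨p', hp', ep⟩ := e.ge (Subgroup.mem_top (QuotientGroup.mk' _ p))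
        obtain ⟨zp, hzp, rfl⟩ : ∃ zp ∈ Subgroup.center ↥(Hd D a), p = p' * zp :=
          ⟨p'⁻¹ * p, QuotientGroup.eq.1 ep, by group⟩
        rw [show ⁅p' * zp, q⁆ = p' * (zp * q * zp⁻¹) * p'⁻¹ * q⁻¹ by
          rw [commutatorElement_def]; group, ← Subgroup.mem_center_iff.1 hzp q,
          mul_inv_cancel_right, show p' * q * p'⁻¹ * q⁻¹ = p' * (q * p'⁻¹ * q⁻¹) by group]
        exact mul_mem hp' (Subgroup.Normal.conj_mem inferInstance _ (Subgroup.inv_mem _ hp') q)
      have := hle (hperf.ge (Subgroup.mem_top ⟨a, m23_mem hD hP h ha⟩))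
      rwa [eM, Subgroup.mem_subgroupOf] at this
  obtain ⟨b, hb⟩ := m23_nbr hD h ha
  obtain ⟨n, hn, hnb⟩ := htrans b hb.1
  have h1 : n⁻¹ * (a * n * a⁻¹) = 1 := by
    refine hreg _ (mul_mem (Subgroup.inv_mem _ hn) (hN'.conj_mem n hn a)) ?_
    refine commute_of_conj_eq ?_
    have hab : a * b * a⁻¹ = b := conj_eq_of_commute hb.2.2
    calc n⁻¹ * (a * n * a⁻¹) * a * (n⁻¹ * (a * n * a⁻¹))⁻¹ = n⁻¹ * (a * (n * a * n⁻¹) * a⁻¹) * n := by
          group
      _ = n⁻¹ * (n * a * n⁻¹) * n := by rw [hnb, hab]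
      _ = a := by group
  have h2 : Commute n a := (mul_inv_eq_iff_eq_mul.1 (inv_mul_eq_one.1 h1).symm).symm
  exact hb.2.1 (by rw [← hnb, conj_eq_of_commute h2])

theorem card_nbrs23 {a : G} (ha : a ∈ D) : (nbrs D a).ncard = 3510 := by
  rw [ncard_Db (nice_m23 hD h) ha]
  exact m22_card_D ((nice_m23 hD h).group_Db ha) (m23_prim_below hD h hP ha) (m23_below hD h ha)

theorem card_centralizer23 {a : G} (ha : a ∈ D) :
    Nat.card ↥(Subgroup.centralizer ({a} : Set G)) = 129123503308800 := by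
  rw [← m23_gate hD hP h ha,
    Subgroup.card_eq_card_quotient_mul_card_subgroup (Subgroup.center ↥(Hd D a)),
    show Nat.card (↥(Hd D a) ⧸ Subgroup.center ↥(Hd D a)) = _ from
      m22_card ((nice_m23 hD h).group_Db ha) (m23_prim_below hD h hP ha) (m23_below hD h ha),
    m23_center_Hd hD hP h ha, Nat.card_congr (Subgroup.subgroupOfEquivOfLe
      (Subgroup.zpowers_le.2 (m23_mem hD hP h ha))).toEquiv, Nat.card_zpowers, hD.1.1 a ha]
  norm_num

theorem card_pair23 {d c : G} (hd : d ∈ D) (hc : c ∈ D) (hdc : ¬ Commute d c) {c₃ : ZMod 3}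
    (hc₃ : c₃ ≠ 0)
    (hL : Cfsg.IsProjReflectionGroupModThree (↥(Ld D d c) ⧸ Subgroup.center ↥(Ld D d c)) 7 (-c₃) c₃) :
    Nat.card ↥(Subgroup.centralizer ({d} : Set G) ⊓ Subgroup.centralizer ({c} : Set G)) =
      4585351680 := by
  have hG := pairGen_m23 hD hP h
  have hset : nbrs D d ∩ nbrs D c = CN D d c := Set.ext fun y =>
    ⟨fun ⟨⟨h1, _, h2⟩, _, _, h3⟩ => ⟨h1, h2, h3⟩, fun ⟨h1, h2, h3⟩ =>
      ⟨⟨h1, fun x => hdc (x ▸ h3).symm, h2⟩, h1, fun x => hdc (x ▸ h2), h3⟩⟩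
  have hLc : ∀ x ∈ Subgroup.closure (CN D d c), Commute x d ∧ Commute x c := fun x hx =>
    Up.closure_CN (nice_m23 hD h) hP (fun _ ha => m23_lvl_below hD h hP ha)
      (m23_commonThree hD hP h) hx
  have hLd : Ld D d c = Subgroup.centralizer ({d} : Set G) ⊓ Subgroup.centralizer ({c} : Set G) := by
    rw [Ld, hset]
    ext x
    simp only [Subgroup.mem_inf, Subgroup.mem_centralizer_singleton_iff]
    exact ⟨fun hx => hLc x hx, fun hx => hG.gen d c x hd hc hdc hx.1 hx.2⟩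
  have hZ : Subgroup.center ↥(Ld D d c) = ⊥ := by
    rw [Subgroup.eq_bot_iff_forall]
    rintro ⟨z, hzL⟩ hz
    have hzL' : z ∈ Subgroup.closure (CN D d c) := hset ▸ hzL
    obtain ⟨zd, zc⟩ := hLc z hzL'
    exact Subtype.ext (hG.triv d c z hd hc hdc zd zc fun w hw => (congrArg Subtype.val
      (Subgroup.mem_center_iff.1 hz
        ⟨w, Subgroup.subset_closure (hset ▸ hw : w ∈ nbrs D d ∩ nbrs D c)⟩)).symm)
  obtain ⟨Q, hQ, hdet, ⟨iso⟩⟩ := hL
  have h1 := Subgroup.card_eq_card_quotient_mul_card_subgroup (Subgroup.center ↥(Ld D d c))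
  rw [Nat.card_congr iso.toEquiv, ReflSeven.card_quotient Q hQ hc₃ hdet, hZ, Subgroup.card_bot,
    mul_one, hLd] at h1
  exact h1

theorem m23_card_D : D.ncard = 31671 := by
  obtain ⟨-, d, hd, c, hc, hdc, -, c₃, hc₃, hL⟩ := id h
  obtain ⟨b₀, hb₀⟩ := m23_nbr hD h hd
  have hw : ∃ u ∈ D, ∃ v ∈ D, u ≠ v ∧ Commute u v := ⟨b₀, hb₀.1, d, hd, hb₀.2.1, hb₀.2.2.symm⟩
  obtain ⟨far, efar⟩ : ∃ far : Set G, far = {y | y ∈ D ∧ ¬ Commute d y} := ⟨_, rfl⟩
  have h1 := card_orbit_mul (H := Subgroup.centralizer ({d} : Set G)) (x := c) (O := far)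
    (fun g hg => by
      rw [efar]
      refine ⟨hD.2.1 g c hc, fun x => hdc ((commute_conj_iff g d c).1 ?_)⟩
      rwa [conj_eq_of_commute (Subgroup.mem_centralizer_singleton_iff.1 hg)])
    (fun o ho => by
      rw [efar] at ho
      obtain ⟨g, hg, hg'⟩ := trans_noncomm hD hP hw hd hc hdc ho.1 ho.2
      exact ⟨g, Subgroup.mem_centralizer_singleton_iff.2 (commute_of_conj_eq hg).eq, hg'⟩)
  rw [card_centralizer23 hD hP h hd, card_pair23 hD hP h hd hc hdc hc₃ hL] at h1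
  have hfar : far.ncard = 28160 := by omega
  have hu : D = insert d (nbrs D d ∪ far) := by
    ext y
    simp only [Set.mem_insert_iff, Set.mem_union, efar, Set.mem_ofPred_eq]
    constructor
    · intro hy
      by_cases h1 : y = d
      · exact Or.inl h1
      by_cases h2 : Commute d y
      · exact Or.inr (Or.inl ⟨hy, h1, h2⟩)
      · exact Or.inr (Or.inr ⟨hy, h2⟩)
    · rintro (rfl | ⟨hy, -⟩ | ⟨hy, -⟩) <;> assumption
  rw [hu, Set.ncard_insert_of_notMem, Set.ncard_union_eq, card_nbrs23 hD hP h hd, hfar]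
  · rw [Set.disjoint_left]
    intro y hy hy'
    rw [efar] at hy'
    exact hy'.2 hy.2.2
  · rintro (hy | hy)
    · exact hy.2.1 rfl
    · rw [efar] at hy; exact hy.2 (Commute.refl d)

theorem m23_card : Nat.card G = 2 ^ 18 * 3 ^ 13 * 5 ^ 2 * 7 * 11 * 13 * 17 * 23 := by
  obtain ⟨a, ha, -⟩ := (nice_m23 hD h).pair
  have h1 := card_orbit_mul (H := (⊤ : Subgroup G)) (x := a) (O := D)
    (fun g _ => hD.2.1 g a ha) (fun o ho => by
      obtain ⟨g, hg⟩ := hP.1 a ha o ho
      exact ⟨g, Subgroup.mem_top g, hg⟩)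
  rw [Subgroup.card_top, top_inf_eq, card_centralizer23 hD hP h ha, m23_card_D hD hP h] at h1
  rw [h1]
  norm_num

theorem m23_width : Cfsg.commutingWidth D = 23 := by
  have hN := nice_m23 hD h
  have hPre := pre_of_group hD
  have hX : ∀ {a : G}, a ∈ D → Cfsg.commutingWidth (Db D a) = 22 := fun {a} ha =>
    m22_width (hN.group_Db ha) (m23_prim_below hD h hP ha) (m23_below hD h ha)
  obtain ⟨a, ha, -⟩ := hN.pair
  refine le_antisymm ?_ ?_
  · obtain ⟨E, hE, hc, hn⟩ := exists_commutingWidth D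
    rw [← hn]
    by_cases hne : E = ∅
    · rw [hne, Set.ncard_empty]; omega
    obtain ⟨e, he⟩ := Set.nonempty_iff_ne_empty.2 hne
    have hsub : E \ {e} ⊆ nbrs D e := fun y hy => ⟨hE hy.1, hy.2, hc e he y hy.1⟩
    obtain ⟨T, eT⟩ : ∃ T : Set (Qd D e), T = {q | ∃ y, ∃ hy : y ∈ nbrs D e, y ∈ E \ {e} ∧ q = bar hy} :=
      ⟨_, rfl⟩
    have h1 : (E \ {e}).ncard = T.ncard := by
      rw [eT]
      refine Set.ncard_congr (fun y hy => bar (hsub hy)) (fun y hy => ⟨y, hsub hy, hy, rfl⟩)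
        (fun y z hy hz e' => hN.bar_inj (hE he) (hsub hy) (hsub hz) e') ?_
      rintro q ⟨y, hy, hyS, rfl⟩
      exact ⟨y, hyS, rfl⟩
    have h2 := le_commutingWidth (D := Db D e) (E := T)
      (by rw [eT]; rintro q ⟨y, hy, -, rfl⟩; exact bar_mem hy)
      (by
        rw [eT]
        rintro q ⟨y, hy, hyE, rfl⟩ q' ⟨z, hz, hzE, rfl⟩
        exact (commute_bar hPre hy hz).2 (hc y hyE.1 z hzE.1))
    rw [hX (hE he), ← h1] at h2
    have h3 := Set.ncard_diff_singleton_add_one he (Set.toFinite E)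
    omega
  · obtain ⟨E, hE, hEc, hEn⟩ := exists_commutingWidth (Db D a)
    rw [hX ha] at hEn
    obtain ⟨T, eT⟩ : ∃ T : Set G, T = {y | ∃ hy : y ∈ nbrs D a, bar hy ∈ E} := ⟨_, rfl⟩
    have hT : T ⊆ nbrs D a := by rw [eT]; exact fun y ⟨hy, _⟩ => hy
    have hTn : T.ncard = 22 := by
      rw [← hEn]
      refine Set.ncard_congr (fun y hy => bar (hT hy)) (fun y hy => ?_)
        (fun y z hy hz e' => hN.bar_inj ha (hT hy) (hT hz) e') fun q hq => ?_
      · rw [eT] at hy; obtain ⟨hy', hyE⟩ := hy; exact hyE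
      · obtain ⟨y, hy, rfl⟩ := exists_bar (hE hq)
        exact ⟨y, by rw [eT]; exact ⟨hy, hq⟩, rfl⟩
    have h1 := le_commutingWidth (D := D) (E := insert a T)
      (Set.insert_subset ha fun y hy => (hT hy).1) ?_
    · rwa [Set.ncard_insert_of_notMem (fun hm => (hT hm).2.1 rfl), hTn] at h1
    rintro x (rfl | hx) y (rfl | hy)
    · exact Commute.refl _
    · exact (hT hy).2.2
    · exact (hT hx).2.2.symm
    · rw [eT] at hx hy
      obtain ⟨hx1, hx2⟩ := hx
      obtain ⟨hy1, hy2⟩ := hy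
      exact (commute_bar hPre hx1 hy1).1 (hEc _ hx2 _ hy2)

end CfsgLib.Trans3.Fi
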