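import Cfsg.Agent.Lib.Trans3.Fi.InvolM22
import Cfsg.Agent.Lib.Trans3.Fi.InvolThree
import Cfsg.Agent.Lib.Trans3.Fi.M23Order

/-!
A group of type M(23) has three classes of involutions.
-/

set_option autoImplicit false
set_option linter.unusedSectionVars false

namespace CfsgLib.Trans3.Fi

variable {G : Type*} [Group G] [Finite G] {D : Set G}

/-- An involution fixes a member of a class of odd size. -/
theorem fixed_of_odd (hD : Cfsg.IsThreeTranspositionGroup D) (hodd : ¬ 2 ∣ D.ncard) {x : G}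
    (hx : x * x = 1) : ∃ a ∈ D, Commute x a := by
  classical
  haveI : Fact (Nat.Prime 2) := ⟨Nat.prime_two⟩
  haveI := Fintype.ofFinite G
  have hinv : x⁻¹ = x := inv_eq_of_mul_eq_one_right hx
  let σ : Equiv.Perm D := Equiv.subtypeEquiv (MulAut.conj x).toEquiv fun d => by
    refine ⟨fun hd => hD.2.1 x d hd, fun hd => ?_⟩
    have := hD.2.1 x⁻¹ _ hd
    change x⁻¹ * (x * d * x⁻¹) * x⁻¹⁻¹ ∈ D at this
    rwa [show x⁻¹ * (x * d * x⁻¹) * x⁻¹⁻¹ = d by group] at this
  have hσ : σ ^ 2 ^ 1 = 1 := by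
    refine Equiv.ext fun d => Subtype.ext ?_
    rw [pow_one, pow_two]
    show x * (x * d * x⁻¹) * x⁻¹ = d
    rw [hinv, show x * (x * (d : G) * x) * x = (x * x) * d * (x * x) by group, hx, one_mul, mul_one]
  obtain ⟨⟨a, ha⟩, he⟩ := Equiv.Perm.exists_fixed_point_of_prime (α := D) (p := 2) (n := 1)
    (by rwa [← Nat.card_eq_fintype_card, Nat.card_coe_set_eq]) hσ
  exact ⟨a, ha, commute_of_conj_eq (congrArg Subtype.val he)⟩

variable (hD : Cfsg.IsThreeTranspositionGroup D) (hP : Cfsg.IsPrimitiveUnderConj D)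
variable (h : Cfsg.IsOfTypeM23 G D)
include hD hP h

/-- The second factorisation one level below gives the seven-term relation. -/
theorem m23_upgrade {a b c d : G} (ha : a ∈ D) (hb : b ∈ nbrs D a) (hc : c ∈ nbrs D a)
    (hd : d ∈ nbrs D a) (hf : Fac D 3 (b * c * d) [b, c, d]) :
    ∃ l, Fac D 3 (a * (b * c * d)) l := by
  classical
  have hN := nice_m23 hD h
  have hg := hN.group_Db ha
  have hP' := m23_prim_below hD h hP ha
  have h' := m23_below hD h ha
  have hPre := pre_of_group hD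
  obtain ⟨hn, -, hmem, hco, -⟩ := id hf
  simp only [List.nodup_cons, List.mem_cons, List.not_mem_nil, or_false, not_or] at hn
  have ne' : ∀ {u v : G} (hu : u ∈ nbrs D a) (hv : v ∈ nbrs D a), u ≠ v → bar hu ≠ bar hv :=
    fun hu hv huv e => huv (hN.bar_inj ha hu hv e)
  have k1 := (commute_bar hPre hb hc).2 (hco b (by simp) c (by simp))
  have k2 := (commute_bar hPre hb hd).2 (hco b (by simp) d (by simp))
  have k3 := (commute_bar hPre hc hd).2 (hco c (by simp) d (by simp))
  obtain ⟨T₁, T₂, T₃, hT, hbT, -⟩ := m22_line hg hP' h' (a := bar hb) (b := bar hc) (c := bar hd)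
    (bar_mem hb) ⟨bar_mem hc, (ne' hb hc hn.1.1).symm, k1⟩
    ⟨bar_mem hd, (ne' hb hd hn.1.2).symm, k2⟩ (ne' hc hd hn.2.1) k3
  have hfac : Fac (Db D a) 3 (bar hb * bar hc * bar hd) [bar hb, bar hc, bar hd] := ⟨by
      simp [ne' hb hc hn.1.1, ne' hb hd hn.1.2, ne' hc hd hn.2.1], rfl,
      fun u hu => by
        simp only [List.mem_cons, List.not_mem_nil, or_false] at hu
        rcases hu with rfl | rfl | rfl <;> exact bar_mem _,
      by simp [k1, k2, k3, k1.symm, k2.symm, k3.symm], by simp [mul_assoc]⟩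
  have hdis : ∀ x ∈ [bar hb, bar hc, bar hd], x ∉ [T₁, T₂, T₃] := by
    intro x hx hxT
    obtain ⟨-, h4, -⟩ := m22_noRel hg h'
    have e1 := fac_erase hfac hx
    have e2 := fac_erase hT hxT
    have hne : bar hb ≠ x := fun e => hbT (e ▸ hxT)
    have := determined hg (by norm_num) (fun _ => h4) (fun h'' => absurd h'' (by norm_num)) e1 e2
      (bar hb)
    rw [List.mem_erase_of_ne hne, List.mem_erase_of_ne hne] at this
    exact hbT (this.1 (by simp))
  obtain ⟨s1, -, s3, s4, s5⟩ := fac_append hg le_rfl hfac hT hdis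
  obtain ⟨t₁, t₂, t₃, m₁, m₂, m₃, -, -, -, hdis', hcross, ht⟩ :=
    six_lift hN ha (fun z hz => m23_center_mem hD hP h ha hz) hb hc hd hf
      (T₁ := T₁) (T₂ := T₂) (T₃ := T₃) ⟨s1, s3, s4, s5⟩
  rcases ht with ht | ht
  · exfalso
    obtain ⟨-, -, -, h6⟩ := m23_noRel hD h
    obtain ⟨r1, r2, r3, r4, r5⟩ := fac_append hD le_rfl hf ht hdis'
    exact h6 _ r1 r2 r3 r4 r5
  · exact ⟨_, ht⟩

/-- Every involution is a product of at most three commuting members. -/
theorem m23_invol {x : G} (hx1 : x ≠ 1) (hx2 : x * x = 1) :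
    ∃ m l, 1 ≤ m ∧ m ≤ 3 ∧ Fac D m x l := by
  have hN := nice_m23 hD h
  obtain ⟨a, ha, hxa⟩ := fixed_of_odd hD (by rw [m23_card_D hD hP h]; norm_num) hx2
  have hx : x ∈ Hd D a := by
    rw [m23_gate hD hP h ha]; exact Subgroup.mem_centralizer_singleton_iff.2 hxa.eq
  rcases classify_lift hN ha (fun z hz => m23_center_mem hD hP h ha hz)
      (R := fun _ _ _ => True) (fun y hy hy2 => by
        obtain ⟨m, l, h1, h3, hl⟩ := m22_invol (hN.group_Db ha) (m23_prim_below hD h hP ha)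
          (m23_below hD h ha) hy hy2
        obtain ⟨hn, hlen, hmem, hco, hpr⟩ := id hl
        match l, hlen with
        | [], hlen => simp at hlen; omega
        | [p], _ => exact Or.inl (by simpa [← hpr] using hmem p (by simp))
        | [p, q], _ => exact Or.inr (Or.inl ⟨p, hmem p (by simp), q, hmem q (by simp),
            by simpa using hn, hco p (by simp) q (by simp), by simpa using hpr.symm⟩)
        | [p, q, r], _ => exact Or.inr (Or.inr ⟨p, q, r, by simpa [mul_assoc] using hpr.symm,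
            ⟨hn, rfl, hmem, hco, by simp [mul_assoc]⟩, trivial⟩)
        | _ :: _ :: _ :: _ :: _, hlen => simp at hlen; omega)
      hx hx1 hx2 with e | ⟨b, c, d, hb, hc, hd, hf, ex, -⟩
  · exact e
  obtain ⟨l, hl⟩ := m23_upgrade hD hP h ha hb hc hd hf
  exact ⟨3, l, by norm_num, le_rfl, ex ▸ hl⟩

theorem m23_tuple_succ {k : ℕ} (hT : ∀ a ∈ D, TupleConj (Db D a) k) : TupleConj D (k + 1) :=
  tupleConj_succ (nice_m23 hD h) hP (fun _ hb => m23_lvl_below hD h hP hb) hT

theorem m23_tuple_pair : TupleConj D 2 :=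
  m23_tuple_succ hD hP h fun _ ha => tupleConj_one (m23_lvl_below hD h hP ha).prim.1

theorem m23_tuple_triple : TupleConj D 3 :=
  m23_tuple_succ hD hP h fun _ ha =>
    m22_tuple_pair ((nice_m23 hD h).group_Db ha) (m23_prim_below hD h hP ha) (m23_below hD h ha)

omit hP in
theorem m23_noRel_le {k : ℕ} (h1 : 1 ≤ k) (h6 : k ≤ 6) : NoRel D k := by
  obtain ⟨n3, n4, n5, n6⟩ := m23_noRel hD h
  interval_cases k
  exacts [noRel_one hD, noRel_two' hD, n3, n4, n5, n6]

omit hP in
theorem m23_clique : ∃ a b c : G, Fac D 3 (a * b * c) [a, b, c] := by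
  obtain ⟨a, ha, -⟩ := (nice_m23 hD h).pair
  obtain ⟨p, q, r, hn, -, hmem, hco, -⟩ :=
    m22_clique ((nice_m23 hD h).group_Db ha) (m23_below hD h ha)
  obtain ⟨b, hb, rfl⟩ := exists_bar (hmem p (by simp))
  obtain ⟨c, hc, rfl⟩ := exists_bar (hmem q (by simp))
  simp only [List.nodup_cons, List.mem_cons, List.not_mem_nil, or_false, not_or] at hn
  have hbc : b ≠ c := fun e => hn.1.1 (by subst e; rfl)
  have hcom := (commute_bar (pre_of_group hD) hb hc).1 (hco _ (by simp) _ (by simp))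
  exact ⟨a, b, c, by simp [Ne.symm hb.2.1, Ne.symm hc.2.1, hbc], rfl, by simp [ha, hb.1, hc.1],
    by simp [hb.2.2, hc.2.2, hcom, hb.2.2.symm, hc.2.2.symm, hcom.symm], by simp [mul_assoc]⟩

end CfsgLib.Trans3.Fi
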