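import Cfsg.Agent.Lib.Trans3.Fi.M24Order
import Cfsg.Agent.Lib.Trans3.Fi.U6Pair

/-!
A group of type M(22): the normaliser of the subgroup of order three generated by the product of
two non-commuting members, and the group generated by their common partners.
-/

set_option autoImplicit false
set_option linter.unusedSectionVars false

namespace CfsgLib.Trans3.Fi

variable {G : Type*} [Group G] {D : Set G}

section Basic

variable (hD : Cfsg.IsThreeTranspositionGroup D)
include hD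

/-- A member centralising the product of a non-commuting pair commutes with both. -/
theorem commute_prod_iff {a d y : G} (ha : a ∈ D) (hd : d ∈ D) (hnc : ¬ Commute a d) (hy : y ∈ D) :
    Commute y (a * d) ↔ Commute a y ∧ Commute d y := by
  refine ⟨fun h => ?_, fun h => h.1.symm.mul_right h.2.symm⟩
  have h1 : y * a * y * (y * d * y) = a * d := by
    rw [show y * a * y * (y * d * y) = y * a * (y * y) * d * y by group,
      Trans3.sq_one hD.1 hy, mul_one, show y * a * d * y = y * (a * d) * y by group, h.eq,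
      mul_assoc, Trans3.sq_one hD.1 hy, mul_one]
  have fixd : Commute a y → Commute d y := fun hay => by
    have e : y * a * y = a := by
      rw [hay.symm.eq, mul_assoc, Trans3.sq_one hD.1 hy, mul_one]
    rw [e] at h1
    have h2 : y * d * y = d := mul_left_cancel h1
    exact (commute_of_conj_eq (g := y) (by rw [inv_eq hD.1 hy]; exact h2)).symm
  by_cases hay : Commute a y
  · exact ⟨hay, fixd hay⟩
  exfalso
  by_cases hdy : Commute d y
  · have e : y * d * y = d := by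
      rw [hdy.symm.eq, mul_assoc, Trans3.sq_one hD.1 hy, mul_one]
    rw [e] at h1
    exact hay (commute_of_conj_eq (g := y) (by
      rw [inv_eq hD.1 hy]; exact mul_right_cancel h1)).symm
  rw [← braid hD.1 ha hy hay, ← braid hD.1 hd hy hdy] at h1
  refine hnc ?_
  have h2 : y * (a * d) * y = 1 := by
    calc y * (a * d) * y = a⁻¹ * (a * y * a * (d * y * d)) * d⁻¹ := by group
      _ = a⁻¹ * (a * d) * d⁻¹ := by rw [h1]
      _ = 1 := by group
  rw [h.eq, mul_assoc, Trans3.sq_one hD.1 hy, mul_one] at h2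
  rw [eq_inv_of_mul_eq_one_left h2, inv_eq hD.1 hd]

omit hD in
theorem perm_three_words : ∀ σ : Equiv.Perm (Fin 3), σ = 1 ∨ σ = Equiv.swap 0 1 ∨
    σ = Equiv.swap 1 2 ∨ σ = Equiv.swap 0 1 * Equiv.swap 1 2 ∨
    σ = Equiv.swap 1 2 * Equiv.swap 0 1 ∨
    σ = Equiv.swap 0 1 * Equiv.swap 1 2 * Equiv.swap 0 1 := by decide +kernel

theorem closure_pair_iso {a d : G} (ha : a ∈ D) (hd : d ∈ D) (hnc : ¬ Commute a d) :
    Nonempty (↥(Subgroup.closure ({a, d} : Set G)) ≃* Equiv.Perm (Fin 3)) := by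
  obtain ⟨φ, hφ, f1, f2⟩ := exists_hom_perm_three (Trans3.sq_one hD.1 ha) (Trans3.sq_one hD.1 hd)
    (braid hD.1 ha hd hnc) (ne_of_not_commute hnc) (invol_ne_one (hD.1.1 a ha))
  have hr : φ.range = Subgroup.closure ({a, d} : Set G) := by
    refine le_antisymm ?_ ((Subgroup.closure_le _).2 ?_)
    · rintro _ ⟨σ, rfl⟩
      have hA : φ (Equiv.swap 0 1) ∈ Subgroup.closure ({a, d} : Set G) :=
        f1 ▸ Subgroup.subset_closure (by simp)
      have hB : φ (Equiv.swap 1 2) ∈ Subgroup.closure ({a, d} : Set G) :=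
        f2 ▸ Subgroup.subset_closure (by simp)
      rcases perm_three_words σ with rfl | rfl | rfl | rfl | rfl | rfl <;>
        (try simp only [map_one, map_mul])
      exacts [one_mem _, hA, hB, mul_mem hA hB, mul_mem hB hA, mul_mem (mul_mem hA hB) hA]
    · rintro x (rfl | rfl)
      exacts [⟨_, f1⟩, ⟨_, f2⟩]
  exact ⟨(MulEquiv.subgroupCongr hr.symm).trans (MonoidHom.ofInjective hφ).symm⟩

theorem conj_prod_left {a d : G} (ha : a ∈ D) (hd : d ∈ D) : a * (a * d) * a⁻¹ = (a * d)⁻¹ := by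
  rw [mul_inv_rev, inv_eq hD.1 ha, inv_eq hD.1 hd, ← mul_assoc, Trans3.sq_one hD.1 ha, one_mul]

theorem conj_prod_right {a d : G} (ha : a ∈ D) (hd : d ∈ D) : d * (a * d) * d⁻¹ = (a * d)⁻¹ := by
  rw [mul_inv_rev, inv_eq hD.1 ha, inv_eq hD.1 hd]
  calc d * (a * d) * d = d * a * (d * d) := by group
    _ = d * a := by rw [Trans3.sq_one hD.1 hd, mul_one]

theorem conj_pair_shift {a d : G} (ha : a ∈ D) (hd : d ∈ D) (hnc : ¬ Commute a d) :
    a * d * a * (a * d)⁻¹ = d ∧ a * d * d * (a * d)⁻¹ = a * d * a := by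
  rw [mul_inv_rev, inv_eq hD.1 ha, inv_eq hD.1 hd]
  constructor
  · calc a * d * a * (d * a) = a * (d * a * d) * a := by group
      _ = a * (a * d * a) * a := by rw [braid hD.1 ha hd hnc]
      _ = (a * a) * d * (a * a) := by group
      _ = d := by rw [Trans3.sq_one hD.1 ha, one_mul, mul_one]
  · rw [mul_assoc a d d, Trans3.sq_one hD.1 hd, mul_one, mul_assoc]

end Basic

section Pair

variable [Finite G] (hL : Lvl D) (hG : PairGen D)
include hL hG

theorem pair_cn_centralizer {a d : G} (ha : a ∈ D) (hd : d ∈ D) (hnc : ¬ Commute a d) :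
    Subgroup.closure (CN D a d) = Subgroup.centralizer ({a, d} : Set G) := by
  refine le_antisymm ((Subgroup.closure_le _).2 fun w hw =>
    Subgroup.mem_centralizer_iff.2 ?_) fun x hx => ?_
  · rintro y (rfl | rfl)
    exacts [hw.2.1.eq, hw.2.2.eq]
  · rw [Subgroup.mem_centralizer_iff] at hx
    exact hG.gen a d x ha hd hnc (hx a (by simp)).symm (hx d (by simp)).symm

/-- An element centralising the product of the pair is a product of an element of the dihedral
group and one centralising both. -/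
theorem pair_centralizer_prod {a d x : G} (ha : a ∈ D) (hd : d ∈ D) (hnc : ¬ Commute a d)
    (hx : Commute x (a * d)) :
    ∃ s ∈ Subgroup.closure ({a, d} : Set G), Commute (s⁻¹ * x) a ∧ Commute (s⁻¹ * x) d := by
  obtain ⟨A, eA⟩ : ∃ A, A = x * a * x⁻¹ := ⟨_, rfl⟩
  have hA : A ∈ D := eA ▸ hL.group.2.1 x a ha
  have hAall : ∀ e ∈ D, Commute e a → Commute e d → Commute e A := by
    intro e he ea ed
    have h1 : Commute (x⁻¹ * e * x) (a * d) :=
      (hx.inv_left.mul_left (ea.mul_right ed)).mul_left hx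
    have h2 := ((commute_prod_iff hL.group ha hd hnc (by simpa using hL.group.2.1 x⁻¹ e he)).1 h1).1.symm
    have h3 := (commute_conj_iff x _ _).2 h2
    rwa [show x * (x⁻¹ * e * x) * x⁻¹ = e by group, ← eA] at h3
  have hadm : a * d ∈ Subgroup.closure ({a, d} : Set G) :=
    mul_mem (Subgroup.subset_closure (by simp)) (Subgroup.subset_closure (by simp))
  have hcomm : Commute (a * d) (a * d) := Commute.refl _
  obtain ⟨s, hs, hs1, hs2⟩ : ∃ s ∈ Subgroup.closure ({a, d} : Set G),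
      s * a * s⁻¹ = A ∧ Commute s (a * d) := by
    obtain ⟨e1, e2⟩ := conj_pair_shift hL.group ha hd hnc
    rcases hL.hyper a d A ha hd hA hnc hAall with e | e | e <;> rw [e]
    · exact ⟨1, one_mem _, by group, Commute.one_left _⟩
    · exact ⟨a * d, hadm, e1, hcomm⟩
    · refine ⟨a * d * (a * d), mul_mem hadm hadm, ?_, hcomm.mul_left hcomm⟩
      calc a * d * (a * d) * a * (a * d * (a * d))⁻¹
          = a * d * (a * d * a * (a * d)⁻¹) * (a * d)⁻¹ := by group
        _ = a * d * a := by rw [e1, e2]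
  have f1 : Commute (s⁻¹ * x) a := commute_of_conj_eq (by
    calc s⁻¹ * x * a * (s⁻¹ * x)⁻¹ = s⁻¹ * (x * a * x⁻¹) * s := by group
      _ = a := by rw [← eA, ← hs1]; group)
  refine ⟨s, hs, f1, ?_⟩
  have f2 := f1.inv_right.mul_right (hs2.inv_left.mul_left hx)
  rwa [show a⁻¹ * (a * d) = d by group] at f2

theorem pair_normalizer {a d : G} (ha : a ∈ D) (hd : d ∈ D) (hnc : ¬ Commute a d) :
    Subgroup.closure ({a, d} : Set G) ⊔ Subgroup.closure (CN D a d) =
      Subgroup.normalizer ((Subgroup.zpowers (a * d) : Subgroup G) : Set G) := by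
  have mem_of : ∀ g : G, (g * (a * d) * g⁻¹ = a * d ∨ g * (a * d) * g⁻¹ = (a * d)⁻¹) →
      g ∈ Subgroup.normalizer ((Subgroup.zpowers (a * d) : Subgroup G) : Set G) := by
    intro g hg
    refine Subgroup.mem_normalizer_fintype ?_
    intro n hn
    obtain ⟨i, rfl⟩ := Subgroup.mem_zpowers_iff.1 hn
    rw [SetLike.mem_coe, ← conj_zpow]
    rcases hg with e | e <;> rw [e]
    · exact zpow_mem (Subgroup.mem_zpowers _) i
    · exact zpow_mem (inv_mem (Subgroup.mem_zpowers _)) i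
  refine le_antisymm (sup_le ((Subgroup.closure_le _).2 ?_) ((Subgroup.closure_le _).2 ?_))
    fun x hx => ?_
  · rintro y (rfl | rfl)
    · exact mem_of _ (Or.inr (conj_prod_left hL.group ha hd))
    · exact mem_of _ (Or.inr (conj_prod_right hL.group ha hd))
  · exact fun y hy => mem_of _ (Or.inl (conj_eq_of_commute (hy.2.1.symm.mul_right hy.2.2.symm)))
  have hm : x * (a * d) * x⁻¹ ∈ Subgroup.zpowers (a * d) :=
    (Subgroup.mem_normalizer_iff.1 hx _).1 (Subgroup.mem_zpowers _)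
  obtain ⟨i, hi⟩ := Subgroup.mem_zpowers_iff.1 hm
  have h3 : (a * d) ^ (3 : ℤ) = 1 := by
    rw [show (3 : ℤ) = ((3 : ℕ) : ℤ) from rfl, zpow_natCast]; exact pow_three hL.group.1 ha hd hnc
  have hn1 : a * d ≠ 1 := fun e =>
    ne_of_not_commute hnc (by rw [eq_inv_of_mul_eq_one_left e, inv_eq hL.group.1 hd])
  have hcases : Commute x (a * d) ∨ Commute (a * x) (a * d) := by
    have hi' : x * (a * d) * x⁻¹ = (a * d) ^ (i % 3) := by
      rw [← hi]
      conv_lhs => rw [← Int.emod_add_ediv_mul i 3, zpow_add, mul_comm (i / 3) 3, zpow_mul, h3,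
        one_zpow, mul_one]
    have : i % 3 = 0 ∨ i % 3 = 1 ∨ i % 3 = 2 := by omega
    rcases this with e | e | e <;> rw [e] at hi'
    · exact absurd (conj_eq_one_iff.1 (by rw [hi', zpow_zero])) hn1
    · exact Or.inl (commute_of_conj_eq (by rw [hi', zpow_one]))
    · refine Or.inr (commute_of_conj_eq ?_)
      have e2 : (a * d) ^ (2 : ℤ) = (a * d)⁻¹ := by
        rw [eq_inv_iff_mul_eq_one, ← zpow_add_one]; exact h3
      rw [e2] at hi'
      calc a * x * (a * d) * (a * x)⁻¹ = a * (x * (a * d) * x⁻¹) * a⁻¹ := by group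
        _ = (a * (a * d) * a⁻¹)⁻¹ := by rw [hi']; group
        _ = a * d := by rw [conj_prod_left hL.group ha hd, inv_inv]
  have key : ∀ y, Commute y (a * d) →
      y ∈ Subgroup.closure ({a, d} : Set G) ⊔ Subgroup.closure (CN D a d) := by
    intro y hy
    obtain ⟨s, hs, s1, s2⟩ := pair_centralizer_prod hL hG ha hd hnc hy
    rw [show y = s * (s⁻¹ * y) by group]
    exact mul_mem (Subgroup.mem_sup_left hs)
      (Subgroup.mem_sup_right (hG.gen a d _ ha hd hnc s1 s2))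
  rcases hcases with e | e
  · exact key x e
  · rw [show x = a⁻¹ * (a * x) by group]
    exact mul_mem (inv_mem (Subgroup.mem_sup_left (Subgroup.subset_closure (by simp)))) (key _ e)

end Pair

section M22

variable [Finite G]
variable (hD : Cfsg.IsThreeTranspositionGroup D) (hP : Cfsg.IsPrimitiveUnderConj D)
variable (h : Cfsg.IsOfTypeM22 G D)
include hD hP h

theorem m22_cn_centralizer {a d : G} (ha : a ∈ D) (hd : d ∈ D) (hnc : ¬ Commute a d) :
    Subgroup.closure (CN D a d) = Subgroup.centralizer ({a, d} : Set G) :=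
  pair_cn_centralizer (lvl_m22 hD hP h) (pairGen_m22 hD hP h) ha hd hnc

/-- Two common partners of a pair have a common partner commuting with the pair. -/
theorem m22_common_four {a d c c' : G} (ha : a ∈ D) (hd : d ∈ D) (hnc : ¬ Commute a d)
    (hc : c ∈ CN D a d) (hc' : c' ∈ CN D a d) :
    ∃ g ∈ CN D a d, Commute g c ∧ Commute g c' := by
  by_contra! hall
  have hPre := pre_of_group hD
  have hN := nice_m22 hD h
  have nc : ∀ {x : G}, x ∈ CN D a d → x ∈ nbrs D a := fun {x} hx =>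
    ⟨hx.1, fun e => hnc (e ▸ hx.2.2).symm, hx.2.1⟩
  have na : a ∈ nbrs D c := ⟨ha, fun e => hnc (e ▸ hc.2.2).symm, hc.2.1.symm⟩
  have nd : d ∈ nbrs D c := ⟨hd, fun e => hnc (e ▸ hc.2.1), hc.2.2.symm⟩
  obtain ⟨qA, qB, qC, qE, hq⟩ := u6_quad (m22_isU6 hD h hc.1) (hN.group_Db hc.1) (bar_mem na)
    (bar_mem nd) fun e => hnc ((commute_bar hPre na nd).1 e)
  have get : ∀ q ∈ [qA, qB, qC, qE], ∃ x, ∃ hx : x ∈ nbrs D c, q = bar hx ∧ x ∈ CN D a d ∧
      x ∈ nbrs D a ∧ ¬ Commute x c' := by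
    intro q hq'
    obtain ⟨m, c1, c2⟩ := hq.mem q hq'
    obtain ⟨x, hx, rfl⟩ := exists_bar m
    rw [commute_bar hPre] at c1 c2
    exact ⟨x, hx, rfl, ⟨hx.1, c1, c2⟩, nc ⟨hx.1, c1, c2⟩, hall x ⟨hx.1, c1, c2⟩ hx.2.2.symm⟩
  obtain ⟨A, hA, rfl, mA, nA, bA⟩ := get qA (by simp)
  obtain ⟨B, hB, rfl, mB, nB, bB⟩ := get qB (by simp)
  obtain ⟨C, hC, rfl, mC, nC, bC⟩ := get qC (by simp)
  obtain ⟨E, hE, rfl, mE, nE, bE⟩ := get qE (by simp)
  have nb := nc hc'
  have n1 : ∀ {u : G} (hu : u ∈ nbrs D a), ¬ Commute u c' → ¬ Commute (bar hu) (bar nb) :=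
    fun hu e e' => e ((commute_bar hPre hu nb).1 e')
  have n2 : ∀ {u v : G} (hu : u ∈ nbrs D c) (hv : v ∈ nbrs D c) (hu' : u ∈ nbrs D a)
      (hv' : v ∈ nbrs D a), ¬ Commute (bar hu) (bar hv) → ¬ Commute (bar hu') (bar hv') :=
    fun hu hv hu' hv' e e' => e ((commute_bar hPre hu hv).2 ((commute_bar hPre hu' hv').1 e'))
  have n3 : ∀ {u v w : G} (hu : u ∈ nbrs D c) (hv : v ∈ nbrs D c) (hw : w ∈ nbrs D c)
      (hu' : u ∈ nbrs D a) (hv' : v ∈ nbrs D a) (hw' : w ∈ nbrs D a),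
      Commute (bar hu * bar hv * bar hu) (bar hw) →
      Commute (bar hu' * bar hv' * bar hu') (bar hw') := by
    intro u v w hu hv hw hu' hv' hw' e
    obtain ⟨m, em⟩ := bar_third hD hu hv
    obtain ⟨m', em'⟩ := bar_third hD hu' hv'
    rw [← em, commute_bar hPre] at e
    rw [← em', commute_bar hPre]; exact e
  have n4 : ∀ {u v : G} (hu : u ∈ nbrs D a) (hv : v ∈ nbrs D a) (_ : u ∈ nbrs D c)
      (_ : v ∈ nbrs D c), u ∈ CN D a d → v ∈ CN D a d →
      ¬ Commute (bar hu * bar hv * bar hu) (bar nb) := by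
    intro u v hu hv cu cv mu mv e
    obtain ⟨m, em⟩ := bar_third hD hu hv
    rw [← em, commute_bar hPre] at e
    exact hall _ ⟨self_conj_mem hD mu.1 mv.1, m.2.2,
      (mu.2.2.mul_right mv.2.2).mul_right mu.2.2⟩
      ((cu.2.2.mul_right cv.2.2).mul_right cu.2.2).symm e
  refine u6_no_bad (m22_isU6 hD h ha) (hN.group_Db ha) (bar_mem nb) (a := 1) (c := 1)
    (A := bar nA) (B := bar nB) (C := bar nC) (E := bar nE)
    ⟨?_, n2 hA hB nA nB hq.ab, n2 hA hC nA nC hq.ac, n2 hA hE nA nE hq.ae, n2 hB hC nB nC hq.bc,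
      n2 hB hE nB nE hq.be, n2 hC hE nC nE hq.ce, n3 hA hB hC nA nB nC hq.t₁,
      n3 hA hB hE nA nB nE hq.t₂, n3 hA hC hE nA nC nE hq.t₃⟩
    (n1 nA bA) (n1 nB bB) (n1 nC bC) (n1 nE bE) (n4 nA nB hA hB mA mB) (n4 nA nC hA hC mA mC)
    (n4 nA nE hA hE mA mE) (n4 nB nC hB hC mB mC) (n4 nB nE hB hE mB mE) (n4 nC nE hC hE mC mE)
  intro x hx
  simp only [List.mem_cons, List.not_mem_nil, or_false] at hx
  refine ⟨?_, Commute.one_left x, Commute.one_left x⟩
  rcases hx with rfl | rfl | rfl | rfl <;> exact bar_mem _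

/-- A common partner orthogonal to all common partners of two orthogonal pairs is on the line of
the second. -/
theorem m22_pair_hyper {a d c c' s : G} (ha : a ∈ D) (hd : d ∈ D) (hnc : ¬ Commute a d)
    (hc : c ∈ CN D a d) (hc' : c' ∈ CN D a d) (hcc : ¬ Commute c c') (hs : s ∈ CN D a d)
    (hsc : ¬ Commute s c)
    (hall : ∀ w ∈ CN D a d, Commute w c → Commute w c' → Commute w s) :
    s = c ∨ s = c' ∨ s = c * c' * c := by
  have h1 : s ≠ c := fun e => hsc (e ▸ Commute.refl c)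
  by_cases h2 : s = c'
  · exact Or.inr (Or.inl h2)
  refine Or.inr (Or.inr ?_)
  obtain ⟨g, hg, gc, gc'⟩ := m22_common_four hD hP h ha hd hnc hc hc'
  have gs := hall g hg gc gc'
  have hPre := pre_of_group hD
  have hN := nice_m22 hD h
  have na : a ∈ nbrs D g := ⟨ha, fun e => hnc (e ▸ hg.2.2).symm, hg.2.1.symm⟩
  have nd : d ∈ nbrs D g := ⟨hd, fun e => hnc (e ▸ hg.2.1), hg.2.2.symm⟩
  have n1 : c ∈ nbrs D g := ⟨hc.1, fun e => hcc (e ▸ gc'), gc⟩
  have n2 : c' ∈ nbrs D g := ⟨hc'.1, fun e => hcc (e ▸ gc).symm, gc'⟩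
  have hsg : s ≠ g := fun e => hsc (e ▸ gc)
  have n3 : s ∈ nbrs D g := ⟨hs.1, hsg, gs⟩
  obtain ⟨m, em⟩ := bar_third hD n1 n2
  rcases u6_pair_hyper (m22_isU6 hD h hg.1) (hN.group_Db hg.1) (bar_mem na) (bar_mem nd)
    (bar_mem n1) (bar_mem n2) (bar_mem n3) (fun e => hnc ((commute_bar hPre na nd).1 e))
    (fun e => hcc ((commute_bar hPre n1 n2).1 e)) ((commute_bar hPre n1 na).2 hc.2.1.symm)
    ((commute_bar hPre n1 nd).2 hc.2.2.symm) ((commute_bar hPre n2 na).2 hc'.2.1.symm)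
    ((commute_bar hPre n2 nd).2 hc'.2.2.symm) ((commute_bar hPre n3 na).2 hs.2.1.symm)
    ((commute_bar hPre n3 nd).2 hs.2.2.symm) (fun q hq e1 e2 e3 e4 => by
      obtain ⟨w, hw, rfl⟩ := exists_bar hq
      rw [commute_bar hPre] at e1 e2 e3 e4 ⊢
      exact hall w ⟨hw.1, e1.symm, e2.symm⟩ e3 e4) with e | e | e
  · exact absurd (hN.bar_inj hg.1 n3 n1 e) h1
  · exact absurd (hN.bar_inj hg.1 n3 n2 e) h2
  · exact hN.bar_inj hg.1 n3 m (e.trans em.symm)

omit hP h in
theorem orb_pair_comm {a d e c m : G} (he : e ∈ CN D a d) (hc : c ∈ CN D a d) (hm : m ∈ CN D a d)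
    (hec : ¬ Commute e c) (hem : ¬ Commute e m) (hcm : Commute c m) :
    ∃ k, Commute k a ∧ Commute k d ∧ Commute k e ∧ k * c * k⁻¹ = m := by
  obtain ⟨φ, f1, f2, f3⟩ := exists_hom_perm_four (Trans3.sq_one hD.1 hc.1) (Trans3.sq_one hD.1 he.1)
    (Trans3.sq_one hD.1 hm.1) hcm.eq (braid hD.1 hc.1 he.1 fun h' => hec h'.symm)
    (braid hD.1 he.1 hm.1 hem)
  refine ⟨c * (m * e * m) * c * e,
    (((hc.2.1.symm.mul_left ((hm.2.1.symm.mul_left he.2.1.symm).mul_left hm.2.1.symm)).mul_left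
      hc.2.1.symm).mul_left he.2.1.symm),
    (((hc.2.2.symm.mul_left ((hm.2.2.symm.mul_left he.2.2.symm).mul_left hm.2.2.symm)).mul_left
      hc.2.2.symm).mul_left he.2.2.symm), ?_, ?_⟩
  · show c * (m * e * m) * c * e * e = e * (c * (m * e * m) * c * e)
    rw [← f1, ← f2, ← f3]; simp only [← map_mul]; exact congrArg φ (by decide +kernel)
  · rw [← f1, ← f2, ← f3]; simp only [← map_inv, ← map_mul]; exact congrArg φ (by decide +kernel)

/-- Rank three of the group of common partners. -/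
theorem m22_pair_rank_three {a d e c c' : G} (ha : a ∈ D) (hd : d ∈ D) (hnc : ¬ Commute a d)
    (he : e ∈ CN D a d) (hc : c ∈ CN D a d) (hc' : c' ∈ CN D a d) (hec : ¬ Commute e c)
    (hec' : ¬ Commute e c') :
    ∃ k, Commute k a ∧ Commute k d ∧ Commute k e ∧ k * c * k⁻¹ = c' := by
  by_cases hcc : Commute c c'
  · exact orb_pair_comm hD he hc hc' hec hec' hcc
  by_cases hw : ∃ w ∈ CN D a d, Commute w c ∧ Commute w c' ∧ ¬ Commute e w
  · obtain ⟨w, hwm, wc, wc', hew⟩ := hw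
    obtain ⟨k, k1, k2, k3, k4⟩ := orb_pair_comm hD he hc hwm hec hew wc.symm
    obtain ⟨l, l1, l2, l3, l4⟩ := orb_pair_comm hD he hwm hc' hew hec' wc'
    exact ⟨l * k, l1.mul_left k1, l2.mul_left k2, l3.mul_left k3, by rw [← l4, ← k4]; group⟩
  push Not at hw
  rcases m22_pair_hyper hD hP h ha hd hnc hc hc' hcc he hec
      (fun w hwm wc wc' => (hw w hwm wc wc').symm) with e1 | e1 | e1
  · exact absurd (e1 ▸ Commute.refl c) hec
  · exact absurd (e1 ▸ Commute.refl c') hec'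
  · refine ⟨e, he.2.1.symm, he.2.2.symm, Commute.refl e, ?_⟩
    have hb := braid hD.1 hc.1 hc'.1 hcc
    have sc := Trans3.sq_one hD.1 hc.1
    have sc' := Trans3.sq_one hD.1 hc'.1
    rw [inv_eq hD.1 he.1, e1]
    calc c * c' * c * c * (c * c' * c) = c * c' * (c * c) * (c * c' * c) := by group
      _ = c * (c' * c * c') * c := by rw [sc]; group
      _ = c * (c * c' * c) * c := by rw [hb]
      _ = (c * c) * c' * (c * c) := by group
      _ = c' := by rw [sc, one_mul, mul_one]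

/-- The common partners of a pair are conjugate as non-commuting pairs. -/
theorem m22_pair_trans {a d u v u' v' : G} (ha : a ∈ D) (hd : d ∈ D) (hnc : ¬ Commute a d)
    (hu : u ∈ CN D a d) (hv : v ∈ CN D a d) (huv : ¬ Commute u v) (hu' : u' ∈ CN D a d)
    (hv' : v' ∈ CN D a d) (huv' : ¬ Commute u' v') :
    ∃ k ∈ Subgroup.closure (CN D a d), k * u * k⁻¹ = u' ∧ k * v * k⁻¹ = v' := by
  obtain ⟨k, -, -, hk, hkC⟩ := trans_common hD hP h ha hd hnc hu.1 hu.2.1 hu.2.2 hu'.1 hu'.2.1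
    hu'.2.2
  have hkc : Commute k a ∧ Commute k d := by
    have := (m22_cn_centralizer hD hP h ha hd hnc).le hkC
    rw [Subgroup.mem_centralizer_iff] at this
    exact ⟨(this a (by simp)).symm, (this d (by simp)).symm⟩
  have hw : k * v * k⁻¹ ∈ CN D a d :=
    ⟨hD.2.1 k v hv.1, ((hkc.1.mul_left hv.2.1.symm).mul_left hkc.1.inv_left).symm,
      ((hkc.2.mul_left hv.2.2.symm).mul_left hkc.2.inv_left).symm⟩
  have hn : ¬ Commute u' (k * v * k⁻¹) := fun e => huv (by
    rw [← hk] at e; exact (commute_conj_iff k u v).1 e)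
  obtain ⟨l, l1, l2, l3, l4⟩ := m22_pair_rank_three hD hP h ha hd hnc hu' hw hv' hn huv'
  refine ⟨l * k, mul_mem ?_ hkC, ?_, ?_⟩
  · rw [m22_cn_centralizer hD hP h ha hd hnc, Subgroup.mem_centralizer_iff]
    rintro y (rfl | rfl)
    exacts [l1.symm.eq, l2.symm.eq]
  · calc l * k * u * (l * k)⁻¹ = l * (k * u * k⁻¹) * l⁻¹ := by group
      _ = u' := by rw [hk]; exact conj_eq_of_commute l3
  · rw [← l4]; group

theorem m22_pair_width {a d : G} (ha : a ∈ D) (hd : d ∈ D) (hnc : ¬ Commute a d) :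
    Cfsg.commutingWidth (CN D a d) = 6 := by
  have hN := nice_m22 hD h
  have hPre := pre_of_group hD
  have nn : ∀ {g : G}, g ∈ CN D a d → ∃ na : a ∈ nbrs D g, ∃ nd : d ∈ nbrs D g,
      ¬ Commute (bar na) (bar nd) := by
    intro g hg
    have na : a ∈ nbrs D g := ⟨ha, fun e => hnc (e ▸ hg.2.2).symm, hg.2.1.symm⟩
    have nd : d ∈ nbrs D g := ⟨hd, fun e => hnc (e ▸ hg.2.1), hg.2.2.symm⟩
    exact ⟨na, nd, fun e => hnc ((commute_bar hPre na nd).1 e)⟩
  refine le_antisymm ?_ ?_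
  · obtain ⟨E, hE, hc, hn⟩ := exists_commutingWidth (CN D a d)
    rw [← hn]
    by_cases hne : E = ∅
    · rw [hne, Set.ncard_empty]; omega
    obtain ⟨e, he⟩ := Set.nonempty_iff_ne_empty.2 hne
    obtain ⟨na, nd, hq⟩ := nn (hE he)
    have hsub : E \ {e} ⊆ nbrs D e := fun y hy => ⟨(hE hy.1).1, hy.2, hc e he y hy.1⟩
    obtain ⟨T, eT⟩ : ∃ T : Set (Qd D e),
        T = {q | ∃ y, ∃ hy : y ∈ nbrs D e, y ∈ E \ {e} ∧ q = bar hy} := ⟨_, rfl⟩
    have h1 : (E \ {e}).ncard = T.ncard := by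
      rw [eT]
      refine Set.ncard_congr (fun y hy => bar (hsub hy)) (fun y hy => ⟨y, hsub hy, hy, rfl⟩)
        (fun y z hy hz e' => hN.bar_inj (hE he).1 (hsub hy) (hsub hz) e') ?_
      rintro q ⟨y, hy, hyS, rfl⟩
      exact ⟨y, hyS, rfl⟩
    have h2 : T.ncard ≤ 5 := by
      refine u6_pair_width (m22_isU6 hD h (hE he).1) (hN.group_Db (hE he).1) (bar_mem na)
        (bar_mem nd) hq ?_ ?_ ?_
      · rw [eT]; rintro q ⟨y, hy, -, rfl⟩; exact bar_mem hy
      · rw [eT]; rintro q ⟨y, hy, hyE, rfl⟩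
        exact ⟨(commute_bar hPre hy na).2 (hE hyE.1).2.1.symm,
          (commute_bar hPre hy nd).2 (hE hyE.1).2.2.symm⟩
      · rw [eT]; rintro q ⟨y, hy, hyE, rfl⟩ q' ⟨z, hz, hzE, rfl⟩
        exact (commute_bar hPre hy hz).2 (hc y hyE.1 z hzE.1)
    have h3 := Set.ncard_diff_singleton_add_one he (Set.toFinite E)
    omega
  · obtain ⟨g, hg, hga, hgd⟩ := exists_common hD hP h ha hd hnc
    have hgm : g ∈ CN D a d := ⟨hg, hga.symm, hgd.symm⟩
    obtain ⟨na, nd, hq⟩ := nn hgm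
    obtain ⟨E, hE, hEa, hEc, hEn⟩ := u6_pair_five (m22_isU6 hD h hg) (hN.group_Db hg) (bar_mem na)
      (bar_mem nd) hq
    obtain ⟨T, eT⟩ : ∃ T : Set G, T = {y | ∃ hy : y ∈ nbrs D g, bar hy ∈ E} := ⟨_, rfl⟩
    have hT : T ⊆ nbrs D g := by rw [eT]; exact fun y ⟨hy, _⟩ => hy
    have hTn : T.ncard = 5 := by
      rw [← hEn]
      refine Set.ncard_congr (fun y hy => bar (hT hy)) (fun y hy => ?_)
        (fun y z hy hz e' => hN.bar_inj hg (hT hy) (hT hz) e') fun q hq' => ?_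
      · rw [eT] at hy; obtain ⟨hy', hyE⟩ := hy; exact hyE
      · obtain ⟨y, hy, rfl⟩ := exists_bar (hE hq')
        exact ⟨y, by rw [eT]; exact ⟨hy, hq'⟩, rfl⟩
    have hTm : T ⊆ CN D a d := by
      rw [eT]; rintro y ⟨hy, hyE⟩
      exact ⟨hy.1, ((commute_bar hPre hy na).1 (hEa _ hyE).1).symm,
        ((commute_bar hPre hy nd).1 (hEa _ hyE).2).symm⟩
    have h1 := le_commutingWidth (D := CN D a d) (E := insert g T)
      (Set.insert_subset hgm hTm) ?_
    · rwa [Set.ncard_insert_of_notMem (fun hm => (hT hm).2.1 rfl), hTn] at h1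
    rintro x (rfl | hx) y (rfl | hy)
    · exact Commute.refl _
    · exact (hT hy).2.2
    · exact (hT hx).2.2.symm
    · rw [eT] at hx hy
      obtain ⟨hx1, hx2⟩ := hx
      obtain ⟨hy1, hy2⟩ := hy
      exact (commute_bar hPre hx1 hy1).1 (hEc _ hx2 _ hy2)

/-- An element centralising the product of the pair is a product of an element of the dihedral
group and one centralising both. -/
theorem m22_centralizer_prod {a d x : G} (ha : a ∈ D) (hd : d ∈ D) (hnc : ¬ Commute a d)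
    (hx : Commute x (a * d)) :
    ∃ s ∈ Subgroup.closure ({a, d} : Set G), Commute (s⁻¹ * x) a ∧ Commute (s⁻¹ * x) d :=
  pair_centralizer_prod (lvl_m22 hD hP h) (pairGen_m22 hD hP h) ha hd hnc hx

theorem m22_normalizer {a d : G} (ha : a ∈ D) (hd : d ∈ D) (hnc : ¬ Commute a d) :
    Subgroup.closure ({a, d} : Set G) ⊔ Subgroup.closure (CN D a d) =
      Subgroup.normalizer ((Subgroup.zpowers (a * d) : Subgroup G) : Set G) :=
  pair_normalizer (lvl_m22 hD hP h) (pairGen_m22 hD hP h) ha hd hnc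

/-- The group of common partners is the projective reflection group. -/
theorem m22_pair_refl {a d : G} (ha : a ∈ D) (hd : d ∈ D) (hnc : ¬ Commute a d) :
    ∃ c : ZMod 3, c ≠ 0 ∧
      Cfsg.IsProjReflectionGroupModThree ↥(Subgroup.closure (CN D a d)) 6 1 c := by
  have hN := nice_m22 hD h
  have hw : ∃ u ∈ D, ∃ v ∈ D, u ≠ v ∧ Commute u v := (lvl_m22 hD hP h).pairc
  obtain ⟨-, d₀, hd₀, c₀, hc₀, hn₀, -, c₃, hc₃, hL⟩ := id h
  obtain ⟨g₁, hg₁⟩ := hP.1 d₀ hd₀ a ha
  obtain ⟨g₂, hg₂, hg₂'⟩ := trans_noncomm hD hP hw ha (hD.2.1 g₁ c₀ hc₀)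
    (fun h' => hn₀ (by rw [← hg₁] at h'; exact (commute_conj_iff g₁ d₀ c₀).1 h')) hd hnc
  obtain ⟨g, eg⟩ : ∃ g, g = g₂ * g₁ := ⟨_, rfl⟩
  have ea : g * d₀ * g⁻¹ = a := by
    rw [eg]; conv_rhs => rw [← hg₂, ← hg₁]
    group
  have ec : g * c₀ * g⁻¹ = d := by rw [eg, ← hg₂']; group
  have hset : nbrs D a ∩ nbrs D d = CN D a d := by
    ext y
    exact ⟨fun ⟨⟨h1, _, h2⟩, _, _, h3⟩ => ⟨h1, h2, h3⟩, fun ⟨h1, h2, h3⟩ =>
      ⟨⟨h1, fun e => hnc (e ▸ h3).symm, h2⟩, h1, fun e => hnc (e ▸ h2), h3⟩⟩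
  have himg : (MulAut.conj g) '' (nbrs D d₀ ∩ nbrs D c₀) = CN D a d := by
    rw [Set.image_inter (MulAut.conj g).injective, ← Nice.nbrs_conj hD, ← Nice.nbrs_conj hD, ea,
      ec, hset]
  obtain ⟨ψ, -⟩ := sub_congr (MulAut.conj g) himg
  have hz : Subgroup.center ↥(Subgroup.closure (CN D a d)) = ⊥ := by
    rw [Subgroup.eq_bot_iff_forall]
    rintro ⟨z, hzm⟩ hz
    have hzc := (m22_cn_centralizer hD hP h ha hd hnc).le hzm
    rw [Subgroup.mem_centralizer_iff] at hzc
    refine Subtype.ext ((pairGen_m22 hD hP h).triv a d z ha hd hnc (hzc a (by simp)).symm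
      (hzc d (by simp)).symm fun w hw => ?_)
    exact (congrArg Subtype.val
      (Subgroup.mem_center_iff.1 hz ⟨w, Subgroup.subset_closure hw⟩)).symm
  exact ⟨c₃, hc₃, proj_congr ((ψ.trans (QuotientGroup.quotientMulEquivOfEq hz)).trans
    QuotientGroup.quotientBot) hL⟩

end M22

end CfsgLib.Trans3.Fi
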