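import Cfsg.Agent.Lib.Trans3.Fi.U6Config

/-!
In `PSU₆(2)`: the common neighbours of two commuting transvections and a third one commuting with
neither, and the points of a line.
-/

set_option autoImplicit false
set_option linter.unusedSectionVars false
set_option linter.unusedSimpArgs false

namespace CfsgLib.Trans3.Fi

open Matrix CfsgLib.MaxSub CfsgLib.Classical CfsgLib.Trans3.TvSU

section Model

variable {F : Type*} [Field F] [Fintype F] (hF : Fintype.card F = 2 ^ 2)
include hF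

theorem perp_out {S : Submodule F (Fin 6 → F)} {q : Fin 6 → F} (hq : q ∉ S) (hqq : hh q q = 0)
    (hqS : ∀ s ∈ S, hh q s = 0) :
    ∃ z, hh z z = 0 ∧ hh q z = 1 ∧ ∀ s ∈ S, hh z s = 0 := by
  obtain ⟨x, hx, hx'⟩ := exists_hh hF hq
  obtain ⟨l, h1, h2⟩ := exists_pair hF hqq (hh_symm_one hF hx')
  exact ⟨_, h1, h2, fun s hs => by
    rw [hh_add_left hF, hh_smul_left hF, hx s hs, hqS s hs, mul_zero, add_zero]⟩

variable {Y : Type*} [Group Y] {D : Set Y} (f : ↥(Cfsg.SU 6 F 2) →* Y)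
  (hf : Function.Surjective f) (hk : f.ker = Subgroup.center ↥(Cfsg.SU 6 F 2))
  (hD : Cfsg.IsThreeTranspositionGroup D)
include hf hk hD

theorem triple_partner {a g y x : Y} (ha : a ∈ D) (hg : g ∈ D) (hy : y ∈ D) (hx : x ∈ D)
    (hay : ¬ Commute a y) (hag : Commute a g) (xa : Commute x a) (xg : Commute x g) (xy : Commute x y)
    (hz : ∃ z ∈ D, Commute z a ∧ Commute z g ∧ ¬ Commute z x) :
    ∃ w ∈ D, Commute w a ∧ Commute w g ∧ Commute w y ∧ ¬ Commute w x := by
  obtain ⟨p, hp, hpp, rfl⟩ := exists_pt hF f hf hk hD ha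
  obtain ⟨r, hr, hrr, rfl⟩ := exists_pt hF f hf hk hD hg
  obtain ⟨v, hv, hvv, rfl⟩ := exists_pt hF f hf hk hD hy
  obtain ⟨q, hq, hqq, rfl⟩ := exists_pt hF f hf hk hD hx
  obtain ⟨_, hz, za, zg, zx⟩ := hz
  obtain ⟨s, hs, hss, rfl⟩ := exists_pt hF f hf hk hD hz
  rw [pt_commute hF f hk hp hv hpp hvv] at hay
  rw [pt_commute hF f hk hp hr hpp hrr] at hag
  rw [pt_commute hF f hk hq hp hqq hpp] at xa
  rw [pt_commute hF f hk hq hr hqq hrr] at xg
  rw [pt_commute hF f hk hq hv hqq hvv] at xy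
  rw [pt_commute hF f hk hs hp hss hpp] at za
  rw [pt_commute hF f hk hs hr hss hrr] at zg
  rw [pt_commute hF f hk hs hq hss hqq] at zx
  have hvp : hh v p ≠ 0 := fun e => hay (hh_symm_zero hF e)
  obtain ⟨S, eS⟩ : ∃ S, S = Submodule.span F ({p, r, v} : Set (Fin 6 → F)) := ⟨_, rfl⟩
  have hqS : q ∉ S := by
    rw [eS, Submodule.mem_span_triple]
    rintro ⟨α, β, γ, rfl⟩
    simp only [hh_add_left hF, hh_add_right hF, hh_smul_left hF, hh_smul_right hF, hpp,
      hh_symm_zero hF hag, mul_zero, zero_add, add_zero, za, zg] at xa zx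
    rcases mul_eq_zero.1 xa with h0 | h0
    · exact zx (by rw [h0]; simp)
    · exact hvp h0
  obtain ⟨w, hww, hqw, hwS⟩ := perp_out hF hqS hqq (by
    intro u hu
    rw [eS, Submodule.mem_span_triple] at hu
    obtain ⟨α, β, γ, rfl⟩ := hu
    simp only [hh_add_right hF, hh_smul_right hF, xa, xg, xy, mul_zero, add_zero])
  have hw : w ≠ 0 := fun e => by rw [e, hh_zero_right hF] at hqw; exact zero_ne_one hqw
  have hmem : ∀ u ∈ ({p, r, v} : Set (Fin 6 → F)), hh w u = 0 := fun u hu =>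
    hwS u (eS ▸ Submodule.subset_span hu)
  exact ⟨pt hF f w, pt_mem hF f hf hk hD hw hww,
    (pt_commute hF f hk hw hp hww hpp).2 (hmem p (by simp)),
    (pt_commute hF f hk hw hr hww hrr).2 (hmem r (by simp)),
    (pt_commute hF f hk hw hv hww hvv).2 (hmem v (by simp)),
    fun e => one_ne_zero (hqw.symm.trans (hh_symm_zero hF ((pt_commute hF f hk hw hq hww hqq).1 e)))⟩

theorem triple_exists {a g y : Y} (ha : a ∈ D) (hg : g ∈ D) (hy : y ∈ D) (hag : Commute a g)
    (hay : ¬ Commute a y) (hgy : ¬ Commute g y) :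
    ∃ x ∈ D, Commute x a ∧ Commute x g ∧ Commute x y ∧
      ∃ z ∈ D, Commute z a ∧ Commute z g ∧ ¬ Commute z x := by
  obtain ⟨p, hp, hpp, rfl⟩ := exists_pt hF f hf hk hD ha
  obtain ⟨r, hr, hrr, rfl⟩ := exists_pt hF f hf hk hD hg
  obtain ⟨v, hv, hvv, rfl⟩ := exists_pt hF f hf hk hD hy
  rw [pt_commute hF f hk hp hv hpp hvv] at hay
  rw [pt_commute hF f hk hr hv hrr hvv] at hgy
  rw [pt_commute hF f hk hp hr hpp hrr] at hag
  have hga := hh_symm_zero hF hag
  obtain ⟨r0, e0⟩ : ∃ r0, r0 = hh r v • p + hh p v • r := ⟨_, rfl⟩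
  have h00 : hh r0 r0 = 0 := by
    simp only [e0, hh_add_left hF, hh_add_right hF, hh_smul_left hF, hh_smul_right hF, hpp, hrr,
      hag, hga, mul_zero, add_zero]
  obtain ⟨u, hu, huu, hu0, hup, huv⟩ := exists_iso_outside hF (q := p) (r := v) h00
  have hur : hh u r = 0 := by
    rw [e0] at hu0
    simp only [hh_add_right hF, hh_smul_right hF, hup, mul_zero, zero_add] at hu0
    exact (mul_eq_zero.1 hu0).resolve_left (pow_ne_zero _ hay)
  have hune : u ≠ 0 := fun e => hu (e ▸ zero_mem _)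
  have hout : u ∉ Submodule.span F ({p, r} : Set (Fin 6 → F)) := by
    rw [Submodule.mem_span_pair]
    rintro ⟨α, β, rfl⟩
    simp only [hh_add_left hF, hh_smul_left hF] at huv
    refine hu (Submodule.mem_span_singleton.2 ⟨α * (hh r v)⁻¹, ?_⟩)
    have hβ : β = α * (hh r v)⁻¹ * hh p v := by
      field_simp
      linear_combination huv - add_self hF (α * hh p v)
    rw [e0, smul_add, smul_smul, smul_smul, ← hβ, mul_assoc, inv_mul_cancel₀ hgy, mul_one]
  obtain ⟨z, hzz, huz, hzS⟩ := perp_out hF hout huu (by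
    intro s hs
    obtain ⟨α, β, rfl⟩ := Submodule.mem_span_pair.1 hs
    simp only [hh_add_right hF, hh_smul_right hF, hup, hur, mul_zero, add_zero])
  have hz : z ≠ 0 := fun e => by rw [e, hh_zero_right hF] at huz; exact zero_ne_one huz
  exact ⟨pt hF f u, pt_mem hF f hf hk hD hune huu, (pt_commute hF f hk hune hp huu hpp).2 hup,
    (pt_commute hF f hk hune hr huu hrr).2 hur, (pt_commute hF f hk hune hv huu hvv).2 huv,
    pt hF f z, pt_mem hF f hf hk hD hz hzz,
    (pt_commute hF f hk hz hp hzz hpp).2 (hzS p (Submodule.subset_span (by simp))),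
    (pt_commute hF f hk hz hr hzz hrr).2 (hzS r (Submodule.subset_span (by simp))),
    fun e => one_ne_zero (huz.symm.trans (hh_symm_zero hF ((pt_commute hF f hk hz hune hzz huu).1 e)))⟩

theorem line_max {a g t₁ t₂ t₃ x : Y} (hnd : [a, g, t₁, t₂, t₃].Nodup)
    (hmem : ∀ u ∈ [a, g, t₁, t₂, t₃], u ∈ D)
    (hco : ∀ u ∈ [a, g, t₁, t₂, t₃], ∀ w ∈ [a, g, t₁, t₂, t₃], Commute u w)
    (hprod : [a, g, t₁, t₂, t₃].prod = 1) (hx : x ∈ D) (xa : Commute x a) (xg : Commute x g)
    (hne : x ∉ [a, g, t₁, t₂, t₃]) : ∃ z ∈ D, Commute z a ∧ Commute z g ∧ ¬ Commute z x := by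
  classical
  by_contra! hall
  simp only [List.nodup_cons, List.mem_cons, List.not_mem_nil, or_false, not_or,
    List.nodup_nil, and_true, not_false_eq_true] at hnd hne
  obtain ⟨⟨hag, a1, a2, a3⟩, ⟨g1, g2, g3⟩, ⟨t12, t13⟩, t23⟩ := hnd
  obtain ⟨xa', xg', x1, x2, x3⟩ := hne
  simp only [List.prod_cons, List.prod_nil, mul_one] at hprod
  have hT : ∀ z ∈ D, Commute z a → Commute z g →
      Commute z t₁ ∧ Commute z t₂ ∧ Commute z t₃ := by
    intro z hz za zg
    refine (commute_mul_mul_iff hD.1 (hmem t₁ (by simp)) (hmem t₂ (by simp)) (hmem t₃ (by simp)) hz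
      t12 t13 t23 (hco _ (by simp) _ (by simp)) (hco _ (by simp) _ (by simp))
      (hco _ (by simp) _ (by simp))).1 ?_
    have e : t₁ * t₂ * t₃ = (a * g)⁻¹ := eq_inv_of_mul_eq_one_right (by rw [← hprod]; group)
    rw [e]
    exact (za.mul_right zg).inv_right
  obtain ⟨p, hp, hpp, rfl⟩ := exists_pt hF f hf hk hD (hmem a (by simp))
  obtain ⟨r, hr, hrr, rfl⟩ := exists_pt hF f hf hk hD (hmem g (by simp))
  have opr := (pt_commute hF f hk hp hr hpp hrr).1 (hco _ (by simp) _ (by simp))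
  obtain ⟨L, eL⟩ : ∃ L : Finset Y,
      L = (Finset.univ.filter fun γ : F => γ ≠ 0).image fun γ => pt hF f (p + γ • r) := ⟨_, rfl⟩
  have key : ∀ u ∈ D, Commute u (pt hF f p) → Commute u (pt hF f r) → u ≠ pt hF f p →
      u ≠ pt hF f r →
      (∀ z ∈ D, Commute z (pt hF f p) → Commute z (pt hF f r) → Commute z u) → u ∈ L := by
    intro u hu up ur np nr hz
    obtain ⟨q, hq, hqq, rfl⟩ := exists_pt hF f hf hk hD hu
    rw [pt_commute hF f hk hq hp hqq hpp] at up
    rw [pt_commute hF f hk hq hr hqq hrr] at ur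
    have hin : q ∈ Submodule.span F ({p, r} : Set (Fin 6 → F)) := by
      by_contra hout
      obtain ⟨z, hzz, hqz, hzS⟩ := perp_out hF hout hqq (by
        intro s hs
        obtain ⟨α, β, rfl⟩ := Submodule.mem_span_pair.1 hs
        simp only [hh_add_right hF, hh_smul_right hF, up, ur, mul_zero, add_zero])
      have hz0 : z ≠ 0 := fun e => by rw [e, hh_zero_right hF] at hqz; exact zero_ne_one hqz
      have h := hz _ (pt_mem hF f hf hk hD hz0 hzz)
        ((pt_commute hF f hk hz0 hp hzz hpp).2 (hzS p (Submodule.subset_span (by simp))))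
        ((pt_commute hF f hk hz0 hr hzz hrr).2 (hzS r (Submodule.subset_span (by simp))))
      exact one_ne_zero (hqz.symm.trans (hh_symm_zero hF ((pt_commute hF f hk hz0 hq hzz hqq).1 h)))
    obtain ⟨α, β, rfl⟩ := Submodule.mem_span_pair.1 hin
    have hα : α ≠ 0 := fun e => nr (by
      rw [e, zero_smul, zero_add] at hq ⊢
      exact pt_smul hF f hrr fun e' => hq (by rw [e', zero_smul]))
    have hβ : β ≠ 0 := fun e => np (by
      rw [e, zero_smul, add_zero]; exact pt_smul hF f hpp hα)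
    rw [eL]
    refine Finset.mem_image.2 ⟨α⁻¹ * β,
      Finset.mem_filter.2 ⟨Finset.mem_univ _, mul_ne_zero (inv_ne_zero hα) hβ⟩, ?_⟩
    have hiso : hh (p + (α⁻¹ * β) • r) (p + (α⁻¹ * β) • r) = 0 := by
      simp only [hh_add_left hF, hh_add_right hF, hh_smul_left hF, hh_smul_right hF, hpp, hrr, opr,
        hh_symm_zero hF opr, mul_zero, add_zero]
    rw [← pt_smul hF f hiso hα, smul_add, smul_smul, mul_inv_cancel_left₀ hα]
  have hsub : ({t₁, t₂, t₃, x} : Finset Y) ⊆ L := by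
    intro u hu
    simp only [Finset.mem_insert, Finset.mem_singleton] at hu
    rcases hu with rfl | rfl | rfl | rfl
    · exact key _ (hmem _ (by simp)) (hco _ (by simp) _ (by simp)) (hco _ (by simp) _ (by simp))
        (Ne.symm a1) (Ne.symm g1) fun z hz za zg => (hT z hz za zg).1
    · exact key _ (hmem _ (by simp)) (hco _ (by simp) _ (by simp)) (hco _ (by simp) _ (by simp))
        (Ne.symm a2) (Ne.symm g2) fun z hz za zg => (hT z hz za zg).2.1
    · exact key _ (hmem _ (by simp)) (hco _ (by simp) _ (by simp)) (hco _ (by simp) _ (by simp))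
        (Ne.symm a3) (Ne.symm g3) fun z hz za zg => (hT z hz za zg).2.2
    · exact key _ hx xa xg xa' xg' fun z hz za zg => hall z hz za zg
  have h1 := Finset.card_le_card hsub
  have h2 : L.card ≤ 3 := by
    rw [eL]
    refine Finset.card_image_le.trans ?_
    rw [Finset.filter_ne' Finset.univ (0 : F), Finset.card_erase_of_mem (Finset.mem_univ _),
      Finset.card_univ, hF]
    norm_num
  have h4 : ({t₁, t₂, t₃, x} : Finset Y).card = 4 := by
    simp [t12, t13, t23, Ne.symm x1, Ne.symm x2, Ne.symm x3]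
  omega

end Model

section Wrap

variable {G : Type*} [Group G] {D : Set G} (hU : IsU6 G) (hD : Cfsg.IsThreeTranspositionGroup D)
include hU hD

theorem u6_triple_partner {a g y x : G} (ha : a ∈ D) (hg : g ∈ D) (hy : y ∈ D) (hx : x ∈ D)
    (hay : ¬ Commute a y) (hag : Commute a g) (xa : Commute x a) (xg : Commute x g) (xy : Commute x y)
    (hz : ∃ z ∈ D, Commute z a ∧ Commute z g ∧ ¬ Commute z x) :
    ∃ w ∈ D, Commute w a ∧ Commute w g ∧ Commute w y ∧ ¬ Commute w x := by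
  obtain ⟨F, _, _, f, hF, hf, hk⟩ := exists_model hU hD
  exact triple_partner hF f hf hk hD ha hg hy hx hay hag xa xg xy hz

/-- Two members commuting with a commuting pair and with a third one, not commuting themselves. -/
theorem u6_triple {a g y : G} (ha : a ∈ D) (hg : g ∈ D) (hy : y ∈ D) (hag : Commute a g)
    (hay : ¬ Commute a y) (hgy : ¬ Commute g y) :
    ∃ x ∈ D, ∃ w ∈ D, Commute x a ∧ Commute x g ∧ Commute x y ∧
      Commute w a ∧ Commute w g ∧ Commute w y ∧ ¬ Commute w x := by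
  obtain ⟨F, _, _, f, hF, hf, hk⟩ := exists_model hU hD
  obtain ⟨x, hx, xa, xg, xy, hz⟩ := triple_exists hF f hf hk hD ha hg hy hag hay hgy
  obtain ⟨w, hw, wa, wg, wy, wx⟩ := triple_partner hF f hf hk hD ha hg hy hx hay hag xa xg xy hz
  exact ⟨x, hx, w, hw, xa, xg, xy, wa, wg, wy, wx⟩

theorem u6_line_max {a g t₁ t₂ t₃ x : G} (hnd : [a, g, t₁, t₂, t₃].Nodup)
    (hmem : ∀ u ∈ [a, g, t₁, t₂, t₃], u ∈ D)
    (hco : ∀ u ∈ [a, g, t₁, t₂, t₃], ∀ w ∈ [a, g, t₁, t₂, t₃], Commute u w)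
    (hprod : [a, g, t₁, t₂, t₃].prod = 1) (hx : x ∈ D) (xa : Commute x a) (xg : Commute x g)
    (hne : x ∉ [a, g, t₁, t₂, t₃]) : ∃ z ∈ D, Commute z a ∧ Commute z g ∧ ¬ Commute z x := by
  obtain ⟨F, _, _, f, hF, hf, hk⟩ := exists_model hU hD
  exact line_max hF f hf hk hD hnd hmem hco hprod hx xa xg hne

end Wrap

end CfsgLib.Trans3.Fi
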