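import Cfsg.Agent.Lib.Trans3.Fi.M23Base
import Cfsg.Agent.Lib.Trans3.Fi.U6Triple

/-!
In a group of type M(23) a commuting pair and a member not commuting with the first have a common
neighbour, so the level one up holds.
-/

set_option autoImplicit false
set_option linter.unusedSectionVars false

namespace CfsgLib.Trans3.Fi

variable {G : Type*} [Group G] {D : Set G}

section Small

variable (hD : Cfsg.IsThreeTranspositionGroup D)
include hD

theorem flip_iff {s : G} (hs : s ∈ D) (x y : G) :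
    Commute (s * x * s) (s * y * s) ↔ Commute x y := by
  have := commute_conj_iff s x y
  rwa [inv_eq hD.1 hs] at this

theorem flip_fix {s x : G} (hs : s ∈ D) (h : Commute s x) : s * x * s = x := by
  rw [h.eq, mul_assoc, Trans3.sq_one hD.1 hs, mul_one]

theorem flip_flip {s x : G} (hs : s ∈ D) : s * (s * x * s) * s = x := by
  rw [show s * (s * x * s) * s = (s * s) * x * (s * s) by group, Trans3.sq_one hD.1 hs, one_mul,
    mul_one]

/-- The conjugate by a commuting pair avoiding `y` commutes with `y`. -/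
theorem pair_conj_commute {b c y : G} (hb : b ∈ D) (hc : c ∈ D) (hy : y ∈ D) (hbc : Commute b c)
    (nb : ¬ Commute y b) (nc : ¬ Commute y c) : Commute y (b * (c * y * c) * b) := by
  have e : b * (c * y * c) * b = b * y * c * y * b := by
    rw [← braid hD.1 hy hc nc]; group
  have h2 : y * (b * (c * y * c) * b) * y = b * (c * y * c) * b := by
    rw [e]
    calc y * (b * y * c * y * b) * y = (y * b * y) * c * (y * b * y) := by group
      _ = (b * y * b) * c * (b * y * b) := by rw [braid hD.1 hy hb nb]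
      _ = b * y * (b * c * b) * y * b := by group
      _ = b * y * c * y * b := by rw [flip_fix hD hb hbc]
  refine commute_of_conj_eq ?_
  rwa [inv_eq hD.1 hy]

/-- If a product of two commuting members avoiding `y` with an element fixing `y` is a product of
three commuting members, one of these commutes with `y`. -/
theorem pentad_point {b c s t₁ t₂ t₃ y : G} (hb : b ∈ D) (hc : c ∈ D) (hy : y ∈ D)
    (ht : Fac D 3 (b * c * s) [t₁, t₂, t₃]) (hbc : Commute b c) (nb : ¬ Commute y b)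
    (nc : ¬ Commute y c) (hs : Commute y s) : ∃ t ∈ [t₁, t₂, t₃], Commute y t := by
  by_contra! hn
  obtain ⟨hnd, -, hm, hco, hp⟩ := ht
  have h1 := hm t₁ (by simp)
  have h2 := hm t₂ (by simp)
  have h3 := hm t₃ (by simp)
  have n1 := hn t₁ (by simp)
  have n2 := hn t₂ (by simp)
  have n3 := hn t₃ (by simp)
  obtain ⟨v, ev⟩ : ∃ v, v = t₂ * (t₃ * y * t₃) * t₂ := ⟨_, rfl⟩
  have hv : v ∈ D := ev ▸ self_conj_mem hD h2 (self_conj_mem hD h3 hy)
  have hyv : Commute y v := ev ▸ pair_conj_commute hD h2 h3 hy (hco _ (by simp) _ (by simp)) n2 n3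
  have hnv : ¬ Commute v t₁ := by
    rw [ev, ← flip_fix hD h2 (hco t₂ (by simp) t₁ (by simp)), flip_iff hD h2,
      ← flip_fix hD h3 (hco t₃ (by simp) t₁ (by simp)), flip_iff hD h3]
    exact n1
  have hR : (t₁ * t₂ * t₃) * y * (t₁ * t₂ * t₃)⁻¹ = t₁ * v * t₁ := by
    rw [mul_inv_rev, mul_inv_rev, inv_eq hD.1 h1, inv_eq hD.1 h2, inv_eq hD.1 h3, ev]; group
  have hL : (t₁ * t₂ * t₃) * y * (t₁ * t₂ * t₃)⁻¹ = b * (c * y * c) * b := by
    have : t₁ * t₂ * t₃ = b * c * s := by
      rw [← hp]; simp [mul_assoc]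
    rw [this]
    calc b * c * s * y * (b * c * s)⁻¹ = b * (c * (s * y * s⁻¹) * c⁻¹) * b⁻¹ := by group
      _ = _ := by rw [conj_eq_of_commute hs.symm, inv_eq hD.1 hb, inv_eq hD.1 hc]
  have hfin := pair_conj_commute hD hb hc hy hbc nb nc
  rw [← hL, hR, ← braid hD.1 hv h1 hnv, ← flip_fix hD hv hyv.symm, flip_iff hD hv] at hfin
  exact n1 hfin

omit hD in
theorem fac_cons {a b c j : G} (h : Fac D 3 j [a, b, c]) : a * b * c = j := by
  rw [← h.2.2.2.2]; simp [mul_assoc]

/-- Two disjoint triples with the same product share no member, without relations of length four. -/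
theorem fac_disj (h4 : NoRel D 4) {a b c : G} {l : List G} (hs : Fac D 3 (a * b * c) [a, b, c])
    (hl : Fac D 3 (a * b * c) l) (hal : a ∉ l) : ∀ x ∈ [a, b, c], x ∉ l := by
  classical
  intro x hx hxl
  have hax : a ≠ x := fun e => hal (e ▸ hxl)
  have := determined hD (by norm_num) (fun _ => h4) (fun h' => absurd h' (by norm_num))
    (fac_erase hs hx) (fac_erase hl hxl) a
  rw [List.mem_erase_of_ne hax, List.mem_erase_of_ne hax] at this
  exact hal (this.1 (by simp))

end Small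

variable [Finite G] (hD : Cfsg.IsThreeTranspositionGroup D) (hP : Cfsg.IsPrimitiveUnderConj D)
include hD hP

/-- In a group of type M(22): a common neighbour of a commuting pair and a third member avoiding
both has a partner among these, not commuting with it. -/
theorem m22_triple_partner (h : Cfsg.IsOfTypeM22 G D) {a g y x : G} (ha : a ∈ D) (hg : g ∈ nbrs D a)
    (hy : y ∈ D) (hay : ¬ Commute a y) (hgy : ¬ Commute g y) (hx : x ∈ D) (xa : Commute x a)
    (xg : Commute x g) (xy : Commute x y) :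
    ∃ w ∈ D, Commute w a ∧ Commute w g ∧ Commute w y ∧ ¬ Commute w x := by
  have hN := nice_m22 hD h
  have hPre := pre_of_group hD
  have na : a ∈ nbrs D x := ⟨ha, fun e => hay (e ▸ xy), xa⟩
  have ng : g ∈ nbrs D x := ⟨hg.1, fun e => hgy (e ▸ xy), xg⟩
  have ny : y ∈ nbrs D x := ⟨hy, fun e => hay (e ▸ xa.symm), xy⟩
  obtain ⟨_, qm, _, qm', q1, q2, q3, q4, q5, q6, q7⟩ := u6_triple (m22_isU6 hD h hx) (hN.group_Db hx)
    (bar_mem na) (bar_mem ng) (bar_mem ny) ((commute_bar hPre na ng).2 hg.2.2)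
    (fun e => hay ((commute_bar hPre na ny).1 e)) (fun e => hgy ((commute_bar hPre ng ny).1 e))
  obtain ⟨w, hw, rfl⟩ := exists_bar qm
  obtain ⟨w', hw', rfl⟩ := exists_bar qm'
  rw [commute_bar hPre] at q1 q2 q3 q4 q5 q6 q7
  have ma : a ∈ nbrs D w := ⟨ha, fun e => hay (e ▸ q3), q1⟩
  have mg : g ∈ nbrs D w := ⟨hg.1, fun e => hgy (e ▸ q3), q2⟩
  have my : y ∈ nbrs D w := ⟨hy, fun e => hay (e ▸ q1.symm), q3⟩
  have mx : x ∈ nbrs D w := ⟨hx, Ne.symm hw.2.1, hw.2.2.symm⟩
  obtain ⟨t₁, t₂, t₃, ht, hwt, -⟩ := m22_line hD hP h hw.1 ma mg (Ne.symm hg.2.1) hg.2.2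
  have hs : Fac D 3 (w * a * g) [w, a, g] := ⟨by
    simp [Ne.symm ma.2.1, Ne.symm mg.2.1, Ne.symm hg.2.1], rfl, by simp [hw.1, ha, hg.1], by
    simp [q1, q1.symm, q2, q2.symm, hg.2.2, hg.2.2.symm], by simp [mul_assoc]⟩
  have hdis := fac_disj hD (m22_noRel hD h).2.1 hs ht hwt
  have htw : ∀ t ∈ [t₁, t₂, t₃], ∀ u ∈ [w, a, g], Commute t u := by
    intro t htm u hu
    refine commute_of_prod hD le_rfl hs (ht.2.2.1 t htm) ?_ u hu
    rw [← ht.2.2.2.2]
    exact Commute.list_prod_right _ _ fun v hv => ht.2.2.2.1 t htm v hv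
  by_cases hxt : x ∈ [t₁, t₂, t₃]
  · -- then `w'` would commute with `w`
    exfalso
    classical
    have e := fac_erase ht hxt
    refine q7 (commute_of_prod hD (m := 3) le_rfl (j := w * (x⁻¹ * (w * a * g)))
      (l := w :: [t₁, t₂, t₃].erase x) ⟨List.nodup_cons.2 ⟨fun hm => hwt (List.mem_of_mem_erase hm),
        e.1⟩, by rw [List.length_cons, e.2.1], ?_, ?_, by rw [List.prod_cons, e.2.2.2.2]⟩ hw'.1 ?_ w
      List.mem_cons_self)
    · intro u hu
      rcases List.mem_cons.1 hu with rfl | hu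
      exacts [hw.1, e.2.2.1 u hu]
    · intro u hu v hv
      rcases List.mem_cons.1 hu with e1 | hu
      · rw [e1]
        rcases List.mem_cons.1 hv with e2 | hv
        · rw [e2]
        · exact (htw v (List.mem_of_mem_erase hv) _ (by simp)).symm
      · rcases List.mem_cons.1 hv with e2 | hv
        · rw [e2]; exact htw u (List.mem_of_mem_erase hu) _ (by simp)
        · exact e.2.2.2.1 u hu v hv
    · rw [inv_eq hD.1 hx, show w * (x * (w * a * g)) = w * x * w * (a * g) by group,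
        flip_fix hD hw.1 hw.2.2.symm]
      exact hw'.2.2.symm.mul_right (q4.mul_right q5)
  · have nd5 : [a, g, t₁, t₂, t₃].Nodup := List.nodup_cons.2
      ⟨fun hm => (List.mem_cons.1 hm).elim (fun e => hg.2.1 e.symm) (hdis a (by simp)),
        List.nodup_cons.2 ⟨hdis g (by simp), ht.1⟩⟩
    have mem5 : ∀ u ∈ [a, g, t₁, t₂, t₃], u ∈ nbrs D w := by
      intro u hu
      rcases List.mem_cons.1 hu with rfl | hu
      · exact ma
      rcases List.mem_cons.1 hu with rfl | hu
      · exact mg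
      exact ⟨ht.2.2.1 u hu, fun e => hwt (e ▸ hu), (htw u hu w (by simp)).symm⟩
    have co5 : ∀ u ∈ [a, g, t₁, t₂, t₃], ∀ v ∈ [a, g, t₁, t₂, t₃], Commute u v := by
      intro u hu v hv
      rw [show [a, g, t₁, t₂, t₃] = [a, g] ++ [t₁, t₂, t₃] from rfl] at hu hv
      rcases List.mem_append.1 hu with hu | hu <;> rcases List.mem_append.1 hv with hv | hv
      · exact hs.2.2.2.1 u (List.mem_cons_of_mem _ hu) v (List.mem_cons_of_mem _ hv)
      · exact (htw v hv u (List.mem_cons_of_mem _ hu)).symm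
      · exact htw u hu v (List.mem_cons_of_mem _ hv)
      · exact ht.2.2.2.1 u hu v hv
    obtain ⟨L, eL⟩ : ∃ L : List {u // u ∈ nbrs D w}, L = [⟨a, ma⟩, ⟨g, mg⟩,
        ⟨t₁, mem5 t₁ (by simp)⟩, ⟨t₂, mem5 t₂ (by simp)⟩, ⟨t₃, mem5 t₃ (by simp)⟩] := ⟨_, rfl⟩
    have hLv : L.map Subtype.val = [a, g, t₁, t₂, t₃] := by rw [eL]; rfl
    have hLb : L.map (fun u => bar u.2) = [bar ma, bar mg, bar (mem5 t₁ (by simp)),
        bar (mem5 t₂ (by simp)), bar (mem5 t₃ (by simp))] := by rw [eL]; rfl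
    have hLn : L.Nodup := List.Nodup.of_map Subtype.val (hLv ▸ nd5)
    obtain ⟨z, hz, za, zg, zx⟩ := u6_line_max (m22_isU6 hD h hw.1) (hN.group_Db hw.1)
      (hLb ▸ hLn.map fun u v e => Subtype.ext (hN.bar_inj hw.1 u.2 v.2 e))
      (by
        intro q hq
        rw [← hLb] at hq
        obtain ⟨u, -, rfl⟩ := List.mem_map.1 hq
        exact bar_mem u.2)
      (by
        intro q hq q' hq'
        rw [← hLb] at hq hq'
        obtain ⟨u, hu, rfl⟩ := List.mem_map.1 hq
        obtain ⟨v, hv, rfl⟩ := List.mem_map.1 hq'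
        exact (commute_bar hPre u.2 v.2).2 (co5 _ (hLv ▸ List.mem_map_of_mem hu) _
          (hLv ▸ List.mem_map_of_mem hv)))
      (by
        let u : ↥(Hd D w) := ⟨a, Subgroup.subset_closure ma⟩ * (⟨g, Subgroup.subset_closure mg⟩ *
          (⟨t₁, Subgroup.subset_closure (mem5 t₁ (by simp))⟩ *
          (⟨t₂, Subgroup.subset_closure (mem5 t₂ (by simp))⟩ *
          ⟨t₃, Subgroup.subset_closure (mem5 t₃ (by simp))⟩)))
        have hu : (u : G) = w := by
          show a * (g * (t₁ * (t₂ * t₃))) = w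
          rw [← mul_assoc t₁, fac_cons ht, show w * a * g = w * (a * g) by group,
            (q1.mul_right q2 : Commute w (a * g)).eq,
            show a * (g * (a * g * w)) = a * (g * a * g) * w by group, flip_fix hD hg.1 hg.2.2.symm,
            Trans3.sq_one hD.1 ha, one_mul]
        have hc : u ∈ Subgroup.center ↥(Hd D w) := central_Hd fun e he => hu.symm ▸ he.2.2
        simp only [List.prod_cons, List.prod_nil, mul_one]
        exact (QuotientGroup.eq_one_iff u).2 hc)
      (bar_mem mx) ((commute_bar hPre mx ma).2 xa) ((commute_bar hPre mx mg).2 xg)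
      (fun hm => by
        rw [← hLb] at hm
        obtain ⟨u, hu, e⟩ := List.mem_map.1 hm
        have hu' : (u : G) ∈ [a, g, t₁, t₂, t₃] := hLv ▸ List.mem_map_of_mem hu
        rw [hN.bar_inj hw.1 u.2 mx e] at hu'
        rcases List.mem_cons.1 hu' with e' | hu'
        · exact hay (e' ▸ xy)
        rcases List.mem_cons.1 hu' with e' | hu'
        · exact hgy (e' ▸ xy)
        exact hxt hu')
    obtain ⟨_, qv, v1, v2, v3, v4⟩ := u6_triple_partner (m22_isU6 hD h hw.1) (hN.group_Db hw.1)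
      (bar_mem ma) (bar_mem mg) (bar_mem my) (bar_mem mx)
      (fun e => hay ((commute_bar hPre ma my).1 e)) ((commute_bar hPre ma mg).2 hg.2.2)
      ((commute_bar hPre mx ma).2 xa) ((commute_bar hPre mx mg).2 xg) ((commute_bar hPre mx my).2 xy)
      ⟨z, hz, za, zg, zx⟩
    obtain ⟨v, hv, rfl⟩ := exists_bar qv
    rw [commute_bar hPre] at v1 v2 v3 v4
    exact ⟨v, hv.1, v1, v2, v3, v4⟩

variable (h : Cfsg.IsOfTypeM23 G D)
include h

theorem m23_center_mem {a : G} (ha : a ∈ D) {x : ↥(Hd D a)}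
    (hx : x ∈ Subgroup.center ↥(Hd D a)) : (x : G) = 1 ∨ (x : G) = a :=
  Up.center_mem (nice_m23 hD h) hP (fun _ hb => m23_lvl_below hD h hP hb) ha hx

/-- Seven pairwise commuting members: three further ones complete a triple in a neighbourhood. -/
theorem m23_seven {e a g n : G} (he : e ∈ D) (na : a ∈ nbrs D e) (ng : g ∈ nbrs D e)
    (nn : n ∈ nbrs D e) (hag : a ≠ g) (han : a ≠ n) (hgn : g ≠ n) (cag : Commute a g)
    (can : Commute a n) (cgn : Commute g n) :
    ∃ t₁ t₂ t₃ : G, Fac D 3 (a * g * (n * e)) [t₁, t₂, t₃] ∧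
      ∀ t ∈ [t₁, t₂, t₃], t ∈ nbrs D e ∧ t ∉ [a, g, n] ∧ ∀ u ∈ [a, g, n], Commute t u := by
  have hN := nice_m23 hD h
  have hPre := pre_of_group hD
  have hg' := hN.group_Db he
  have h22 := m23_below hD h he
  have mg : bar ng ∈ nbrs (Db D e) (bar na) := ⟨bar_mem ng,
    fun x => hag (hN.bar_inj he ng na x).symm, (commute_bar hPre na ng).2 cag⟩
  have mn : bar nn ∈ nbrs (Db D e) (bar na) := ⟨bar_mem nn,
    fun x => han (hN.bar_inj he nn na x).symm, (commute_bar hPre na nn).2 can⟩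
  obtain ⟨T₁, T₂, T₃, hT, haT, -⟩ := m22_line hg' (m23_prim_below hD h hP he) h22 (bar_mem na) mg mn
    (fun x => hgn (hN.bar_inj he ng nn x)) ((commute_bar hPre ng nn).2 cgn)
  have hs : Fac (Db D e) 3 (bar na * bar ng * bar nn) [bar na, bar ng, bar nn] := ⟨by
      simp [Ne.symm mg.2.1, Ne.symm mn.2.1,
        show bar ng ≠ bar nn from fun x => hgn (hN.bar_inj he ng nn x)], rfl,
    by
      intro q hq
      simp only [List.mem_cons, List.not_mem_nil, or_false] at hq
      rcases hq with rfl | rfl | rfl <;> exact bar_mem _, by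
      simp [mg.2.2, mg.2.2.symm, mn.2.2, mn.2.2.symm, (commute_bar hPre ng nn).2 cgn,
        ((commute_bar hPre ng nn).2 cgn).symm], by simp [mul_assoc]⟩
  have hdis := fac_disj hg' (m22_noRel hg' h22).2.1 hs hT haT
  have hcross : ∀ t ∈ [T₁, T₂, T₃], ∀ u ∈ [bar na, bar ng, bar nn], Commute t u := by
    intro t htm u hu
    refine commute_of_prod hg' le_rfl hs (hT.2.2.1 t htm) ?_ u hu
    rw [← hT.2.2.2.2]
    exact Commute.list_prod_right _ _ fun v hv => hT.2.2.2.1 t htm v hv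
  obtain ⟨t₁, m₁, rfl⟩ := exists_bar (hT.2.2.1 T₁ (by simp))
  obtain ⟨t₂, m₂, rfl⟩ := exists_bar (hT.2.2.1 T₂ (by simp))
  obtain ⟨t₃, m₃, rfl⟩ := exists_bar (hT.2.2.1 T₃ (by simp))
  obtain ⟨L, eL⟩ : ∃ L : List {u // u ∈ nbrs D e}, L = [⟨t₁, m₁⟩, ⟨t₂, m₂⟩, ⟨t₃, m₃⟩] := ⟨_, rfl⟩
  have hLv : L.map Subtype.val = [t₁, t₂, t₃] := by rw [eL]; rfl
  have hLb : L.map (fun u => bar u.2) = [bar m₁, bar m₂, bar m₃] := by rw [eL]; rfl
  have get : ∀ t ∈ [t₁, t₂, t₃], ∃ ht : t ∈ nbrs D e, bar ht ∈ [bar m₁, bar m₂, bar m₃] := by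
    intro t ht
    rw [← hLv] at ht
    obtain ⟨u, hu, rfl⟩ := List.mem_map.1 ht
    exact ⟨u.2, hLb ▸ List.mem_map_of_mem hu⟩
  have hco : ∀ t ∈ [t₁, t₂, t₃], ∀ t' ∈ [t₁, t₂, t₃], Commute t t' := by
    intro t ht t' ht'
    obtain ⟨m, hm⟩ := get t ht
    obtain ⟨m', hm'⟩ := get t' ht'
    exact (commute_bar hPre m m').1 (hT.2.2.2.1 _ hm _ hm')
  have hnd : [t₁, t₂, t₃].Nodup :=
    hLv ▸ (List.Nodup.of_map _ (hLb ▸ hT.1)).map Subtype.val_injective
  have hprops : ∀ t ∈ [t₁, t₂, t₃], t ∈ nbrs D e ∧ t ∉ [a, g, n] ∧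
      ∀ u ∈ [a, g, n], Commute t u := by
    intro t ht
    obtain ⟨m, hm⟩ := get t ht
    refine ⟨m, fun hu => ?_, fun u hu => ?_⟩
    · simp only [List.mem_cons, List.not_mem_nil, or_false] at hu
      rcases hu with rfl | rfl | rfl
      exacts [hdis _ (by simp) hm, hdis _ (by simp) hm, hdis _ (by simp) hm]
    · simp only [List.mem_cons, List.not_mem_nil, or_false] at hu
      rcases hu with rfl | rfl | rfl
      exacts [(commute_bar hPre m na).1 (hcross _ hm _ (by simp)),
        (commute_bar hPre m ng).1 (hcross _ hm _ (by simp)),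
        (commute_bar hPre m nn).1 (hcross _ hm _ (by simp))]
  have hsix : Fac D 6 (a * g * n * (t₁ * t₂ * t₃)) [a, g, n, t₁, t₂, t₃] := by
    refine ⟨?_, rfl, ?_, ?_, by simp [mul_assoc]⟩
    · rw [show [a, g, n, t₁, t₂, t₃] = [a, g, n] ++ [t₁, t₂, t₃] from rfl, List.nodup_append']
      exact ⟨by simp [hag, han, hgn], hnd, fun u hu hu' => (hprops u hu').2.1 hu⟩
    · intro u hu
      rw [show [a, g, n, t₁, t₂, t₃] = [a, g, n] ++ [t₁, t₂, t₃] from rfl] at hu
      rcases List.mem_append.1 hu with hu | hu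
      · simp only [List.mem_cons, List.not_mem_nil, or_false] at hu
        rcases hu with rfl | rfl | rfl
        exacts [na.1, ng.1, nn.1]
      · exact (hprops u hu).1.1
    · intro u hu v hv
      rw [show [a, g, n, t₁, t₂, t₃] = [a, g, n] ++ [t₁, t₂, t₃] from rfl] at hu hv
      rcases List.mem_append.1 hu with hu | hu <;> rcases List.mem_append.1 hv with hv | hv
      · simp only [List.mem_cons, List.not_mem_nil, or_false] at hu hv
        rcases hu with e1 | e1 | e1 <;> rcases hv with e2 | e2 | e2 <;> rw [e1, e2] <;>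
          first | exact Commute.refl _ | exact cag | exact cag.symm | exact can | exact can.symm | exact cgn | exact cgn.symm
      · exact ((hprops v hv).2.2 u hu).symm
      · exact (hprops u hu).2.2 v hv
      · exact hco u hu v hv
  obtain ⟨z, ez⟩ : ∃ z : ↥(Hd D e), z = ⟨a, Subgroup.subset_closure na⟩ *
      ⟨g, Subgroup.subset_closure ng⟩ * ⟨n, Subgroup.subset_closure nn⟩ *
      (⟨t₁, Subgroup.subset_closure m₁⟩ * ⟨t₂, Subgroup.subset_closure m₂⟩ *
        ⟨t₃, Subgroup.subset_closure m₃⟩) := ⟨_, rfl⟩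
  have hz : z ∈ Subgroup.center ↥(Hd D e) := by
    rw [← QuotientGroup.eq_one_iff, ez]
    simp only [QuotientGroup.mk_mul]
    rw [show (_ : Qd D e) * _ * _ = bar m₁ * bar m₂ * bar m₃ from rfl, fac_cons hT]
    exact fac_sq hg' hs
  have hzv : (z : G) = a * g * n * (t₁ * t₂ * t₃) := by rw [ez]; rfl
  have hze : (z : G) = e := by
    refine (m23_center_mem hD hP h he hz).resolve_left fun e1 => ?_
    exact (m23_noRel hD h).2.2.2 _ hsix.1 rfl hsix.2.2.1 hsix.2.2.2.1
      (hsix.2.2.2.2.trans (hzv.symm.trans e1))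
  refine ⟨t₁, t₂, t₃, ⟨hnd, rfl, fun t ht => (hprops t ht).1.1, hco, ?_⟩, hprops⟩
  have h3 : Fac D 3 (a * g * n) [a, g, n] := ⟨by simp [hag, han, hgn], rfl,
    by simp [na.1, ng.1, nn.1], by simp [cag, cag.symm, can, can.symm, cgn, cgn.symm],
    by simp [mul_assoc]⟩
  calc [t₁, t₂, t₃].prod = (a * g * n) * (a * g * n) * (t₁ * t₂ * t₃) := by
        rw [fac_sq hD h3]; simp [mul_assoc]
    _ = (a * g * n) * (a * g * n * (t₁ * t₂ * t₃)) := by group
    _ = a * g * (n * e) := by rw [← hzv, hze]; group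

/-- A commuting pair and a member not commuting with the first have a common neighbour. -/
theorem m23_commonThree : Up.CommonThree D := by
  classical
  intro a b y ha hb hy hay
  by_contra! hall
  have hN := nice_m23 hD h
  have hPre := pre_of_group hD
  have hL : ∀ x ∈ D, Lvl (Db D x) := fun _ hx => m23_lvl_below hD h hP hx
  obtain ⟨e, he, ea, ey⟩ := Up.exists_common hN hP hL ha hy hay
  have eb : ¬ Commute e b := fun x => hall e he ea x ey
  have nea : e ∈ nbrs D a := ⟨he, fun x => hay (x ▸ ey), ea.symm⟩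
  have hXg := hN.group_Db ha
  have hX22 := m23_below hD h ha
  have hXP := m23_prim_below hD h hP ha
  obtain ⟨_, gm, ge, gb⟩ := exists_common hXg hXP hX22 (bar_mem nea) (bar_mem hb)
    fun x => eb ((commute_bar hPre nea hb).1 x)
  obtain ⟨g, hg, rfl⟩ := exists_bar gm
  rw [commute_bar hPre] at ge gb
  have hgy : ¬ Commute g y := fun x => hall g hg.1 hg.2.2.symm gb x
  have ngb : b ≠ g := fun x => eb (x ▸ ge.symm)
  -- neighbours inside the set of common neighbours of `a`, `g`, `y`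
  have third : ∀ {x : G}, x ∈ D → Commute x a → Commute x g → Commute x y →
      ∃ w ∈ D, w ≠ x ∧ Commute w x ∧ Commute w a ∧ Commute w g ∧ Commute w y := by
    intro x hx xa xg xy
    have na : a ∈ nbrs D x := ⟨ha, fun e => hay (e ▸ xy), xa⟩
    have ng : g ∈ nbrs D x := ⟨hg.1, fun e => hgy (e ▸ xy), xg⟩
    have ny : y ∈ nbrs D x := ⟨hy, fun e => hay (e ▸ xa.symm), xy⟩
    obtain ⟨_, qm, q1, q2, q3⟩ := exists_common_three (hN.group_Db hx) (m23_prim_below hD h hP hx)
      (m23_below hD h hx) (bar_mem na) (b := bar ng)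
      ⟨bar_mem ng, fun e => hg.2.1 (hN.bar_inj hx ng na e), (commute_bar hPre na ng).2 hg.2.2⟩
      (bar_mem ny) fun e => hay ((commute_bar hPre na ny).1 e)
    obtain ⟨w, hw, rfl⟩ := exists_bar qm
    rw [commute_bar hPre] at q1 q2 q3
    exact ⟨w, hw.1, hw.2.1, hw.2.2.symm, q1, q2, q3⟩
  have other : ∀ {x z : G}, x ∈ D → Commute x a → Commute x g → Commute x y → z ∈ D → z ≠ x →
      Commute x z → Commute z a → Commute z g → Commute z y →
      ∃ w ∈ D, w ≠ x ∧ Commute w x ∧ Commute w a ∧ Commute w g ∧ Commute w y ∧ ¬ Commute w z := by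
    intro x z hx xa xg xy hz hzx xz za zg zy
    have na : a ∈ nbrs D x := ⟨ha, fun e => hay (e ▸ xy), xa⟩
    have ng : g ∈ nbrs D x := ⟨hg.1, fun e => hgy (e ▸ xy), xg⟩
    have ny : y ∈ nbrs D x := ⟨hy, fun e => hay (e ▸ xa.symm), xy⟩
    have nz : z ∈ nbrs D x := ⟨hz, hzx, xz⟩
    obtain ⟨_, qm, q1, q2, q3, q4⟩ := m22_triple_partner (hN.group_Db hx) (m23_prim_below hD h hP hx)
      (m23_below hD h hx) (bar_mem na) (g := bar ng)
      ⟨bar_mem ng, fun e => hg.2.1 (hN.bar_inj hx ng na e), (commute_bar hPre na ng).2 hg.2.2⟩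
      (bar_mem ny) (fun e => hay ((commute_bar hPre na ny).1 e))
      (fun e => hgy ((commute_bar hPre ng ny).1 e)) (bar_mem nz)
      ((commute_bar hPre nz na).2 za) ((commute_bar hPre nz ng).2 zg) ((commute_bar hPre nz ny).2 zy)
    obtain ⟨w, hw, rfl⟩ := exists_bar qm
    rw [commute_bar hPre] at q1 q2 q3 q4
    exact ⟨w, hw.1, hw.2.1, hw.2.2.symm, q1, q2, q3, q4⟩
  obtain ⟨u, hu, hue, cue, ua, ug, uy⟩ := third he ea ge.symm ey
  obtain ⟨n, hn, hne, cne, na', ng', ny', hnu⟩ := other he ea ge.symm ey hu hue cue.symm ua ug uy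
  obtain ⟨A, hA, hAu, cAu, Aa, Ag, Ay, hAe⟩ := other hu ua ug uy he (Ne.symm hue) cue ea ge.symm ey
  -- a member commuting with `e` and not with `u` or `A`
  obtain ⟨T, hT, cTe, Ta, Tg, Ty, hTu, hTA⟩ : ∃ T ∈ D, Commute T e ∧ Commute T a ∧ Commute T g ∧
      Commute T y ∧ ¬ Commute T u ∧ ¬ Commute T A := by
    by_cases hnA : Commute n A
    swap
    · exact ⟨n, hn, cne, na', ng', ny', hnu, hnA⟩
    obtain ⟨t₁, t₂, t₃, ht, hprops⟩ := m23_seven hD hP h he (a := a) (g := g) (n := n)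
      ⟨ha, fun x => hay (x ▸ ey), ea⟩ ⟨hg.1, fun x => hgy (x ▸ ey), ge.symm⟩ ⟨hn, hne, cne.symm⟩
      (Ne.symm hg.2.1) (fun x => hay (x ▸ ny')) (fun x => hgy (x ▸ ny'))
      hg.2.2 na'.symm ng'.symm
    obtain ⟨r, hr, hyr⟩ := pentad_point hD ha hg.1 hy ht hg.2.2 (fun x => hay x.symm)
      (fun x => hgy x.symm) (ny'.symm.mul_right ey.symm)
    obtain ⟨hre, hrn, hrc⟩ := hprops r hr
    have e' := fac_erase ht hr
    have hfac : ∀ s, s ∈ D → s ∉ [t₁, t₂, t₃] → (∀ t ∈ [t₁, t₂, t₃], Commute t s) →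
        Fac D 3 (s * (r⁻¹ * (a * g * (n * e)))) (s :: [t₁, t₂, t₃].erase r) := by
      intro s hs hst hsc
      refine ⟨List.nodup_cons.2 ⟨fun hm => hst (List.mem_of_mem_erase hm), e'.1⟩,
        by rw [List.length_cons, e'.2.1], ?_, ?_, by rw [List.prod_cons, e'.2.2.2.2]⟩
      · intro v hv
        rcases List.mem_cons.1 hv with rfl | hv
        exacts [hs, e'.2.2.1 v hv]
      · intro v hv v' hv'
        rcases List.mem_cons.1 hv with e1 | hv
        · rw [e1]
          rcases List.mem_cons.1 hv' with e2 | hv'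
          · rw [e2]
          · exact (hsc v' (List.mem_of_mem_erase hv')).symm
        · rcases List.mem_cons.1 hv' with e2 | hv'
          · rw [e2]; exact hsc v (List.mem_of_mem_erase hv)
          · exact e'.2.2.2.1 v hv v' hv'
    have her : Commute e r := hre.2.2
    have hrn' : Commute n r := (hrc n (by simp)).symm
    refine ⟨r, hre.1, her.symm, hrc a (by simp), hrc g (by simp), hyr.symm, fun hru => ?_,
      fun hrA => ?_⟩
    · -- `u` would commute with `n`
      have hF := hfac n hn (fun hm => (hprops n hm).2.1 (by simp))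
        fun t ht' => (hprops t ht').2.2 n (by simp)
      refine hnu (commute_of_prod hD le_rfl hF hu ?_ n List.mem_cons_self).symm
      rw [inv_eq hD.1 hre.1, show n * (r * (a * g * (n * e))) = n * (r * a * g) * n * e by group,
        flip_fix hD hn ((hrn'.mul_right na').mul_right ng')]
      exact ((hru.symm.mul_right ua).mul_right ug).mul_right cue
    · -- `A` would commute with `e`
      have hF := hfac e he (fun hm => (hprops e hm).1.2.1 rfl)
        fun t ht' => (hprops t ht').1.2.2.symm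
      refine hAe (commute_of_prod hD le_rfl hF hA ?_ e List.mem_cons_self)
      rw [inv_eq hD.1 hre.1, show e * (r * (a * g * (n * e))) = e * (r * a * g * n) * e by group,
        flip_fix hD he (((her.mul_right ea).mul_right ge.symm).mul_right cne.symm)]
      exact ((hrA.symm.mul_right Aa).mul_right Ag).mul_right hnA.symm
  -- a chain `e`, `A`, `T`, `u` gives four members of a star
  obtain ⟨B, eB⟩ : ∃ B, B = A * e * A := ⟨_, rfl⟩
  obtain ⟨C, eC⟩ : ∃ C, C = T * B * T := ⟨_, rfl⟩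
  obtain ⟨E, eE⟩ : ∃ E, E = u * C * u := ⟨_, rfl⟩
  have flip := @flip_iff G _ D hD
  have fx := @flip_fix G _ D hD
  have ff := @flip_flip G _ D hD
  have neB : ¬ Commute e B := fun x => hAe (by
    rw [eB, braid hD.1 hA he hAe, ← flip he, ff he, fx he (Commute.refl e)] at x
    exact x.symm)
  have hBu : u * B * u = B := fx hu (eB ▸ ((cAu.symm.mul_right cue).mul_right cAu.symm))
  have nBT : ¬ Commute B T := fun x => hAe (by
    rw [eB, ← flip hA, ff hA, braid hD.1 hA hT fun y' => hTA y'.symm, ← flip hT, ff hT,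
      fx hT cTe] at x
    exact x.symm)
  have hBD : B ∈ D := eB ▸ self_conj_mem hD hA he
  have nBC : ¬ Commute B C := fun x => nBT (by
    rw [eC, braid hD.1 hT hBD fun y' => nBT y'.symm, ← flip hBD, ff hBD,
      fx hBD (Commute.refl B)] at x
    exact x)
  have neC : ¬ Commute e C := fun x => neB (by
    rw [eC, ← fx hT cTe, flip hT] at x; exact x)
  have nBE : ¬ Commute B E := fun x => nBC (by
    rw [eE, ← hBu, flip hu] at x; exact x)
  have neE : ¬ Commute e E := fun x => neC (by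
    rw [eE, ← fx hu cue, flip hu] at x; exact x)
  have nCu : ¬ Commute C u := fun x => nBT (by
    rw [eC, ← flip hT, ff hT, braid hD.1 hT hu hTu, ← flip hu, hBu, ff hu] at x
    exact x)
  have hCD : C ∈ D := eC ▸ self_conj_mem hD hT hBD
  have nCE : ¬ Commute C E := fun x => nCu (by
    rw [eE, braid hD.1 hu hCD fun y' => nCu y'.symm, ← flip hCD, ff hCD,
      fx hCD (Commute.refl C)] at x
    exact x)
  have hABe : e * B * e = A := by
    rw [eB, braid hD.1 hA he hAe]
    exact ff he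
  have hTAT : e * C * e = T * A * T := by
    rw [eC, show e * (T * B * T) * e = (e * T) * B * (T * e) by group, cTe.symm.eq,
      show T * e * B * (T * e) = T * e * B * (e * T) by rw [cTe.eq], show T * e * B * (e * T) =
        T * (e * B * e) * T by group, hABe]
  have hTATB : Commute (T * A * T) B := by
    rw [← braid hD.1 hA hT fun y' => hTA y'.symm, eB, flip hA]; exact cTe
  have hAC : Commute A C := by
    rw [eC, ← flip hT, ff hT]; exact hTATB
  -- transfer to the neighbourhood group of `g` in that of `a`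
  obtain ⟨P, eP⟩ : ∃ P : Set G, P = {x | x ∈ D ∧ Commute x a ∧ Commute x g ∧ Commute x y} := ⟨_, rfl⟩
  have memP : ∀ x, x ∈ P ↔ x ∈ D ∧ Commute x a ∧ Commute x g ∧ Commute x y := by
    intro x; rw [eP]; rfl
  have P3 : ∀ {v w : G}, v ∈ P → w ∈ P → v * w * v ∈ P := by
    intro v w hv hw
    obtain ⟨v1, v2, v3, v4⟩ := (memP v).1 hv
    obtain ⟨w1, w2, w3, w4⟩ := (memP w).1 hw
    exact (memP _).2 ⟨self_conj_mem hD v1 w1, (v2.mul_left w2).mul_left v2,
      (v3.mul_left w3).mul_left v3, (v4.mul_left w4).mul_left v4⟩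
  have pe : e ∈ P := (memP e).2 ⟨he, ea, ge.symm, ey⟩
  have pA : A ∈ P := (memP A).2 ⟨hA, Aa, Ag, Ay⟩
  have pT : T ∈ P := (memP T).2 ⟨hT, Ta, Tg, Ty⟩
  have pu : u ∈ P := (memP u).2 ⟨hu, ua, ug, uy⟩
  have pB : B ∈ P := eB ▸ P3 pA pe
  have pC : C ∈ P := eC ▸ P3 pT pB
  have pE : E ∈ P := eE ▸ P3 pu pC
  have na0 : ∀ x ∈ P, x ∈ nbrs D a := fun x hx => by
    obtain ⟨h1, h2, -, h4⟩ := (memP x).1 hx
    exact ⟨h1, fun e' => hay (e' ▸ h4), h2.symm⟩
  have nx : ∀ x (hx : x ∈ P), bar (na0 x hx) ∈ nbrs (Db D a) (bar hg) := fun x hx => by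
    obtain ⟨-, -, h3, h4⟩ := (memP x).1 hx
    exact ⟨bar_mem _, fun e' => hgy (hN.bar_inj ha (na0 x hx) hg e' ▸ h4),
      (commute_bar hPre hg (na0 x hx)).2 h3.symm⟩
  have nb : bar hb ∈ nbrs (Db D a) (bar hg) :=
    ⟨bar_mem _, fun e' => ngb (hN.bar_inj ha hb hg e'), (commute_bar hPre hg hb).2 gb⟩
  have hPX := pre_of_group hXg
  have cq : ∀ {v w : G} (hv : v ∈ P) (hw : w ∈ P),
      Commute (bar (nx v hv)) (bar (nx w hw)) ↔ Commute v w := fun hv hw =>
    (commute_bar hPX (nx _ hv) (nx _ hw)).trans (commute_bar hPre (na0 _ hv) (na0 _ hw))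
  have c3 : ∀ {v w : G} (hv : v ∈ P) (hw : w ∈ P), bar (nx v hv) * bar (nx w hw) * bar (nx v hv) =
      bar (nx (v * w * v) (P3 hv hw)) := by
    intro v w hv hw
    show (QuotientGroup.mk _ : Qd (Db D a) (bar hg)) * QuotientGroup.mk _ * QuotientGroup.mk _ =
      QuotientGroup.mk _
    rw [← QuotientGroup.mk_mul, ← QuotientGroup.mk_mul]
    exact congrArg QuotientGroup.mk (Subtype.ext rfl)
  have bad : ∀ {v : G} (hv : v ∈ P), ¬ Commute (bar (nx v hv)) (bar nb) := by
    intro v hv x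
    obtain ⟨h1, h2, -, h4⟩ := (memP v).1 hv
    exact hall v h1 h2 ((commute_bar hPre (na0 v hv) hb).1
      ((commute_bar hPX (nx v hv) nb).1 x)) h4
  have bad3 : ∀ {v w : G} (hv : v ∈ P) (hw : w ∈ P),
      ¬ Commute (bar (nx v hv) * bar (nx w hw) * bar (nx v hv)) (bar nb) := fun hv hw x => bad (P3 hv hw) (by rwa [c3 hv hw] at x)
  refine u6_no_bad (m22_isU6 hXg hX22 (bar_mem hg)) ((nice_m22 hXg hX22).group_Db (bar_mem hg))
    (bar_mem nb) (a := 1) (c := 1) (A := bar (nx e pe)) (B := bar (nx B pB)) (C := bar (nx C pC))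
    (E := bar (nx E pE)) ⟨?_, fun x => neB ((cq pe pB).1 x), fun x => neC ((cq pe pC).1 x),
      fun x => neE ((cq pe pE).1 x), fun x => nBC ((cq pB pC).1 x), fun x => nBE ((cq pB pE).1 x),
      fun x => nCE ((cq pC pE).1 x), ?_, ?_, ?_⟩
    (bad pe) (bad pB) (bad pC) (bad pE) (bad3 pe pB) (bad3 pe pC) (bad3 pe pE) (bad3 pB pC)
    (bad3 pB pE) (bad3 pC pE)
  · intro x hx
    simp only [List.mem_cons, List.not_mem_nil, or_false] at hx
    refine ⟨?_, Commute.one_left x, Commute.one_left x⟩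
    rcases hx with rfl | rfl | rfl | rfl <;> exact bar_mem _
  · rw [c3 pe pB, cq (P3 pe pB) pC, hABe]; exact hAC
  · rw [c3 pe pB, cq (P3 pe pB) pE, hABe, eE, ← fx hu cAu.symm, flip hu]; exact hAC
  · rw [c3 pe pC, cq (P3 pe pC) pE, hTAT, eE]
    rw [← flip hu, ff hu, eC, ← flip hT,
      show T * (u * (T * A * T) * u) * T = (T * u * T) * A * (T * u * T) by group,
      braid hD.1 hT hu hTu, show u * T * u * A * (u * T * u) = u * T * (u * A * u) * T * u by group,
      fx hu cAu.symm, ff hT, ← flip hu, show u * (u * T * A * T * u) * u =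
        u * (u * (T * A * T) * u) * u by group, ff hu, hBu]
    exact hTATB

/-- A group of type M(23) is a level. -/
theorem lvl_m23 : Lvl D :=
  Up.lvl (nice_m23 hD h) hP (fun _ ha => m23_lvl_below hD h hP ha) (m23_commonThree hD hP h)

end CfsgLib.Trans3.Fi
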