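import Cfsg.Agent.Lib.Trans3.Fi.PairK
import Cfsg.Agent.Lib.Comp.FStar
import Cfsg.Agent.Lib.Classical.OrthOmega

/-!
Groups of type M(23) and M(24): the normaliser of the subgroup of order three generated by the
product of two non-commuting members, and the width of their common partners.
-/

set_option autoImplicit false
set_option linter.unusedSectionVars false

namespace CfsgLib.Trans3.Fi

section Pair

variable {G : Type*} [Group G] [Finite G] {D : Set G}
variable (hL : Lvl D) (hG : PairGen D) {a d : G} (ha : a ∈ D) (hd : d ∈ D) (hnc : ¬ Commute a d)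
include hL hG ha hd hnc

theorem pair_center_bot : Subgroup.center ↥(Subgroup.closure (CN D a d)) = ⊥ := by
  rw [Subgroup.eq_bot_iff_forall]
  rintro ⟨z, hzm⟩ hz
  have hzc := (pair_cn_centralizer hL hG ha hd hnc).le hzm
  rw [Subgroup.mem_centralizer_iff] at hzc
  refine Subtype.ext (hG.triv a d z ha hd hnc (hzc a (by simp)).symm (hzc d (by simp)).symm
    fun w hw => ?_)
  exact (congrArg Subtype.val
    (Subgroup.mem_center_iff.1 hz ⟨w, Subgroup.subset_closure hw⟩)).symm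

/-- The group of common partners is any joint neighbourhood group modulo its centre. -/
theorem pair_quot_equiv {u v : G} (hu : u ∈ D) (hv : v ∈ D) (huv : ¬ Commute u v) :
    Nonempty (↥(Ld D u v) ⧸ Subgroup.center ↥(Ld D u v) ≃* ↥(Subgroup.closure (CN D a d))) := by
  have hD := hL.group
  obtain ⟨g₁, hg₁⟩ := hL.prim.1 u hu a ha
  obtain ⟨g₂, hg₂, hg₂'⟩ := trans_noncomm hD hL.prim hL.pairc ha (hD.2.1 g₁ v hv)
    (fun h' => huv (by rw [← hg₁] at h'; exact (commute_conj_iff g₁ u v).1 h')) hd hnc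
  obtain ⟨g, eg⟩ : ∃ g, g = g₂ * g₁ := ⟨_, rfl⟩
  have ea : g * u * g⁻¹ = a := by
    rw [eg]; conv_rhs => rw [← hg₂, ← hg₁]
    group
  have ec : g * v * g⁻¹ = d := by rw [eg, ← hg₂']; group
  have hset : nbrs D a ∩ nbrs D d = CN D a d := by
    ext y
    exact ⟨fun ⟨⟨h1, _, h2⟩, _, _, h3⟩ => ⟨h1, h2, h3⟩, fun ⟨h1, h2, h3⟩ =>
      ⟨⟨h1, fun e => hnc (e ▸ h3).symm, h2⟩, h1, fun e => hnc (e ▸ h2), h3⟩⟩
  have himg : (MulAut.conj g) '' (nbrs D u ∩ nbrs D v) = CN D a d := by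
    rw [Set.image_inter (MulAut.conj g).injective, ← Nice.nbrs_conj hD, ← Nice.nbrs_conj hD, ea,
      ec, hset]
  obtain ⟨ψ, -⟩ := sub_congr (MulAut.conj g) himg
  exact ⟨(ψ.trans (QuotientGroup.quotientMulEquivOfEq (pair_center_bot hL hG ha hd hnc))).trans
    QuotientGroup.quotientBot⟩

/-- The normaliser of `⟨ad⟩` is `⟨a, d⟩ × ⟨common partners⟩`. -/
theorem pair_split :
    Subgroup.closure ({a, d} : Set G) ⊓ Subgroup.closure (CN D a d) = ⊥ ∧
    (∀ x ∈ Subgroup.closure ({a, d} : Set G), ∀ y ∈ Subgroup.closure (CN D a d), x * y = y * x) ∧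
    Subgroup.closure ({a, d} : Set G) ⊔ Subgroup.closure (CN D a d) =
      Subgroup.normalizer ((Subgroup.zpowers (a * d) : Subgroup G) : Set G) ∧
    Nonempty (↥(Subgroup.closure ({a, d} : Set G)) ≃* Equiv.Perm (Fin 3)) ∧
    D ∩ (Subgroup.centralizer ((Subgroup.zpowers (a * d) : Subgroup G) : Set G) : Set G) =
      CN D a d := by
  have hD := hL.group
  have hC := pair_cn_centralizer hL hG ha hd hnc
  have hcomm : ∀ x ∈ Subgroup.closure ({a, d} : Set G), ∀ y ∈ Subgroup.closure (CN D a d),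
      x * y = y * x := by
    intro x hx y hy
    rw [hC, Subgroup.mem_centralizer_iff] at hy
    induction hx using Subgroup.closure_induction with
    | mem u hu => exact hy u hu
    | one => simp
    | mul u v _ _ h1 h2 => exact (Commute.mul_left h1 h2 : Commute (u * v) y)
    | inv u _ h1 => exact (Commute.inv_left h1 : Commute u⁻¹ y)
  refine ⟨?_, hcomm, pair_normalizer hL hG ha hd hnc, closure_pair_iso hD ha hd hnc, ?_⟩
  · rw [Subgroup.eq_bot_iff_forall]
    intro z hz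
    obtain ⟨zS, zK⟩ := Subgroup.mem_inf.1 hz
    rw [hC, Subgroup.mem_centralizer_iff] at zK
    exact hG.triv a d z ha hd hnc (zK a (by simp)).symm (zK d (by simp)).symm
      fun w hw => hcomm z zS w (Subgroup.subset_closure hw)
  · rw [Subgroup.zpowers_eq_closure, Subgroup.centralizer_closure]
    ext y
    simp only [Set.mem_inter_iff, SetLike.mem_coe, Subgroup.mem_centralizer_singleton_iff]
    exact ⟨fun ⟨h1, h2⟩ => ⟨h1, (commute_prod_iff hD ha hd hnc h1).1 h2⟩,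
      fun h => ⟨h.1, ((commute_prod_iff hD ha hd hnc h.1).2 ⟨h.2.1, h.2.2⟩).eq⟩⟩

end Pair

theorem cn_set {G : Type*} [Group G] {D : Set G} {a d : G} (hnc : ¬ Commute a d) :
    {y : G | y ∈ D ∧ Commute a y ∧ Commute d y ∧ y ≠ a ∧ y ≠ d} = CN D a d := by
  ext y
  exact ⟨fun ⟨h1, h2, h3, _, _⟩ => ⟨h1, h2, h3⟩, fun ⟨h1, h2, h3⟩ =>
    ⟨h1, h2, h3, fun e => hnc (e ▸ h3).symm, fun e => hnc (e ▸ h2)⟩⟩

/-- The width of the common partners of a pair goes up by one with each level. -/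
theorem pair_width_up {G : Type*} [Group G] [Finite G] {D : Set G} (hL : Lvl D) {n : ℕ}
    (hn : ∀ e ∈ D, ∀ p ∈ Db D e, ∀ q ∈ Db D e, ¬ Commute p q →
      Cfsg.commutingWidth (CN (Db D e) p q) = n)
    {a d : G} (ha : a ∈ D) (hd : d ∈ D) (hnc : ¬ Commute a d) :
    Cfsg.commutingWidth (CN D a d) = n + 1 := by
  have hPre := pre_of_group hL.group
  have nn : ∀ {g : G}, g ∈ CN D a d → ∃ na : a ∈ nbrs D g, ∃ nd : d ∈ nbrs D g,
      Cfsg.commutingWidth (CN (Db D g) (bar na) (bar nd)) = n := by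
    intro g hg
    have na : a ∈ nbrs D g := ⟨ha, fun e => hnc (e ▸ hg.2.2).symm, hg.2.1.symm⟩
    have nd : d ∈ nbrs D g := ⟨hd, fun e => hnc (e ▸ hg.2.1), hg.2.2.symm⟩
    exact ⟨na, nd, hn g hg.1 _ (bar_mem na) _ (bar_mem nd)
      fun e => hnc ((commute_bar hPre na nd).1 e)⟩
  refine le_antisymm ?_ ?_
  · obtain ⟨E, hE, hc, hn'⟩ := exists_commutingWidth (CN D a d)
    rw [← hn']
    by_cases hne : E = ∅
    · rw [hne, Set.ncard_empty]; omega
    obtain ⟨e, he⟩ := Set.nonempty_iff_ne_empty.2 hne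
    obtain ⟨na, nd, hq⟩ := nn (hE he)
    have hsub : E \ {e} ⊆ nbrs D e := fun y hy => ⟨(hE hy.1).1, hy.2, hc e he y hy.1⟩
    obtain ⟨T, eT⟩ : ∃ T : Set (Qd D e),
        T = {q | ∃ y, ∃ hy : y ∈ nbrs D e, y ∈ E \ {e} ∧ q = bar hy} := ⟨_, rfl⟩
    have h1 : (E \ {e}).ncard = T.ncard := by
      rw [eT]
      refine Set.ncard_congr (fun y hy => bar (hsub hy)) (fun y hy => ⟨y, hsub hy, hy, rfl⟩)
        (fun y z hy hz e' => hL.bar_inj (hE he).1 (hsub hy) (hsub hz) e') ?_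
      rintro q ⟨y, hy, hyS, rfl⟩
      exact ⟨y, hyS, rfl⟩
    have h2 : T.ncard ≤ n := by
      rw [← hq]
      refine le_commutingWidth ?_ ?_
      · rw [eT]; rintro q ⟨y, hy, hyE, rfl⟩
        exact ⟨bar_mem hy, (commute_bar hPre na hy).2 (hE hyE.1).2.1,
          (commute_bar hPre nd hy).2 (hE hyE.1).2.2⟩
      · rw [eT]; rintro q ⟨y, hy, hyE, rfl⟩ q' ⟨z, hz, hzE, rfl⟩
        exact (commute_bar hPre hy hz).2 (hc y hyE.1 z hzE.1)
    have h3 := Set.ncard_diff_singleton_add_one he (Set.toFinite E)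
    omega
  · obtain ⟨g, hg, hga, hgd⟩ := hL.common a d ha hd hnc
    have hgm : g ∈ CN D a d := ⟨hg, hga.symm, hgd.symm⟩
    obtain ⟨na, nd, hq⟩ := nn hgm
    obtain ⟨E, hE, hEc, hEn⟩ := exists_commutingWidth (CN (Db D g) (bar na) (bar nd))
    obtain ⟨T, eT⟩ : ∃ T : Set G, T = {y | ∃ hy : y ∈ nbrs D g, bar hy ∈ E} := ⟨_, rfl⟩
    have hT : T ⊆ nbrs D g := by rw [eT]; exact fun y ⟨hy, _⟩ => hy
    have hTn : T.ncard = n := by
      rw [← hq, ← hEn]
      refine Set.ncard_congr (fun y hy => bar (hT hy)) (fun y hy => ?_)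
        (fun y z hy hz e' => hL.bar_inj hg (hT hy) (hT hz) e') fun q hq' => ?_
      · rw [eT] at hy; obtain ⟨hy', hyE⟩ := hy; exact hyE
      · obtain ⟨y, hy, rfl⟩ := exists_bar (hE hq').1
        exact ⟨y, by rw [eT]; exact ⟨hy, hq'⟩, rfl⟩
    have hTm : T ⊆ CN D a d := by
      rw [eT]; rintro y ⟨hy, hyE⟩
      exact ⟨hy.1, (commute_bar hPre na hy).1 (hE hyE).2.1,
        (commute_bar hPre nd hy).1 (hE hyE).2.2⟩
    have h1 := le_commutingWidth (D := CN D a d) (E := insert g T)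
      (Set.insert_subset hgm hTm) ?_
    · rwa [Set.ncard_insert_of_notMem (fun hm => (hT hm).2.1 rfl), hTn] at h1
    rintro x (rfl | hx) y (rfl | hy)
    · exact Commute.refl _
    · exact (hT hy).2.2
    · exact (hT hx).2.2.symm
    · rw [eT] at hx hy
      obtain ⟨hx1, hx2⟩ := hx
      obtain ⟨hy1, hy2⟩ := hy
      exact (commute_bar hPre hx1 hy1).1 (hEc _ hx2 _ hy2)

theorem m23_cn_width {G : Type*} [Group G] [Finite G] {D : Set G}
    (hD : Cfsg.IsThreeTranspositionGroup D) (hP : Cfsg.IsPrimitiveUnderConj D)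
    (h : Cfsg.IsOfTypeM23 G D) {a d : G} (ha : a ∈ D) (hd : d ∈ D) (hnc : ¬ Commute a d) :
    Cfsg.commutingWidth (CN D a d) = 7 :=
  pair_width_up (lvl_m23 hD hP h) (fun _ he _ hp _ hq hpq =>
    m22_pair_width ((nice_m23 hD h).group_Db he) (m23_prim_below hD h hP he) (m23_below hD h he)
      hp hq hpq) ha hd hnc

section M24

variable {G : Type*} [Group G] [Finite G] {D : Set G}
variable (hD : Cfsg.IsThreeTranspositionGroup D) (hP : Cfsg.IsPrimitiveUnderConj D)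
variable (h : Cfsg.IsOfTypeM24 G D) {a d : G} (ha : a ∈ D) (hd : d ∈ D) (hnc : ¬ Commute a d)
include hD hP h ha hd hnc

theorem m24_cn_width : Cfsg.commutingWidth (CN D a d) = 8 :=
  pair_width_up (lvl_m24 hD hP h) (fun _ he _ hp _ hq hpq =>
    m23_cn_width ((nice_m24 hD hP h).group_Db he) (m24_prim_below hD hP h he)
      (m24_below hD hP h he) hp hq hpq) ha hd hnc

end M24

/-- The generalised Fitting subgroup of a group with a simple self-centralising normal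
subgroup. -/
theorem fstar_eq_of_simple {X : Type*} [Group X] [Finite X] (N : Subgroup X) [hN : N.Normal]
    [IsSimpleGroup ↥N] (hC : Subgroup.centralizer (N : Set X) = ⊥) :
    Cfsg.generalizedFittingSubgroup X = N := by
  have hz : Subgroup.center ↥N = ⊥ := by
    rw [Subgroup.eq_bot_iff_forall]
    intro z hz
    have : (z : X) ∈ Subgroup.centralizer (N : Set X) := Subgroup.mem_centralizer_iff.2
      fun y hy => congrArg Subtype.val (Subgroup.mem_center_iff.1 hz ⟨y, hy⟩)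
    rw [hC, Subgroup.mem_bot] at this
    exact Subtype.ext this
  have hperf : Group.IsPerfect ↥N := ⟨by
    refine (inferInstance : (commutator ↥N).Normal).eq_bot_or_eq_top.resolve_left fun e => ?_
    rw [commutator_eq_bot_iff_center_eq_top, hz] at e
    exact bot_ne_top e⟩
  have hcomp : Cfsg.IsComponent N := ⟨hN.isSubnormal, hperf,
    ((QuotientGroup.quotientMulEquivOfEq hz).trans QuotientGroup.quotientBot).isSimpleGroup⟩
  have hlayer : Cfsg.layer X = N := by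
    refine le_antisymm (sSup_le fun K hK => ?_) (CfsgLib.Comp.le_layer hcomp)
    rcases CfsgLib.Comp.component_eq_or_le_centralizer hK hcomp with e | e
    · exact e.le
    · refine absurd (le_bot_iff.1 (hC ▸ ?_)) (CfsgLib.Comp.ne_bot_of_isComponent hK)
      exact e
  have hF : Cfsg.fittingSubgroup X = ⊥ :=
    le_bot_iff.1 (hC ▸ hlayer ▸ CfsgLib.Comp.fittingSubgroup_le_centralizer_layer X)
  rw [Cfsg.generalizedFittingSubgroup, hlayer, hF, sup_bot_eq]

theorem perm_three_inverts : ∀ s t : Equiv.Perm (Fin 3), t * t = 1 → s * t * s⁻¹ * t⁻¹ ≠ 1 →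
    (s * t * s⁻¹ * t⁻¹) ^ 3 = 1 ∧ ∀ r : Equiv.Perm (Fin 3), r ≠ 1 → r * r = 1 →
      r * (s * t * s⁻¹ * t⁻¹) * r⁻¹ * (s * t * s⁻¹ * t⁻¹) = 1 := by decide +kernel

theorem perm_three_center : ∀ s : Equiv.Perm (Fin 3), (∀ t, t * s = s * t) → s = 1 := by decide

section M24Omega

variable {G : Type*} [Group G] [Finite G] {D : Set G}
variable (hD : Cfsg.IsThreeTranspositionGroup D) (hP : Cfsg.IsPrimitiveUnderConj D)
variable (h : Cfsg.IsOfTypeM24 G D) {a d : G} (ha : a ∈ D) (hd : d ∈ D) (hnc : ¬ Commute a d)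
include hD hP h ha hd hnc

/-- The group of common partners maps onto `S₃` with no non-trivial element of the kernel's
centraliser. -/
theorem m24_kernel_centralizer (φ : ↥(Subgroup.closure (CN D a d)) →* Equiv.Perm (Fin 3))
    (hφ : Function.Surjective φ)
    (hz : ∀ z ∈ φ.ker, (∀ n ∈ φ.ker, n * z = z * n) → z = 1) :
    Subgroup.centralizer (φ.ker : Set ↥(Subgroup.closure (CN D a d))) = ⊥ := by
  have hL := lvl_m24 hD hP h
  obtain ⟨K, eK⟩ : ∃ K, K = Subgroup.closure (CN D a d) := ⟨_, rfl⟩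
  have mem : ∀ {u : G}, u ∈ CN D a d → u ∈ Subgroup.closure (CN D a d) :=
    fun hu => Subgroup.subset_closure hu
  have hgen : ∀ s : Equiv.Perm (Fin 3), (∀ u (hu : u ∈ CN D a d), φ ⟨u, mem hu⟩ * s =
      s * φ ⟨u, mem hu⟩) → s = 1 := by
    intro s hs
    refine perm_three_center s fun t => ?_
    obtain ⟨⟨x, hx⟩, rfl⟩ := hφ t
    induction hx using Subgroup.closure_induction with
    | mem u hu => exact hs u hu
    | one => exact (map_one φ).symm ▸ by simp
    | mul x y hx hy h1 h2 =>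
      show φ (⟨x, hx⟩ * ⟨y, hy⟩) * s = s * φ (⟨x, hx⟩ * ⟨y, hy⟩)
      rw [map_mul]; exact (Commute.mul_left h1 h2 : Commute _ s)
    | inv x hx h1 =>
      show φ (⟨x, hx⟩ : ↥(Subgroup.closure (CN D a d)))⁻¹ * s = s * φ (⟨x, hx⟩)⁻¹
      rw [map_inv]; exact (Commute.inv_left h1 : Commute _ s)
  have hne : ∀ u (hu : u ∈ CN D a d), φ ⟨u, mem hu⟩ ≠ 1 := by
    intro u hu e
    have h1 := hgen (Equiv.swap 0 1) fun v hv => by
      obtain ⟨k, hk, hkv⟩ := hL.transCommon a d u v ha hd hnc hu.1 hu.2.1 hu.2.2 hv.1 hv.2.1 hv.2.2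
      have ev : (⟨v, mem hv⟩ : ↥(Subgroup.closure (CN D a d))) = ⟨k, hk⟩ * ⟨u, mem hu⟩ * ⟨k, hk⟩⁻¹ :=
        Subtype.ext hkv.symm
      rw [ev, map_mul, map_mul, map_inv, e, mul_one, mul_inv_cancel, one_mul, mul_one]
    exact absurd h1 (by decide)
  have hsq : ∀ u (hu : u ∈ CN D a d), φ ⟨u, mem hu⟩ * φ ⟨u, mem hu⟩ = 1 := fun u hu => by
    rw [← map_mul, show (⟨u, mem hu⟩ : ↥(Subgroup.closure (CN D a d))) * ⟨u, mem hu⟩ = 1 from
      Subtype.ext (Trans3.sq_one hD.1 hu.1), map_one]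
  obtain ⟨E, hE, hEc, hEn⟩ := exists_commutingWidth (CN D a d)
  rw [m24_cn_width hD hP h ha hd hnc] at hEn
  obtain ⟨A, hA, B, hB, hAB⟩ := (Set.one_lt_ncard (Set.toFinite E)).1 (by omega)
  have hA' := hE hA
  have hB' := hE hB
  obtain ⟨x, ex⟩ : ∃ x : ↥(Subgroup.closure (CN D a d)), x = ⟨A, mem hA'⟩ := ⟨_, rfl⟩
  obtain ⟨y, ey⟩ : ∃ y : ↥(Subgroup.closure (CN D a d)), y = ⟨B, mem hB'⟩ := ⟨_, rfl⟩
  have hxy : φ (x * y) = 1 := by
    rw [map_mul, ex, ey]
    have e := perm_three_same _ _ ⟨hne A hA', hne B hB', hsq A hA', hsq B hB', by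
      rw [← map_mul, ← map_mul]
      exact congrArg φ (Subtype.ext (hEc A hA B hB).eq)⟩
    rw [← e]; exact hsq A hA'
  rw [Subgroup.eq_bot_iff_forall]
  intro w hw
  rw [Subgroup.mem_centralizer_iff] at hw
  by_contra hw1
  have hs : φ w ≠ 1 := fun e => hw1 (hz w e fun n hn => hw n hn)
  obtain ⟨u, hu, hus⟩ : ∃ u, ∃ hu : u ∈ CN D a d, φ ⟨u, mem hu⟩ * φ w ≠ φ w * φ ⟨u, mem hu⟩ := by
    by_contra! hall
    exact hs (hgen _ hall)
  obtain ⟨z, ez⟩ : ∃ z, z = w * ⟨u, mem hu⟩ * w⁻¹ * ⟨u, mem hu⟩⁻¹ := ⟨_, rfl⟩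
  have hnor : ∀ n ∈ φ.ker, ∀ g, g⁻¹ * n * g ∈ φ.ker := fun n hn g => by
    rw [MonoidHom.mem_ker] at hn ⊢
    rw [map_mul, map_mul, hn, mul_one, ← map_mul, inv_mul_cancel, map_one]
  have hconj : ∀ g c : ↥(Subgroup.closure (CN D a d)), (∀ n ∈ φ.ker, n * c = c * n) →
      ∀ n ∈ φ.ker, n * (g * c * g⁻¹) = g * c * g⁻¹ * n := by
    intro g c hc n hn
    calc n * (g * c * g⁻¹) = g * ((g⁻¹ * n * g) * c) * g⁻¹ := by group
      _ = g * c * g⁻¹ * n := by rw [hc _ (hnor n hn g)]; group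
  have hzc : ∀ n ∈ φ.ker, n * z = z * n := by
    intro n hn
    rw [ez, show w * ⟨u, mem hu⟩ * w⁻¹ * (⟨u, mem hu⟩ : ↥(Subgroup.closure (CN D a d)))⁻¹ =
      w * (⟨u, mem hu⟩ * w⁻¹ * ⟨u, mem hu⟩⁻¹) by group]
    exact (Commute.mul_right (hw n hn : Commute n w) (hconj _ w⁻¹
      (fun m hm => (show Commute m w from hw m hm).inv_right.eq) n hn : Commute n _)).eq
  have hφz : φ z = φ w * φ ⟨u, mem hu⟩ * (φ w)⁻¹ * (φ ⟨u, mem hu⟩)⁻¹ := by
    rw [ez]; simp only [map_mul, map_inv]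
  have hz1 : φ z ≠ 1 := by
    rw [hφz]; intro e
    apply hus
    calc φ ⟨u, mem hu⟩ * φ w = (φ w * φ ⟨u, mem hu⟩ * (φ w)⁻¹ * (φ ⟨u, mem hu⟩)⁻¹) *
        φ ⟨u, mem hu⟩ * φ w := by rw [e, one_mul]
      _ = φ w * φ ⟨u, mem hu⟩ := by group
  obtain ⟨p3, pinv⟩ := perm_three_inverts _ _ (hsq u hu) (hφz ▸ hz1)
  rw [← hφz] at p3 pinv
  have z3 : z ^ 3 = 1 := hz _ (by rw [MonoidHom.mem_ker, map_pow]; exact p3)
    fun n hn => ((show Commute n z from hzc n hn).pow_right 3).eq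
  have zinv : x * z * x⁻¹ * z = 1 := by
    refine hz _ ?_ fun n hn => (Commute.mul_right (hconj x z hzc n hn : Commute n _)
      (hzc n hn : Commute n z)).eq
    rw [MonoidHom.mem_ker, map_mul, map_mul, map_mul, map_inv]
    exact pinv _ (ex ▸ hne A hA') (ex ▸ hsq A hA')
  have hk : x * y ∈ φ.ker := hxy
  have hc : Commute (z * z) (x * y) :=
    (show Commute z (x * y) from (hzc _ hk).symm).mul_left (hzc _ hk).symm
  have hxx : x * x = 1 := ex ▸ Subtype.ext (Trans3.sq_one hD.1 hA'.1)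
  have e1 : x * z * x⁻¹ = z⁻¹ := eq_inv_of_mul_eq_one_left zinv
  have hprod : z * x * z⁻¹ * y = z * z * (x * y) := by
    have e : x * z⁻¹ = z * x := by
      calc x * z⁻¹ = (x * z * x⁻¹)⁻¹ * x := by group
        _ = z * x := by rw [e1, inv_inv]
    calc z * x * z⁻¹ * y = z * (x * z⁻¹) * y := by group
      _ = z * z * (x * y) := by rw [e]; group
  have hyy : y * y = 1 := ey ▸ Subtype.ext (Trans3.sq_one hD.1 hB'.1)
  have hcxy : Commute x y := by
    rw [ex, ey]; exact Subtype.ext (hEc A hA B hB).eq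
  have hxy2 : (x * y) ^ 2 = 1 := by
    rw [hcxy.mul_pow, pow_two, pow_two, hxx, hyy, one_mul]
  have hq : ((z * z * (x * y) : ↥(Subgroup.closure (CN D a d))) : G) =
      (z : G) * A * (z : G)⁻¹ * B := by
    rw [← hprod, ex, ey]; rfl
  have hpD : (z : G) * A * (z : G)⁻¹ ∈ D := hD.2.1 _ A hA'.1
  by_cases hpc : Commute ((z : G) * A * (z : G)⁻¹) B
  · have h2 : (z * z * (x * y)) ^ 2 = 1 := Subtype.ext (by
      rw [Subgroup.coe_pow, hq, hpc.mul_pow, pow_two, pow_two, Trans3.sq_one hD.1 hpD,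
        Trans3.sq_one hD.1 hB'.1, one_mul]; rfl)
    rw [hc.mul_pow, hxy2, mul_one, ← pow_two, ← pow_mul, show 2 * 2 = 3 + 1 from rfl, pow_add, z3,
      one_mul, pow_one] at h2
    exact hz1 (by rw [h2, map_one])
  · have h3 : (z * z * (x * y)) ^ 3 = 1 := Subtype.ext (by
      rw [Subgroup.coe_pow, hq, pow_three hD.1 hpD hB'.1 hpc]; rfl)
    rw [hc.mul_pow, ← pow_two, ← pow_mul, mul_comm 2 3, pow_mul, z3, one_pow, one_mul,
      pow_succ, hxy2, one_mul] at h3
    apply hAB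
    have hA1 : A * B = 1 := by
      have := congrArg Subtype.val h3
      rw [ex, ey] at this
      exact this
    rw [eq_inv_of_mul_eq_one_left hA1, inv_eq hD.1 hB'.1]

theorem m24_omega : Nonempty (↥(Cfsg.generalizedFittingSubgroup ↥(Subgroup.closure (CN D a d))) ≃*
      Cfsg.POmega (ZMod 3) (Cfsg.quadFormPlus 4 (ZMod 3))) ∧
    ∃ _ : (Cfsg.generalizedFittingSubgroup ↥(Subgroup.closure (CN D a d))).Normal,
      Nonempty (↥(Subgroup.closure (CN D a d)) ⧸
        Cfsg.generalizedFittingSubgroup ↥(Subgroup.closure (CN D a d)) ≃* Equiv.Perm (Fin 3)) := by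
  haveI : Fact (Nat.Prime 3) := ⟨Nat.prime_three⟩
  obtain ⟨-, u, hu, v, hv, huv, -, N₀, hN₀, ⟨e₁⟩, ⟨e₂⟩⟩ := id h
  obtain ⟨e⟩ := pair_quot_equiv (lvl_m24 hD hP h) (pairGen_m24 hD hP h) ha hd hnc hu hv huv
  let φ : ↥(Subgroup.closure (CN D a d)) →* Equiv.Perm (Fin 3) :=
    e₂.toMonoidHom.comp ((QuotientGroup.mk' N₀).comp e.symm.toMonoidHom)
  have hφ : Function.Surjective φ :=
    e₂.surjective.comp ((QuotientGroup.mk'_surjective N₀).comp e.symm.surjective)
  have hker : φ.ker = N₀.map e.toMonoidHom := by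
    ext x
    constructor
    · intro hx
      rw [MonoidHom.mem_ker] at hx
      refine ⟨e.symm x, (QuotientGroup.eq_one_iff _).1 (e₂.injective ?_), e.apply_symm_apply x⟩
      rw [map_one]; exact hx
    · rintro ⟨y, hy, rfl⟩
      show e₂ (QuotientGroup.mk (e.symm (e y))) = 1
      rw [e.symm_apply_apply, (QuotientGroup.eq_one_iff y).2 hy, map_one]
  let ι : ↥φ.ker ≃* Cfsg.POmega (ZMod 3) (Cfsg.quadFormPlus 4 (ZMod 3)) :=
    ((MulEquiv.subgroupCongr hker).trans (N₀.equivMapOfInjective _ e.injective).symm).trans e₁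
  haveI : IsSimpleGroup ↥φ.ker := by
    have := CfsgLib.Classical.isSimpleGroup_pOmega (CfsgLib.Classical.qfPlus 4 (ZMod 3))
      (CfsgLib.Classical.qfPlus_sep 4) (by simp)
    rw [CfsgLib.Classical.qfPlus_coe] at this
    exact ι.isSimpleGroup
  have hz : ∀ z ∈ φ.ker, (∀ n ∈ φ.ker, n * z = z * n) → z = 1 := by
    intro z hz hzn
    have hzc : (⟨z, hz⟩ : ↥φ.ker) ∈ Subgroup.center ↥φ.ker :=
      Subgroup.mem_center_iff.2 fun n => Subtype.ext (hzn n n.2)
    rcases (inferInstance : (Subgroup.center ↥φ.ker).Normal).eq_bot_or_eq_top with e0 | e0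
    · rw [e0, Subgroup.mem_bot] at hzc
      exact congrArg Subtype.val hzc
    · exfalso
      haveI : IsMulCommutative ↥φ.ker := Subgroup.center_eq_top_iff.1 e0
      have hp : (Nat.card ↥φ.ker).Prime :=
        open scoped IsMulCommutative in IsSimpleGroup.prime_card
      rw [Nat.card_congr ι.toEquiv, card_omega_eight] at hp
      revert hp
      norm_num
  have hF := fstar_eq_of_simple φ.ker (m24_kernel_centralizer hD hP h ha hd hnc φ hφ hz)
  refine ⟨⟨(MulEquiv.subgroupCongr hF).trans ι⟩, hF ▸ φ.normal_ker, ?_⟩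
  haveI : (Cfsg.generalizedFittingSubgroup ↥(Subgroup.closure (CN D a d))).Normal :=
    hF ▸ φ.normal_ker
  exact ⟨(QuotientGroup.quotientMulEquivOfEq hF).trans
    (QuotientGroup.quotientKerEquivOfSurjective φ hφ)⟩

end M24Omega

end CfsgLib.Trans3.Fi
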