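import Cfsg.Agent.Lib.Trans3.Fi.PairStab
import Cfsg.Agent.Lib.Trans3.Fi.U6Triple

/-!
`PSU₆(2)`: the centraliser of a transvection maps onto `PSU₄(2)` with kernel of commutators and
squares inside the group of the transvection, and what it does on the points of a line.
-/

set_option autoImplicit false
set_option linter.unusedSectionVars false
set_option linter.unusedSimpArgs false

namespace CfsgLib.Trans3.Fi

open Matrix CfsgLib.MaxSub CfsgLib.Classical CfsgLib.Trans3.TvSU

/-- `t` commutes with every member commuting with `a` and `q`: it is on their line. -/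
def Ln {Y : Type*} [Group Y] (D : Set Y) (a q t : Y) : Prop :=
  ∀ z ∈ D, Commute z a → Commute z q → Commute z t

section Model

variable {F : Type*} [Field F] [Fintype F] (hF : Fintype.card F = 2 ^ 2)
variable {Y : Type*} [Group Y] {D : Set Y} (f : ↥(Cfsg.SU 6 F 2) →* Y)
  (hf : Function.Surjective f) (hk : f.ker = Subgroup.center ↥(Cfsg.SU 6 F 2))
  (hD : Cfsg.IsThreeTranspositionGroup D)
include hF hf hk hD

theorem ln_span {p u v : Fin 6 → F} (hp : p ≠ 0) (hu : u ≠ 0) (hv : v ≠ 0) (hpp : hh p p = 0)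
    (huu : hh u u = 0) (hvv : hh v v = 0) (hpu : hh p u = 0)
    (h : Ln D (pt hF f p) (pt hF f u) (pt hF f v)) :
    v ∈ Submodule.span F ({p, u} : Set (Fin 6 → F)) := by
  by_contra hn
  have hpm := pt_mem hF f hf hk hD hp hpp
  have hum := pt_mem hF f hf hk hD hu huu
  have hc := (pt_commute hF f hk hp hu hpp huu).2 hpu
  have vp := hh_symm_zero hF ((pt_commute hF f hk hp hv hpp hvv).1 (h _ hpm (Commute.refl _) hc))
  have vu := hh_symm_zero hF ((pt_commute hF f hk hu hv huu hvv).1 (h _ hum hc.symm (Commute.refl _)))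
  obtain ⟨z, hzz, hvz, hz⟩ := perp_out hF hn hvv (by
    intro s hs
    obtain ⟨α, β, rfl⟩ := Submodule.mem_span_pair.1 hs
    simp [hh_add_right hF, hh_smul_right hF, vp, vu])
  have hz0 : z ≠ 0 := fun e => by rw [e, hh_zero_right hF] at hvz; exact zero_ne_one hvz
  have := (pt_commute hF f hk hz0 hv hzz hvv).1 (h _ (pt_mem hF f hf hk hD hz0 hzz)
    ((pt_commute hF f hk hz0 hp hzz hpp).2 (hz p (Submodule.subset_span (by simp))))
    ((pt_commute hF f hk hz0 hu hzz huu).2 (hz u (Submodule.subset_span (by simp)))))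
  rw [hh_symm_zero hF this] at hvz
  exact zero_ne_one hvz

theorem eigen_of_commute {g : ↥(Cfsg.SU 6 F 2)} {u : Fin 6 → F} (hu : u ≠ 0) (huu : hh u u = 0)
    (h : Commute (f g) (pt hF f u)) : ∃ α : F, α ≠ 0 ∧ act g u = α • u := by
  have h1 := conj_pt hF f g huu
  rw [conj_eq_of_commute h] at h1
  exact pt_eq hF f hk (act_ne_zero hF g hu) (by rw [hh_act]; exact huu) huu h1.symm

theorem line_fix {a q t t' k : Y} (ha : a ∈ D) (hq : q ∈ D) (ht : t ∈ D) (ht' : t' ∈ D)
    (haq : Commute a q) (hne : a ≠ q) (hta : t ≠ a) (htq : t ≠ q) (l : Ln D a q t) (l' : Ln D a q t')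
    (ka : Commute k a) (kq : Commute k q) (kt : Commute k t) : Commute k t' := by
  obtain ⟨p, hp, hpp, rfl⟩ := exists_pt hF f hf hk hD ha
  obtain ⟨u, hu, huu, rfl⟩ := exists_pt hF f hf hk hD hq
  obtain ⟨v, hv, hvv, rfl⟩ := exists_pt hF f hf hk hD ht
  obtain ⟨w, hw, hww, rfl⟩ := exists_pt hF f hf hk hD ht'
  obtain ⟨g, rfl⟩ := hf k
  have hpu := (pt_commute hF f hk hp hu hpp huu).1 haq
  obtain ⟨α, β, rfl⟩ := Submodule.mem_span_pair.1 (ln_span hF f hf hk hD hp hu hv hpp huu hvv hpu l)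
  obtain ⟨γ, δ, rfl⟩ := Submodule.mem_span_pair.1 (ln_span hF f hf hk hD hp hu hw hpp huu hww hpu l')
  obtain ⟨A, -, hA⟩ := eigen_of_commute hF f hf hk hD hp hpp ka
  obtain ⟨B, -, hB⟩ := eigen_of_commute hF f hf hk hD hu huu kq
  obtain ⟨C, -, hC⟩ := eigen_of_commute hF f hf hk hD hv hvv kt
  have hα : α ≠ 0 := fun e => by
    subst e
    have hβ : β ≠ 0 := fun e' => hv (by rw [e', zero_smul, zero_smul, add_zero])
    exact htq (by rw [zero_smul, zero_add, pt_smul hF f huu hβ])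
  have hβ : β ≠ 0 := fun e => by
    subst e
    exact hta (by rw [zero_smul, add_zero, pt_smul hF f hpp hα])
  have hind : ∀ a b : F, a • p + b • u = 0 → a = 0 ∧ b = 0 := by
    intro a b hab
    have h' := vec_eq_of_add hF _ _ hab
    by_cases hb : b = 0
    · rw [hb, zero_smul, smul_eq_zero] at h'
      exact ⟨h'.resolve_right hp, hb⟩
    · exfalso
      have hu' : u = (b⁻¹ * a) • p := by
        rw [← smul_smul, h', smul_smul, inv_mul_cancel₀ hb, one_smul]
      have hba : b⁻¹ * a ≠ 0 := fun e => hu (by rw [hu', e, zero_smul])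
      exact hne (by rw [hu', pt_smul hF f hpp hba])
  rw [act_add hF, act_smul hF, act_smul hF, hA, hB, smul_smul, smul_smul, smul_add, smul_smul, smul_smul] at hC
  have h0 : (α * A + C * α) • p + (β * B + C * β) • u = 0 := by
    rw [add_smul, add_smul, add_add_add_comm, hC, vec_add_self hF]
  obtain ⟨e1, e2⟩ := hind _ _ h0
  have eA : A = C := mul_left_cancel₀ hα (by linear_combination e1 - add_self hF (C * α))
  have eB : B = C := mul_left_cancel₀ hβ (by linear_combination e2 - add_self hF (C * β))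
  refine commute_of_conj_eq ?_
  rw [conj_pt hF f g hww]
  have hC0 : C ≠ 0 := fun e => act_ne_zero hF g hp (by rw [hA, eA, e, zero_smul])
  have : act g (γ • p + δ • u) = C • (γ • p + δ • u) := by
    rw [act_add hF, act_smul hF, act_smul hF, hA, hB, eA, eB, smul_add, smul_comm C γ, smul_comm C δ]
  rw [this, pt_smul hF f hww hC0]

/-- An element fixing two points and moving the others of their line. -/
theorem line_move_frame : ∃ a q k : Y, a ∈ D ∧ q ∈ D ∧ a ≠ q ∧ Commute a q ∧ Commute k a ∧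
    Commute k q ∧ ∀ t ∈ D, t ≠ a → t ≠ q → Ln D a q t → ¬ Commute k t := by
  obtain ⟨ω, hω⟩ := exists_omega hF
  have hω0 : ω ≠ 0 := fun h => by rw [h] at hω; simp at hω
  have hω1 : ω ≠ 1 := fun h => by
    rw [h, one_pow, add_self hF] at hω; exact zero_ne_one hω
  have h3 := cube_one hF hω0
  obtain ⟨p, ep⟩ : ∃ p : Fin 6 → F, p = ![1, 1, 0, 0, 0, 0] := ⟨_, rfl⟩
  obtain ⟨u, eu⟩ : ∃ u : Fin 6 → F, u = ![0, 0, 1, 1, 0, 0] := ⟨_, rfl⟩
  have hp : p ≠ 0 := fun h => by simpa [ep] using congrFun h 0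
  have hu : u ≠ 0 := fun h => by simpa [eu] using congrFun h 2
  have hsum : ∀ x y : Fin 6 → F, hh x y = ∑ i, x i * y i ^ 2 := fun _ _ => rfl
  have hpp : hh p p = 0 := by simp [hsum, ep, Fin.sum_univ_succ, add_self hF]
  have huu : hh u u = 0 := by simp [hsum, eu, Fin.sum_univ_succ, add_self hF]
  have hpu : hh p u = 0 := by simp [hsum, ep, eu, Fin.sum_univ_succ]
  obtain ⟨d, ed⟩ : ∃ d : Fin 6 → F, d = ![1, 1, ω, ω, ω, 1] := ⟨_, rfl⟩
  let g : ↥(Cfsg.SU 6 F 2) := ⟨⟨Matrix.diagonal d, by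
      rw [Matrix.det_diagonal, ed]; simp [Fin.prod_univ_succ]; linear_combination h3⟩, fun x y => by
    show hh (Matrix.diagonal d *ᵥ x) (Matrix.diagonal d *ᵥ y) = hh x y
    rw [hsum, hsum]
    refine Finset.sum_congr rfl fun i _ => ?_
    have hd : d i * d i ^ 2 = 1 := by
      rw [ed]; fin_cases i <;> simp <;> linear_combination h3
    simp only [Matrix.mulVec_diagonal]
    linear_combination (x i * y i ^ 2) * hd⟩
  have hact : ∀ x, act g x = fun i => d i * x i := fun x => funext fun i => Matrix.mulVec_diagonal d x i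
  have gp : act g p = p := by rw [hact, ep, ed]; funext i; fin_cases i <;> simp
  have gu : act g u = ω • u := by rw [hact, eu, ed]; funext i; fin_cases i <;> simp
  refine ⟨pt hF f p, pt hF f u, f g, pt_mem hF f hf hk hD hp hpp, pt_mem hF f hf hk hD hu huu,
    fun e => ?_, (pt_commute hF f hk hp hu hpp huu).2 hpu,
    commute_of_conj_eq (by rw [conj_pt hF f g hpp, gp]),
    commute_of_conj_eq (by rw [conj_pt hF f g huu, gu, pt_smul hF f huu hω0]), ?_⟩
  · obtain ⟨c, -, hc⟩ := pt_eq hF f hk hp hpp huu e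
    simpa [ep, eu] using congrFun hc 0
  intro t ht hta htq hl hcom
  obtain ⟨v, hv, hvv, rfl⟩ := exists_pt hF f hf hk hD ht
  obtain ⟨α, β, rfl⟩ := Submodule.mem_span_pair.1 (ln_span hF f hf hk hD hp hu hv hpp huu hvv hpu hl)
  obtain ⟨C, -, hC⟩ := eigen_of_commute hF f hf hk hD hv hvv hcom
  rw [act_add hF, act_smul hF, act_smul hF, gp, gu] at hC
  have e0 := congrFun hC 0
  have e2 := congrFun hC 2
  simp [ep, eu] at e0 e2
  by_cases hα : α = 0
  · refine htq ?_
    subst hα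
    rw [zero_smul, zero_add, pt_smul hF f huu fun e => hv (by rw [e, zero_smul, zero_smul, add_zero])]
  by_cases hβ : β = 0
  · refine hta ?_
    subst hβ
    rw [zero_smul, add_zero, pt_smul hF f hpp hα]
  have hC1 : C = 1 := mul_right_cancel₀ hα (by linear_combination -e0)
  subst hC1
  exact hω1 (mul_right_cancel₀ hβ (by linear_combination e2))

/-- The centraliser of a transvection and `SU₄(2)`. -/
theorem stab_hom [Finite Y] [IsSimpleGroup Y] {a : Y} (ha : a ∈ D) :
    ∃ π : ↥(Subgroup.centralizer ({a} : Set Y)) →* ↥(Cfsg.SU 4 F 2), Function.Surjective π ∧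
      (∀ x : ↥(Subgroup.centralizer ({a} : Set Y)), (x : Y) = a → π x = 1) ∧
      (∀ x, π x = 1 → ∀ y, π y = 1 → (x : Y) * y * (x : Y)⁻¹ * (y : Y)⁻¹ ∈ Subgroup.zpowers a ∧
        (x : Y) ^ 2 ∈ Subgroup.zpowers a) ∧
      ∀ x y : ↥(Subgroup.centralizer ({a} : Set Y)), (x : Y) ∈ D → (y : Y) ∈ D → (x : Y) ≠ a → (y : Y) ≠ a → π x = π y →
        Ln D a (x : Y) (y : Y) := by
  classical
  obtain ⟨hP, -⟩ : (∀ u ∈ D, ∀ v ∈ D, ∃ g : Y, g * u * g⁻¹ = v) ∧ True :=
    ⟨fun u hu v hv => conj_all hF f hf hk hD hu hv, trivial⟩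
  obtain ⟨p, ep⟩ : ∃ p : Fin 6 → F, p = ![1, 1, 0, 0, 0, 0] := ⟨_, rfl⟩
  have hp : p ≠ 0 := fun h => by simpa [ep] using congrFun h 0
  have hsum : ∀ x y : Fin 6 → F, hh x y = ∑ i, x i * y i ^ 2 := fun _ _ => rfl
  have hpp : hh p p = 0 := by simp [hsum, ep, Fin.sum_univ_succ, add_self hF]
  obtain ⟨c, hc⟩ := hP _ ha _ (pt_mem hF f hf hk hD hp hpp)
  -- it is enough to treat `e₀ + e₁`
  suffices hmain : ∃ π : ↥(Subgroup.centralizer ({pt hF f p} : Set Y)) →* ↥(Cfsg.SU 4 F 2),
      Function.Surjective π ∧ (∀ x : ↥(Subgroup.centralizer ({pt hF f p} : Set Y)), (x : Y) = pt hF f p → π x = 1) ∧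
      (∀ x, π x = 1 → ∀ y, π y = 1 →
        (x : Y) * y * (x : Y)⁻¹ * (y : Y)⁻¹ ∈ Subgroup.zpowers (pt hF f p) ∧
        (x : Y) ^ 2 ∈ Subgroup.zpowers (pt hF f p)) ∧
      ∀ x y : ↥(Subgroup.centralizer ({pt hF f p} : Set Y)), (x : Y) ∈ D → (y : Y) ∈ D → (x : Y) ≠ pt hF f p → (y : Y) ≠ pt hF f p → π x = π y →
        Ln D (pt hF f p) (x : Y) (y : Y) by
    obtain ⟨π, h1, h2, h3, h4⟩ := hmain
    have hmem : ∀ x, x ∈ Subgroup.centralizer ({a} : Set Y) →
        c * x * c⁻¹ ∈ Subgroup.centralizer ({pt hF f p} : Set Y) := fun x hx => by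
      rw [Subgroup.mem_centralizer_singleton_iff] at hx ⊢
      rw [← hc]
      exact ((commute_conj_iff c x a).2 hx).eq
    let ι : ↥(Subgroup.centralizer ({a} : Set Y)) →* ↥(Subgroup.centralizer ({pt hF f p} : Set Y)) :=
      ((MulAut.conj c).toMonoidHom.comp (Subgroup.subtype _)).codRestrict _ fun x => hmem x x.2
    have hι : ∀ x, (ι x : Y) = c * x * c⁻¹ := fun _ => rfl
    have hz : ∀ g : Y, c * g * c⁻¹ ∈ Subgroup.zpowers (pt hF f p) → g ∈ Subgroup.zpowers a := by
      intro g hg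
      obtain ⟨n, hn⟩ := Subgroup.mem_zpowers_iff.1 hg
      refine Subgroup.mem_zpowers_iff.2 ⟨n, ?_⟩
      rw [← hc, conj_zpow] at hn
      exact mul_left_cancel (mul_right_cancel hn)
    refine ⟨π.comp ι, fun A => ?_, fun x hx => ?_, fun x hx y hy => ?_,
      fun x y hx hy hxa hya he => ?_⟩
    · obtain ⟨⟨y, hy⟩, hyA⟩ := h1 A
      rw [Subgroup.mem_centralizer_singleton_iff] at hy
      have hy' : Commute (c⁻¹ * y * c) a := by
        have := (commute_conj_iff c⁻¹ y (pt hF f p)).2 hy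
        rwa [← hc, inv_inv, show c⁻¹ * (c * a * c⁻¹) * c = a by group] at this
      refine ⟨⟨c⁻¹ * y * c, Subgroup.mem_centralizer_singleton_iff.2 hy'.eq⟩, ?_⟩
      rw [MonoidHom.comp_apply, ← hyA]
      exact congrArg π (Subtype.ext (by rw [hι]; group))
    · rw [MonoidHom.comp_apply]
      exact h2 _ (by rw [hι, hx, hc])
    · obtain ⟨k1, k2⟩ := h3 _ hx _ hy
      rw [hι, hι] at k1
      rw [hι] at k2
      refine ⟨hz _ ?_, hz _ ?_⟩
      · convert k1 using 1; group
      · convert k2 using 1; rw [pow_two, pow_two]; group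
    · have := h4 (ι x) (ι y) (hD.2.1 c _ hx) (hD.2.1 c _ hy)
        (fun e => hxa (mul_left_cancel (mul_right_cancel (e.trans hc.symm))))
        (fun e => hya (mul_left_cancel (mul_right_cancel (e.trans hc.symm)))) he
      intro z hzD za zx
      rw [hι, hι] at this
      refine (commute_conj_iff c z (y : Y)).1 (this _ (hD.2.1 c z hzD) ?_ ((commute_conj_iff c z x).2 zx))
      rw [← hc]; exact (commute_conj_iff c z a).2 za
  -- the stabiliser of the vector
  let St : Subgroup ↥(Cfsg.SU 6 F 2) :=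
    { carrier := {g | act g p = p}
      one_mem' := act_one p
      mul_mem' := fun {g k} hg hk => by
        show act (g * k) p = p
        rw [act_mul, (hk : act k p = p), (hg : act g p = p)]
      inv_mem' := fun {g} hg => by
        have := act_inv g p
        rwa [(hg : act g p = p)] at this }
  obtain ⟨T, eT⟩ : ∃ T : Subgroup ↥(Cfsg.SU 6 F 2), T = Subgroup.closure
      {g | ∃ v, v ≠ 0 ∧ hh v v = 0 ∧ hh v p = 0 ∧ g = tv hF v} := ⟨_, rfl⟩
  have hT : T ≤ St := by
    rw [eT, Subgroup.closure_le]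
    rintro _ ⟨v, -, hvv, hvp, rfl⟩
    show act _ p = p
    rw [tv_act hF hvv, hh_symm_zero hF hvp, zero_smul, add_zero]
  have hlift : ∀ y, Commute y (pt hF f p) → ∃ g ∈ T, f g = y := by
    intro y hy
    have hy' := stab_generated hF f hf hk hD (pt_mem hF f hf hk hD hp hpp) hy
    have hle : Subgroup.closure {e : Y | e ∈ D ∧ Commute (pt hF f p) e} ≤ T.map f := by
      rw [Subgroup.closure_le]
      rintro e ⟨he, hpe⟩
      obtain ⟨v, hv, hvv, rfl⟩ := exists_pt hF f hf hk hD he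
      refine ⟨tv hF v, ?_, rfl⟩
      rw [eT]
      exact Subgroup.subset_closure ⟨v, hv, hvv,
        hh_symm_zero hF ((pt_commute hF f hk hp hv hpp hvv).1 hpe), rfl⟩
    exact hle hy'
  have hinj : ∀ g ∈ St, f g = 1 → g = 1 := by
    intro g hg hg1
    obtain ⟨c, -, hc⟩ := CfsgLib.KnownC.UnitarySpectrum.scalar_of_mk_eq_one hF (by norm_num)
      g ((QuotientGroup.eq_one_iff _).2 ((map_eq_one_iff' hF f hk).1 hg1))
    have hcx : ∀ x, act g x = c • x := fun x => by
      show suVal g *ᵥ x = _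
      rw [show suVal g = c • (1 : Matrix (Fin 6) (Fin 6) F) from hc, Matrix.smul_mulVec,
        Matrix.one_mulVec]
    have hc1 : c = 1 := by
      have := congrFun ((hcx p).symm.trans hg) 0
      simpa [ep] using this
    exact act_ext fun x => by rw [hcx, hc1, one_smul, act_one]
  have hfp : ∀ g ∈ St, Commute (f g) (pt hF f p) := fun g hg =>
    commute_of_conj_eq (by rw [conj_pt hF f g hpp, (hg : act g p = p)])
  have hStT : St ≤ T := by
    intro g hg
    obtain ⟨g', hg', e⟩ := hlift _ (hfp g hg)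
    have := hinj (g'⁻¹ * g) (mul_mem (inv_mem (hT hg')) hg) (by
      rw [map_mul, map_inv, e, inv_mul_cancel])
    rwa [← inv_mul_eq_one.1 this]
  -- the action on the perpendicular space modulo the vector
  have hdec : ∀ x, hh x p = 0 → x = x 0 • p + pad (0 : Fin 6 → F) (low x) := by
    intro x hx
    simp [hsum, ep, Fin.sum_univ_succ] at hx
    have hx1 : x 1 = x 0 := by linear_combination hx - add_self hF (x 0)
    funext i; fin_cases i <;> simp [pad, low, ep, hx1]
  have hpadp : ∀ z, hh (pad (0 : Fin 6 → F) z) p = 0 := fun z => by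
    simp [hsum, pad, ep, Fin.sum_univ_succ]
  have hlowp : low p = (0 : Fin 4 → F) := by funext i; fin_cases i <;> simp [low, ep]
  have hlow_add : ∀ x y : Fin 6 → F, low (x + y) = low x + low y := fun x y => by
    funext i; fin_cases i <;> simp [low]
  have hlow_smul : ∀ (c : F) (x : Fin 6 → F), low (c • x) = c • low x := fun c x => by
    funext i; fin_cases i <;> simp [low]
  let B : ↥St → Matrix (Fin 4) (Fin 4) F := fun g => Matrix.of fun i j =>
    act (g : ↥(Cfsg.SU 6 F 2)) (Pi.single (Fin.natAdd 2 j) 1) (Fin.natAdd 2 i)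
  have hB : ∀ (g : ↥St) (z : Fin 4 → F),
      B g *ᵥ z = low (act (g : ↥(Cfsg.SU 6 F 2)) (pad 0 z)) := by
    intro g z
    have hz : pad (0 : Fin 6 → F) z =
        ∑ j : Fin 4, z j • (Pi.single (Fin.natAdd 2 j) 1 : Fin 6 → F) := by
      rw [Fin.sum_univ_four, show Fin.natAdd 2 (0 : Fin 4) = (2 : Fin 6) from rfl,
        show Fin.natAdd 2 (1 : Fin 4) = (3 : Fin 6) from rfl,
        show Fin.natAdd 2 (2 : Fin 4) = (4 : Fin 6) from rfl,
        show Fin.natAdd 2 (3 : Fin 4) = (5 : Fin 6) from rfl]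
      funext i
      fin_cases i <;> simp [pad]
    funext i
    rw [hz, low_apply]
    simp only [act, mulVec_sum, mulVec_smul, Finset.sum_apply, Pi.smul_apply, smul_eq_mul]
    show ∑ j, B g i j * z j = _
    exact Finset.sum_congr rfl fun j _ => mul_comm _ _
  have hgp : ∀ g : ↥St, act (g : ↥(Cfsg.SU 6 F 2)) p = p := fun g => g.2
  have hperp : ∀ (g : ↥St) x, hh x p = 0 → hh (act (g : ↥(Cfsg.SU 6 F 2)) x) p = 0 := by
    intro g x hx
    conv_lhs => rw [← hgp g]
    rw [hh_act]; exact hx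
  have hpadact : ∀ (g : ↥St) z, ∃ t : F,
      act (g : ↥(Cfsg.SU 6 F 2)) (pad 0 z) = t • p + pad 0 (B g *ᵥ z) := fun g z =>
    ⟨_, by rw [hB]; exact hdec _ (hperp g _ (hpadp z))⟩
  have hlowact : ∀ (g : ↥St) x, hh x p = 0 →
      low (act (g : ↥(Cfsg.SU 6 F 2)) x) = B g *ᵥ low x := by
    intro g x hx
    conv_lhs => rw [hdec x hx]
    rw [act_add hF, act_smul hF, hgp, hlow_add, hlow_smul, hlowp, smul_zero, zero_add, ← hB]
  have hmul : ∀ g k : ↥St, B (g * k) = B g * B k := fun g k =>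
    Matrix.toLin'.injective (LinearMap.ext fun z => by
      simp only [Matrix.toLin'_apply, ← mulVec_mulVec]
      rw [hB, show ((g * k : ↥St) : ↥(Cfsg.SU 6 F 2)) = g * k from rfl, act_mul,
        hlowact g _ (hperp k _ (hpadp z)), ← hB])
  have hone : B 1 = 1 := Matrix.toLin'.injective (LinearMap.ext fun z => by
    simp only [Matrix.toLin'_apply, Matrix.one_mulVec]
    rw [hB, show ((1 : ↥St) : ↥(Cfsg.SU 6 F 2)) = 1 from rfl, act_one, low_pad])
  let Bh : ↥St →* Matrix (Fin 4) (Fin 4) F := { toFun := B, map_one' := hone, map_mul' := hmul }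
  have hdet : ∀ g : ↥St, (B g).det = 1 := by
    intro g
    have key : ∀ x (hx : x ∈ T), (B ⟨x, hT hx⟩).det = 1 := by
      intro x hx
      have hx' := hx
      rw [eT] at hx'
      induction hx' using Subgroup.closure_induction with
      | mem u hu =>
        obtain ⟨v, -, hvv, -, rfl⟩ := hu
        have h2 : B ⟨_, hT hx⟩ * B ⟨_, hT hx⟩ = 1 := by
          rw [← hmul, ← hone]
          exact congrArg B (Subtype.ext (tv_sq hF hvv))
        have h3 := congrArg Matrix.det h2
        rw [Matrix.det_mul, Matrix.det_one] at h3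
        have h4 : ((B ⟨_, hT hx⟩).det - 1) ^ 2 = 0 := by
          linear_combination h3 + (1 - (B ⟨_, hT hx⟩).det) * add_self hF 1
        exact sub_eq_zero.1 (pow_eq_zero_iff two_ne_zero |>.1 h4)
      | one => exact (congrArg Matrix.det hone).trans Matrix.det_one
      | mul x y hx1 hy1 h1 h2 =>
        have e := hmul ⟨x, hT (eT ▸ hx1)⟩ ⟨y, hT (eT ▸ hy1)⟩
        have := congrArg Matrix.det e
        rw [Matrix.det_mul, h1 (eT ▸ hx1), h2 (eT ▸ hy1), one_mul] at this
        exact this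
      | inv x hx1 h1 =>
        have e := hmul ⟨x⁻¹, hT hx⟩ ⟨x, hT (eT ▸ hx1)⟩
        have := congrArg Matrix.det e
        rw [Matrix.det_mul, h1 (eT ▸ hx1), mul_one] at this
        rw [← this]
        refine (congrArg Matrix.det ?_).trans Matrix.det_one
        rw [← hone]
        exact congrArg B (Subtype.ext (inv_mul_cancel x))
    exact key g (hStT g.2)
  have hherm : ∀ (g : ↥St) z z',
      Cfsg.hermForm 4 F 2 (B g *ᵥ z) (B g *ᵥ z') = Cfsg.hermForm 4 F 2 z z' := by
    intro g z z'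
    obtain ⟨t, ht⟩ := hpadact g z
    obtain ⟨t', ht'⟩ := hpadact g z'
    have h1 := hh_act (g : ↥(Cfsg.SU 6 F 2)) (pad 0 z) (pad 0 z')
    rw [ht, ht', hh_add_left hF, hh_add_right hF, hh_add_right hF, hh_smul_left hF,
      hh_smul_left hF, hh_smul_right hF, hh_smul_right hF, hpp, hpadp,
      hh_symm_zero hF (hpadp _), hh_pad hF, hh_pad hF] at h1
    simpa using h1
  let Φ : ↥St →* ↥(Cfsg.SU 4 F 2) :=
    { toFun := fun g => ⟨⟨B g, hdet g⟩, hherm g⟩
      map_one' := Subtype.ext (Subtype.ext hone)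
      map_mul' := fun g k => Subtype.ext (Subtype.ext (hmul g k)) }
  have hΦ : ∀ g, suVal (Φ g) = B g := fun _ => rfl
  -- back to the centraliser
  have hcard : ∀ y : ↥(Subgroup.centralizer ({pt hF f p} : Set Y)), ∃ g : ↥St, f g = (y : Y) := by
    intro y
    obtain ⟨g, hg, e⟩ := hlift _ (Subgroup.mem_centralizer_singleton_iff.1 y.2)
    exact ⟨⟨g, hT hg⟩, e⟩
  choose s hs using hcard
  have huniq : ∀ g k : ↥St, f g = f k → g = k := fun g k e => by
    have := hinj ((g : ↥(Cfsg.SU 6 F 2))⁻¹ * k) (mul_mem (inv_mem g.2) k.2) (by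
      rw [map_mul, map_inv, e, inv_mul_cancel])
    exact Subtype.ext (inv_mul_eq_one.1 this)
  let σ : ↥(Subgroup.centralizer ({pt hF f p} : Set Y)) →* ↥St :=
    MonoidHom.mk' s fun x y => huniq _ _ (by
      rw [hs, show ((s x * s y : ↥St) : ↥(Cfsg.SU 6 F 2)) = s x * s y from rfl, map_mul, hs, hs]
      rfl)
  have hσ : ∀ x, f (σ x) = (x : Y) := hs
  refine ⟨Φ.comp σ, fun A => ?_, fun x hx => ?_, fun x hx y hy => ?_,
    fun x y hxD hyD hxp hyp he => ?_⟩
  · have hm : blkHom hF A ∈ St := by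
      show act _ p = p
      rw [blkHom_act hF, hlowp, mulVec_zero]
      funext i; fin_cases i <;> simp [pad, ep]
    refine ⟨⟨f (blkHom hF A), Subgroup.mem_centralizer_singleton_iff.2 (hfp _ hm).eq⟩, ?_⟩
    rw [MonoidHom.comp_apply, huniq (σ _) ⟨_, hm⟩ (hσ _)]
    refine suVal_injective (Matrix.toLin'.injective (LinearMap.ext fun z => ?_))
    simp only [Matrix.toLin'_apply, hΦ, hB]
    rw [blkHom_act hF, low_pad, low_pad]
  · have hm : tv hF p ∈ St := by
      show act _ p = p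
      rw [tv_act hF hpp, hpp, zero_smul, add_zero]
    rw [MonoidHom.comp_apply, huniq (σ x) ⟨_, hm⟩ ((hσ x).trans hx)]
    refine suVal_injective (Matrix.toLin'.injective (LinearMap.ext fun z => ?_))
    simp only [Matrix.toLin'_apply, hΦ, hB, map_one, Matrix.one_mulVec]
    rw [tv_act hF hpp, hpadp, zero_smul, add_zero, low_pad]
  · -- elements of the kernel
    have hker : ∀ g : ↥St, Φ g = 1 → ∀ z, hh z p = 0 → ∃ t : F,
        act (g : ↥(Cfsg.SU 6 F 2)) z = z + t • p := by
      intro g hg z hz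
      have hBg : B g = 1 := by rw [← hΦ, hg, map_one]
      refine ⟨act (g : ↥(Cfsg.SU 6 F 2)) z 0 + z 0, ?_⟩
      conv_lhs => rw [hdec _ (hperp g z hz)]
      conv_rhs => arg 1; rw [hdec z hz]
      rw [hlowact g z hz, hBg, Matrix.one_mulVec, add_smul]
      rw [show z 0 • p + pad 0 (low z) + (act (g : ↥(Cfsg.SU 6 F 2)) z 0 • p + z 0 • p) =
        act (g : ↥(Cfsg.SU 6 F 2)) z 0 • p + pad 0 (low z) + (z 0 • p + z 0 • p) by abel,
        vec_add_self hF, add_zero]
    have hfix : ∀ g : ↥St, (∀ z, hh z p = 0 → act (g : ↥(Cfsg.SU 6 F 2)) z = z) →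
        (g : ↥(Cfsg.SU 6 F 2)) = 1 ∨ (g : ↥(Cfsg.SU 6 F 2)) = tv hF p := by
      intro g hg
      obtain ⟨r, hr, hr1⟩ := exists_hh hF (S := ⊥) (r := p) (by simpa using hp)
      obtain ⟨δ, eδ⟩ : ∃ δ, δ = act (g : ↥(Cfsg.SU 6 F 2)) r + r := ⟨_, rfl⟩
      have hgr : act (g : ↥(Cfsg.SU 6 F 2)) r = r + δ := by
        rw [eδ, add_comm r, add_assoc, vec_add_self hF, add_zero]
      have hδ : ∀ z, hh z p = 0 → hh δ z = 0 := by
        intro z hz
        have h1 := hh_act (g : ↥(Cfsg.SU 6 F 2)) r z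
        rw [hg z hz] at h1
        rw [eδ, hh_add_left hF, h1, add_self hF]
      have hδp : δ ∈ Submodule.span F ({p} : Set (Fin 6 → F)) := by
        by_contra hn
        obtain ⟨x, hx, hx'⟩ := exists_hh hF hn
        have := hδ x (hx p (Submodule.mem_span_singleton_self p))
        rw [hh_symm_zero hF this] at hx'
        exact zero_ne_one hx'
      obtain ⟨β, rfl⟩ := Submodule.mem_span_singleton.1 hδp
      have h1 := hh_act (g : ↥(Cfsg.SU 6 F 2)) r r
      rw [hgr, hh_add_left hF, hh_add_right hF, hh_add_right hF, hh_smul_left hF, hh_smul_left hF,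
        hh_smul_right hF, hh_smul_right hF, hr1, hh_symm_one hF hr1, hpp] at h1
      have hβ : β ^ 2 = β := by linear_combination h1 - add_self hF β
      have hgen : ∀ x, act (g : ↥(Cfsg.SU 6 F 2)) x = x + (β * hh x p) • p := by
        intro x
        have hxr : hh (x + hh x p • r) p = 0 := by
          rw [hh_add_left hF, hh_smul_left hF, hr1, mul_one, add_self hF]
        have h2 := hg _ hxr
        rw [act_add hF, act_smul hF, hgr, smul_add, smul_smul] at h2
        calc act (g : ↥(Cfsg.SU 6 F 2)) x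
            = act (g : ↥(Cfsg.SU 6 F 2)) x + (hh x p • r + (hh x p * β) • p) +
                (hh x p • r + (hh x p * β) • p) := by rw [add_assoc, vec_add_self hF, add_zero]
          _ = x + hh x p • r + (hh x p • r + (hh x p * β) • p) := by rw [h2]
          _ = x + (β * hh x p) • p := by
            rw [add_assoc, ← add_assoc (hh x p • r), vec_add_self hF, zero_add, mul_comm]
      rcases fixed hF hβ with rfl | rfl
      · exact Or.inl (act_ext fun x => by rw [hgen, zero_mul, zero_smul, add_zero, act_one])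
      · exact Or.inr (act_ext fun x => by rw [hgen, one_mul, tv_act hF hpp])
    have hfin : ∀ g : ↥St, (∀ z, hh z p = 0 → act (g : ↥(Cfsg.SU 6 F 2)) z = z) →
        f g ∈ Subgroup.zpowers (pt hF f p) := by
      intro g hg
      rcases hfix g hg with e | e <;> rw [e]
      · rw [map_one]; exact one_mem _
      · exact Subgroup.mem_zpowers _
    have hx1 := hker (σ x) hx
    have hy1 := hker (σ y) hy
    constructor
    · rw [← hσ x, ← hσ y, ← map_inv, ← map_inv, ← map_mul, ← map_mul, ← map_mul]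
      refine hfin (σ x * σ y * (σ x)⁻¹ * (σ y)⁻¹) fun z hz => ?_
      obtain ⟨g, eg⟩ : ∃ g : ↥(Cfsg.SU 6 F 2), g = σ x := ⟨_, rfl⟩
      obtain ⟨k, ek⟩ : ∃ k : ↥(Cfsg.SU 6 F 2), k = σ y := ⟨_, rfl⟩
      show act (((σ x : ↥St) : ↥(Cfsg.SU 6 F 2)) * ((σ y : ↥St) : ↥(Cfsg.SU 6 F 2)) * ((σ x : ↥St) : ↥(Cfsg.SU 6 F 2))⁻¹ *
        ((σ y : ↥St) : ↥(Cfsg.SU 6 F 2))⁻¹) z = z
      rw [← eg, ← ek]
      have gp : act g p = p := eg ▸ hgp (σ x)
      have kp : act k p = p := ek ▸ hgp (σ y)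
      have comm : ∀ w, hh w p = 0 → act (g * k) w = act (k * g) w := by
        intro w hw
        obtain ⟨s₁, e₁⟩ := hx1 w hw
        obtain ⟨s₂, e₂⟩ := hy1 w hw
        rw [← eg] at e₁
        rw [← ek] at e₂
        rw [act_mul, act_mul, e₁, e₂, act_add hF, act_add hF, act_smul hF, act_smul hF, e₁, e₂, gp, kp]
        abel
      have hw : hh (act (k * g)⁻¹ z) p = 0 := by
        have hkgp : act (k * g) p = p := by rw [act_mul, gp, kp]
        have h0 := act_inv (k * g) p
        rw [hkgp] at h0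
        conv_lhs => rw [← h0]
        rw [hh_act]; exact hz
      rw [show g * k * g⁻¹ * k⁻¹ = (g * k) * (k * g)⁻¹ by group, act_mul, comm _ hw, ← act_mul,
        mul_inv_cancel, act_one]
    · rw [← hσ x, ← map_pow]
      refine hfin (σ x ^ 2) fun z hz => ?_
      obtain ⟨g, eg⟩ : ∃ g : ↥(Cfsg.SU 6 F 2), g = σ x := ⟨_, rfl⟩
      show act (((σ x : ↥St) : ↥(Cfsg.SU 6 F 2)) ^ 2) z = z
      rw [← eg]
      obtain ⟨s₁, e₁⟩ := hx1 z hz
      rw [← eg] at e₁
      rw [pow_two, act_mul, e₁, act_add hF, act_smul hF, e₁, show act g p = p from eg ▸ hgp (σ x),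
        add_assoc, vec_add_self hF, add_zero]
  · obtain ⟨u, hu, huu, eu⟩ := exists_pt hF f hf hk hD hxD
    obtain ⟨v, hv, hvv, ev⟩ := exists_pt hF f hf hk hD hyD
    have hup : hh u p = 0 := by
      have := Subgroup.mem_centralizer_singleton_iff.1 x.2
      rw [eu] at this
      exact (pt_commute hF f hk hu hp huu hpp).1 this
    have hvp : hh v p = 0 := by
      have := Subgroup.mem_centralizer_singleton_iff.1 y.2
      rw [ev] at this
      exact (pt_commute hF f hk hv hp hvv hpp).1 this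
    have hmu : ∀ {w : Fin 6 → F}, hh w w = 0 → hh w p = 0 → tv hF w ∈ St := fun {w} hww hwp => by
      show act _ p = p
      rw [tv_act hF hww, hh_symm_zero hF hwp, zero_smul, add_zero]
    rw [MonoidHom.comp_apply, MonoidHom.comp_apply, huniq (σ x) ⟨_, hmu huu hup⟩ ((hσ x).trans eu),
      huniq (σ y) ⟨_, hmu hvv hvp⟩ ((hσ y).trans ev)] at he
    have hBe := (hΦ _).symm.trans ((congrArg suVal he).trans (hΦ _))
    have hval : ∀ {w : Fin 6 → F} (hww : hh w w = 0) (hwp : hh w p = 0) (z : Fin 4 → F),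
        B ⟨_, hmu hww hwp⟩ *ᵥ z = z + hh (pad 0 z) w • low w := by
      intro w hww hwp z
      rw [hB]
      show low (act (tv hF w) _) = _
      rw [tv_act hF hww, hlow_add, hlow_smul, low_pad]
    have hupan : u ∉ Submodule.span F ({p} : Set (Fin 6 → F)) := fun hm => by
      obtain ⟨c, rfl⟩ := Submodule.mem_span_singleton.1 hm
      exact hxp (by rw [eu, pt_smul hF f hpp fun e => hu (by rw [e, zero_smul])])
    obtain ⟨w, hw, hw1⟩ := exists_hh hF hupan
    have hwp : hh w p = 0 := hw p (Submodule.mem_span_singleton_self p)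
    have hwu : hh (pad 0 (low w)) u = 1 := by
      rw [hdec w hwp, hh_add_left hF, hh_smul_left hF, hh_symm_zero hF hup, mul_zero, zero_add] at hw1
      exact hw1
    have h5 := congrArg (fun M => M *ᵥ low w) hBe
    try simp only at h5
    rw [hval huu hup, hval hvv hvp, hwu, one_smul] at h5
    have hlu : low u = hh (pad 0 (low w)) v • low v := add_left_cancel h5
    have hspan : u ∈ Submodule.span F ({p, v} : Set (Fin 6 → F)) := by
      rw [Submodule.mem_span_pair]
      generalize hh (pad 0 (low w)) v = cc at hlu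
      refine ⟨u 0 + cc * v 0, cc, ?_⟩
      conv_rhs => rw [hdec u hup, hlu]
      rw [hdec v hvp]
      funext i
      fin_cases i <;> simp [pad, low, ep] <;>
        linear_combination add_self hF (cc * v 0)
    intro z hzD za zx
    obtain ⟨Z, hZ, hZZ, rfl⟩ := exists_pt hF f hf hk hD hzD
    rw [pt_commute hF f hk hZ hp hZZ hpp] at za
    rw [eu, pt_commute hF f hk hZ hu hZZ huu] at zx
    rw [ev, pt_commute hF f hk hZ hv hZZ hvv]
    obtain ⟨α, β, rfl⟩ := Submodule.mem_span_pair.1 hspan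
    rw [hh_add_right hF, hh_smul_right hF, hh_smul_right hF, za, mul_zero, zero_add] at zx
    refine (mul_eq_zero.1 zx).resolve_left fun e => ?_
    have hb : β = 0 := (pow_eq_zero_iff two_ne_zero).1 e
    exact hupan (Submodule.mem_span_singleton.2 ⟨α, by rw [hb, zero_smul, add_zero]⟩)

end Model

section Wrap

variable {G : Type*} [Group G] [Finite G] {D : Set G} (hU : IsU6 G)
  (hD : Cfsg.IsThreeTranspositionGroup D)
include hU hD

theorem u6_line_fix {a q t t' k : G} (ha : a ∈ D) (hq : q ∈ D) (ht : t ∈ D) (ht' : t' ∈ D)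
    (haq : Commute a q) (hne : a ≠ q) (hta : t ≠ a) (htq : t ≠ q) (l : Ln D a q t) (l' : Ln D a q t')
    (ka : Commute k a) (kq : Commute k q) (kt : Commute k t) : Commute k t' := by
  obtain ⟨F, _, _, f, hF, hf, hk⟩ := exists_model hU hD
  exact line_fix hF f hf hk hD ha hq ht ht' haq hne hta htq l l' ka kq kt

theorem u6_line_move {a q : G} (ha : a ∈ D) (hq : q ∈ D) (haq : Commute a q) (hne : a ≠ q) :
    ∃ k : G, Commute k a ∧ Commute k q ∧
      ∀ t ∈ D, t ≠ a → t ≠ q → Ln D a q t → ¬ Commute k t := by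
  obtain ⟨F, _, _, f, hF, hf, hk⟩ := exists_model hU hD
  obtain ⟨a₀, q₀, k, ha₀, hq₀, hne₀, hc₀, k1, k2, k3⟩ := line_move_frame hF f hf hk hD
  obtain ⟨hP, hw⟩ := u6_prim hU hD
  obtain ⟨g₁, hg₁⟩ := hP.1 a₀ ha₀ a ha
  obtain ⟨g₂, hg₂, hg₂'⟩ := trans_comm hD hP hw ha (hD.2.1 g₁ q₀ hq₀)
    (fun e => hne₀ (mul_left_cancel (mul_right_cancel (hg₁.trans e.symm))))
    (hg₁ ▸ (commute_conj_iff g₁ a₀ q₀).2 hc₀) hq (Ne.symm hne) haq
  obtain ⟨g, eg⟩ : ∃ g, g = g₂ * g₁ := ⟨_, rfl⟩
  have ea : g * a₀ * g⁻¹ = a := by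
    rw [eg]; conv_rhs => rw [← hg₂, ← hg₁]
    group
  have eq' : g * q₀ * g⁻¹ = q := by rw [eg, ← hg₂']; group
  refine ⟨g * k * g⁻¹, ea ▸ (commute_conj_iff g k a₀).2 k1, eq' ▸ (commute_conj_iff g k q₀).2 k2,
    fun t ht hta htq hl hcom => ?_⟩
  have back : ∀ x y : G, Commute (g⁻¹ * x * g) y → Commute x (g * y * g⁻¹) := fun x y h => by
    have := (commute_conj_iff g _ y).2 h
    rwa [show g * (g⁻¹ * x * g) * g⁻¹ = x by group] at this
  refine k3 (g⁻¹ * t * g) (by simpa using hD.2.1 g⁻¹ t ht) (fun e => hta ?_) (fun e => htq ?_)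
    (fun z hz za zq => ?_) ?_
  · rw [← ea, ← e]; group
  · rw [← eq', ← e]; group
  · have := hl (g * z * g⁻¹) (hD.2.1 g z hz) (ea ▸ (commute_conj_iff g z a₀).2 za)
      (eq' ▸ (commute_conj_iff g z q₀).2 zq)
    refine (commute_conj_iff g z _).1 ?_
    rwa [show g * (g⁻¹ * t * g) * g⁻¹ = t by group]
  · refine (commute_conj_iff g k _).1 ?_
    rwa [show g * (g⁻¹ * t * g) * g⁻¹ = t by group]

theorem u6_stab_hom {a : G} (ha : a ∈ D) : ∃ (F : Type) (_ : Field F) (_ : Fintype F),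
    Fintype.card F = 4 ∧ ∃ π : ↥(Subgroup.centralizer ({a} : Set G)) →* Cfsg.PSU 4 F 2,
      Function.Surjective π ∧ (∀ x : ↥(Subgroup.centralizer ({a} : Set G)), (x : G) = a → π x = 1) ∧
      (∀ x, π x = 1 → ∀ y, π y = 1 → (x : G) * y * (x : G)⁻¹ * (y : G)⁻¹ ∈ Subgroup.zpowers a ∧
        (x : G) ^ 2 ∈ Subgroup.zpowers a) ∧
      ∀ x y : ↥(Subgroup.centralizer ({a} : Set G)), (x : G) ∈ D → (y : G) ∈ D → (x : G) ≠ a → (y : G) ≠ a → π x = π y →
        Ln D a (x : G) (y : G) := by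
  haveI : IsSimpleGroup G := by
    obtain ⟨F, i₁, i₂, hF4, ⟨e⟩⟩ := id hU
    have hF4' : Fintype.card F = 2 ^ 2 := hF4
    haveI := CfsgLib.Classical.isSimpleGroup_psu hF4' (n := 6) (by norm_num) (by norm_num)
    exact e.isSimpleGroup
  obtain ⟨F, iF, iFt, f, hF, hf, hk⟩ := exists_model hU hD
  obtain ⟨π, h1, h2, h3, h4⟩ := stab_hom hF f hf hk hD ha
  have hz := center_su_four hF
  let e : ↥(Cfsg.SU 4 F 2) ≃* Cfsg.PSU 4 F 2 :=
    (((QuotientGroup.quotientMulEquivOfEq hz).trans QuotientGroup.quotientBot)).symm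
  refine ⟨F, iF, iFt, hF, e.toMonoidHom.comp π, e.surjective.comp h1,
    fun x hx => (congrArg e (h2 x hx)).trans (map_one e), fun x hx y hy => ?_,
    fun x y a1 a2 a3 a4 he => h4 x y a1 a2 a3 a4 (e.injective he)⟩
  exact h3 x (e.map_eq_one_iff.1 hx) y (e.map_eq_one_iff.1 hy)

end Wrap

end CfsgLib.Trans3.Fi
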