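import Cfsg.Agent.Lib.Trans3.Fi.M23Order
import Cfsg.Agent.Lib.Trans3.Fi.U6Rad
import Cfsg.Agent.Lib.KnownC.AutPSpOut
import Cfsg.Agent.S0822

/-!
A group of type M(22): hexads, and the centraliser of a product of two commuting members as an
extension of a group of order `2¹⁰` by the automorphism group of `PSU₄(2)`.
-/

set_option autoImplicit false
set_option linter.unusedSectionVars false
set_option linter.style.haveILetI false

namespace CfsgLib.Trans3.Fi

theorem card_aut_psu_four {F : Type} [Field F] [Fintype F] (hF : Fintype.card F = 4) :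
    Nat.card (MulAut (Cfsg.PSU 4 F 2)) = 51840 := by
  haveI : Fact (Nat.Prime 3) := ⟨Nat.prime_three⟩
  have hK : Fintype.card (ZMod 3) = 3 := ZMod.card 3
  obtain ⟨e⟩ := Cfsg.Agent.S0822.result (F := F) (K := ZMod 3) hF hK
  have hF' : Fintype.card F = 2 ^ 2 := hF
  have hz := center_su_four hF'
  have hpsu : Nat.card (Cfsg.PSU 4 F 2) = 25920 := by
    rw [← card_su_four hF']
    exact Nat.card_congr ((QuotientGroup.quotientMulEquivOfEq hz).trans QuotientGroup.quotientBot).toEquiv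
  have h1 := CfsgLib.KnownC.card_mulAut_psp (F := ZMod 3) (m := 2) le_rfl (Or.inl (show (2 : ZMod 3) ≠ 0 by decide +revert))
  have hR : Nat.card (ZMod 3 ≃+* ZMod 3) = 1 := by
    haveI : Subsingleton (ZMod 3 ≃+* ZMod 3) :=
      ⟨fun a b => RingEquiv.toRingHom_injective (RingHom.ext_zmod _ _)⟩
    exact Nat.card_of_subsingleton (RingEquiv.refl _)
  have hu : Nat.card (ZMod 3)ˣ = 2 := by
    rw [Nat.card_units, Nat.card_eq_fintype_card, hK]
  rw [hR, hu, ← Nat.card_congr e.toEquiv, hpsu] at h1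
  have e' : MulAut (Cfsg.PSU 4 F 2) ≃ MulAut (Cfsg.PSp 2 (ZMod 3)) :=
    { toFun := fun φ => (e.symm.trans φ).trans e
      invFun := fun ψ => (e.trans ψ).trans e.symm
      left_inv := fun φ => by ext x; simp
      right_inv := fun ψ => by ext x; simp }
  rw [Nat.card_congr e', h1]
  norm_num

/-- `τ` fixes exactly one point. -/
def OneFix (τ : Equiv.Perm (Fin 4)) : Prop := ∃ i, τ i = i ∧ ∀ j, j ≠ i → τ j ≠ j

instance : DecidablePred OneFix := fun τ =>
  inferInstanceAs (Decidable (∃ i, τ i = i ∧ ∀ j, j ≠ i → τ j ≠ j))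

theorem oneFix_unique : ∀ (i : Fin 4) (σ τ : Equiv.Perm (Fin 4)),
    (σ i = i ∧ ∀ j, j ≠ i → σ j ≠ j) → (τ i = i ∧ ∀ j, j ≠ i → τ j ≠ j) → τ = σ ∨ τ = σ⁻¹ := by
  decide +kernel

theorem perm_four_cases : ∀ σ : Equiv.Perm (Fin 4),
    (∃ a, OneFix a ∧ ∃ b, OneFix b ∧ σ * a * b = 1) ∨
    (∃ τ, OneFix τ ∧ (τ * σ * τ⁻¹ * σ⁻¹) ^ 3 = 1 ∧ τ * σ * τ⁻¹ * σ⁻¹ ≠ 1) := by
  decide +kernel

theorem perm_cube_pow {c : Equiv.Perm (Fin 4)} (h3 : c ^ 3 = 1) (h2 : c ^ 1024 = 1) : c = 1 := by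
  rw [show 1024 = 3 * 341 + 1 by norm_num, pow_add, pow_mul, h3, one_pow, one_mul, pow_one] at h2
  exact h2

variable {G : Type*} [Group G] [Finite G] {D : Set G}
variable (hD : Cfsg.IsThreeTranspositionGroup D) (hP : Cfsg.IsPrimitiveUnderConj D)
variable (h : Cfsg.IsOfTypeM22 G D)
include hD hP h

/-- The other three members of the hexad of three commuting members. -/
theorem m22_hexad {a b c : G} (ha : a ∈ D) (hb : b ∈ nbrs D a) (hc : c ∈ nbrs D a)
    (hbc : b ≠ c) (hcomm : Commute b c) :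
    ∃ t₁ t₂ t₃ : G, Fac D 3 (a * b * c) [t₁, t₂, t₃] ∧
      (∀ t ∈ [t₁, t₂, t₃], t ≠ a ∧ t ≠ b ∧ t ≠ c) ∧
      (∀ t ∈ [t₁, t₂, t₃], ∀ z ∈ D, Commute z a → Commute z b → Commute z c → Commute z t) ∧
      ∀ l, Fac D 3 (a * b * c) l → (∀ x ∈ [a, b, c], x ∉ l) → ∀ x, x ∈ l ↔ x ∈ [t₁, t₂, t₃] := by
  classical
  obtain ⟨t₁, t₂, t₃, ht, hat, huniq⟩ := m22_line hD hP h ha hb hc hbc hcomm
  obtain ⟨-, h4, -⟩ := m22_noRel hD h
  have habc : Fac D 3 (a * b * c) [a, b, c] := ⟨by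
      simp [Ne.symm hb.2.1, Ne.symm hc.2.1, hbc], rfl, by simp [ha, hb.1, hc.1],
      by simp [hb.2.2, hb.2.2.symm, hc.2.2, hc.2.2.symm, hcomm, hcomm.symm],
      by simp [mul_assoc]⟩
  have hne : ∀ t ∈ [t₁, t₂, t₃], t ≠ a ∧ t ≠ b ∧ t ≠ c := by
    have key : ∀ x ∈ [a, b, c], x ∈ [t₁, t₂, t₃] → False := by
      intro x hx hxt
      have e := determined hD (m := 2) (by norm_num) (fun _ => h4) (fun h' => absurd h' (by norm_num))
        (fac_erase habc hx) (fac_erase ht hxt)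
      by_cases hxa : x = a
      · exact hat (hxa ▸ hxt)
      · have ha' : a ∈ [a, b, c].erase x := (List.mem_erase_of_ne (Ne.symm hxa)).2 (by simp)
        exact hat (List.mem_of_mem_erase ((e a).1 ha'))
    intro t ht'
    exact ⟨fun e => key a (by simp) (e ▸ ht'), fun e => key b (by simp) (e ▸ ht'),
      fun e => key c (by simp) (e ▸ ht')⟩
  refine ⟨t₁, t₂, t₃, ht, hne, fun t htm z hz za zb zc => ?_, huniq⟩
  have e1 : MulAut.conj z a = a := conj_eq_of_commute za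
  have e2 : MulAut.conj z b = b := conj_eq_of_commute zb
  have e3 : MulAut.conj z c = c := conj_eq_of_commute zc
  have himg : Fac D 3 (a * b * c) ([t₁, t₂, t₃].map (MulAut.conj z)) := by
    refine ⟨ht.1.map (MulAut.conj z).injective, by simp, ?_, ?_, ?_⟩
    · intro x hx
      obtain ⟨u, hu, rfl⟩ := List.mem_map.1 hx
      exact hD.2.1 z u (ht.2.2.1 u hu)
    · intro x hx y hy
      obtain ⟨u, hu, rfl⟩ := List.mem_map.1 hx
      obtain ⟨v, hv, rfl⟩ := List.mem_map.1 hy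
      exact (ht.2.2.2.1 u hu v hv).map (MulAut.conj z).toMonoidHom
    · rw [← map_list_prod, ht.2.2.2.2, map_mul, map_mul, e1, e2, e3]
  have hmiss : ∀ x ∈ [a, b, c], x ∉ [t₁, t₂, t₃].map (MulAut.conj z) := by
    intro x hx hxm
    obtain ⟨u, hu, hux⟩ := List.mem_map.1 hxm
    have hfix : MulAut.conj z x = x := by
      simp only [List.mem_cons, List.not_mem_nil, or_false] at hx
      rcases hx with rfl | rfl | rfl
      exacts [e1, e2, e3]
    have : u = x := (MulAut.conj z).injective (hux.trans hfix.symm)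
    subst this
    obtain ⟨n1, n2, n3⟩ := hne u hu
    simp only [List.mem_cons, List.not_mem_nil, or_false] at hx
    tauto
  have hm := (huniq _ himg hmiss (MulAut.conj z t)).1 (List.mem_map_of_mem htm)
  rw [MulAut.conj_apply, self_conj_eq hD.1 hz] at hm
  by_contra hzt
  exact hzt (commute_of_commute_mid hD.1 (ht.2.2.1 t htm) hz (fun h' => hzt h'.symm)
    (Commute.refl t) (ht.2.2.2.1 t htm _ hm)).symm

/-- An element fixing four members of a hexad fixes all of them. -/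
theorem m22_hexad_fix {a b c g t t' : G} (ha : a ∈ D) (hb : b ∈ nbrs D a) (hc : c ∈ nbrs D a)
    (hbc : b ≠ c) (hcomm : Commute b c) {l : List G} (hl : Fac D 3 (a * b * c) l)
    (hmiss : ∀ x ∈ [a, b, c], x ∉ l) (ga : Commute g a) (gb : Commute g b) (gc : Commute g c)
    (ht : t ∈ l) (gt : Commute g t) (ht' : t' ∈ l) : Commute g t' := by
  obtain ⟨t₁, t₂, t₃, hfac, hne, hln, huniq⟩ := m22_hexad hD hP h ha hb hc hbc hcomm
  have hPre := pre_of_group hD
  have hN := nice_m22 hD h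
  have hU := m22_isU6 hD h ha
  have hg : g ∈ Hd D a := by
    rw [m22_gate hD hP h ha]; exact Subgroup.mem_centralizer_singleton_iff.2 ga.eq
  have mem : ∀ x ∈ l, ∃ hx : x ∈ nbrs D a, bar hx ≠ bar hb ∧ bar hx ≠ bar hc ∧
      Ln (Db D a) (bar hb) (bar hc) (bar hx) := by
    intro x hx
    have hxt := (huniq l hl hmiss x).1 hx
    obtain ⟨n1, n2, n3⟩ := hne x hxt
    have hxD := hl.2.2.1 x hx
    have hxa : Commute a x :=
      hln x hxt a ha (Commute.refl a) hb.2.2 hc.2.2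
    have hxn : x ∈ nbrs D a := ⟨hxD, n1, hxa⟩
    refine ⟨hxn, fun e => n2 (hN.bar_inj ha hxn hb e), fun e => n3 (hN.bar_inj ha hxn hc e),
      fun q hq q1 q2 => ?_⟩
    obtain ⟨z, hz, rfl⟩ := exists_bar hq
    rw [commute_bar hPre] at q1 q2 ⊢
    exact hln x hxt z hz.1 hz.2.2.symm q1 q2
  obtain ⟨n, hn1, hn2, hn3⟩ := mem t ht
  obtain ⟨n', -, -, hn3'⟩ := mem t' ht'
  have mkc : ∀ {y : G} (hy : y ∈ nbrs D a), Commute g y →
      Commute ((⟨g, hg⟩ : ↥(Hd D a)) : Qd D a) (bar hy) := fun hy hx => by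
    show (QuotientGroup.mk _ : Qd D a) * QuotientGroup.mk _ = _
    rw [← QuotientGroup.mk_mul, ← QuotientGroup.mk_mul]
    exact congrArg QuotientGroup.mk (Subtype.ext hx.eq)
  have hq := u6_line_fix hU (hN.group_Db ha) (bar_mem hb) (bar_mem hc) (bar_mem n) (bar_mem n')
    ((commute_bar hPre hb hc).2 hcomm) (fun e => hbc (hN.bar_inj ha hb hc e)) hn1 hn2 hn3 hn3'
    (mkc hb gb) (mkc hc gc) (mkc n gt)
  exact commute_of_conj_eq (conj_bar hD hP h ha ⟨g, hg⟩ n' n' (conj_eq_of_commute hq))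

variable {d₁ d₂ : G} (h₁ : d₁ ∈ D) (n₂ : d₂ ∈ nbrs D d₁)
include h₁ n₂

theorem m22_pair_cases {x : G} (hx : Commute x (d₁ * d₂)) :
    (x * d₁ * x⁻¹ = d₁ ∧ x * d₂ * x⁻¹ = d₂) ∨ (x * d₁ * x⁻¹ = d₂ ∧ x * d₂ * x⁻¹ = d₁) := by
  have hne : x * d₁ * x⁻¹ ≠ x * d₂ * x⁻¹ := fun e =>
    n₂.2.1 (mul_left_cancel (mul_right_cancel e)).symm
  have f1 : Fac D 2 (d₁ * d₂) [d₁, d₂] := ⟨by simp [Ne.symm n₂.2.1], rfl, by simp [h₁, n₂.1],
    by simp [n₂.2.2, n₂.2.2.symm], by simp⟩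
  have hc : Commute (x * d₁ * x⁻¹) (x * d₂ * x⁻¹) := (commute_conj_iff x d₁ d₂).2 n₂.2.2
  have f2 : Fac D 2 (d₁ * d₂) [x * d₁ * x⁻¹, x * d₂ * x⁻¹] := ⟨by simpa using hne, rfl, by
    simp [hD.2.1 x d₁ h₁, hD.2.1 x d₂ n₂.1], by simp [hc, hc.symm], by
      calc [x * d₁ * x⁻¹, x * d₂ * x⁻¹].prod = x * (d₁ * d₂) * x⁻¹ := by simp [mul_assoc]
        _ = d₁ * d₂ := conj_eq_of_commute hx⟩
  have hiff := determined hD (by norm_num) (fun _ => (m22_noRel hD h).2.1)
    (fun h' => absurd h' (by norm_num)) f2 f1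
  have a1 := (hiff (x * d₁ * x⁻¹)).1 (by simp)
  have a2 := (hiff (x * d₂ * x⁻¹)).1 (by simp)
  simp only [List.mem_cons, List.not_mem_nil, or_false] at a1 a2
  rcases a1 with a1 | a1 <;> rcases a2 with a2 | a2
  · exact absurd (a1.trans a2.symm) hne
  · exact Or.inl ⟨a1, a2⟩
  · exact Or.inr ⟨a1, a2⟩
  · exact absurd (a1.trans a2.symm) hne

theorem m22_pair_index {K C : Subgroup G} (hK : ∀ x, x ∈ K ↔ Commute x d₁ ∧ Commute x d₂)
    (hC : ∀ x, x ∈ C ↔ Commute x (d₁ * d₂)) : K ≤ C ∧ (K.subgroupOf C).index = 2 := by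
  have hle : K ≤ C := fun x hx => (hC x).2 (((hK x).1 hx).1.mul_right ((hK x).1 hx).2)
  have hw : ∃ u ∈ D, ∃ v ∈ D, u ≠ v ∧ Commute u v := ⟨d₁, h₁, d₂, n₂.1, Ne.symm n₂.2.1, n₂.2.2⟩
  obtain ⟨g, hg⟩ := hP.1 d₁ h₁ d₂ n₂.1
  obtain ⟨k, hk, hk'⟩ := trans_comm hD hP hw n₂.1 (hD.2.1 g d₂ n₂.1)
    (fun e => n₂.2.1 (mul_left_cancel (mul_right_cancel (e.trans hg.symm))))
    (hg ▸ (commute_conj_iff g d₁ d₂).2 n₂.2.2) h₁ (Ne.symm n₂.2.1) n₂.2.2.symm
  have s1 : k * g * d₁ * (k * g)⁻¹ = d₂ := by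
    calc k * g * d₁ * (k * g)⁻¹ = k * (g * d₁ * g⁻¹) * k⁻¹ := by group
      _ = d₂ := by rw [hg, hk]
  have s2 : k * g * d₂ * (k * g)⁻¹ = d₁ := by rw [← hk']; group
  have hsC : k * g ∈ C := (hC _).2 (commute_of_conj_eq (by
    calc k * g * (d₁ * d₂) * (k * g)⁻¹ = (k * g * d₁ * (k * g)⁻¹) * (k * g * d₂ * (k * g)⁻¹) := by
          group
      _ = d₁ * d₂ := by rw [s1, s2]; exact n₂.2.2.symm.eq))
  refine ⟨hle, Subgroup.index_eq_two_iff.2 ⟨⟨k * g, hsC⟩, ?_⟩⟩
  rintro ⟨x, hx⟩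
  simp only [Subgroup.mem_subgroupOf, Subgroup.coe_mul]
  have hcases := m22_pair_cases hD hP h h₁ n₂ ((hC x).1 hx)
  have fixK : ∀ y, y * d₁ * y⁻¹ = d₁ → y * d₂ * y⁻¹ = d₂ → y ∈ K := fun y a b =>
    (hK y).2 ⟨commute_of_conj_eq a, commute_of_conj_eq b⟩
  rcases hcases with ⟨a, b⟩ | ⟨a, b⟩
  · refine Or.inr ⟨fixK x a b, fun hm => ?_⟩
    have e := conj_eq_of_commute ((hK _).1 hm).1
    refine n₂.2.1 ?_
    calc d₂ = x * d₂ * x⁻¹ := b.symm
      _ = x * (k * g * d₁ * (k * g)⁻¹) * x⁻¹ := by rw [s1]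
      _ = x * (k * g) * d₁ * (x * (k * g))⁻¹ := by group
      _ = d₁ := e
  · refine Or.inl ⟨fixK _ ?_ ?_, fun hm => n₂.2.1 ?_⟩
    · calc x * (k * g) * d₁ * (x * (k * g))⁻¹ = x * (k * g * d₁ * (k * g)⁻¹) * x⁻¹ := by group
        _ = d₁ := by rw [s1, b]
    · calc x * (k * g) * d₂ * (x * (k * g))⁻¹ = x * (k * g * d₂ * (k * g)⁻¹) * x⁻¹ := by group
        _ = d₂ := by rw [s2, a]
    · rw [← a]
      exact conj_eq_of_commute ((hK _).1 hm).1

set_option maxHeartbeats 1000000 in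
theorem m22_pair_structure_core {K C V : Subgroup G} (hK : ∀ x, x ∈ K ↔ Commute x d₁ ∧ Commute x d₂)
    (hC : ∀ x, x ∈ C ↔ Commute x (d₁ * d₂)) (hV : V = Subgroup.closure ({d₁, d₂} : Set G)) :
    (Subgroup.center ↥K).map K.subtype = V ∧
      ∃ E : Subgroup G, V ≤ E ∧ E ≤ K ∧ E ≤ C ∧ (∀ c ∈ C, ∀ x ∈ E, c * x * c⁻¹ ∈ E) ∧
        Nat.card E = 2 ^ 10 ∧ (∀ x ∈ E, ∀ y ∈ E, x * y * x⁻¹ * y⁻¹ ∈ V ∧ x ^ 2 ∈ V) ∧
        ∃ (_ : (E.subgroupOf C).Normal) (F : Type) (_ : Field F) (_ : Fintype F),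
          Fintype.card F = 4 ∧ Nonempty (↥C ⧸ E.subgroupOf C ≃* MulAut (Cfsg.PSU 4 F 2)) := by
  classical
  have hN := nice_m22 hD h
  have hPre := pre_of_group hD
  have hU := m22_isU6 hD h h₁
  have hXg := hN.group_Db h₁
  obtain ⟨hle, hidx⟩ := m22_pair_index hD hP h h₁ n₂ hK hC
  have v1 : d₁ ∈ V := hV ▸ Subgroup.subset_closure (by simp)
  have v2 : d₂ ∈ V := hV ▸ Subgroup.subset_closure (by simp)
  have hVK : V ≤ K := by
    rw [hV, Subgroup.closure_le]
    rintro u (rfl | rfl)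
    · exact (hK u).2 ⟨Commute.refl u, n₂.2.2⟩
    · exact (hK u).2 ⟨n₂.2.2.symm, Commute.refl u⟩
  -- the section
  obtain ⟨F, iF, iFt, hF, π, hπs, hπa, hπc, hπl⟩ := u6_stab_hom hU hXg (bar_mem n₂)
  have hKH : K ≤ Hd D d₁ := fun x hx => by
    rw [m22_gate hD hP h h₁]; exact Subgroup.mem_centralizer_singleton_iff.2 ((hK x).1 hx).1.eq
  let ι : ↥K →* Qd D d₁ := (QuotientGroup.mk' _).comp (Subgroup.inclusion hKH)
  have hι : ∀ k : ↥K, ι k ∈ Subgroup.centralizer ({bar n₂} : Set (Qd D d₁)) := fun k => by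
    rw [Subgroup.mem_centralizer_singleton_iff]
    show (QuotientGroup.mk _ : Qd D d₁) * QuotientGroup.mk _ = QuotientGroup.mk _ * QuotientGroup.mk _
    rw [← QuotientGroup.mk_mul, ← QuotientGroup.mk_mul]
    exact congrArg QuotientGroup.mk (Subtype.ext ((hK k).1 k.2).2.eq)
  let θ : ↥K →* Cfsg.PSU 4 F 2 := π.comp (ι.codRestrict _ hι)
  have hθs : Function.Surjective θ := by
    intro q
    obtain ⟨⟨y, hy⟩, rfl⟩ := hπs q
    obtain ⟨k₀, rfl⟩ := QuotientGroup.mk_surjective y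
    have hc : Commute (k₀ : Qd D d₁) (bar n₂) := Subgroup.mem_centralizer_singleton_iff.1 hy
    have e := conj_bar hD hP h h₁ k₀ n₂ n₂ (conj_eq_of_commute hc)
    exact ⟨⟨k₀, (hK _).2 ⟨(commute_Hd k₀.2).symm, commute_of_conj_eq e⟩⟩, rfl⟩
  have hker0 : ∀ k : ↥K, ι k ∈ Subgroup.zpowers (bar n₂) → (k : G) ∈ V := by
    intro k hk
    obtain ⟨n, hn⟩ := Subgroup.mem_zpowers_iff.1 hk
    have hz : (Subgroup.inclusion hKH k)⁻¹ * (⟨d₂, Subgroup.subset_closure n₂⟩ : ↥(Hd D d₁)) ^ n ∈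
        Subgroup.center ↥(Hd D d₁) := by
      refine QuotientGroup.eq.1 ?_
      rw [QuotientGroup.mk_zpow]
      exact hn.symm
    rw [m22_center_Hd hD hP h h₁, Subgroup.mem_subgroupOf, Subgroup.coe_mul, Subgroup.coe_inv,
      Subgroup.coe_zpow, Subgroup.coe_inclusion] at hz
    have h2 : (k : G)⁻¹ * d₂ ^ n ∈ V := Subgroup.zpowers_le.2 v1 hz
    have h3 := mul_mem (zpow_mem v2 n) (inv_mem h2)
    rwa [mul_inv_rev, inv_inv, mul_inv_cancel_left] at h3
  have hθV : ∀ k : ↥K, (k : G) ∈ V → θ k = 1 := by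
    have hle' : V ≤ θ.ker.map K.subtype := by
      rw [hV, Subgroup.closure_le]
      rintro u (rfl | rfl)
      · refine ⟨⟨u, hVK v1⟩, ?_, rfl⟩
        have : ι ⟨u, hVK v1⟩ = 1 := (QuotientGroup.eq_one_iff _).2 (by
          rw [m22_center_Hd hD hP h h₁, Subgroup.mem_subgroupOf]
          exact Subgroup.mem_zpowers u)
        show π _ = 1
        rw [show ι.codRestrict _ hι ⟨u, hVK v1⟩ = 1 from Subtype.ext this, map_one]
      · exact ⟨⟨u, hVK v2⟩, hπa _ rfl, rfl⟩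
    intro k hk
    obtain ⟨k', hk', e⟩ := hle' hk
    rw [← Subtype.ext e]; exact hk'
  obtain ⟨E, eE⟩ : ∃ E : Subgroup G, E = θ.ker.map K.subtype := ⟨_, rfl⟩
  have hEK : E ≤ K := eE ▸ Subgroup.map_subtype_le _
  have hEmem : ∀ k : ↥K, (k : G) ∈ E ↔ θ k = 1 := fun k => by
    rw [eE]
    exact ⟨fun ⟨k', hk', e⟩ => by rw [← Subtype.ext e]; exact hk', fun hk => ⟨k, hk, rfl⟩⟩
  have hF2 : Fintype.card F = 2 ^ 2 := hF
  have hzsu := center_su_four hF2
  have hpsu : Nat.card (Cfsg.PSU 4 F 2) = 25920 := by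
    rw [← card_su_four hF2]
    exact Nat.card_congr
      ((QuotientGroup.quotientMulEquivOfEq hzsu).trans QuotientGroup.quotientBot).toEquiv
  have hcK : Nat.card ↥K = 26542080 := by
    rw [← card_two hD hP h h₁ n₂]
    congr 2
    ext x
    rw [hK, Subgroup.mem_inf, Subgroup.mem_centralizer_singleton_iff,
      Subgroup.mem_centralizer_singleton_iff]
    rfl
  have hcE : Nat.card E = 2 ^ 10 := by
    have h1 := Subgroup.card_eq_card_quotient_mul_card_subgroup θ.ker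
    rw [Nat.card_congr (QuotientGroup.quotientKerEquivOfSurjective θ hθs).toEquiv, hcK, hpsu] at h1
    rw [eE, ← Nat.card_congr (θ.ker.equivMapOfInjective K.subtype K.subtype_injective).toEquiv]
    omega
  have hzp : Subgroup.center (Cfsg.PSU 4 F 2) = ⊥ := center_congr
    ((QuotientGroup.quotientMulEquivOfEq hzsu).trans QuotientGroup.quotientBot).symm hzsu
  haveI hsimp : IsSimpleGroup (Cfsg.PSU 4 F 2) :=
    CfsgLib.Classical.isSimpleGroup_psu hF2 (n := 4) (by norm_num) (by norm_num)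
  have hCK : ∀ x ∈ C, ∀ k ∈ K, x * k * x⁻¹ ∈ K := by
    intro x hx k hk
    obtain ⟨k1, k2⟩ := (hK k).1 hk
    rw [hK]
    rcases m22_pair_cases hD hP h h₁ n₂ ((hC x).1 hx) with ⟨e1, e2⟩ | ⟨e1, e2⟩
    · exact ⟨e1 ▸ (commute_conj_iff x k d₁).2 k1, e2 ▸ (commute_conj_iff x k d₂).2 k2⟩
    · exact ⟨e2 ▸ (commute_conj_iff x k d₂).2 k2, e1 ▸ (commute_conj_iff x k d₁).2 k1⟩
  let cj : ∀ x : ↥C, ↥K →* ↥K := fun x =>
    ((MulAut.conj (x : G)).toMonoidHom.comp K.subtype).codRestrict K fun k => hCK x x.2 k k.2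
  have hcj : ∀ (x : ↥C) (k : ↥K), (cj x k : G) = x * k * (x : G)⁻¹ := fun _ _ => rfl
  have hcjmul : ∀ (x y : ↥C) (k : ↥K), cj x (cj y k) = cj (x * y) k := fun x y k =>
    Subtype.ext (by simp only [hcj, Subgroup.coe_mul]; group)
  have hkinv : ∀ x : ↥C, θ.ker ≤ (θ.comp (cj x)).ker := by
    intro x k hk
    rw [MonoidHom.mem_ker] at hk
    rw [MonoidHom.mem_ker, MonoidHom.comp_apply]
    obtain ⟨N, eN⟩ : ∃ N : Subgroup ↥K, N = θ.ker.map (cj x) := ⟨_, rfl⟩
    haveI : N.Normal := eN ▸ (MonoidHom.normal_ker θ).map _ (fun k => ⟨cj x⁻¹ k, by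
      rw [hcjmul, mul_inv_cancel]
      exact Subtype.ext (by simp [hcj])⟩)
    have hn : (N.map θ).Normal := (inferInstance : N.Normal).map θ hθs
    rcases hn.eq_bot_or_eq_top with e | e
    · have : θ (cj x k) ∈ N.map θ := ⟨cj x k, eN ▸ ⟨k, hk, rfl⟩, rfl⟩
      rwa [e, Subgroup.mem_bot] at this
    · exfalso
      have h1 : Nat.card (N.map θ) ≤ Nat.card N := Nat.card_le_card_of_surjective
        (fun n : N => (⟨θ n, n, n.2, rfl⟩ : N.map θ)) (by
          rintro ⟨_, n, hn, rfl⟩; exact ⟨⟨n, hn⟩, rfl⟩)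
      rw [e, Subgroup.card_top, hpsu] at h1
      have h2 : Nat.card N ≤ Nat.card θ.ker := by
        rw [eN]
        exact Nat.card_le_card_of_surjective (fun n : θ.ker => (⟨cj x n, n, n.2, rfl⟩ :
          θ.ker.map (cj x))) (by rintro ⟨_, n, hn, rfl⟩; exact ⟨⟨n, hn⟩, rfl⟩)
      have h3 : Nat.card θ.ker = 2 ^ 10 := by
        rw [← hcE, eE]
        exact Nat.card_congr (θ.ker.equivMapOfInjective K.subtype K.subtype_injective).toEquiv
      omega
  refine ⟨?_, E, fun v hv => (hEmem ⟨v, hVK hv⟩).2 (hθV _ hv), hEK, hEK.trans hle, ?_, hcE, ?_, ?_⟩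
  · refine le_antisymm ?_ fun v hv => ⟨⟨v, hVK hv⟩, ?_, rfl⟩
    · rintro _ ⟨z, hz, rfl⟩
      refine hker0 z ?_
      obtain ⟨F', _, _, f, hF', hf', hk'⟩ := exists_model hU hXg
      rcases eq_one_or_eq_of_commute hF' f hf' hk' hXg (bar_mem n₂) (y := ι z) (fun q hq hqa => by
        obtain ⟨w, hw, rfl⟩ := exists_bar hq
        rw [commute_bar hPre] at hqa
        have hwK : w ∈ K := (hK w).2 ⟨hw.2.2.symm, hqa⟩
        show (QuotientGroup.mk _ : Qd D d₁) * QuotientGroup.mk _ =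
          QuotientGroup.mk _ * QuotientGroup.mk _
        rw [← QuotientGroup.mk_mul, ← QuotientGroup.mk_mul]
        exact congrArg QuotientGroup.mk (Subtype.ext
          (congrArg Subtype.val (Subgroup.mem_center_iff.1 hz ⟨w, hwK⟩)).symm)) with e | e <;> rw [e]
      · exact one_mem _
      · exact Subgroup.mem_zpowers _
    · refine Subgroup.mem_center_iff.2 fun g => Subtype.ext ?_
      rw [hV] at hv
      show (g : G) * v = v * g
      have key : ∀ u ∈ Subgroup.closure ({d₁, d₂} : Set G), Commute (g : G) u := by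
        intro u hu
        induction hu using Subgroup.closure_induction with
        | mem w hw =>
          rcases hw with rfl | rfl
          exacts [((hK g).1 g.2).1, ((hK g).1 g.2).2]
        | one => exact Commute.one_right _
        | mul _ _ _ _ h1 h2 => exact h1.mul_right h2
        | inv _ _ h1 => exact h1.inv_right
      exact (key v hv).eq
  · intro c hc x hx
    have h1 := hkinv ⟨c, hc⟩ (show (⟨x, hEK hx⟩ : ↥K) ∈ θ.ker from (hEmem ⟨x, hEK hx⟩).1 hx)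
    exact (hEmem (cj ⟨c, hc⟩ ⟨x, hEK hx⟩)).2 h1
  · intro x hx y hy
    obtain ⟨k1, k2⟩ := hπc _ ((hEmem ⟨x, hEK hx⟩).1 hx) _ ((hEmem ⟨y, hEK hy⟩).1 hy)
    refine ⟨hker0 (⟨x, hEK hx⟩ * ⟨y, hEK hy⟩ * ⟨x, hEK hx⟩⁻¹ * ⟨y, hEK hy⟩⁻¹) ?_,
      hker0 (⟨x, hEK hx⟩ ^ 2) ?_⟩
    · rw [map_mul, map_mul, map_mul, map_inv, map_inv]; exact k1
    · rw [map_pow]; exact k2
  -- the automorphisms
  let φ : ↥C → (Cfsg.PSU 4 F 2 →* Cfsg.PSU 4 F 2) := fun x =>
    θ.liftOfSurjective hθs ⟨θ.comp (cj x), hkinv x⟩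
  have hφ : ∀ (x : ↥C) (k : ↥K), φ x (θ k) = θ (cj x k) := fun x k =>
    MonoidHom.liftOfRightInverse_comp_apply θ _ (Function.rightInverse_surjInv hθs) ⟨θ.comp (cj x), hkinv x⟩ k
  have hφmul : ∀ (x y : ↥C) q, φ x (φ y q) = φ (x * y) q := by
    intro x y q
    obtain ⟨k, rfl⟩ := hθs q
    rw [hφ, hφ, hφ, hcjmul]
  have hφone : ∀ q, φ 1 q = q := by
    intro q
    obtain ⟨k, rfl⟩ := hθs q
    rw [hφ]
    exact congrArg θ (Subtype.ext (by simp [hcj]))
  let A : ↥C →* MulAut (Cfsg.PSU 4 F 2) := MonoidHom.mk'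
    (fun x => (φ x).toMulEquiv (φ x⁻¹)
      (MonoidHom.ext fun q => by
        rw [MonoidHom.comp_apply, MonoidHom.id_apply, hφmul, inv_mul_cancel, hφone])
      (MonoidHom.ext fun q => by
        rw [MonoidHom.comp_apply, MonoidHom.id_apply, hφmul, mul_inv_cancel, hφone]))
    fun x y => MulEquiv.ext fun q => (hφmul x y q).symm
  -- elements acting trivially lie in `E`
  have hA : ∀ x : ↥C, A x = 1 → (x : G) ∈ E := by
    intro x hx
    have hfix : ∀ k : ↥K, θ (cj x k) = θ k := fun k => by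
      rw [← hφ]
      exact DFunLike.congr_fun hx (θ k)
    rcases m22_pair_cases hD hP h h₁ n₂ ((hC x).1 x.2) with ⟨e1, e2⟩ | ⟨e1, e2⟩
    · have hxK : (x : G) ∈ K := (hK _).2 ⟨commute_of_conj_eq e1, commute_of_conj_eq e2⟩
      refine (hEmem ⟨x, hxK⟩).2 ?_
      have hz : θ ⟨x, hxK⟩ ∈ Subgroup.center (Cfsg.PSU 4 F 2) := by
        rw [Subgroup.mem_center_iff]
        intro q
        obtain ⟨k, rfl⟩ := hθs q
        have := hfix k
        rw [show cj x k = ⟨x, hxK⟩ * k * ⟨x, hxK⟩⁻¹ from Subtype.ext (hcj x k), map_mul, map_mul,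
          map_inv, mul_inv_eq_iff_eq_mul] at this
        exact this.symm
      rwa [hzp, Subgroup.mem_bot] at hz
    exfalso
    -- a hexad through `d₁`, `d₂`
    obtain ⟨f, hf⟩ : ∃ f, f ∈ nbrs D d₁ ∩ nbrs D d₂ := by
      have hcard := card_nbrs_two hD h h₁ n₂
      exact Set.nonempty_of_ncard_ne_zero (by rw [hcard]; norm_num)
    obtain ⟨t₁, t₂, t₃, ht, hne, hln, huniq⟩ := m22_hexad hD hP h h₁ n₂ hf.1
      (Ne.symm hf.2.2.1) hf.2.2.2
    obtain ⟨L, eL⟩ : ∃ L : List G, L = [f, t₁, t₂, t₃] := ⟨_, rfl⟩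
    have hLD : ∀ u ∈ L, u ∈ D ∧ u ≠ d₁ ∧ u ≠ d₂ ∧ Commute d₁ u ∧ Commute d₂ u := by
      intro u hu
      rw [eL, List.mem_cons] at hu
      rcases hu with rfl | hu
      · exact ⟨hf.1.1, hf.1.2.1, hf.2.2.1, hf.1.2.2, hf.2.2.2⟩
      · obtain ⟨m1, m2, -⟩ := hne u hu
        exact ⟨ht.2.2.1 u hu, m1, m2,
          hln u hu d₁ h₁ (Commute.refl _) n₂.2.2 hf.1.2.2,
          hln u hu d₂ n₂.1 n₂.2.2.symm (Commute.refl _) hf.2.2.2⟩
    have hL : Fac D 4 (d₁ * d₂) L := by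
      refine ⟨?_, by rw [eL]; rfl, fun u hu => (hLD u hu).1, ?_, ?_⟩
      · rw [eL, List.nodup_cons]
        exact ⟨fun hm => (hne f hm).2.2 rfl, ht.1⟩
      · have hft : ∀ u ∈ [t₁, t₂, t₃], Commute f u := fun u hu =>
          hln u hu f hf.1.1 hf.1.2.2.symm hf.2.2.2.symm (Commute.refl f)
        rw [eL]
        intro u hu v hv
        rw [List.mem_cons] at hu hv
        rcases hu with rfl | hu <;> rcases hv with rfl | hv
        exacts [Commute.refl _, hft v hv, (hft u hu).symm, ht.2.2.2.1 u hu v hv]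
      · rw [eL, List.prod_cons, ht.2.2.2.2, ← mul_assoc,
          (hf.1.2.2.symm.mul_right hf.2.2.2.symm).eq, mul_assoc, Trans3.sq_one hD.1 hf.1.1, mul_one]
    -- such sets are equal when they meet
    have huni : ∀ l, Fac D 4 (d₁ * d₂) l → d₁ ∉ l → d₂ ∉ l → ∀ u ∈ L, u ∈ l →
        ∀ v, v ∈ l ↔ v ∈ L := by
      intro l hl o1 o2 u hu hul
      obtain ⟨uD, u1, u2, c1, c2⟩ := hLD u hu
      obtain ⟨s₁, s₂, s₃, -, -, -, hs⟩ := m22_hexad hD hP h h₁ n₂ ⟨uD, u1, c1⟩ (Ne.symm u2) c2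
      have hj : u⁻¹ * (d₁ * d₂) = d₁ * d₂ * u := by
        rw [inv_eq hD.1 uD, (c1.symm.mul_right c2.symm).eq]
      have key : ∀ l', Fac D 4 (d₁ * d₂) l' → d₁ ∉ l' → d₂ ∉ l' → u ∈ l' →
          ∀ v, v ∈ l' ↔ v = u ∨ v ∈ [s₁, s₂, s₃] := by
        intro l' hl' p1 p2 hul' v
        have hf3 := fac_erase hl' hul'
        rw [hj] at hf3
        have hs' := hs _ hf3 (fun y hy hym => by
          simp only [List.mem_cons, List.not_mem_nil, or_false] at hy
          rcases hy with rfl | rfl | rfl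
          · exact p1 (List.mem_of_mem_erase hym)
          · exact p2 (List.mem_of_mem_erase hym)
          · exact (hl'.1.not_mem_erase) hym) v
        rw [← hs']
        by_cases hv : v = u
        · simp [hv, hul']
        · simp [hv, List.mem_erase_of_ne hv]
      intro v
      rw [key l hl o1 o2 hul v,
        key L hL (fun hm => (hLD _ hm).2.1 rfl) (fun hm => (hLD _ hm).2.2.1 rfl) hu v]
    -- permutations
    obtain ⟨T, eT⟩ : ∃ T : Fin 4 → G, T = ![f, t₁, t₂, t₃] := ⟨_, rfl⟩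
    have hTL : ∀ v, v ∈ L ↔ ∃ i, T i = v := fun v => by
      rw [eL, eT]
      constructor
      · intro hv
        simp only [List.mem_cons, List.not_mem_nil, or_false] at hv
        rcases hv with rfl | rfl | rfl | rfl
        exacts [⟨0, rfl⟩, ⟨1, rfl⟩, ⟨2, rfl⟩, ⟨3, rfl⟩]
      · rintro ⟨i, rfl⟩
        fin_cases i <;> simp
    have hTm : ∀ i, T i ∈ L := fun i => (hTL _).2 ⟨i, rfl⟩
    have hTinj : Function.Injective T := by
      rw [← List.nodup_ofFn]
      have : List.ofFn T = L := by rw [eT, eL]; simp [List.ofFn_succ]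
      rw [this]; exact hL.1
    have hperm : ∀ g, g ∈ C → (∃ i j, g * T i * g⁻¹ = T j) →
        ∃ σ : Equiv.Perm (Fin 4), ∀ i, g * T i * g⁻¹ = T (σ i) := by
      intro g hg ⟨i, j, hij⟩
      have hgj : MulAut.conj g (d₁ * d₂) = d₁ * d₂ := conj_eq_of_commute ((hC g).1 hg)
      have himg : Fac D 4 (d₁ * d₂) (L.map (MulAut.conj g)) := by
        refine ⟨hL.1.map (MulAut.conj g).injective, by rw [List.length_map, hL.2.1], ?_, ?_, ?_⟩
        · intro y hy
          obtain ⟨u, hu, rfl⟩ := List.mem_map.1 hy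
          exact hD.2.1 g u (hL.2.2.1 u hu)
        · intro y hy z hz
          obtain ⟨u, hu, rfl⟩ := List.mem_map.1 hy
          obtain ⟨v, hv, rfl⟩ := List.mem_map.1 hz
          exact (hL.2.2.2.1 u hu v hv).map (MulAut.conj g).toMonoidHom
        · rw [← map_list_prod, hL.2.2.2.2, hgj]
      have hout : d₁ ∉ L.map (MulAut.conj g) ∧ d₂ ∉ L.map (MulAut.conj g) := by
        have : ∀ d, (d = d₁ ∨ d = d₂) → d ∉ L.map (MulAut.conj g) := by
          intro d hd hm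
          obtain ⟨u, hu, he⟩ := List.mem_map.1 hm
          obtain ⟨-, u1, u2, -⟩ := hLD u hu
          rcases m22_pair_cases hD hP h h₁ n₂ ((hC g).1 hg) with ⟨a1, a2⟩ | ⟨a1, a2⟩ <;>
            rcases hd with rfl | rfl
          · exact u1 ((MulAut.conj g).injective (he.trans a1.symm))
          · exact u2 ((MulAut.conj g).injective (he.trans a2.symm))
          · exact u2 ((MulAut.conj g).injective (he.trans a2.symm))
          · exact u1 ((MulAut.conj g).injective (he.trans a1.symm))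
        exact ⟨this d₁ (Or.inl rfl), this d₂ (Or.inr rfl)⟩
      have hsame := huni _ himg hout.1 hout.2 (T j) (hTm j)
        (List.mem_map.2 ⟨T i, hTm i, hij⟩)
      have hex : ∀ i, ∃ j, T j = g * T i * g⁻¹ := fun i =>
        (hTL _).1 ((hsame _).1 (List.mem_map_of_mem (f := MulAut.conj g) (hTm i)))
      choose σ hσ using hex
      have hinj : Function.Injective σ := fun a b e => hTinj (by
        have := congrArg T e
        rw [hσ, hσ] at this
        exact mul_left_cancel (mul_right_cancel this))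
      exact ⟨Equiv.ofBijective σ (Finite.injective_iff_bijective.1 hinj), fun i => (hσ i).symm⟩
    have hcomp : ∀ {g g' : G} {σ σ' : Equiv.Perm (Fin 4)}, (∀ i, g * T i * g⁻¹ = T (σ i)) →
        (∀ i, g' * T i * g'⁻¹ = T (σ' i)) → ∀ i, g * g' * T i * (g * g')⁻¹ = T ((σ * σ') i) := by
      intro g g' σ σ' a b i
      rw [Equiv.Perm.mul_apply, ← a, ← b]; group
    have hinv : ∀ {g : G} {σ : Equiv.Perm (Fin 4)}, (∀ i, g * T i * g⁻¹ = T (σ i)) →
        ∀ i, g⁻¹ * T i * g⁻¹⁻¹ = T (σ⁻¹ i) := by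
      intro g σ a i
      have := a (σ⁻¹ i)
      rw [show σ (σ⁻¹ i) = i from σ.apply_symm_apply i] at this
      rw [← this]; group
    have cpair : ∀ {g : G}, g * d₁ * g⁻¹ = d₁ → g * d₂ * g⁻¹ = d₂ → g ∈ K := fun {g} a b =>
      (hK g).2 ⟨commute_of_conj_eq a, commute_of_conj_eq b⟩
    -- (i) fixing four members
    have fix4 : ∀ {g : G} {σ : Equiv.Perm (Fin 4)}, g ∈ K → (∀ i, g * T i * g⁻¹ = T (σ i)) →
        ∀ i j, i ≠ j → σ i = i → σ j = j → ∀ k, σ k = k := by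
      intro g σ hg a i j hij hi hj k
      by_cases hki : k = i
      · rw [hki]; exact hi
      obtain ⟨uD, u1, u2, c1, c2⟩ := hLD _ (hTm i)
      have hl := fac_erase hL (hTm i)
      have hji : (T i)⁻¹ * (d₁ * d₂) = d₁ * d₂ * T i := by
        rw [inv_eq hD.1 uD, (c1.symm.mul_right c2.symm).eq]
      rw [hji] at hl
      have gc : ∀ m, σ m = m → Commute g (T m) := fun m hm =>
        commute_of_conj_eq (by rw [a m, hm])
      have mem_er : ∀ m, m ≠ i → T m ∈ L.erase (T i) := fun m hm =>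
        (List.mem_erase_of_ne fun e => hm (hTinj e)).2 (hTm m)
      have hk := m22_hexad_fix hD hP h h₁ n₂ ⟨uD, u1, c1⟩ (Ne.symm u2) c2 hl (fun y hy hym => by
          simp only [List.mem_cons, List.not_mem_nil, or_false] at hy
          rcases hy with rfl | rfl | rfl
          · exact (hLD _ (List.mem_of_mem_erase hym)).2.1 rfl
          · exact (hLD _ (List.mem_of_mem_erase hym)).2.2.1 rfl
          · exact hL.1.not_mem_erase hym)
        ((hK g).1 hg).1 ((hK g).1 hg).2 (gc i hi) (mem_er j (Ne.symm hij)) (gc j hj) (mem_er k hki)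
      exact hTinj (by rw [← a k]; exact conj_eq_of_commute hk)
    -- (ii) the three-cycles
    have move : ∀ i, ∃ g ∈ K, ∃ σ : Equiv.Perm (Fin 4),
        (∀ m, g * T m * g⁻¹ = T (σ m)) ∧ σ i = i ∧ ∀ j, j ≠ i → σ j ≠ j := by
      intro i
      obtain ⟨uD, u1, u2, c1, c2⟩ := hLD _ (hTm i)
      have nu : T i ∈ nbrs D d₁ := ⟨uD, u1, c1⟩
      obtain ⟨q, q1, q2, q3⟩ := u6_line_move hU hXg (bar_mem n₂) (bar_mem nu)
        ((commute_bar hPre n₂ nu).2 c2) (fun e => u2 (hN.bar_inj h₁ n₂ nu e).symm)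
      obtain ⟨g, rfl⟩ := QuotientGroup.mk_surjective q
      have g1 := commute_of_conj_eq (conj_bar hD hP h h₁ g n₂ n₂ (conj_eq_of_commute q1))
      have g2 := conj_bar hD hP h h₁ g nu nu (conj_eq_of_commute q2)
      have hgK : (g : G) ∈ K := (hK _).2 ⟨(commute_Hd g.2).symm, g1⟩
      obtain ⟨σ, hσ⟩ := hperm g (hle hgK) ⟨i, i, g2⟩
      refine ⟨g, hgK, σ, hσ, hTinj ((hσ i).symm.trans g2), fun j hj hjj => ?_⟩
      obtain ⟨wD, w1, w2, b1, b2⟩ := hLD _ (hTm j)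
      have nw : T j ∈ nbrs D d₁ := ⟨wD, w1, b1⟩
      refine q3 (bar nw) (bar_mem nw) (fun e => w2 (hN.bar_inj h₁ nw n₂ e))
        (fun e => hj (hTinj (hN.bar_inj h₁ nw nu e))) ?_ ?_
      · intro z hz z1 z2
        obtain ⟨w, hw, rfl⟩ := exists_bar hz
        rw [commute_bar hPre] at z1 z2 ⊢
        obtain ⟨s₁, s₂, s₃, -, -, hsl, hs⟩ := m22_hexad hD hP h h₁ n₂ nu (Ne.symm u2) c2
        have hj' : (T i)⁻¹ * (d₁ * d₂) = d₁ * d₂ * T i := by
          rw [inv_eq hD.1 uD, (c1.symm.mul_right c2.symm).eq]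
        have hl := fac_erase hL (hTm i)
        rw [hj'] at hl
        refine hsl (T j) ((hs _ hl (fun y hy hym => ?_) _).1
          ((List.mem_erase_of_ne fun e => hj (hTinj e)).2 (hTm j))) w hw.1 hw.2.2.symm z1 z2
        simp only [List.mem_cons, List.not_mem_nil, or_false] at hy
        rcases hy with rfl | rfl | rfl
        · exact (hLD _ (List.mem_of_mem_erase hym)).2.1 rfl
        · exact (hLD _ (List.mem_of_mem_erase hym)).2.2.1 rfl
        · exact hL.1.not_mem_erase hym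
      · show (QuotientGroup.mk _ : Qd D d₁) * QuotientGroup.mk _ = _
        rw [← QuotientGroup.mk_mul, ← QuotientGroup.mk_mul]
        exact congrArg QuotientGroup.mk (Subtype.ext
          (commute_of_conj_eq (g := (g : G)) (by rw [hσ j, hjj])).eq)
    have real : ∀ τ, OneFix τ → ∃ g ∈ K, ∀ m, g * T m * g⁻¹ = T (τ m) := by
      intro τ ⟨i, hi⟩
      obtain ⟨g, hg, σ, hσ, hσi⟩ := move i
      rcases oneFix_unique i σ τ hσi hi with e | e <;> rw [e]
      exacts [⟨g, hg, hσ⟩, ⟨g⁻¹, inv_mem hg, hinv hσ⟩]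
    -- the element moves the set into itself
    obtain ⟨fD, f1, f2, fc1, fc2⟩ := hLD _ (hTm 0)
    have hfK : T 0 ∈ K := (hK _).2 ⟨fc1.symm, fc2.symm⟩
    obtain ⟨σ, hσ⟩ := hperm x x.2 ⟨0, by
      obtain ⟨y, ey⟩ : ∃ y, y = (x : G) * T 0 * (x : G)⁻¹ := ⟨_, rfl⟩
      rw [← ey]
      have hyK : y ∈ K := ey ▸ hCK x x.2 _ hfK
      have hyD : y ∈ D := ey ▸ hD.2.1 _ _ fD
      have he : θ ⟨y, hyK⟩ = θ ⟨T 0, hfK⟩ := by
        rw [← hfix ⟨T 0, hfK⟩]; exact congrArg θ (Subtype.ext ey)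
      have hy1 : y ≠ d₁ := fun e => f2 (by
        rw [ey] at e; exact mul_left_cancel (mul_right_cancel (e.trans e2.symm)))
      have hy2 : y ≠ d₂ := fun e => f1 (by
        rw [ey] at e; exact mul_left_cancel (mul_right_cancel (e.trans e1.symm)))
      have ny : y ∈ nbrs D d₁ := ⟨hyD, hy1, ((hK y).1 hyK).1.symm⟩
      have n0 : T 0 ∈ nbrs D d₁ := ⟨fD, f1, fc1⟩
      have hl := hπl (ι.codRestrict _ hι ⟨T 0, hfK⟩) (ι.codRestrict _ hι ⟨y, hyK⟩) (bar_mem n0)
        (bar_mem ny) (fun e => f2 (hN.bar_inj h₁ n0 n₂ e)) (fun e => hy2 (hN.bar_inj h₁ ny n₂ e))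
        he.symm
      by_contra hno
      push Not at hno
      have hT0 : T 0 = f := by rw [eT]; rfl
      have nt : ∀ {u : G}, u ∈ [t₁, t₂, t₃] → u ∈ nbrs D d₁ := fun {u} hu =>
        have := hLD u (eL ▸ List.mem_cons_of_mem _ hu)
        ⟨this.1, this.2.1, this.2.2.2.1⟩
      have m1 := nt (u := t₁) (by simp)
      have m2 := nt (u := t₂) (by simp)
      have m3 := nt (u := t₃) (by simp)
      obtain ⟨P, eP⟩ : ∃ P : List {v // v ∈ nbrs D d₁},
          P = [⟨d₂, n₂⟩, ⟨T 0, n0⟩, ⟨t₁, m1⟩, ⟨t₂, m2⟩, ⟨t₃, m3⟩] := ⟨_, rfl⟩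
      have hPv : P.map Subtype.val = d₂ :: L := by rw [eP, eL, ← hT0]; rfl
      have hPb : P.map (fun v => bar v.2) = [bar n₂, bar n0, bar m1, bar m2, bar m3] := by
        rw [eP]; rfl
      have hco : ∀ u ∈ d₂ :: L, ∀ v ∈ d₂ :: L, Commute u v := by
        intro u hu v hv
        rw [List.mem_cons] at hu hv
        rcases hu with rfl | hu <;> rcases hv with rfl | hv
        exacts [Commute.refl _, (hLD v hv).2.2.2.2, (hLD u hu).2.2.2.2.symm,
          hL.2.2.2.1 u hu v hv]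
      have hPnd : P.Nodup := List.Nodup.of_map Subtype.val (by
        rw [hPv]; exact List.nodup_cons.2 ⟨fun hm => (hLD _ hm).2.2.1 rfl, hL.1⟩)
      obtain ⟨z, hz, za, zq, zy⟩ := u6_line_max hU hXg (a := bar n₂) (g := bar n0) (t₁ := bar m1)
        (t₂ := bar m2) (t₃ := bar m3) (x := bar ny)
        (hPb ▸ hPnd.map fun a b e => Subtype.ext (hN.bar_inj h₁ a.2 b.2 e))
        (hPb ▸ fun q hq => by
          obtain ⟨v, -, rfl⟩ := List.mem_map.1 hq
          exact bar_mem v.2)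
        (hPb ▸ fun q hq q' hq' => by
          obtain ⟨v, hv, rfl⟩ := List.mem_map.1 hq
          obtain ⟨w, hw, rfl⟩ := List.mem_map.1 hq'
          exact (commute_bar hPre v.2 w.2).2 (hco _ (hPv ▸ List.mem_map_of_mem hv) _
            (hPv ▸ List.mem_map_of_mem hw)))
        (by
          let u : ↥(Hd D d₁) := ⟨d₂, Subgroup.subset_closure n₂⟩ *
            (⟨T 0, Subgroup.subset_closure n0⟩ * (⟨t₁, Subgroup.subset_closure m1⟩ *
            (⟨t₂, Subgroup.subset_closure m2⟩ * ⟨t₃, Subgroup.subset_closure m3⟩)))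
          have hu : (u : G) = d₁ := by
            have hp := hL.2.2.2.2
            rw [eL] at hp
            simp only [List.prod_cons, List.prod_nil, mul_one] at hp
            simp only [u, Subgroup.coe_mul, hT0]
            rw [hp, ← mul_assoc, n₂.2.2.symm.eq, mul_assoc, Trans3.sq_one hD.1 n₂.1, mul_one]
          have : (QuotientGroup.mk u : Qd D d₁) = 1 := (QuotientGroup.eq_one_iff u).2 (by
            rw [m22_center_Hd hD hP h h₁, Subgroup.mem_subgroupOf, hu]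
            exact Subgroup.mem_zpowers d₁)
          simp only [List.prod_cons, List.prod_nil, mul_one]
          exact this)
        (bar_mem ny) ((commute_bar hPre ny n₂).2 ((hK y).1 hyK).2)
        (hl _ (bar_mem n0) ((commute_bar hPre n0 n₂).2 fc2.symm) (Commute.refl _)).symm
        (hPb ▸ fun hm => by
          obtain ⟨v, hv, e⟩ := List.mem_map.1 hm
          have e' := hN.bar_inj h₁ v.2 ny e
          have hvm : (v : G) ∈ d₂ :: L := hPv ▸ List.mem_map_of_mem hv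
          rcases List.mem_cons.1 hvm with e'' | hvL
          · exact hy2 (e'.symm.trans e'')
          · obtain ⟨j, hj⟩ := (hTL _).1 hvL
            exact hno j (e'.symm.trans hj.symm))
      exact zy (hl z hz za zq)⟩
    rcases perm_four_cases σ with ⟨a, ha, b, hb, hab⟩ | ⟨τ, hτ, hc3, hc1⟩
    · obtain ⟨ga, hga, hσa⟩ := real a ha
      obtain ⟨gb, hgb, hσb⟩ := real b hb
      have hy := hcomp (hcomp hσ hσa) hσb
      obtain ⟨g, eg⟩ : ∃ g, g = (x : G) * ga * gb := ⟨_, rfl⟩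
      rw [← eg, hab] at hy
      have gT : ∀ i, Commute g (T i) := fun i => commute_of_conj_eq (hy i)
      -- the hexad of three of the four
      obtain ⟨aD, a1, a2, ac1, ac2⟩ := hLD _ (hTm 0)
      have cc : ∀ i j, Commute (T i) (T j) := fun i j => hL.2.2.2.1 _ (hTm i) _ (hTm j)
      have nn : ∀ {i : Fin 4}, i ≠ 0 → T i ∈ nbrs D (T 0) := fun {i} hi =>
        ⟨(hLD _ (hTm i)).1, fun e => hi (hTinj e), cc 0 i⟩
      obtain ⟨bD, b1, b2, bc1, bc2⟩ := hLD _ (hTm 3)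
      have hfac : Fac D 3 (T 0 * T 1 * T 2) [d₁, d₂, T 3] := by
        refine ⟨?_, rfl, by simp [h₁, n₂.1, bD], ?_, ?_⟩
        · simp [Ne.symm n₂.2.1, Ne.symm b1, Ne.symm b2]
        · simp [n₂.2.2, n₂.2.2.symm, bc1, bc1.symm, bc2, bc2.symm]
        · have hp := hL.2.2.2.2
          rw [eL] at hp
          simp only [List.prod_cons, List.prod_nil, mul_one] at hp
          rw [eT]
          show [d₁, d₂, t₃].prod = f * t₁ * t₂
          simp only [List.prod_cons, List.prod_nil, mul_one]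
          rw [← mul_assoc, ← hp]
          simp only [mul_assoc]
          rw [Trans3.sq_one hD.1 (ht.2.2.1 t₃ (by simp)), mul_one]
      have hgd : Commute g d₁ := m22_hexad_fix hD hP h aD (nn (i := 1) (by decide))
        (nn (i := 2) (by decide)) (fun e => absurd (hTinj e) (by decide)) (cc 1 2) hfac
        (fun y hy hym => by
          have hyL : ∃ i : Fin 4, i ≠ 3 ∧ T i = y := by
            simp only [List.mem_cons, List.not_mem_nil, or_false] at hy
            rcases hy with rfl | rfl | rfl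
            exacts [⟨0, by decide, rfl⟩, ⟨1, by decide, rfl⟩, ⟨2, by decide, rfl⟩]
          obtain ⟨i, hi, rfl⟩ := hyL
          simp only [List.mem_cons, List.not_mem_nil, or_false] at hym
          rcases hym with e | e | e
          · exact (hLD _ (hTm i)).2.1 e
          · exact (hLD _ (hTm i)).2.2.1 e
          · exact hi (hTinj e))
        (gT 0) (gT 1) (gT 2) (t := T 3) (by simp) (gT 3) (by simp)
      have hg1 : g * d₁ * g⁻¹ = d₂ := by
        rw [eg]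
        obtain ⟨p1, -⟩ := (hK _).1 (mul_mem hga hgb)
        calc (x : G) * ga * gb * d₁ * ((x : G) * ga * gb)⁻¹
            = x * (ga * gb * d₁ * (ga * gb)⁻¹) * (x : G)⁻¹ := by group
          _ = d₂ := by rw [conj_eq_of_commute p1, e1]
      rw [conj_eq_of_commute hgd] at hg1
      exact n₂.2.1 hg1.symm
    · obtain ⟨g, hg, hσg⟩ := real τ hτ
      have hy := hcomp (hcomp (hcomp hσg hσ) (hinv hσg)) (hinv hσ)
      obtain ⟨c, ec⟩ : ∃ c, c = g * x * g⁻¹ * (x : G)⁻¹ := ⟨_, rfl⟩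
      rw [← ec] at hy
      have hcK : c ∈ K := by
        rw [ec, mul_assoc, mul_assoc g, ← mul_assoc (x : G)]
        exact mul_mem hg (hCK x x.2 _ (inv_mem hg))
      have hcm : c ∈ E := by
        refine (hEmem ⟨c, hcK⟩).2 ?_
        have : (⟨c, hcK⟩ : ↥K) = ⟨g, hg⟩ * cj x ⟨g⁻¹, inv_mem hg⟩ := Subtype.ext (by
          show c = g * ((x : G) * g⁻¹ * (x : G)⁻¹)
          rw [ec]
          group)
        rw [this, map_mul, hfix, ← map_mul]
        exact (congrArg θ (Subtype.ext (mul_inv_cancel g))).trans (map_one θ)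
      have hpow : ∀ (n : ℕ) i, c ^ n * T i * (c ^ n)⁻¹ = T (((τ * σ * τ⁻¹ * σ⁻¹) ^ n) i) := by
        intro n
        induction n with
        | zero => intro i; simp
        | succ n ih => rw [pow_succ, pow_succ]; exact hcomp ih hy
      have h1 : c ^ 1024 = 1 := by
        have h2 : (⟨c, hcm⟩ : E) ^ Nat.card E = 1 := pow_card_eq_one'
        rw [hcE] at h2
        exact congrArg Subtype.val h2
      refine hc1 (perm_cube_pow hc3 (Equiv.ext fun i => hTinj ?_))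
      rw [← hpow, h1]
      simp
  haveI hEn : (E.subgroupOf C).Normal := ⟨fun u hu c => by
    rw [Subgroup.mem_subgroupOf] at hu ⊢
    simp only [Subgroup.coe_mul, Subgroup.coe_inv]
    have h1 := hkinv c (show (⟨u, hEK hu⟩ : ↥K) ∈ θ.ker from (hEmem ⟨u, hEK hu⟩).1 hu)
    exact (hEmem (cj c ⟨u, hEK hu⟩)).2 h1⟩
  refine ⟨hEn, F, iF, iFt, hF, ?_⟩
  have hkerA : A.ker = E.subgroupOf C := by
    ext x
    rw [MonoidHom.mem_ker, Subgroup.mem_subgroupOf]
    refine ⟨hA x, fun hx => MulEquiv.ext fun q => ?_⟩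
    obtain ⟨k, rfl⟩ := hθs q
    show φ x (θ k) = θ k
    rw [hφ, show cj x k = ⟨x, hEK hx⟩ * k * ⟨x, hEK hx⟩⁻¹ from Subtype.ext (hcj x k), map_mul,
      map_mul, map_inv, (hEmem ⟨x, hEK hx⟩).1 hx, one_mul, inv_one, mul_one]
  have hsur : Function.Surjective A := by
    haveI : Finite (MulAut (Cfsg.PSU 4 F 2)) :=
      Nat.finite_of_card_ne_zero (by rw [card_aut_psu_four hF]; norm_num)
    refine MonoidHom.range_eq_top.1 (Subgroup.eq_top_of_card_eq _ ?_)
    rw [card_aut_psu_four hF, ← Nat.card_congr (QuotientGroup.quotientKerEquivRange A).toEquiv]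
    have h1 := Subgroup.card_eq_card_quotient_mul_card_subgroup A.ker
    have h2 : Nat.card A.ker = 2 ^ 10 := by
      rw [hkerA, Nat.card_congr (Subgroup.subgroupOfEquivOfLe (hEK.trans hle)).toEquiv, hcE]
    have h3 : Nat.card ↥C = 53084160 := by
      have := (K.subgroupOf C).card_mul_index
      rw [hidx, Nat.card_congr (Subgroup.subgroupOfEquivOfLe hle).toEquiv, hcK] at this
      omega
    rw [h2, h3] at h1
    omega
  exact ⟨(QuotientGroup.quotientMulEquivOfEq hkerA.symm).trans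
    (QuotientGroup.quotientKerEquivOfSurjective A hsur)⟩

theorem m22_pair_structure {K C V : Subgroup G} (hK : ∀ x, x ∈ K ↔ Commute x d₁ ∧ Commute x d₂)
    (hC : ∀ x, x ∈ C ↔ Commute x (d₁ * d₂)) (hV : V = Subgroup.closure ({d₁, d₂} : Set G)) :
    (Subgroup.center ↥K).map K.subtype = V ∧
      ∃ E : Subgroup G, V ≤ E ∧ E ≤ C ∧ (∀ c ∈ C, ∀ x ∈ E, c * x * c⁻¹ ∈ E) ∧
        Nat.card E = 2 ^ 10 ∧ (∀ x ∈ E, ∀ y ∈ E, x * y * x⁻¹ * y⁻¹ ∈ V ∧ x ^ 2 ∈ V) ∧
        ∃ (_ : (E.subgroupOf C).Normal) (F : Type) (_ : Field F) (_ : Fintype F),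
          Fintype.card F = 4 ∧ Nonempty (↥C ⧸ E.subgroupOf C ≃* MulAut (Cfsg.PSU 4 F 2)) := by
  obtain ⟨h0, E, hVE, -, hrest⟩ := m22_pair_structure_core hD hP h h₁ n₂ hK hC hV
  exact ⟨h0, E, hVE, hrest⟩

end CfsgLib.Trans3.Fi
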