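import Cfsg.Agent.Lib.Trans3.Basic
import Mathlib.GroupTheory.PGroup

/-!
3-transpositions congruent modulo a 2-group normalised by a third one commute with it alike.
-/

set_option autoImplicit false

namespace CfsgLib.Trans3.Fi

variable {G : Type*} [Group G] {D : Set G} {E : Subgroup G}

theorem eq_one_of_pow_three_isPGroup (hE : IsPGroup 2 E) {y : G} (hy : y ∈ E) (h3 : y ^ 3 = 1) :
    y = 1 := by
  obtain ⟨n, hn⟩ := hE ⟨y, hy⟩
  have h2 : y ^ (2 ^ n) = 1 := congrArg Subtype.val hn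
  have hc : Nat.Coprime (2 ^ n) 3 := Nat.Coprime.pow_left n (by norm_num)
  simpa [hc.gcd_eq_one] using pow_gcd_eq_one.2 ⟨h2, h3⟩

/-- Members congruent modulo `E` commute with the same members normalising `E`. -/
theorem commute_of_mul_mem (hD : Cfsg.IsThreeTranspositionSet D) (hE : IsPGroup 2 E) {s t z : G}
    (hs : s ∈ D) (ht : t ∈ D) (hz : z ∈ D) (hn : ∀ x ∈ E, z * x * z⁻¹ ∈ E) (hst : s * t ∈ E)
    (hzt : Commute z t) : Commute z s := by
  by_contra hn'
  have hns : ¬ Commute s z := fun c => hn' c.symm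
  have hw : (s * t) * (z * (s * t)⁻¹ * z⁻¹) ∈ E := mul_mem hst (hn _ (inv_mem hst))
  have e : (s * t) * (z * (s * t)⁻¹ * z⁻¹) = (s * z) * (s * z) := by
    rw [mul_inv_rev, Trans3.inv_eq hD hz, Trans3.inv_eq hD hs, Trans3.inv_eq hD ht]
    calc s * t * (z * (t * s) * z) = s * (t * z * t) * s * z := by group
      _ = s * z * (s * z) := by
        rw [hzt.symm.eq, mul_assoc z t t, Trans3.sq_one hD ht, mul_one]; group
  rw [e] at hw
  have h3 := Trans3.pow_three hD hs hz hns
  have h6 : ((s * z) * (s * z)) ^ 3 = 1 := by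
    rw [(Commute.refl (s * z)).mul_pow, h3, one_mul]
  have h2 : (s * z) ^ 2 = 1 := by rw [pow_two]; exact eq_one_of_pow_three_isPGroup hE hw h6
  rw [pow_succ, h2, one_mul] at h3
  exact hns (by rw [eq_inv_of_mul_eq_one_left h3, Trans3.inv_eq hD hz])

end CfsgLib.Trans3.Fi
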