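import Mathlib.GroupTheory.Sylow
import Mathlib.Algebra.Group.End
import Mathlib.GroupTheory.Index
import Mathlib.SetTheory.Cardinal.Finite

/-!
Subgroups of an automorphism group made of two cosets of inner automorphisms, and conjugating a
2-element into a subgroup of odd index.
-/

set_option autoImplicit false

namespace CfsgLib.Trans3.Fi.AutCard

variable {G : Type*} [Group G]

/-- A subgroup consisting of the inner automorphisms by `X` and their products with one outer
automorphism has twice the order of `X`. -/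
theorem card_two_cosets (hinj : Function.Injective (MulAut.conj : G →* MulAut G)) {σ : MulAut G}
    (hσ : ∀ g, σ ≠ MulAut.conj g) (X : Subgroup G) (H : Subgroup (MulAut G))
    (hH : ∀ a, a ∈ H ↔ ∃ g ∈ X, a = MulAut.conj g ∨ a = MulAut.conj g * σ) :
    Nat.card H = 2 * Nat.card X := by
  let f : Bool × ↥X → ↥H := fun q => ⟨MulAut.conj (q.2 : G) * cond q.1 σ 1, (hH _).2 ⟨q.2, q.2.2, by
    cases q.1
    · exact Or.inl (mul_one _)
    · exact Or.inr rfl⟩⟩
  have hno : ∀ u v : G, MulAut.conj u * σ ≠ MulAut.conj v := fun u v e2 => hσ (u⁻¹ * v) (by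
    rw [map_mul, map_inv, ← e2, inv_mul_cancel_left])
  have hfi : Function.Injective f := by
    rintro ⟨b, e⟩ ⟨b₁, e₁⟩ he
    have he' : MulAut.conj (e : G) * cond b σ 1 = MulAut.conj (e₁ : G) * cond b₁ σ 1 :=
      congrArg Subtype.val he
    cases b <;> cases b₁
    · exact Prod.ext rfl (Subtype.ext (hinj (mul_right_cancel he')))
    · exact absurd (by simpa using he'.symm) (hno e₁ e)
    · exact absurd (by simpa using he') (hno e e₁)
    · exact Prod.ext rfl (Subtype.ext (hinj (mul_right_cancel he')))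
  have hfs : Function.Surjective f := by
    rintro ⟨a, ha⟩
    obtain ⟨g, hg, e1 | e1⟩ := (hH a).1 ha
    · exact ⟨(false, ⟨g, hg⟩), Subtype.ext ((mul_one _).trans e1.symm)⟩
    · exact ⟨(true, ⟨g, hg⟩), Subtype.ext e1.symm⟩
  rw [← Nat.card_eq_of_bijective f ⟨hfi, hfs⟩, Nat.card_prod, Nat.card_eq_fintype_card (α := Bool),
    Fintype.card_bool]

/-- A 2-element is conjugate into every subgroup of odd index. -/
theorem exists_conj_mem {A : Type*} [Group A] [Finite A] (H : Subgroup A) (hH : ¬ 2 ∣ H.index)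
    {t : A} (ht : t * t = 1) : ∃ a : A, a * t * a⁻¹ ∈ H := by
  haveI : Fact (Nat.Prime 2) := ⟨Nat.prime_two⟩
  obtain ⟨P₀⟩ := (inferInstance : Nonempty (Sylow 2 ↥H))
  obtain ⟨P, eP⟩ : ∃ P : Subgroup A, P = (P₀ : Subgroup ↥H).map H.subtype := ⟨_, rfl⟩
  have hP : IsPGroup 2 P := eP ▸ P₀.2.map _
  have hidx : ¬ 2 ∣ P.index := by
    rw [eP, Subgroup.index_map_subtype]
    exact fun h => (Nat.Prime.dvd_mul Nat.prime_two).1 h |>.elim (fun h => P₀.not_dvd_index h) hH
  have hz : IsPGroup 2 (Subgroup.zpowers t) := by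
    intro x
    refine ⟨1, Subtype.ext ?_⟩
    obtain ⟨k, hk⟩ := Subgroup.mem_zpowers_iff.1 x.2
    show (x : A) ^ 2 ^ 1 = 1
    rw [← hk, pow_one, ← zpow_natCast, ← zpow_mul, mul_comm, zpow_mul]
    simp [pow_two, ht]
  obtain ⟨R, hR⟩ := hz.exists_le_sylow
  obtain ⟨S, hS⟩ : ∃ S : Sylow 2 A, (S : Subgroup A) = P := ⟨hP.toSylow hidx, rfl⟩
  obtain ⟨a, ha⟩ := MulAction.exists_smul_eq A R S
  refine ⟨a, ?_⟩
  have h1 : a * t * a⁻¹ ∈ (S : Subgroup A) := by
    rw [← ha, Sylow.coe_subgroup_smul]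
    exact ⟨t, hR (Subgroup.mem_zpowers t), rfl⟩
  rw [hS, eP] at h1
  obtain ⟨x, -, hx⟩ := h1
  exact hx ▸ x.2

end CfsgLib.Trans3.Fi.AutCard
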