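import Cfsg.Agent.Lib.Trans3.Fi.TwoPair22
import Cfsg.Agent.Lib.Amalgam.SixMinusSylow

/-!
The automorphism group of `PSU₄(2)` is the isometry group of an elliptic quadratic form in
dimension six over the field with two elements.
-/

set_option autoImplicit false
set_option linter.style.haveILetI false
set_option maxRecDepth 8000

namespace CfsgLib.Trans3.Fi

open Matrix CfsgLib.Amalgam.SixMinus

/-- The matrix of an orthogonal transvection. -/
def sixTv (v : I6 → F2) : Matrix I6 I6 F2 :=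
  Matrix.of fun i j => (if i = j then 1 else 0) +
    v i * (Q2 (v + Pi.single j 1) + Q2 v + Q2 (Pi.single j 1))

/-- A system of nonsingular vectors spanning the space. -/
def nsVec : Fin 6 → I6 → F2 :=
  ![Pi.single (.inr 0) 1, Pi.single (.inr 1) 1,
    Pi.single (.inr 0) 1 + Pi.single (.inl (.inl 0)) 1,
    Pi.single (.inr 0) 1 + Pi.single (.inl (.inl 1)) 1,
    Pi.single (.inr 0) 1 + Pi.single (.inl (.inr 0)) 1,
    Pi.single (.inr 0) 1 + Pi.single (.inl (.inr 1)) 1]

theorem sixTv_sq : ∀ k, sixTv (nsVec k) * sixTv (nsVec k) = 1 := by decide +kernel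

theorem sixTv_isom : ∀ k u, Q2 (sixTv (nsVec k) *ᵥ u) = Q2 u := by decide +kernel

/-- The transvection of a vector of the system. -/
def sixTvElt (k : Fin 6) : O2 :=
  elt (sixTv (nsVec k)) (sixTv (nsVec k)) (sixTv_sq k) (sixTv_sq k) (sixTv_isom k)

theorem sixTv_move : ∀ k, (∀ u, sixTv (nsVec k) *ᵥ u + u = 0 ∨ sixTv (nsVec k) *ᵥ u + u = nsVec k) ∧
    (∃ w, sixTv (nsVec k) *ᵥ w + w = nsVec k) ∧ nsVec k ≠ 0 := by decide +kernel

theorem nsVec_span : ∀ j : I6, ∃ a : Fin 6 → F2, Pi.single j (1 : F2) = ∑ k, a k • nsVec k := by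
  decide +kernel

/-- An isometry commuting with the six transvections is the identity. -/
theorem eq_one_of_commute_tv {x : O2} (h : ∀ k, Commute x (sixTvElt k)) : x = 1 := by
  obtain ⟨X, eX⟩ : ∃ X : Matrix I6 I6 F2,
      X = ((x : Matrix.GeneralLinearGroup I6 F2) : Matrix I6 I6 F2) := ⟨_, rfl⟩
  have hfix : ∀ k, X *ᵥ nsVec k = nsVec k := by
    intro k
    obtain ⟨h1, ⟨w, hw⟩, h3⟩ := sixTv_move k
    have hc : X * sixTv (nsVec k) = sixTv (nsVec k) * X := by
      rw [eX]
      exact congrArg (fun z : O2 => ((z : Matrix.GeneralLinearGroup I6 F2) : Matrix I6 I6 F2)) (h k)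
    have e : X *ᵥ nsVec k = sixTv (nsVec k) *ᵥ (X *ᵥ w) + X *ᵥ w := by
      conv_lhs => rw [← hw, mulVec_add, mulVec_mulVec, hc, ← mulVec_mulVec]
    rcases h1 (X *ᵥ w) with e' | e'
    · refine absurd ?_ h3
      rw [e'] at e
      obtain ⟨Y, hY⟩ : ∃ Y : Matrix I6 I6 F2, Y * X = 1 :=
        ⟨((x⁻¹ : O2) : Matrix.GeneralLinearGroup I6 F2), by
          rw [eX]
          exact congrArg (fun z : O2 => ((z : Matrix.GeneralLinearGroup I6 F2) : Matrix I6 I6 F2))
            (inv_mul_cancel x)⟩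
      have := congrArg (Y *ᵥ ·) e
      simpa [mulVec_mulVec, hY] using this
    · rw [e, e']
  refine ext' ?_
  rw [← eX]
  show X = 1
  refine Matrix.ext_of_mulVec_single fun j => ?_
  obtain ⟨a, ha⟩ := nsVec_span j
  rw [one_mulVec, ha, mulVec_sum]
  exact Finset.sum_congr rfl fun k _ => by rw [mulVec_smul, hfix]

theorem aut_psu_four_equiv (F : Type) [Field F] [Fintype F] (hF : Fintype.card F = 4) :
    Nonempty (MulAut (Cfsg.PSU 4 F 2) ≃* O2) := by
  classical
  obtain ⟨e2⟩ := Cfsg.Agent.S0303.result (F := F2) (K := F) (q := 2) (ZMod.card 2)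
    (by rw [hF]; norm_num) 1 1 anisotropic
  have hcard := CfsgLib.Classical.card_pOmega_minus (F := F2) (ZMod.card 2) 2 le_rfl anisotropic
  rw [Finset.prod_range_succ, Finset.prod_range_one] at hcard
  have hv : (2 : ℕ) ^ ((2 + 1) * 2) * (2 ^ (2 + 1) + 1) *
      ((2 ^ (2 * (0 + 1)) - 1) * (2 ^ (2 * (1 + 1)) - 1)) = 25920 := by norm_num
  rw [hv, show Nat.gcd 4 ((2 : ℕ) ^ (2 + 1) + 1) = 1 by decide, one_mul] at hcard
  have hz : Subgroup.center (Cfsg.Omega F2 Q2) = ⊥ := by
    have h1 := (Subgroup.center (Cfsg.Omega F2 Q2)).card_mul_index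
    rw [Subgroup.index_eq_card, card_omega] at h1
    change Nat.card _ * Nat.card (Cfsg.POmega F2 Q2) = _ at h1
    rw [hcard] at h1
    exact Subgroup.eq_bot_of_card_eq _
      (Nat.eq_of_mul_eq_mul_right (by norm_num : 0 < 25920) (h1.trans (one_mul 25920).symm))
  let e : Cfsg.PSU 4 F 2 ≃* Cfsg.Omega F2 Q2 :=
    e2.symm.trans ((QuotientGroup.quotientMulEquivOfEq hz).trans QuotientGroup.quotientBot)
  haveI hn : (Cfsg.Omega F2 Q2).Normal := Subgroup.normal_of_index_eq_two omega_index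
  have hinj : Function.Injective (MulAut.conjNormal : O2 →* MulAut (Cfsg.Omega F2 Q2)) := by
    rw [injective_iff_map_eq_one]
    intro x hx
    have hΩ : ∀ k ∈ Cfsg.Omega F2 Q2, Commute x k := fun k hk => by
      have := congrArg Subtype.val (DFunLike.congr_fun hx (⟨k, hk⟩ : Cfsg.Omega F2 Q2))
      rw [MulAut.conjNormal_apply, MulAut.one_apply] at this
      exact mul_inv_eq_iff_eq_mul.1 this
    by_cases hxm : x ∈ Cfsg.Omega F2 Q2
    · have hc : (⟨x, hxm⟩ : Cfsg.Omega F2 Q2) ∈ Subgroup.center (Cfsg.Omega F2 Q2) :=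
        Subgroup.mem_center_iff.2 fun k => Subtype.ext (hΩ k k.2).eq.symm
      rw [hz, Subgroup.mem_bot] at hc
      exact congrArg Subtype.val hc
    · refine eq_one_of_commute_tv fun k => ?_
      by_cases hk : sixTvElt k ∈ Cfsg.Omega F2 Q2
      · exact hΩ _ hk
      · have hm := (Subgroup.mul_mem_iff_of_index_two omega_index).2 (iff_of_false hxm hk)
        simpa using ((Commute.refl x).inv_right.mul_right (hΩ _ hm))
  haveI : Finite (MulAut (Cfsg.PSU 4 F 2)) :=
    Nat.finite_of_card_ne_zero (by rw [card_aut_psu_four hF]; norm_num)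
  let f : O2 →* MulAut (Cfsg.PSU 4 F 2) := (MulAut.congr e.symm).toMonoidHom.comp MulAut.conjNormal
  have hf : Function.Injective f := (MulAut.congr e.symm).injective.comp hinj
  exact ⟨(MulEquiv.ofBijective f ((Nat.bijective_iff_injective_and_card f).2
    ⟨hf, card_O2.trans (card_aut_psu_four hF).symm⟩)).symm⟩

end CfsgLib.Trans3.Fi
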