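import Cfsg.Agent.Lib.Trans3.Fi.TwoPairE
import Cfsg.Agent.Lib.Trans3.Fi.AutSixMinus
import Cfsg.Agent.Lib.Comp.Local
import Cfsg.Agent.Lib.Amalgam.PCore
import Cfsg.Agent.Lib.Transfer.PPrimeAut
import Cfsg.Agent.Lib.Golay.E8Co2

/-!
A group of type M(22): the generalized Fitting subgroup of the centraliser of a product of two
commuting members is the product of a group of order two and an extraspecial group of order `2⁹`.
-/

set_option autoImplicit false
set_option linter.unusedSectionVars false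
set_option linter.style.haveILetI false

namespace CfsgLib.Trans3.Fi

open scoped commutatorElement

theorem ofAdd_two_facts : (∀ b : Multiplicative (ZMod 2), b = 1 ∨ b = Multiplicative.ofAdd 1) ∧
    Multiplicative.ofAdd (1 : ZMod 2) ≠ 1 ∧
    Multiplicative.ofAdd (1 : ZMod 2) * Multiplicative.ofAdd 1 = 1 := by decide

theorem isPGroup_two_of_card {G : Type*} [Group G] {E : Subgroup G} {n : ℕ}
    (h : Nat.card E = 2 ^ n) : IsPGroup 2 E :=
  IsPGroup.of_card h

theorem pCore_mulAut_psu_four {F : Type} [Field F] [Fintype F] (hF : Fintype.card F = 4)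
    (N : Subgroup (MulAut (Cfsg.PSU 4 F 2))) [N.Normal] (hN : IsPGroup 2 N) : N = ⊥ := by
  have hF2 : Fintype.card F = 2 ^ 2 := hF
  haveI : Fact (Nat.Prime 2) := ⟨Nat.prime_two⟩
  have hzsu := center_su_four hF2
  haveI : IsSimpleGroup (Cfsg.PSU 4 F 2) :=
    CfsgLib.Classical.isSimpleGroup_psu hF2 (n := 4) (by norm_num) (by norm_num)
  have hpsu : Nat.card (Cfsg.PSU 4 F 2) = 25920 := by
    rw [← card_su_four hF2]
    exact Nat.card_congr
      ((QuotientGroup.quotientMulEquivOfEq hzsu).trans QuotientGroup.quotientBot).toEquiv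
  have hzp : Subgroup.center (Cfsg.PSU 4 F 2) = ⊥ := center_congr
    ((QuotientGroup.quotientMulEquivOfEq hzsu).trans QuotientGroup.quotientBot).symm hzsu
  have hinj : Function.Injective (MulAut.conj : Cfsg.PSU 4 F 2 →* MulAut (Cfsg.PSU 4 F 2)) := by
    rw [injective_iff_map_eq_one]
    intro a ha
    have : a ∈ Subgroup.center (Cfsg.PSU 4 F 2) := Subgroup.mem_center_iff.2 fun b => by
      have := DFunLike.congr_fun ha b
      rw [MulAut.conj_apply, MulAut.one_apply, mul_inv_eq_iff_eq_mul] at this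
      exact this.symm
    rwa [hzp, Subgroup.mem_bot] at this
  have hcomap : N.comap MulAut.conj = ⊥ := by
    refine (Subgroup.Normal.comap inferInstance _).eq_bot_or_eq_top.resolve_right fun e => ?_
    have h1 : IsPGroup 2 ↥(N.comap (MulAut.conj : Cfsg.PSU 4 F 2 →* _)) :=
      hN.comap_of_injective _ hinj
    rw [e] at h1
    obtain ⟨n, hn⟩ := IsPGroup.iff_card.1 h1
    rw [Subgroup.card_top, hpsu] at hn
    have h5 : 5 ∣ 2 ^ n := hn ▸ (by norm_num : 5 ∣ 25920)
    exact absurd ((Nat.prime_dvd_prime_iff_eq (by norm_num) Nat.prime_two).1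
      ((by norm_num : Nat.Prime 5).dvd_of_dvd_pow h5)) (by norm_num)
  rw [Subgroup.eq_bot_iff_forall]
  intro φ hφ
  ext a
  show φ a = a
  have e : MulAut.conj (φ a) * (MulAut.conj a)⁻¹ = φ * (MulAut.conj a * φ⁻¹ * (MulAut.conj a)⁻¹) := by
    ext b
    simp [MulAut.mul_apply, MulAut.conj_apply, map_mul, map_inv, mul_assoc]
  have h2 : MulAut.conj (φ a * a⁻¹) ∈ N := by
    rw [map_mul, map_inv, e]
    exact mul_mem hφ (Subgroup.Normal.conj_mem inferInstance _ (inv_mem hφ) _)
  have h3 : φ a * a⁻¹ ∈ N.comap (MulAut.conj : Cfsg.PSU 4 F 2 →* _) := h2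
  rw [hcomap, Subgroup.mem_bot] at h3
  exact mul_inv_eq_one.1 h3

variable {G : Type*} [Group G] [Finite G] {D : Set G}
variable (hD : Cfsg.IsThreeTranspositionGroup D) (hP : Cfsg.IsPrimitiveUnderConj D)
variable (h : Cfsg.IsOfTypeM22 G D)
variable {d₁ d₂ : G} (h₁ : d₁ ∈ D) (n₂ : d₂ ∈ nbrs D d₁)
include hD hP h h₁ n₂

/-- The kernel as the extraspecial group times a group of order two. -/
theorem pairE_split {E : Subgroup G} (hE : PairE d₁ d₂ E) :
    ∃ M : Subgroup G, M ≤ E ∧ Cfsg.IsExtraspecial 2 ↥M ∧ Nat.card M = 2 ^ 9 ∧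
      Nonempty (↥E ≃* Multiplicative (ZMod 2) × ↥M) := by
  classical
  haveI : Fact (Nat.Prime 2) := ⟨Nat.prime_two⟩
  have v1 : d₁ ∈ Subgroup.closure ({d₁, d₂} : Set G) := Subgroup.subset_closure (Or.inl rfl)
  have v2 : d₂ ∈ Subgroup.closure ({d₁, d₂} : Set G) := Subgroup.subset_closure (Or.inr rfl)
  have e1 : d₁ ∈ E := hE.le v1
  have ej : d₁ * d₂ ∈ E := hE.le (mul_mem v1 v2)
  have a1 := invol_ne_one (hD.1.1 d₁ h₁)
  have a3 : d₁ * d₂ ≠ 1 := fun e => n₂.2.1 (by
    rw [eq_inv_of_mul_eq_one_left e, inv_eq hD.1 n₂.1])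
  have a4 : d₁ * d₂ ≠ d₁ := fun e => invol_ne_one (hD.1.1 d₂ n₂.1) (mul_eq_left.1 e)
  have jj : d₁ * d₂ * (d₁ * d₂) = 1 := by
    rw [n₂.2.2.symm.mul_mul_mul_comm, Trans3.sq_one hD.1 h₁, Trans3.sq_one hD.1 n₂.1, one_mul]
  have hJ : ∀ z ∈ Subgroup.zpowers (d₁ * d₂), z = 1 ∨ z = d₁ * d₂ := by
    intro z hz
    rw [Subgroup.zpowers_eq_closure] at hz
    induction hz using Subgroup.closure_induction with
    | mem w hw => exact Or.inr hw
    | one => exact Or.inl rfl
    | mul x y _ _ hx hy => rcases hx with rfl | rfl <;> rcases hy with rfl | rfl <;> simp [jj]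
    | inv x _ hx =>
      rcases hx with rfl | rfl
      · exact Or.inl inv_one
      · exact Or.inr (inv_eq_of_mul_eq_one_right jj)
  -- a largest subgroup containing the product but not `d₁`
  obtain ⟨M, hM, hmax⟩ := (Set.toFinite {M : Subgroup G | d₁ * d₂ ∈ M ∧ M ≤ E ∧ d₁ ∉ M}).exists_maximal
    ⟨Subgroup.zpowers (d₁ * d₂), Subgroup.mem_zpowers _, Subgroup.zpowers_le.2 ej, fun hm =>
      (hJ _ hm).elim a1 (fun e => a4 e.symm)⟩
  obtain ⟨hjM, hME, hd₁M⟩ := hM
  have hcm : ∀ x ∈ E, ∀ y ∈ E, x * y * x⁻¹ * y⁻¹ ∈ M := fun x hx y hy => by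
    rcases pairE_commutator hD hP h h₁ n₂ hE hx hy with e | e <;> rw [e]
    exacts [one_mem _, hjM]
  have hconj : ∀ x ∈ E, ∀ m ∈ M, x * m * x⁻¹ ∈ M := fun x hx m hm => by
    have := mul_mem (hcm x hx m (hME hm)) hm
    rwa [inv_mul_cancel_right] at this
  have hcov : ∀ x ∈ E, x ∈ M ∨ d₁ * x ∈ M := by
    intro x hx
    by_contra! hno
    have hxx : x * x ∈ M := by
      rcases pairE_square hD hP h h₁ n₂ hE hx with e | e <;> rw [e]
      exacts [one_mem _, hjM]
    obtain ⟨M', eM'⟩ : ∃ M' : Subgroup G, ∀ y, y ∈ M' ↔ y ∈ M ∨ x⁻¹ * y ∈ M := by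
      refine ⟨{
        carrier := {y | y ∈ M ∨ x⁻¹ * y ∈ M}
        one_mem' := Or.inl (one_mem _)
        mul_mem' := fun {a b} ha hb => by
          rcases ha with ha | ha <;> rcases hb with hb | hb
          · exact Or.inl (mul_mem ha hb)
          · right
            have := mul_mem (hconj x⁻¹ (inv_mem hx) a ha) hb
            rwa [inv_inv, show x⁻¹ * a * x * (x⁻¹ * b) = x⁻¹ * (a * b) by group] at this
          · right; rw [← mul_assoc]; exact mul_mem ha hb
          · left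
            have := mul_mem (mul_mem (hconj x hx _ ha) hxx) hb
            rwa [show x * (x⁻¹ * a) * x⁻¹ * (x * x) * (x⁻¹ * b) = a * b by group] at this
        inv_mem' := fun {a} ha => by
          rcases ha with ha | ha
          · exact Or.inl (inv_mem ha)
          · right
            have := mul_mem (inv_mem hxx) (hconj x hx _ (inv_mem ha))
            rwa [show (x * x)⁻¹ * (x * (x⁻¹ * a)⁻¹ * x⁻¹) = x⁻¹ * a⁻¹ by group] at this },
        fun y => Iff.rfl⟩
    have hd : d₁ ∉ M' := fun hm => by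
      rcases (eM' d₁).1 hm with hm | hm
      · exact hd₁M hm
      · refine hno.2 ?_
        have := inv_mem hm
        rwa [mul_inv_rev, inv_inv, inv_eq hD.1 h₁] at this
    have hle : M ≤ M' := fun y hy => (eM' y).2 (Or.inl hy)
    have hM'E : M' ≤ E := fun y hy => ((eM' y).1 hy).elim (fun hm => hME hm) fun hm => by
      have := mul_mem hx (hME hm); rwa [mul_inv_cancel_left] at this
    exact hno.1 (hmax (show d₁ * d₂ ∈ M' ∧ M' ≤ E ∧ d₁ ∉ M' from ⟨hle hjM, hM'E, hd⟩) hle
      ((eM' x).2 (Or.inr (by simp))))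
  -- the product decomposition
  have hfix : ∀ m ∈ M, Commute d₁ m := fun m hm => (hE.fix m (hME hm)).1.symm
  let c : Multiplicative (ZMod 2) →* ↥E :=
    { toFun := fun b => if b = 1 then 1 else ⟨d₁, e1⟩
      map_one' := if_pos rfl
      map_mul' := fun a b => by
        obtain ⟨hall, hu, huu⟩ := ofAdd_two_facts
        rcases hall a with rfl | rfl <;> rcases hall b with rfl | rfl <;>
          simp [hu, huu, Subtype.ext_iff, Trans3.sq_one hD.1 h₁] }
  let f : Multiplicative (ZMod 2) × ↥M →* ↥E := MonoidHom.noncommCoprod c (Subgroup.inclusion hME)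
    fun b m => Subtype.ext (by
      show ((c b : ↥E) : G) * (m : G) = (m : G) * (c b : ↥E)
      simp only [c, MonoidHom.coe_mk, OneHom.coe_mk]
      split_ifs
      · simp
      · exact (hfix m m.2).eq)
  have hfu : ∀ m : ↥M, (f (Multiplicative.ofAdd 1, m) : G) = d₁ * m := fun m => by
    show ((c (Multiplicative.ofAdd 1) * Subgroup.inclusion hME m : ↥E) : G) = _
    simp [c, ofAdd_two_facts.2.1]
  have hf1 : ∀ m : ↥M, (f (1, m) : G) = m := fun m => by
    show ((c 1 * Subgroup.inclusion hME m : ↥E) : G) = _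
    simp [c]
  have hfinj : Function.Injective f := by
    rw [injective_iff_map_eq_one]
    rintro ⟨b, m⟩ hbm
    have hall : b = 1 ∨ b = Multiplicative.ofAdd 1 := ofAdd_two_facts.1 b
    have hb' := congrArg Subtype.val hbm
    rcases hall with rfl | rfl
    · rw [hf1] at hb'
      exact Prod.ext rfl (Subtype.ext hb')
    · rw [hfu] at hb'
      exact absurd (by rw [eq_inv_of_mul_eq_one_left hb']; exact inv_mem m.2) hd₁M
  have hfsur : Function.Surjective f := fun y => by
    rcases hcov y y.2 with hy | hy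
    · exact ⟨(1, ⟨y, hy⟩), Subtype.ext (hf1 _)⟩
    · exact ⟨(Multiplicative.ofAdd 1, ⟨_, hy⟩), Subtype.ext ((hfu _).trans (by
        rw [← mul_assoc, Trans3.sq_one hD.1 h₁, one_mul]))⟩
  let e := MulEquiv.ofBijective f ⟨hfinj, hfsur⟩
  have hcM : Nat.card M = 2 ^ 9 := by
    have := (Nat.card_congr e.toEquiv).trans hE.card
    rw [Nat.card_prod, Nat.card_eq_fintype_card (α := Multiplicative (ZMod 2)),
      Fintype.card_multiplicative, ZMod.card] at this
    omega
  -- extraspecial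
  obtain ⟨jM, ejM⟩ : ∃ jM : ↥M, jM = ⟨d₁ * d₂, hjM⟩ := ⟨_, rfl⟩
  have hcen : Subgroup.center ↥M = Subgroup.zpowers jM := by
    apply le_antisymm
    · intro z hz
      have hcE : ∀ y ∈ E, Commute (z : G) y := by
        intro y hy
        have hzm : ∀ m ∈ M, Commute (z : G) m := fun m hm =>
          (congrArg Subtype.val (Subgroup.mem_center_iff.1 hz ⟨m, hm⟩)).symm
        rcases hcov y hy with hy' | hy'
        · exact hzm y hy'
        · have := (hE.fix z (hME z.2)).1.mul_right (hzm _ hy')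
          rwa [← mul_assoc, Trans3.sq_one hD.1 h₁, one_mul] at this
      have hv := pairE_centralizer hD hP h h₁ n₂ hE hcE
      rcases v_cases hD h₁ n₂ hv with e | e | e | e
      · rw [show z = 1 from Subtype.ext e]; exact one_mem _
      · exact absurd (e ▸ z.2) hd₁M
      · refine absurd ?_ hd₁M
        have := mul_mem hjM (inv_mem (e ▸ z.2))
        rwa [mul_inv_cancel_right] at this
      · rw [show z = jM from Subtype.ext (by rw [e, ejM])]; exact Subgroup.mem_zpowers _
    · rw [Subgroup.zpowers_le, ejM, Subgroup.mem_center_iff]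
      exact fun m => Subtype.ext
        ((hE.fix m (hME m.2)).1.mul_right (hE.fix m (hME m.2)).2).eq
  have hmem : ∀ x : ↥M, ((x : G) = 1 ∨ (x : G) = d₁ * d₂) → x ∈ Subgroup.center ↥M := by
    intro x hx
    rw [hcen]
    rcases hx with e | e
    · rw [show x = 1 from Subtype.ext e]; exact one_mem _
    · rw [show x = jM from Subtype.ext (by rw [e, ejM])]; exact Subgroup.mem_zpowers _
  have hcard2 : Nat.card (Subgroup.center ↥M) = 2 := by
    rw [hcen, Nat.card_zpowers]
    exact orderOf_eq_prime (by rw [pow_two, ejM]; exact Subtype.ext jj)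
      (by rw [ejM]; exact fun e => a3 (congrArg Subtype.val e))
  have hpM : IsPGroup 2 ↥M := isPGroup_two_of_card hcM
  have hder : ∀ x y : ↥M, x * y * x⁻¹ * y⁻¹ ∈ Subgroup.center ↥M := fun x y =>
    hmem _ (pairE_commutator hD hP h h₁ n₂ hE (hME x.2) (hME y.2))
  have hfr : frattini ↥M ≤ Subgroup.center ↥M :=
    CfsgLib.Transfer.frattini_le_of_elementary_quotient _ (fun x y => hder x y) fun x => by
      refine hmem _ ?_
      rw [pow_two]
      exact pairE_square hD hP h h₁ n₂ hE (hME x.2)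
  have hcl : commutator ↥M ≤ Subgroup.center ↥M := by
    rw [commutator_def, Subgroup.commutator_le]
    exact fun x _ y _ => hder x y
  have hne : commutator ↥M ≠ ⊥ := by
    intro hb
    have htop : Subgroup.center ↥M = ⊤ := by
      refine eq_top_iff.2 fun x _ => Subgroup.mem_center_iff.2 fun y => ?_
      have : ⁅y, x⁆ ∈ commutator ↥M := by
        rw [commutator_def]
        exact Subgroup.commutator_mem_commutator (Subgroup.mem_top y) (Subgroup.mem_top x)
      rw [hb, Subgroup.mem_bot, commutatorElement_eq_one_iff_mul_comm] at this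
      exact this
    rw [htop, Subgroup.card_top, hcM] at hcard2
    norm_num at hcard2
  have hdc : commutator ↥M = Subgroup.center ↥M := by
    refine Subgroup.eq_of_le_of_card_ge hcl ?_
    rw [hcard2]
    exact (Subgroup.one_lt_card_iff_ne_bot _).2 hne
  refine ⟨M, hME, ⟨⟨hpM, le_antisymm hfr ?_, hdc⟩, hcard2⟩, hcM, ⟨e.symm⟩⟩
  rw [← hdc]
  exact CfsgLib.Transfer.commutator_le_frattini_pgroup hpM

set_option maxHeartbeats 400000 in
theorem m22_pair_fitting {C : Subgroup G} (hC : C = Subgroup.centralizer ({d₁ * d₂} : Set G))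
    [hn : (Cfsg.generalizedFittingSubgroup ↥C).Normal] :
    (∃ (E : Type) (_ : Group E) (_ : Finite E), Cfsg.IsExtraspecial 2 E ∧ Nat.card E = 2 ^ 9 ∧
      Nonempty (↥(Cfsg.generalizedFittingSubgroup ↥C) ≃* Multiplicative (ZMod 2) × E)) ∧
    Nonempty (↥C ⧸ Cfsg.generalizedFittingSubgroup ↥C ≃*
      Cfsg.isometryGroup (ZMod 2) (Cfsg.quadFormMinus 2 (ZMod 2) 1 1)) := by
  haveI : Fact (Nat.Prime 2) := ⟨Nat.prime_two⟩
  obtain ⟨K, eK⟩ : ∃ K : Subgroup G, K = Subgroup.centralizer ({d₁, d₂} : Set G) := ⟨_, rfl⟩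
  have hK : ∀ x, x ∈ K ↔ Commute x d₁ ∧ Commute x d₂ := fun x => by
    rw [eK, Subgroup.mem_centralizer_iff]
    simp only [Set.mem_insert_iff, Set.mem_singleton_iff, forall_eq_or_imp, forall_eq]
    exact ⟨fun ⟨a, b⟩ => ⟨a.symm, b.symm⟩, fun ⟨a, b⟩ => ⟨a.symm, b.symm⟩⟩
  have hC' : ∀ x, x ∈ C ↔ Commute x (d₁ * d₂) := fun x => by
    rw [hC]; exact Subgroup.mem_centralizer_singleton_iff
  obtain ⟨-, E, hVE, hEK, hEC, hnorm, hcE, hcomm, hEn, F, iF, iFt, hF, ⟨φ⟩⟩ :=
    m22_pair_structure_core hD hP h h₁ n₂ hK hC' rfl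
  have hE : PairE d₁ d₂ E := ⟨hVE, fun x hx => (hK x).1 (hEK hx),
    fun g g1 g2 x hx => hnorm g ((hC' g).2 (g1.mul_right g2)) x hx, hcE, hcomm⟩
  obtain ⟨Ec, eEc⟩ : ∃ Ec : Subgroup ↥C, Ec = E.subgroupOf C := ⟨_, rfl⟩
  -- the largest normal 2-subgroup
  have hEp : IsPGroup 2 ↥(E.subgroupOf C) :=
    (isPGroup_two_of_card hcE).of_equiv (Subgroup.subgroupOfEquivOfLe hEC).symm
  have hO : Cfsg.pCore 2 ↥C = E.subgroupOf C := by
    refine le_antisymm ?_ (CfsgLib.Amalgam.le_pCore hEn hEp)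
    intro x hx
    let π : ↥C →* MulAut (Cfsg.PSU 4 F 2) := φ.toMonoidHom.comp (QuotientGroup.mk' _)
    have hπ : Function.Surjective π := φ.surjective.comp (QuotientGroup.mk'_surjective _)
    haveI : (Cfsg.pCore 2 ↥C).Normal := Cfsg.pCore_normal 2 ↥C
    haveI : ((Cfsg.pCore 2 ↥C).map π).Normal := (inferInstance : (Cfsg.pCore 2 ↥C).Normal).map π hπ
    have h0 := pCore_mulAut_psu_four hF _ ((CfsgLib.Comp.isPGroup_pCore 2 ↥C).map π)
    have : π x ∈ (Cfsg.pCore 2 ↥C).map π := ⟨x, hx, rfl⟩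
    rw [h0, Subgroup.mem_bot] at this
    exact (QuotientGroup.eq_one_iff x).1 (φ.map_eq_one_iff.1 this)
  have hF' : Cfsg.generalizedFittingSubgroup ↥C = E.subgroupOf C := by
    rw [← hO, CfsgLib.Comp.generalizedFitting_eq_pCore_iff, hO]
    intro x hx
    rw [Subgroup.mem_subgroupOf]
    refine hVE (pairE_centralizer hD hP h h₁ n₂ hE fun y hy => ?_)
    exact (congrArg Subtype.val (Subgroup.mem_centralizer_iff.1 hx ⟨y, hEC hy⟩
      (Subgroup.mem_subgroupOf.2 hy))).symm
  obtain ⟨M, -, hMx, hMc, ⟨e⟩⟩ := pairE_split hD hP h h₁ n₂ hE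
  haveI : Small.{0} ↥M := inferInstance
  let es : Shrink.{0} ↥M ≃* ↥M := Shrink.mulEquiv
  refine ⟨⟨Shrink.{0} ↥M, inferInstance, inferInstance,
    CfsgLib.Golay.E8Cent.extraspecial_congr es.symm hMx,
    (Nat.card_congr es.toEquiv).trans hMc,
    ⟨((MulEquiv.subgroupCongr hF').trans (Subgroup.subgroupOfEquivOfLe hEC)).trans
      (e.trans ((MulEquiv.refl _).prodCongr es.symm))⟩⟩, ?_⟩
  obtain ⟨ψ⟩ := aut_psu_four_equiv F hF
  exact ⟨(QuotientGroup.quotientMulEquivOfEq hF').trans (φ.trans ψ)⟩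

end CfsgLib.Trans3.Fi
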