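import Mathlib.GroupTheory.Perm.Fin
import Mathlib.Algebra.Group.Subgroup.Map
import Mathlib.GroupTheory.GroupAction.Quotient
import Mathlib.GroupTheory.Index
import Mathlib.GroupTheory.Subgroup.Simple

/-!
Auxiliary facts for the automorphism group over a pair of commuting 3-transpositions: permutations
of four letters, and completeness of the automorphism group of a simple group.
-/

set_option autoImplicit false

namespace CfsgLib.Trans3.Fi.TwoPairOuter

/-- A member of the regular four-group on four letters. -/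
def InV4 (x : Equiv.Perm (Fin 4)) : Prop := x * x = 1 ∧ (x = 1 ∨ ∀ j, x j ≠ j)

instance : DecidablePred InV4 := fun x =>
  inferInstanceAs (Decidable (x * x = 1 ∧ (x = 1 ∨ ∀ j, x j ≠ j)))

theorem inV4_key : ∀ π γ : Equiv.Perm (Fin 4), γ 0 = 0 → (∀ j, j ≠ 0 → γ j ≠ j) →
    InV4 (π * γ * π⁻¹ * γ⁻¹) → InV4 (π * π) → InV4 π := by decide +kernel

theorem inV4_pair : ∀ π : Equiv.Perm (Fin 4), InV4 π → ∀ a b : Fin 4, a ≠ b →
    (π a = a ∧ π b = b) ∨ (π a = b ∧ π b = a) ∨ [π a, π b, b, a].Perm [0, 1, 2, 3] := by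
  decide +kernel

variable {S : Type*} [Group S]

theorem conj_injective_of_center (hc : Subgroup.center S = ⊥) :
    Function.Injective (MulAut.conj : S →* MulAut S) := by
  rw [injective_iff_map_eq_one]
  intro a ha
  have : a ∈ Subgroup.center S := Subgroup.mem_center_iff.2 fun b => by
    have := DFunLike.congr_fun ha b
    rw [MulAut.conj_apply, MulAut.one_apply, mul_inv_eq_iff_eq_mul] at this
    exact this.symm
  rwa [hc, Subgroup.mem_bot] at this

theorem conj_mulAut (φ : MulAut S) (s : S) : φ * MulAut.conj s * φ⁻¹ = MulAut.conj (φ s) := by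
  ext b
  simp [MulAut.mul_apply, MulAut.conj_apply, map_mul, map_inv]

theorem eq_one_of_commute_inn (hc : Subgroup.center S = ⊥) {φ : MulAut S}
    (h : ∀ s, Commute φ (MulAut.conj s)) : φ = 1 := by
  refine MulEquiv.ext fun s => conj_injective_of_center hc ?_
  rw [← conj_mulAut φ s, (h s).eq, mul_inv_cancel_right]
  rfl

variable [Finite S] [IsSimpleGroup S]

/-- The automorphism group of a simple group with trivial centre is complete. -/
theorem exists_conj_mulAut (hc : Subgroup.center S = ⊥) (α : MulAut (MulAut S)) :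
    ∃ p, α = MulAut.conj p := by
  have hinj := conj_injective_of_center hc
  obtain ⟨I, eI⟩ : ∃ I : Subgroup (MulAut S), I = (MulAut.conj : S →* MulAut S).range := ⟨_, rfl⟩
  have hIn : I.Normal := eI ▸ ⟨fun φ ⟨s, hs⟩ g => ⟨g s, by rw [← hs, conj_mulAut]⟩⟩
  obtain ⟨J, eJ⟩ : ∃ J : Subgroup (MulAut S), J = I.map α.toMonoidHom := ⟨_, rfl⟩
  have hJn : J.Normal := eJ ▸ hIn.map _ α.surjective
  have hIJ : I ≤ J := by
    rcases (Subgroup.Normal.comap hJn (MulAut.conj : S →* MulAut S)).eq_bot_or_eq_top with h | h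
    · exfalso
      have htriv : ∀ φ ∈ J, φ = 1 := fun φ hφ => eq_one_of_commute_inn hc fun s => by
        have h1 : MulAut.conj (φ s * s⁻¹) ∈ J := by
          rw [map_mul, map_inv, ← conj_mulAut,
            show φ * MulAut.conj s * φ⁻¹ * (MulAut.conj s)⁻¹ =
              φ * (MulAut.conj s * φ⁻¹ * (MulAut.conj s)⁻¹) by group]
          exact mul_mem hφ (hJn.conj_mem _ (inv_mem hφ) _)
        have h2 : φ s * s⁻¹ ∈ J.comap (MulAut.conj : S →* MulAut S) := h1
        rw [h, Subgroup.mem_bot, mul_inv_eq_one] at h2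
        have h3 := conj_mulAut φ s
        rw [h2, mul_inv_eq_iff_eq_mul] at h3
        exact h3
      obtain ⟨s, hs⟩ := exists_ne (1 : S)
      refine hs (hinj ?_)
      rw [map_one]
      refine α.injective ?_
      rw [map_one]
      exact htriv _ (eJ ▸ ⟨_, eI ▸ ⟨s, rfl⟩, rfl⟩)
    · intro φ hφ
      rw [eI] at hφ
      obtain ⟨s, rfl⟩ := hφ
      exact (h ▸ Subgroup.mem_top s : s ∈ J.comap (MulAut.conj : S →* MulAut S))
  have hJI : J = I := (Subgroup.eq_of_le_of_card_ge hIJ
    (by rw [eJ, ← Nat.card_congr (I.equivMapOfInjective α.toMonoidHom α.injective).toEquiv])).symm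
  have hex : ∀ s : S, ∃ t, MulAut.conj t = α (MulAut.conj s) := by
    intro s
    have h1 : α (MulAut.conj s) ∈ J := eJ ▸ ⟨_, eI ▸ ⟨s, rfl⟩, rfl⟩
    rw [hJI, eI] at h1
    exact h1
  choose f hf using hex
  have fm : ∀ a b, f (a * b) = f a * f b := fun a b => hinj (by simp only [map_mul, hf])
  have finj : Function.Injective f := fun a b e => hinj (α.injective (by rw [← hf, ← hf, e]))
  obtain ⟨θ, eθ⟩ : ∃ θ : MulAut S, ∀ s, θ s = f s :=
    ⟨MulEquiv.ofBijective (MonoidHom.mk' f fm) ⟨finj, Finite.injective_iff_surjective.1 finj⟩,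
      fun _ => rfl⟩
  refine ⟨θ, MulEquiv.ext fun φ => ?_⟩
  have key : θ⁻¹ * α φ * θ = φ := by
    refine MulEquiv.ext fun s => hinj ?_
    have h1 : α (φ * MulAut.conj s * φ⁻¹) = α (MulAut.conj (φ s)) := by rw [conj_mulAut]
    rw [map_mul, map_mul, map_inv, ← hf, ← hf, conj_mulAut] at h1
    have h2 : α φ (θ s) = θ (φ s) := by rw [eθ, eθ]; exact hinj h1
    show MulAut.conj (θ⁻¹ (α φ (θ s))) = _
    rw [h2, MulAut.inv_apply_self]
  rw [MulAut.conj_apply]
  calc α φ = θ * (θ⁻¹ * α φ * θ) * θ⁻¹ := by group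
    _ = θ * φ * θ⁻¹ := by rw [key]

omit [Finite S] in
/-- A normal subgroup of index at most four of the automorphisms contains the inner ones. -/
theorem inn_le_of_index (hc : Subgroup.center S = ⊥) (hS : 24 < Nat.card S) (L : Subgroup (MulAut S))
    (hL : L.index ≤ 4) (hL0 : L.index ≠ 0) : (MulAut.conj : S →* MulAut S).range ≤ L := by
  classical
  obtain ⟨H, eH⟩ : ∃ H : Subgroup S, H = L.comap MulAut.conj := ⟨_, rfl⟩
  have hH : H.index ≤ L.index := by
    rw [eH, Subgroup.index_comap]
    exact (Subgroup.relIndex_le_of_le_right le_top (by rwa [Subgroup.relIndex_top_right])).trans_eq (Subgroup.relIndex_top_right L)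
  have hH4 : H.index ≤ 4 := hH.trans hL
  haveI : Finite S := Nat.finite_of_card_ne_zero (by omega)
  have htop : H = ⊤ := by
    have hk := (H.normalCore_eq_ker ▸ H.normalCore_normal : (MulAction.toPermHom S (S ⧸ H)).ker.Normal)
    rcases hk.eq_bot_or_eq_top with h | h
    · exfalso
      have h1 := Nat.card_le_card_of_injective _ ((MonoidHom.ker_eq_bot_iff _).1 h)
      haveI := Fintype.ofFinite (S ⧸ H)
      rw [Nat.card_eq_fintype_card (α := Equiv.Perm (S ⧸ H)), Fintype.card_perm, ← Nat.card_eq_fintype_card,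
        ← Subgroup.index_eq_card] at h1
      have := Nat.factorial_le hH4
      rw [show Nat.factorial 4 = 24 from rfl] at this
      omega
    · rw [← H.normalCore_eq_ker] at h
      exact top_le_iff.1 (h ▸ H.normalCore_le)
  rintro _ ⟨s, rfl⟩
  have e : s ∈ H := htop ▸ Subgroup.mem_top s
  rw [eH] at e
  exact e

end CfsgLib.Trans3.Fi.TwoPairOuter
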