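import Cfsg.Agent.Lib.Trans3.Fi.M24Common

/-!
A group of type M(24): centralisers of members and the numbers.
-/

set_option autoImplicit false
set_option linter.unusedSectionVars false

namespace CfsgLib.Trans3.Fi

variable {G : Type*} [Group G] [Finite G] {D : Set G}
variable (hD : Cfsg.IsThreeTranspositionGroup D) (hP : Cfsg.IsPrimitiveUnderConj D)
variable (h : Cfsg.IsOfTypeM24 G D)
include hD hP h

theorem pairGen_m24 : PairGen D :=
  Up.pairGen (nice_m24 hD hP h) hP (fun _ ha => m24_lvl_below hD hP h ha) (m24_commonThree hD hP h)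
    fun _ ha => pairGen_m23 ((nice_m24 hD hP h).group_Db ha) (m24_prim_below hD hP h ha)
      (m24_below hD hP h ha)

theorem m24_gate {a : G} (ha : a ∈ D) : Hd D a = Subgroup.centralizer ({a} : Set G) := by
  refine le_antisymm (fun x hx =>
    Subgroup.mem_centralizer_singleton_iff.2 (commute_Hd hx).symm.eq) fun x hx => ?_
  rw [← cd_eq_hd (m24_mem hD hP h ha)]
  exact (lvl_m24 hD hP h).stab a x ha (Subgroup.mem_centralizer_singleton_iff.1 hx)

theorem m24_card_D : D.ncard = 306936 := by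
  have hN := nice_m24 hD hP h
  obtain ⟨d, hd, c, hc, hdc⟩ := hN.pair
  have h1 := far_mul_CN hD hP (m24_pairc hD hP h) (fun e he => card_nbrs24 hD hP h he)
    (l := 3510) (fun e he f hf => by
      rw [ncard_nbrs_inter hN he hf]
      exact card_nbrs23 (hN.group_Db he) (m24_prim_below hD hP h he) (m24_below hD hP h he)
        (bar_mem hf)) hd hc hdc
  rw [m24_common_card hD hP h hd hc hdc] at h1
  have h2 := card_split (D := D) hd
  rw [card_nbrs24 hD hP h hd] at h2
  omega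

theorem m24_card :
    Nat.card G = 2 ^ 22 * 3 ^ 16 * 5 ^ 2 * 7 ^ 3 * 11 * 13 * 17 * 23 * 29 := by
  obtain ⟨a, ha, -⟩ := (nice_m24 hD hP h).pair
  have h1 := card_orbit_mul (H := (⊤ : Subgroup G)) (x := a) (O := D)
    (fun g _ => hD.2.1 g a ha) (fun o ho => by
      obtain ⟨g, hg⟩ := hP.1 a ha o ho
      exact ⟨g, Subgroup.mem_top g, hg⟩)
  rw [Subgroup.card_top, top_inf_eq, m24_card_D hD hP h, ← m24_gate hD hP h ha,
    card_Hd24 hD hP h ha] at h1
  rw [h1]
  norm_num

theorem m24_width : Cfsg.commutingWidth D = 24 := by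
  have hN := nice_m24 hD hP h
  have hPre := pre_of_group hD
  have hX : ∀ {a : G}, a ∈ D → Cfsg.commutingWidth (Db D a) = 23 := fun {a} ha =>
    m23_width (hN.group_Db ha) (m24_prim_below hD hP h ha) (m24_below hD hP h ha)
  obtain ⟨a, ha, -⟩ := hN.pair
  refine le_antisymm ?_ ?_
  · obtain ⟨E, hE, hc, hn⟩ := exists_commutingWidth D
    rw [← hn]
    by_cases hne : E = ∅
    · rw [hne, Set.ncard_empty]; omega
    obtain ⟨e, he⟩ := Set.nonempty_iff_ne_empty.2 hne
    have hsub : E \ {e} ⊆ nbrs D e := fun y hy => ⟨hE hy.1, hy.2, hc e he y hy.1⟩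
    obtain ⟨T, eT⟩ : ∃ T : Set (Qd D e), T = {q | ∃ y, ∃ hy : y ∈ nbrs D e, y ∈ E \ {e} ∧ q = bar hy} :=
      ⟨_, rfl⟩
    have h1 : (E \ {e}).ncard = T.ncard := by
      rw [eT]
      refine Set.ncard_congr (fun y hy => bar (hsub hy)) (fun y hy => ⟨y, hsub hy, hy, rfl⟩)
        (fun y z hy hz e' => hN.bar_inj (hE he) (hsub hy) (hsub hz) e') ?_
      rintro q ⟨y, hy, hyS, rfl⟩
      exact ⟨y, hyS, rfl⟩
    have h2 := le_commutingWidth (D := Db D e) (E := T)
      (by rw [eT]; rintro q ⟨y, hy, -, rfl⟩; exact bar_mem hy)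
      (by
        rw [eT]
        rintro q ⟨y, hy, hyE, rfl⟩ q' ⟨z, hz, hzE, rfl⟩
        exact (commute_bar hPre hy hz).2 (hc y hyE.1 z hzE.1))
    rw [hX (hE he), ← h1] at h2
    have h3 := Set.ncard_diff_singleton_add_one he (Set.toFinite E)
    omega
  · obtain ⟨E, hE, hEc, hEn⟩ := exists_commutingWidth (Db D a)
    rw [hX ha] at hEn
    obtain ⟨T, eT⟩ : ∃ T : Set G, T = {y | ∃ hy : y ∈ nbrs D a, bar hy ∈ E} := ⟨_, rfl⟩
    have hT : T ⊆ nbrs D a := by rw [eT]; exact fun y ⟨hy, _⟩ => hy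
    have hTn : T.ncard = 23 := by
      rw [← hEn]
      refine Set.ncard_congr (fun y hy => bar (hT hy)) (fun y hy => ?_)
        (fun y z hy hz e' => hN.bar_inj ha (hT hy) (hT hz) e') fun q hq => ?_
      · rw [eT] at hy; obtain ⟨hy', hyE⟩ := hy; exact hyE
      · obtain ⟨y, hy, rfl⟩ := exists_bar (hE hq)
        exact ⟨y, by rw [eT]; exact ⟨hy, hq⟩, rfl⟩
    have h1 := le_commutingWidth (D := D) (E := insert a T)
      (Set.insert_subset ha fun y hy => (hT hy).1) ?_
    · rwa [Set.ncard_insert_of_notMem (fun hm => (hT hm).2.1 rfl), hTn] at h1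
    rintro x (rfl | hx) y (rfl | hy)
    · exact Commute.refl _
    · exact (hT hy).2.2
    · exact (hT hx).2.2.symm
    · rw [eT] at hx hy
      obtain ⟨hx1, hx2⟩ := hx
      obtain ⟨hy1, hy2⟩ := hy
      exact (commute_bar hPre hx1 hy1).1 (hEc _ hx2 _ hy2)

end CfsgLib.Trans3.Fi
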