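import Cfsg.Agent.Lib.Trans3.Fi.TwoPairHex

/-!
A group of type M(22): the normal 2-subgroup `E` of order `2¹⁰` of the joint centraliser of two
commuting members `d₁`, `d₂` is transitive on each hexad, its derived group and squares lie in
`⟨d₁ * d₂⟩`, and nothing outside `⟨d₁, d₂⟩` centralises it.
-/

set_option autoImplicit false
set_option linter.unusedSectionVars false

namespace CfsgLib.Trans3.Fi

/-- What is known of the kernel `E` of the action of the joint centraliser. -/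
structure PairE {G : Type*} [Group G] (d₁ d₂ : G) (E : Subgroup G) : Prop where
  le : Subgroup.closure ({d₁, d₂} : Set G) ≤ E
  fix : ∀ x ∈ E, Commute x d₁ ∧ Commute x d₂
  norm : ∀ g : G, Commute g d₁ → Commute g d₂ → ∀ x ∈ E, g * x * g⁻¹ ∈ E
  card : Nat.card E = 2 ^ 10
  comm : ∀ x ∈ E, ∀ y ∈ E, x * y * x⁻¹ * y⁻¹ ∈ Subgroup.closure ({d₁, d₂} : Set G) ∧
    x ^ 2 ∈ Subgroup.closure ({d₁, d₂} : Set G)

theorem fac_pair {G : Type*} [Group G] {D : Set G} {a b : G} (ha : a ∈ D) (hb : b ∈ D)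
    (hne : a ≠ b) (hc : Commute a b) : Fac D 2 (a * b) [a, b] :=
  ⟨by simp [hne], rfl, by simp [ha, hb], by simp [hc, hc.symm], by simp⟩

theorem fac_triple {G : Type*} [Group G] {D : Set G} {a b c : G} (ha : a ∈ D) (hb : b ∈ D)
    (hc : c ∈ D) (hab : a ≠ b) (hac : a ≠ c) (hbc : b ≠ c) (kab : Commute a b) (kac : Commute a c)
    (kbc : Commute b c) : Fac D 3 (a * (b * c)) [a, b, c] :=
  ⟨by simp [hab, hac, hbc], rfl, by simp [ha, hb, hc],
    by simp [kab, kab.symm, kac, kac.symm, kbc, kbc.symm], by simp⟩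

variable {G : Type*} [Group G] [Finite G] {D : Set G}
variable (hD : Cfsg.IsThreeTranspositionGroup D) (hP : Cfsg.IsPrimitiveUnderConj D)
variable (h : Cfsg.IsOfTypeM22 G D)
variable {d₁ d₂ : G} (h₁ : d₁ ∈ D) (n₂ : d₂ ∈ nbrs D d₁)
include hD hP h h₁ n₂

/-- Products of two members of a hexad differ from those with `d₁` or `d₂` added. -/
theorem pair_not_triple {d s t s' t' : G} (hd : d = d₁ ∨ d = d₂)
    (hs : s ∈ nbrs D d₁ ∩ nbrs D d₂) (ht : t ∈ nbrs D d₁ ∩ nbrs D d₂) (hst : s ≠ t)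
    (cst : Commute s t) (hs' : s' ∈ D) (ht' : t' ∈ D) (hne : s' ≠ t') (c' : Commute s' t') :
    d * (s * t) ≠ s' * t' := by
  intro e
  have f3 : Fac D 3 (d * (s * t)) [d, s, t] := by
    rcases hd with rfl | rfl
    · exact fac_triple h₁ hs.1.1 ht.1.1 (Ne.symm hs.1.2.1) (Ne.symm ht.1.2.1) hst hs.1.2.2
        ht.1.2.2 cst
    · exact fac_triple n₂.1 hs.1.1 ht.1.1 (Ne.symm hs.2.2.1) (Ne.symm ht.2.2.1) hst hs.2.2.2
        ht.2.2.2 cst
  rw [e] at f3
  exact fac_ne hD (by norm_num) (by norm_num) (fac_pair hs' ht' hne c') f3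
    fun k hk hk1 _ => m22_noRel_le hD h hk1 hk

/-- Products of two members determine them. -/
theorem pair_determined {s t s' t' : G} (hs : s ∈ D) (ht : t ∈ D) (hst : s ≠ t) (cst : Commute s t)
    (hs' : s' ∈ D) (ht' : t' ∈ D) (hne : s' ≠ t') (c' : Commute s' t') (e : s * t = s' * t') :
    s' = s ∨ s' = t := by
  have := (determined hD (by norm_num) (fun _ => (m22_noRel hD h).2.1)
    (fun h' => absurd h' (by norm_num)) (fac_pair hs ht hst cst)
    (e ▸ fac_pair hs' ht' hne c') s').2 (by simp)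
  simpa using this

variable {E : Subgroup G} (hE : PairE d₁ d₂ E)
include hE

omit hP h in
theorem pairE_pow {y : G} (hy : y ∈ E) (n : ℕ) (h3 : y ^ 3 = 1) (hn : 1024 = 3 * n + 1) : y = 1 := by
  have h2 : (⟨y, hy⟩ : E) ^ Nat.card E = 1 := pow_card_eq_one'
  rw [hE.card] at h2
  have h4 : y ^ (1024 : ℕ) = 1 := congrArg Subtype.val h2
  rwa [hn, pow_add, pow_mul, h3, one_pow, one_mul, pow_one] at h4

/-- An element of `E` moves a member within its hexad. -/
theorem pairE_orbit {T : Fin 4 → G} (hT : Hex D d₁ d₂ T) {x : G} (hx : x ∈ E) :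
    ∃ i, x * T 0 * x⁻¹ = T i := by
  obtain ⟨x1, x2⟩ := hE.fix x hx
  obtain ⟨t, et⟩ : ∃ t, t = T 0 := ⟨_, rfl⟩
  have htM : t ∈ nbrs D d₁ ∩ nbrs D d₂ := et ▸ hT.mem 0
  obtain ⟨s, es⟩ : ∃ s, s = x * t * x⁻¹ := ⟨_, rfl⟩
  have hsM : s ∈ nbrs D d₁ ∩ nbrs D d₂ := es ▸ pair_conj_M hD h₁ n₂ x1 x2 htM
  have hy : s * t ∈ E := by
    have h1 := mul_mem hx (hE.norm t htM.1.2.2.symm htM.2.2.2.symm x⁻¹ (inv_mem hx))
    rw [inv_eq hD.1 htM.1.1] at h1
    rwa [es, show x * t * x⁻¹ * t = x * (t * x⁻¹ * t) by group]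
  have hst : Commute s t := by
    by_contra hn
    have := pairE_pow hD h₁ n₂ hE hy 341 (pow_three hD.1 hsM.1.1 htM.1.1 hn) rfl
    exact hn (by rw [eq_inv_of_mul_eq_one_left this, inv_eq hD.1 htM.1.1])
  have hline : ∀ z ∈ nbrs D d₁ ∩ nbrs D d₂, Commute z t → Commute z s := by
    intro z hz hzt
    by_contra hn
    have hw : (s * t) * (z * (s * t)⁻¹ * z⁻¹) ∈ E :=
      mul_mem hy (hE.norm z hz.1.2.2.symm hz.2.2.2.symm _ (inv_mem hy))
    have e : (s * t) * (z * (s * t)⁻¹ * z⁻¹) = (s * z) * (s * z) := by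
      rw [mul_inv_rev, inv_eq hD.1 hz.1.1, inv_eq hD.1 hsM.1.1, inv_eq hD.1 htM.1.1]
      calc s * t * (z * (t * s) * z) = s * (t * z * t) * s * z := by group
        _ = s * z * (s * z) := by
          rw [hzt.symm.eq, mul_assoc z t t, Trans3.sq_one hD.1 htM.1.1, mul_one]; group
    rw [e] at hw
    have hn' : ¬ Commute s z := fun c => hn c.symm
    have h3 := pow_three hD.1 hsM.1.1 hz.1.1 hn'
    have h6 : ((s * z) * (s * z)) ^ 3 = 1 := by
      rw [(Commute.refl (s * z)).mul_pow, h3, one_mul]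
    have h2 := pairE_pow hD h₁ n₂ hE hw 341 h6 rfl
    have : (s * z) ^ 2 = 1 := by rw [pow_two]; exact h2
    rw [pow_succ, this, one_mul] at h3
    exact hn' (by rw [eq_inv_of_mul_eq_one_left h3, inv_eq hD.1 hz.1.1])
  obtain ⟨i, hi⟩ := hex_max hD hP h h₁ n₂ hT hsM (et ▸ hst) (et ▸ hline)
  exact ⟨i, by rw [hi, es, et]⟩

/-- `E` is transitive on each hexad. -/
theorem pairE_trans {T : Fin 4 → G} (hT : Hex D d₁ d₂ T) (i : Fin 4) :
    ∃ x ∈ E, x * T 0 * x⁻¹ = T i := by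
  by_cases hi : i = 0
  · exact ⟨1, one_mem _, by simp [hi]⟩
  -- some element moves the first member
  obtain ⟨x, hx, j, hj, hj0⟩ : ∃ x ∈ E, ∃ j, x * T 0 * x⁻¹ = T j ∧ j ≠ 0 := by
    by_contra! hno
    have hall : ∀ u ∈ nbrs D d₁ ∩ nbrs D d₂, ∀ x ∈ E, Commute x u := by
      intro u hu x hx
      obtain ⟨k, k1, k2, hk⟩ := pair_trans hD hP h h₁ n₂ (hT.mem 0) hu
      have hy := hE.norm k⁻¹ k1.inv_left k2.inv_left x hx
      obtain ⟨j, hj⟩ := pairE_orbit hD hP h h₁ n₂ hE hT hy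
      have hc : Commute (k⁻¹ * x * k⁻¹⁻¹) (T 0) := commute_of_conj_eq
        (by rw [hj, hno _ hy j hj])
      have := (commute_conj_iff k _ _).2 hc
      rwa [hk, show k * (k⁻¹ * x * k⁻¹⁻¹) * k⁻¹ = x by group] at this
    have hle : E ≤ Subgroup.closure ({d₁, d₂} : Set G) := fun x hx =>
      pair_fix hD hP h h₁ n₂ (hE.fix x hx).1 (hE.fix x hx).2 fun u hu => hall u hu x hx
    classical
    have h1 := Set.ncard_le_ncard (s := (E : Set G)) (t := {1, d₁, d₂, d₁ * d₂}) (fun v hv => by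
      simpa using v_cases hD h₁ n₂ (hle hv)) (Set.toFinite _)
    have h2 : ({1, d₁, d₂, d₁ * d₂} : Set G).ncard ≤ 4 := by
      refine (Set.ncard_insert_le _ _).trans (Nat.succ_le_succ ?_)
      refine (Set.ncard_insert_le _ _).trans (Nat.succ_le_succ ?_)
      refine (Set.ncard_insert_le _ _).trans (Nat.succ_le_succ ?_)
      rw [Set.ncard_singleton]
    rw [← Nat.card_coe_set_eq] at h1
    have : Nat.card E = Nat.card ↥(E : Set G) := rfl
    have := hE.card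
    omega
  obtain ⟨g, g1, g2, σ, hσ, hσ0, hσm⟩ := hex_move hD hP h h₁ n₂ hT
  have step : ∀ {x : G} {j : Fin 4}, x ∈ E → x * T 0 * x⁻¹ = T j →
      ∃ y ∈ E, y * T 0 * y⁻¹ = T (σ j) := by
    intro x j hx hj
    refine ⟨g * x * g⁻¹, hE.norm g g1 g2 x hx, ?_⟩
    have g0 : g * T 0 * g⁻¹ = T 0 := by rw [hσ 0, hσ0]
    calc g * x * g⁻¹ * T 0 * (g * x * g⁻¹)⁻¹
        = g * x * g⁻¹ * (g * T 0 * g⁻¹) * (g * x * g⁻¹)⁻¹ := by rw [g0]
      _ = g * (x * T 0 * x⁻¹) * g⁻¹ := by group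
      _ = T (σ j) := by rw [hj, hσ]
  obtain ⟨y, hy, hy'⟩ := step hx hj
  rcases hex_orbit_aux σ hσ0 hσm j i hj0 hi with e | e | e <;> rw [e]
  · exact ⟨x, hx, hj⟩
  · exact ⟨y, hy, hy'⟩
  · exact step hy hy'

/-- The products of two members of a hexad lie in `E`. -/
theorem pairE_mem {T : Fin 4 → G} (hT : Hex D d₁ d₂ T) (a b : Fin 4) : T a * T b ∈ E := by
  have key : ∀ i, T i * T 0 ∈ E := by
    intro i
    obtain ⟨x, hx, e⟩ := pairE_trans hD hP h h₁ n₂ hE hT i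
    have ht := hT.mem 0
    have h1 := mul_mem hx (hE.norm _ ht.1.2.2.symm ht.2.2.2.symm x⁻¹ (inv_mem hx))
    rw [inv_eq hD.1 ht.1.1] at h1
    rwa [← e, show x * T 0 * x⁻¹ * T 0 = x * (T 0 * x⁻¹ * T 0) by group]
  have h2 := mul_mem (key a) (inv_mem (key b))
  rwa [mul_inv_rev, inv_eq hD.1 (hT.mem b).1.1, mul_assoc, mul_inv_cancel_left] at h2

/-- The images of the pairs of a hexad under `E` stay in the hexad. -/
theorem pairE_hex {T : Fin 4 → G} (hT : Hex D d₁ d₂ T) {x : G} (hx : x ∈ E) (a : Fin 4) :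
    ∃ i, x * T a * x⁻¹ = T i := by
  obtain ⟨y, hy, e⟩ := pairE_trans hD hP h h₁ n₂ hE hT a
  obtain ⟨i, hi⟩ := pairE_orbit hD hP h h₁ n₂ hE hT (mul_mem hx hy)
  exact ⟨i, by rw [← hi, ← e]; group⟩

/-- A subgroup containing `d₁`, `d₂` and the pairs of all hexads is everything. -/
theorem pairE_full (S : Subgroup G) (hS : S ≤ E) (h1S : d₁ ∈ S) (h2S : d₂ ∈ S)
    (hpair : ∀ T : Fin 4 → G, Hex D d₁ d₂ T → ∀ a b : Fin 4, a ≠ b → T a * T b ∈ S) : S = E := by
  classical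
  letI := Fintype.ofFinite G
  have hex' := fun (t : {t // t ∈ nbrs D d₁ ∩ nbrs D d₂}) => exists_hex hD hP h h₁ n₂ t.2
  choose H hH hH0 using hex'
  let w : Fin 4 → G := ![1, d₁, d₂, d₁ * d₂]
  have hw : ∀ k, w k ∈ Subgroup.closure ({d₁, d₂} : Set G) := by
    intro k
    fin_cases k
    exacts [one_mem _, Subgroup.subset_closure (Or.inl rfl), Subgroup.subset_closure (Or.inr rfl),
      mul_mem (Subgroup.subset_closure (Or.inl rfl)) (Subgroup.subset_closure (Or.inr rfl))]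
  have hwS : ∀ k, w k ∈ S := by
    intro k
    fin_cases k
    exacts [one_mem _, h1S, h2S, mul_mem h1S h2S]
  have a1 := invol_ne_one (hD.1.1 d₁ h₁)
  have a2 := invol_ne_one (hD.1.1 d₂ n₂.1)
  have a3 : d₁ * d₂ ≠ 1 := fun e => n₂.2.1 (by
    rw [eq_inv_of_mul_eq_one_left e, inv_eq hD.1 n₂.1])
  have winj : Function.Injective w := by
    rw [← List.nodup_ofFn]
    have : List.ofFn w = [1, d₁, d₂, d₁ * d₂] := by simp [w, List.ofFn_succ]
    rw [this]
    simp [Ne.symm a1, Ne.symm a2, Ne.symm a3, Ne.symm n₂.2.1, a1, a2]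
  let Φ : {t // t ∈ nbrs D d₁ ∩ nbrs D d₂} × Fin 3 × Fin 4 → ↥S := fun p =>
    ⟨H p.1 0 * H p.1 p.2.1.succ * w p.2.2,
      mul_mem (hpair _ (hH p.1) 0 _ (Fin.succ_ne_zero _).symm) (hwS _)⟩
  -- equal images
  have key : ∀ p q, Φ p = Φ q → ∃ v ∈ Subgroup.closure ({d₁, d₂} : Set G),
      v * (H p.1 0 * H p.1 p.2.1.succ) = H q.1 0 * H q.1 q.2.1.succ ∧ v = w p.2.2 * (w q.2.2)⁻¹ := by
    intro p q e
    refine ⟨_, mul_mem (hw _) (inv_mem (hw _)), ?_, rfl⟩
    have e' := congrArg Subtype.val e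
    simp only [Φ] at e'
    have hc : ∀ i j k, Commute (w k) (H p.1 i * H p.1 j) := by
      intro i j k
      obtain ⟨m1, m2⟩ := hE.fix _ (pairE_mem hD hP h h₁ n₂ hE (hH p.1) i j)
      fin_cases k
      exacts [Commute.one_left _, m1.symm, m2.symm, (m1.mul_right m2).symm]
    rw [eq_mul_inv_of_mul_eq e'.symm,
      ((hc _ _ p.2.2).mul_left (hc _ _ q.2.2).inv_left).eq]
    group
  have hfib : ∀ y ∈ (Finset.univ.image Φ), (Finset.univ.filter fun p => Φ p = y).card ≤ 4 := by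
    intro y hy
    obtain ⟨p, -, rfl⟩ := Finset.mem_image.1 hy
    have hinj : Set.InjOn
        (fun q : {t // t ∈ nbrs D d₁ ∩ nbrs D d₂} × Fin 3 × Fin 4 => (q.1 : G))
        ↑(Finset.univ.filter fun q => Φ q = Φ p) := by
      rintro ⟨t, a, k⟩ hq ⟨t', a', k'⟩ hq' e
      simp only [Finset.coe_filter, Finset.mem_univ, true_and, Set.mem_setOf_eq] at hq hq'
      obtain rfl : t = t' := Subtype.ext e
      obtain ⟨v, hv, e1, ev⟩ := key _ _ (hq.trans hq'.symm)
      simp only at e1 ev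
      have hT := hH t
      have q1 := Fin.succ_ne_zero a
      have q2 := Fin.succ_ne_zero a'
      rcases v_cases hD h₁ n₂ hv with rfl | rfl | rfl | rfl
      · rw [one_mul] at e1
        have ea : a = a' := Fin.succ_injective _ (hT.inj (mul_left_cancel e1))
        have ek : k = k' := winj (mul_inv_eq_one.1 ev.symm)
        rw [ea, ek]
      · exact absurd e1 (pair_not_triple hD hP h h₁ n₂ (Or.inl rfl) (hT.mem _) (hT.mem _)
          (fun c => q1 (hT.inj c).symm) (hT.comm _ _) (hT.mem _).1.1 (hT.mem _).1.1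
          (fun c => q2 (hT.inj c).symm) (hT.comm _ _))
      · exact absurd e1 (pair_not_triple hD hP h h₁ n₂ (Or.inr rfl) (hT.mem _) (hT.mem _)
          (fun c => q1 (hT.inj c).symm) (hT.comm _ _) (hT.mem _).1.1 (hT.mem _).1.1
          (fun c => q2 (hT.inj c).symm) (hT.comm _ _))
      · exfalso
        have ha := hT.mem a.succ
        have ha' := hT.mem a'.succ
        have k0 : Commute (d₁ * d₂) (H t 0) := ((hT.mem 0).1.2.2).mul_left (hT.mem 0).2.2.2
        rw [← mul_assoc, k0.eq, mul_assoc] at e1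
        have e2 := mul_left_cancel e1
        by_cases ea : a = a'
        · subst ea
          exact a3 (mul_eq_right.1 e2)
        · have e3 : d₁ * d₂ = H t a'.succ * H t a.succ := by
            rw [← e2, mul_assoc, Trans3.sq_one hD.1 ha.1.1, mul_one]
          have hne : H t a'.succ ≠ H t a.succ := fun c => ea (Fin.succ_injective _ (hT.inj c)).symm
          rcases pair_determined hD hP h h₁ n₂ h₁ n₂.1 (Ne.symm n₂.2.1) n₂.2.2 ha'.1.1 ha.1.1 hne
            (hT.comm _ _) e3 with c | c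
          · exact ha'.1.2.1 c
          · exact ha'.2.2.1 c
    have himg : (Finset.univ.filter fun q => Φ q = Φ p).image (fun q => (q.1 : G)) ⊆
        Finset.univ.image (H p.1) := by
      intro x hx
      obtain ⟨q, hq, rfl⟩ := Finset.mem_image.1 hx
      simp only [Finset.mem_filter, Finset.mem_univ, true_and] at hq
      obtain ⟨v, hv, e1, -⟩ := key _ _ hq.symm
      rw [← hH0 q.1]
      have q2 : H q.1 0 ≠ H q.1 q.2.1.succ := fun c => Fin.succ_ne_zero _ ((hH q.1).inj c).symm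
      have p2 : H p.1 0 ≠ H p.1 p.2.1.succ := fun c => Fin.succ_ne_zero _ ((hH p.1).inj c).symm
      have found : ∀ {a b : Fin 4}, a ≠ b → H p.1 a * H p.1 b = H q.1 0 * H q.1 q.2.1.succ →
          H q.1 0 ∈ Finset.univ.image (H p.1) := by
        intro a b hab e
        rcases pair_determined hD hP h h₁ n₂ ((hH p.1).mem a).1.1 ((hH p.1).mem b).1.1
          (fun c => hab ((hH p.1).inj c)) ((hH p.1).comm a b) ((hH q.1).mem 0).1.1
          ((hH q.1).mem _).1.1 q2 ((hH q.1).comm _ _) e with c | c <;>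
          exact Finset.mem_image.2 ⟨_, Finset.mem_univ _, c.symm⟩
      rcases v_cases hD h₁ n₂ hv with rfl | rfl | rfl | rfl
      · exact found (Fin.succ_ne_zero _).symm (by rwa [one_mul] at e1)
      · exact absurd e1 (pair_not_triple hD hP h h₁ n₂ (Or.inl rfl) ((hH p.1).mem _)
          ((hH p.1).mem _) p2 ((hH p.1).comm _ _) ((hH q.1).mem _).1.1 ((hH q.1).mem _).1.1 q2
          ((hH q.1).comm _ _))
      · exact absurd e1 (pair_not_triple hD hP h h₁ n₂ (Or.inr rfl) ((hH p.1).mem _)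
          ((hH p.1).mem _) p2 ((hH p.1).comm _ _) ((hH q.1).mem _).1.1 ((hH q.1).mem _).1.1 q2
          ((hH q.1).comm _ _))
      · obtain ⟨c, e, hce, hcomp⟩ := hex_compl hD h₁ n₂ (hH p.1) (Fin.succ_ne_zero p.2.1).symm
        exact found hce (hcomp ▸ e1)
    calc (Finset.univ.filter fun q => Φ q = Φ p).card
        = ((Finset.univ.filter fun q => Φ q = Φ p).image fun q => (q.1 : G)).card :=
          (Finset.card_image_of_injOn hinj).symm
      _ ≤ (Finset.univ.image (H p.1)).card := Finset.card_le_card himg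
      _ ≤ 4 := Finset.card_image_le.trans (by simp)
  have hbig := Finset.card_le_mul_card_image Finset.univ 4 hfib
  have hcard : (Finset.univ : Finset ({t // t ∈ nbrs D d₁ ∩ nbrs D d₂} × Fin 3 × Fin 4)).card
      = 180 * 12 := by
    rw [Finset.card_univ, Fintype.card_prod, Fintype.card_prod, Fintype.card_fin, Fintype.card_fin,
      ← Nat.card_eq_fintype_card, Nat.card_coe_set_eq, card_nbrs_two hD h h₁ n₂]
  have hle' : (Finset.univ.image Φ).card ≤ Nat.card S := by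
    rw [Nat.card_eq_fintype_card]; exact Finset.card_le_univ _
  refine Subgroup.eq_of_le_of_card_ge hS ?_
  obtain ⟨n, hn⟩ := Subgroup.card_dvd_of_le hS
  have := hE.card
  rw [this] at hn ⊢
  by_contra hlt
  have hn2 : 2 ≤ n := by
    by_contra
    interval_cases n <;> omega
  have := Nat.mul_le_mul_left (Nat.card S) hn2
  omega

/-- Commutators in `E` lie in `⟨d₁ * d₂⟩`. -/
theorem pairE_commutator {x y : G} (hx : x ∈ E) (hy : y ∈ E) :
    x * y * x⁻¹ * y⁻¹ = 1 ∨ x * y * x⁻¹ * y⁻¹ = d₁ * d₂ := by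
  have hJ : ∀ v : G, (v = 1 ∨ v = d₁ * d₂) → ∀ g ∈ E, g * v * g⁻¹ = v := by
    rintro v (rfl | rfl) g hg
    · group
    · exact conj_eq_of_commute ((hE.fix g hg).1.mul_right (hE.fix g hg).2)
  have jj : d₁ * d₂ * (d₁ * d₂) = 1 := by
    rw [n₂.2.2.symm.mul_mul_mul_comm, Trans3.sq_one hD.1 h₁, Trans3.sq_one hD.1 n₂.1, one_mul]
  have hmul : ∀ u v : G, (u = 1 ∨ u = d₁ * d₂) → (v = 1 ∨ v = d₁ * d₂) →
      (u * v = 1 ∨ u * v = d₁ * d₂) := by
    rintro u v (rfl | rfl) (rfl | rfl) <;> simp [jj]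
  obtain ⟨S, eS⟩ : ∃ S : Subgroup G, ∀ y, y ∈ S ↔
      y ∈ E ∧ ∀ x ∈ E, x * y * x⁻¹ * y⁻¹ = 1 ∨ x * y * x⁻¹ * y⁻¹ = d₁ * d₂ := by
    refine ⟨{
      carrier := {y | y ∈ E ∧ ∀ x ∈ E, x * y * x⁻¹ * y⁻¹ = 1 ∨ x * y * x⁻¹ * y⁻¹ = d₁ * d₂}
      one_mem' := ⟨one_mem _, fun x _ => Or.inl (by group)⟩
      mul_mem' := fun {a b} ha hb => ⟨mul_mem ha.1 hb.1, fun x hx => by
        rw [show x * (a * b) * x⁻¹ * (a * b)⁻¹ =
          (x * a * x⁻¹ * a⁻¹) * (a * (x * b * x⁻¹ * b⁻¹) * a⁻¹) by group,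
          hJ _ (hb.2 x hx) a ha.1]
        exact hmul _ _ (ha.2 x hx) (hb.2 x hx)⟩
      inv_mem' := fun {a} ha => ⟨inv_mem ha.1, fun x hx => by
        have hi : (x * a * x⁻¹ * a⁻¹)⁻¹ = x * a * x⁻¹ * a⁻¹ := by
          rcases ha.2 x hx with e | e <;> rw [e]
          · exact inv_one
          · exact inv_eq_of_mul_eq_one_right jj
        have e : x * a⁻¹ * x⁻¹ * a⁻¹⁻¹ = a⁻¹ * (x * a * x⁻¹ * a⁻¹)⁻¹ * a⁻¹⁻¹ := by group
        rw [e, hi, hJ _ (ha.2 x hx) _ (inv_mem ha.1)]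
        exact ha.2 x hx⟩ }, fun y => Iff.rfl⟩
  have hfix : ∀ d, (∀ x ∈ E, Commute x d) → d ∈ E → d ∈ S := fun d hd hdE => (eS d).2
    ⟨hdE, fun x hx => Or.inl (by rw [conj_eq_of_commute (hd x hx), mul_inv_cancel])⟩
  have hfull := pairE_full hD hP h h₁ n₂ hE S (fun z hz => ((eS z).1 hz).1)
    (hfix d₁ (fun x hx => (hE.fix x hx).1) (hE.le (Subgroup.subset_closure (by simp))))
    (hfix d₂ (fun x hx => (hE.fix x hx).2) (hE.le (Subgroup.subset_closure (by simp))))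
    (fun T hT a b hab => (eS _).2 ⟨pairE_mem hD hP h h₁ n₂ hE hT a b, fun z hz => by
      obtain ⟨a', ha'⟩ := pairE_hex hD hP h h₁ n₂ hE hT hz a
      obtain ⟨b', hb'⟩ := pairE_hex hD hP h h₁ n₂ hE hT hz b
      obtain ⟨v, ev⟩ : ∃ v, v = z * (T a * T b) * z⁻¹ * (T a * T b)⁻¹ := ⟨_, rfl⟩
      have hv := (hE.comm z hz _ (pairE_mem hD hP h h₁ n₂ hE hT a b)).1
      rw [← ev] at hv ⊢
      have e1 : v * (T a * T b) = T a' * T b' := by
        rw [ev, inv_mul_cancel_right, ← ha', ← hb']; group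
      have hab' : T a' ≠ T b' := fun c => hab (hT.inj (by
        rw [← ha', ← hb'] at c; exact mul_left_cancel (mul_right_cancel c)))
      rcases v_cases hD h₁ n₂ hv with c | c | c | c
      · exact Or.inl c
      all_goals
        first
          | exact Or.inr c
          | exact absurd (c ▸ e1) (pair_not_triple hD hP h h₁ n₂ (by simp) (hT.mem a) (hT.mem b)
              (fun c' => hab (hT.inj c')) (hT.comm a b) (hT.mem a').1.1 (hT.mem b').1.1 hab'
              (hT.comm a' b'))⟩)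
  exact ((eS y).1 (hfull ▸ hy)).2 x hx

/-- Squares in `E` lie in `⟨d₁ * d₂⟩`. -/
theorem pairE_square {x : G} (hx : x ∈ E) : x * x = 1 ∨ x * x = d₁ * d₂ := by
  have jj : d₁ * d₂ * (d₁ * d₂) = 1 := by
    rw [n₂.2.2.symm.mul_mul_mul_comm, Trans3.sq_one hD.1 h₁, Trans3.sq_one hD.1 n₂.1, one_mul]
  have hmul : ∀ u v : G, (u = 1 ∨ u = d₁ * d₂) → (v = 1 ∨ v = d₁ * d₂) →
      (u * v = 1 ∨ u * v = d₁ * d₂) := by
    rintro u v (rfl | rfl) (rfl | rfl) <;> simp [jj]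
  have hcen : ∀ v : G, (v = 1 ∨ v = d₁ * d₂) → ∀ g ∈ E, Commute g v := by
    rintro v (rfl | rfl) g hg
    exacts [Commute.one_right g, (hE.fix g hg).1.mul_right (hE.fix g hg).2]
  obtain ⟨S, eS⟩ : ∃ S : Subgroup G, ∀ y, y ∈ S ↔ y ∈ E ∧ (y * y = 1 ∨ y * y = d₁ * d₂) := by
    refine ⟨{
      carrier := {y | y ∈ E ∧ (y * y = 1 ∨ y * y = d₁ * d₂)}
      one_mem' := ⟨one_mem _, Or.inl (mul_one 1)⟩
      mul_mem' := fun {a b} ha hb => ⟨mul_mem ha.1 hb.1, by
        obtain ⟨c, ec⟩ : ∃ c, c = b * a * b⁻¹ * a⁻¹ := ⟨_, rfl⟩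
        have hc : c = 1 ∨ c = d₁ * d₂ :=
          ec ▸ pairE_commutator hD hP h h₁ n₂ hE hb.1 ha.1
        have e : a * b * (a * b) = c * (a * a) * (b * b) := by
          calc a * b * (a * b) = a * (c * a * b) * b := by rw [ec]; group
            _ = c * a * a * (b * b) := by
              rw [show a * (c * a * b) * b = (a * c) * a * (b * b) by group,
                (hcen c hc a ha.1).eq]
            _ = c * (a * a) * (b * b) := by group
        rw [e]
        exact hmul _ _ (hmul _ _ hc ha.2) hb.2⟩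
      inv_mem' := fun {a} ha => ⟨inv_mem ha.1, by
        rw [← mul_inv_rev]
        rcases ha.2 with e | e <;> rw [e]
        · exact Or.inl inv_one
        · exact Or.inr (inv_eq_of_mul_eq_one_right jj)⟩ }, fun y => Iff.rfl⟩
  have hfull := pairE_full hD hP h h₁ n₂ hE S (fun z hz => ((eS z).1 hz).1)
    ((eS _).2 ⟨hE.le (Subgroup.subset_closure (by simp)), Or.inl (Trans3.sq_one hD.1 h₁)⟩)
    ((eS _).2 ⟨hE.le (Subgroup.subset_closure (by simp)), Or.inl (Trans3.sq_one hD.1 n₂.1)⟩)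
    (fun T hT a b _ => (eS _).2 ⟨pairE_mem hD hP h h₁ n₂ hE hT a b, Or.inl (by
      rw [(hT.comm b a).mul_mul_mul_comm, Trans3.sq_one hD.1 (hT.mem a).1.1,
        Trans3.sq_one hD.1 (hT.mem b).1.1, one_mul])⟩)
  exact ((eS x).1 (hfull ▸ hx)).2

/-- The centraliser of `E` is `⟨d₁, d₂⟩`. -/
theorem pairE_centralizer {x : G} (hx : ∀ y ∈ E, Commute x y) :
    x ∈ Subgroup.closure ({d₁, d₂} : Set G) := by
  refine pair_fix hD hP h h₁ n₂ (hx _ (hE.le (Subgroup.subset_closure (by simp))))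
    (hx _ (hE.le (Subgroup.subset_closure (by simp)))) fun u hu => ?_
  obtain ⟨T, hT, hT0⟩ := exists_hex hD hP h h₁ n₂ hu
  have key : ∀ b, b ≠ 0 → x * T 0 * x⁻¹ = T 0 ∨ x * T 0 * x⁻¹ = T b := by
    intro b hb
    have e : T 0 * T b = x * T 0 * x⁻¹ * (x * T b * x⁻¹) := by
      rw [show x * T 0 * x⁻¹ * (x * T b * x⁻¹) = x * (T 0 * T b) * x⁻¹ by group]
      exact (conj_eq_of_commute (hx _ (pairE_mem hD hP h h₁ n₂ hE hT 0 b))).symm
    exact pair_determined hD hP h h₁ n₂ (hT.mem 0).1.1 (hT.mem b).1.1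
      (fun c => hb (hT.inj c).symm) (hT.comm 0 b) (hD.2.1 x _ (hT.mem 0).1.1)
      (hD.2.1 x _ (hT.mem b).1.1) (fun c => hb (hT.inj (mul_left_cancel (mul_right_cancel c))).symm)
      ((commute_conj_iff x _ _).2 (hT.comm 0 b)) e
  have h0 : x * T 0 * x⁻¹ = T 0 := by
    rcases key 1 (by decide) with e | e
    · exact e
    rcases key 2 (by decide) with e' | e'
    · exact e'
    · exact absurd (hT.inj (e.symm.trans e')) (by decide)
  rw [← hT0]
  exact commute_of_conj_eq h0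

end CfsgLib.Trans3.Fi
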