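import Cfsg.Agent.Lib.Trans3.Fi.DoubleCover
import Cfsg.Agent.Lib.Trans3.Fi.TwoPairFit

/-!
A double cover of a group of type M(22) which is the centraliser of an involution `d` commuting with
another conjugate of `d`: the members lift to involutions, so all involutions do, and `d` is not a
square.
-/

set_option autoImplicit false
set_option linter.unusedSectionVars false
set_option linter.style.haveILetI false

namespace CfsgLib.Trans3.Fi

open scoped commutatorElement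

theorem mulAut_psu_four_centralizes {F : Type} [Field F] [Fintype F] (hF : Fintype.card F = 4)
    (N : Subgroup (MulAut (Cfsg.PSU 4 F 2))) [N.Normal] (hN : N ≠ ⊥) {φ : MulAut (Cfsg.PSU 4 F 2)}
    (hφ : ∀ ψ ∈ N, Commute φ ψ) : φ = 1 := by
  have hF2 : Fintype.card F = 2 ^ 2 := hF
  have hzsu := center_su_four hF2
  haveI : IsSimpleGroup (Cfsg.PSU 4 F 2) :=
    CfsgLib.Classical.isSimpleGroup_psu hF2 (n := 4) (by norm_num) (by norm_num)
  have hzp : Subgroup.center (Cfsg.PSU 4 F 2) = ⊥ := center_congr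
    ((QuotientGroup.quotientMulEquivOfEq hzsu).trans QuotientGroup.quotientBot).symm hzsu
  have hinn : ∀ a, MulAut.conj a ∈ N := by
    rcases (Subgroup.Normal.comap (inferInstance : N.Normal)
      (MulAut.conj : Cfsg.PSU 4 F 2 →* _)).eq_bot_or_eq_top with e | e
    · exfalso
      refine hN ((Subgroup.eq_bot_iff_forall N).2 fun ψ hψ => ?_)
      ext a
      show ψ a = a
      have e2 : MulAut.conj (ψ a) * (MulAut.conj a)⁻¹ =
          ψ * (MulAut.conj a * ψ⁻¹ * (MulAut.conj a)⁻¹) := by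
        ext b
        simp [MulAut.mul_apply, MulAut.conj_apply, map_mul, map_inv, mul_assoc]
      have h3 : ψ a * a⁻¹ ∈ N.comap (MulAut.conj : Cfsg.PSU 4 F 2 →* _) := by
        rw [Subgroup.mem_comap, map_mul, map_inv, e2]
        exact mul_mem hψ (Subgroup.Normal.conj_mem inferInstance _ (inv_mem hψ) _)
      rw [e, Subgroup.mem_bot] at h3
      exact mul_inv_eq_one.1 h3
    · exact fun a => (Subgroup.mem_comap (f := (MulAut.conj : Cfsg.PSU 4 F 2 →* _))).1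
        (e ▸ Subgroup.mem_top a)
  ext a
  show φ a = a
  have hc : φ a * a⁻¹ ∈ Subgroup.center (Cfsg.PSU 4 F 2) := by
    rw [Subgroup.mem_center_iff]
    intro b
    have := DFunLike.congr_fun (hφ _ (hinn a)).eq (φ.symm (a⁻¹ * b * a))
    rw [MulAut.mul_apply, MulAut.mul_apply, MulAut.conj_apply, MulAut.conj_apply, map_mul, map_mul,
      map_inv, MulEquiv.apply_symm_apply] at this
    calc b * (φ a * a⁻¹) = φ a * ((φ a)⁻¹ * b * φ a) * a⁻¹ := by group
      _ = φ a * (a⁻¹ * b * a) * a⁻¹ := by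
        congr 2
        have e3 : φ a * (a⁻¹ * b * a) * (φ a)⁻¹ = b := by rw [this]; group
        calc (φ a)⁻¹ * b * φ a = (φ a)⁻¹ * (φ a * (a⁻¹ * b * a) * (φ a)⁻¹) * φ a := by rw [e3]
          _ = a⁻¹ * b * a := by group
      _ = φ a * a⁻¹ * b := by group
  rw [hzp, Subgroup.mem_bot] at hc
  exact mul_inv_eq_one.1 hc

section Pair

variable {G : Type*} [Group G] [Finite G] {D : Set G}
variable (hD : Cfsg.IsThreeTranspositionGroup D) (hP : Cfsg.IsPrimitiveUnderConj D)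
variable (h : Cfsg.IsOfTypeM22 G D)
variable {d₁ d₂ : G} (h₁ : d₁ ∈ D) (n₂ : d₂ ∈ nbrs D d₁)
include hD hP h h₁ n₂

/-- No element of square `d₁ * d₂` centralises all products of order three of common neighbours. -/
theorem pair_no_root {x : G} (hx : x * x = d₁ * d₂)
    (hc : ∀ t ∈ nbrs D d₁ ∩ nbrs D d₂, ∀ u ∈ nbrs D d₁ ∩ nbrs D d₂, ¬ Commute t u →
      Commute x (t * u)) : False := by
  classical
  haveI : Fact (Nat.Prime 2) := ⟨Nat.prime_two⟩
  obtain ⟨K, eK⟩ : ∃ K : Subgroup G, K = Subgroup.centralizer ({d₁, d₂} : Set G) := ⟨_, rfl⟩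
  obtain ⟨C, eC⟩ : ∃ C : Subgroup G, C = Subgroup.centralizer ({d₁ * d₂} : Set G) := ⟨_, rfl⟩
  have hK : ∀ x, x ∈ K ↔ Commute x d₁ ∧ Commute x d₂ := fun x => by
    rw [eK, Subgroup.mem_centralizer_iff]
    simp only [Set.mem_insert_iff, Set.mem_singleton_iff, forall_eq_or_imp, forall_eq]
    exact ⟨fun ⟨a, b⟩ => ⟨a.symm, b.symm⟩, fun ⟨a, b⟩ => ⟨a.symm, b.symm⟩⟩
  have hC : ∀ x, x ∈ C ↔ Commute x (d₁ * d₂) := fun x => by
    rw [eC]; exact Subgroup.mem_centralizer_singleton_iff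
  obtain ⟨-, E, hVE, hEK, hEC, hnorm, hcE, hcomm, hEn, F, iF, iFt, hF, ⟨φ⟩⟩ :=
    m22_pair_structure_core hD hP h h₁ n₂ hK hC rfl
  have hE : PairE d₁ d₂ E := ⟨hVE, fun x hx => (hK x).1 (hEK hx),
    fun g g1 g2 x hx => hnorm g ((hC g).2 (g1.mul_right g2)) x hx, hcE, hcomm⟩
  have hxC : x ∈ C := (hC x).2 (hx ▸ (Commute.refl x).mul_right (Commute.refl x))
  let π : ↥C →* MulAut (Cfsg.PSU 4 F 2) := φ.toMonoidHom.comp (QuotientGroup.mk' _)
  have hπ : Function.Surjective π := φ.surjective.comp (QuotientGroup.mk'_surjective _)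
  have hπ1 : ∀ y : ↥C, π y = 1 ↔ (y : G) ∈ E := fun y =>
    (φ.map_eq_one_iff).trans ((QuotientGroup.eq_one_iff y).trans Subgroup.mem_subgroupOf)
  obtain ⟨S, eS⟩ : ∃ S : Set G, S = {w | ∃ t ∈ nbrs D d₁ ∩ nbrs D d₂, ∃ u ∈ nbrs D d₁ ∩ nbrs D d₂,
      ¬ Commute t u ∧ w = t * u} := ⟨_, rfl⟩
  have hSC : S ⊆ C := by
    rw [eS]
    rintro _ ⟨t, ht, u, hu, -, rfl⟩
    exact (hC _).2 (((ht.1.2.2.mul_left ht.2.2.2).symm).mul_left (hu.1.2.2.mul_left hu.2.2.2).symm)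
  have hSinv : ∀ g : ↥C, ∀ w ∈ S, (g : G) * w * (g : G)⁻¹ ∈ S := by
    intro g w hw
    rw [eS] at hw ⊢
    obtain ⟨t, ht, u, hu, hn, rfl⟩ := hw
    have move : ∀ v ∈ nbrs D d₁ ∩ nbrs D d₂, (g : G) * v * (g : G)⁻¹ ∈ nbrs D d₁ ∩ nbrs D d₂ := by
      intro v hv
      obtain ⟨⟨vD, v1, c1⟩, -, v2, c2⟩ := hv
      have k1 := (commute_conj_iff (g : G) d₁ v).2 c1
      have k2 := (commute_conj_iff (g : G) d₂ v).2 c2
      rcases m22_pair_cases hD hP h h₁ n₂ ((hC g).1 g.2) with ⟨e1, e2⟩ | ⟨e1, e2⟩ <;>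
        rw [e1] at k1 <;> rw [e2] at k2
      · exact ⟨⟨hD.2.1 _ v vD, fun e => v1 (mul_left_cancel (mul_right_cancel (e.trans e1.symm))), k1⟩,
          hD.2.1 _ v vD, fun e => v2 (mul_left_cancel (mul_right_cancel (e.trans e2.symm))), k2⟩
      · exact ⟨⟨hD.2.1 _ v vD, fun e => v2 (mul_left_cancel (mul_right_cancel (e.trans e2.symm))), k2⟩,
          hD.2.1 _ v vD, fun e => v1 (mul_left_cancel (mul_right_cancel (e.trans e1.symm))), k1⟩
    exact ⟨_, move t ht, _, move u hu, fun c => hn ((commute_conj_iff (g : G) t u).1 c), by group⟩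
  obtain ⟨N, eN⟩ : ∃ N : Subgroup (MulAut (Cfsg.PSU 4 F 2)),
      N = Subgroup.closure {ψ | ∃ (w : G) (hw : w ∈ S), ψ = π ⟨w, hSC hw⟩} := ⟨_, rfl⟩
  haveI : N.Normal := ⟨fun ψ hψ a => by
    obtain ⟨g, rfl⟩ := hπ a
    rw [eN] at hψ ⊢
    induction hψ using Subgroup.closure_induction with
    | mem v hv =>
      obtain ⟨w, hw, rfl⟩ := hv
      refine Subgroup.subset_closure ⟨_, hSinv g w hw, ?_⟩
      rw [← map_inv, ← map_mul, ← map_mul]
      rfl
    | one => simp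
    | mul u v _ _ h1 h2 =>
      rw [show π g * (u * v) * (π g)⁻¹ = (π g * u * (π g)⁻¹) * (π g * v * (π g)⁻¹) by group]
      exact mul_mem h1 h2
    | inv u _ h1 =>
      rw [show π g * u⁻¹ * (π g)⁻¹ = (π g * u * (π g)⁻¹)⁻¹ by group]
      exact inv_mem h1⟩
  -- each common neighbour has a non-commuting partner
  have partner : ∀ t ∈ nbrs D d₁ ∩ nbrs D d₂, ∃ u ∈ nbrs D d₁ ∩ nbrs D d₂, ¬ Commute t u := by
    intro t ht
    by_contra! hno
    have hv := pair_fix hD hP h h₁ n₂ ht.1.2.2.symm ht.2.2.2.symm hno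
    rcases v_cases hD h₁ n₂ hv with e | e | e | e
    · exact invol_ne_one (hD.1.1 t ht.1.1) e
    · exact ht.1.2.1 e
    · exact ht.2.2.1 e
    · have f1 : Fac D 1 t [t] := ⟨by simp, rfl, by simp [ht.1.1], by simp, by simp⟩
      rw [e] at f1
      exact fac_ne hD (by norm_num) (by norm_num) f1
        (fac_pair h₁ n₂.1 (Ne.symm n₂.2.1) n₂.2.2) fun k hk hk1 _ => m22_noRel_le hD h hk1 (by omega)
  obtain ⟨t₀, ht₀⟩ : ∃ t, t ∈ nbrs D d₁ ∩ nbrs D d₂ :=
    Set.nonempty_of_ncard_ne_zero (by rw [card_nbrs_two hD h h₁ n₂]; norm_num)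
  obtain ⟨u₀, hu₀, hn₀⟩ := partner t₀ ht₀
  have hw₀ : t₀ * u₀ ∈ S := eS ▸ ⟨t₀, ht₀, u₀, hu₀, hn₀, rfl⟩
  have hNne : N ≠ ⊥ := by
    intro e
    have h1 : π ⟨t₀ * u₀, hSC hw₀⟩ ∈ N := eN ▸ Subgroup.subset_closure ⟨_, hw₀, rfl⟩
    rw [e, Subgroup.mem_bot, hπ1] at h1
    have := pairE_pow hD h₁ n₂ hE h1 341 (pow_three hD.1 ht₀.1.1 hu₀.1.1 hn₀) rfl
    exact hn₀ (by rw [eq_inv_of_mul_eq_one_left this, inv_eq hD.1 hu₀.1.1])
  have hφ1 : π ⟨x, hxC⟩ = 1 := mulAut_psu_four_centralizes hF N hNne fun ψ hψ => by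
    rw [eN] at hψ
    induction hψ using Subgroup.closure_induction with
    | mem v hv =>
      obtain ⟨w, hw, rfl⟩ := hv
      obtain ⟨t, ht, u, hu, hn, rfl⟩ := eS ▸ hw
      exact Commute.map (show Commute (⟨x, hxC⟩ : ↥C) ⟨t * u, hSC hw⟩ from
        Subtype.ext (hc t ht u hu hn).eq) π
    | one => exact Commute.one_right _
    | mul u v _ _ h1 h2 => exact h1.mul_right h2
    | inv u _ h1 => exact h1.inv_right
  have hxE : x ∈ E := (hπ1 _).1 hφ1
  obtain ⟨x1, x2⟩ := hE.fix x hxE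
  have hfix : ∀ t ∈ nbrs D d₁ ∩ nbrs D d₂, Commute x t := by
    intro t ht
    obtain ⟨u, hu, hn⟩ := partner t ht
    obtain ⟨T, hT, rfl⟩ := exists_hex hD hP h h₁ n₂ ht
    obtain ⟨U, hU, rfl⟩ := exists_hex hD hP h h₁ n₂ hu
    obtain ⟨i, hi⟩ := pairE_orbit hD hP h h₁ n₂ hE hT hxE
    obtain ⟨j, hj⟩ := pairE_orbit hD hP h h₁ n₂ hE hU hxE
    refine commute_of_conj_eq ?_
    rw [hi]
    by_contra hne
    have e : T 0 * U 0 = T i * U j := by
      rw [← hi, ← hj, show x * T 0 * x⁻¹ * (x * U 0 * x⁻¹) = x * (T 0 * U 0) * x⁻¹ by group]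
      exact (conj_eq_of_commute (hc _ ht _ hu hn)).symm
    have e' : T i * T 0 = U j * U 0 := by
      calc T i * T 0 = T i * (T 0 * U 0) * U 0 := by
            rw [mul_assoc (T i), mul_assoc (T 0), Trans3.sq_one hD.1 hu.1.1, mul_one]
        _ = U j * U 0 := by rw [e, ← mul_assoc, Trans3.sq_one hD.1 (hT.mem i).1.1, one_mul]
    have hji : U j ≠ U 0 := fun c => hne (by
      rw [c, Trans3.sq_one hD.1 hu.1.1] at e'
      rw [eq_inv_of_mul_eq_one_left e', inv_eq hD.1 ht.1.1])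
    rcases pair_determined hD hP h h₁ n₂ (hU.mem j).1.1 hu.1.1 hji (hU.comm j 0) (hT.mem i).1.1
      ht.1.1 hne (hT.comm i 0) e'.symm with c | c
    · rcases pair_determined hD hP h h₁ n₂ (hT.mem i).1.1 ht.1.1 hne (hT.comm i 0) (hU.mem j).1.1
        hu.1.1 hji (hU.comm j 0) e' with c' | c'
      · exact hn (by
          rw [c'] at e'
          rw [mul_left_cancel e'])
      · exact hne (c.trans c')
    · exact hn (c ▸ hT.comm 0 i)
  have hv := pair_fix hD hP h h₁ n₂ x1 x2 hfix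
  have hxx : x * x = 1 := by
    rcases v_cases hD h₁ n₂ hv with e | e | e | e <;> rw [e]
    · exact one_mul 1
    · exact Trans3.sq_one hD.1 h₁
    · exact Trans3.sq_one hD.1 n₂.1
    · rw [n₂.2.2.symm.mul_mul_mul_comm, Trans3.sq_one hD.1 h₁, Trans3.sq_one hD.1 n₂.1, one_mul]
  rw [hxx] at hx
  exact n₂.2.1 (by rw [eq_inv_of_mul_eq_one_left hx.symm, inv_eq hD.1 n₂.1])

end Pair

/-- The lifts of the members are involutions. -/
theorem m22_dcov_sq {G : Type*} [Group G] [Finite G] {d : G} (hd : orderOf d = 2)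
    {X : Type*} [Group X] [Finite X] {π : ↥(Subgroup.centralizer ({d} : Set G)) →* X}
    {z : ↥(Subgroup.centralizer ({d} : Set G))} (hz : (z : G) = d) (hC : DCov π z) {D : Set X}
    (hD : Cfsg.IsThreeTranspositionGroup D) (hP : Cfsg.IsPrimitiveUnderConj D)
    (hw : ∃ a ∈ D, ∃ b ∈ D, a ≠ b ∧ Commute a b) (h : Cfsg.IsOfTypeM22 X D)
    (hcl : ∀ s u, π s ∈ D → π u ∈ D → Commute (π s) (π u) → Commute s u) {g : G}
    (hg : g * d * g⁻¹ ∈ Subgroup.centralizer ({d} : Set G)) (hgd : g * d * g⁻¹ ≠ d)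
    {a : ↥(Subgroup.centralizer ({d} : Set G))} (ha : π a ∈ D) : a * a = 1 := by
  rcases (hC.ker (a * a)).1 (by rw [map_mul, Trans3.sq_one hD.1 ha]) with hbad | hbad
  · exact hbad
  exfalso
  have hzz := dcov_sq hC
  -- an involution other than `z` is a product of the lifts of two commuting members
  have two : ∀ y : ↥(Subgroup.centralizer ({d} : Set G)), y * y = 1 → (y : G) ≠ 1 → (y : G) ≠ d →
      ∃ p q, π p ∈ D ∧ π q ∈ nbrs D (π p) ∧ y = p * q := by
    intro y hy hy1 hyd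
    have hne : π y ≠ 1 := fun e => ((hC.ker y).1 e).elim (fun e => hy1 (congrArg Subtype.val e))
      fun e => hyd ((congrArg Subtype.val e).trans hz)
    obtain ⟨m, l, h1, h3, hl⟩ := m22_invol hD hP h hne (by rw [← map_mul, hy, map_one])
    obtain ⟨hnd, hlen, hmem, hco, hpr⟩ := hl
    obtain ⟨y', hy', hyy'⟩ := dcov_lift_prod hC hD hP hw hcl ha hmem hco
    have hpow : y * y = z ^ l.length := by
      rw [← hbad, ← hyy']
      rcases dcov_eq hC (hy'.trans hpr).symm with e | e <;> rw [e]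
      rw [(hC.central y').symm.mul_mul_mul_comm, hzz, mul_one]
    rw [hy] at hpow
    match l, hlen with
    | [], hlen => simp at hlen; omega
    | [_], _ => exact absurd (by simpa using hpow.symm) hC.ne
    | [p₀, q₀], _ =>
      obtain ⟨p, hp⟩ := hC.surj p₀
      obtain ⟨q, hq⟩ := hC.surj q₀
      simp only [List.prod_cons, List.prod_nil, mul_one] at hpr
      have hpD : π p ∈ D := hp ▸ hmem p₀ (by simp)
      have hnb : q₀ ∈ nbrs D (π p) := ⟨hmem q₀ (by simp), hp ▸ fun e => by simp [e] at hnd,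
        hp ▸ hco p₀ (by simp) q₀ (by simp)⟩
      rcases dcov_eq hC (x := y) (y := p * q) (by rw [map_mul, hp, hq, hpr]) with e | e
      · exact ⟨p, q, hpD, hq ▸ hnb, e⟩
      · exact ⟨p, q * z, hpD, by rw [map_mul, dcov_map_z hC, mul_one, hq]; exact hnb,
          by rw [e, mul_assoc]⟩
    | [_, _, _], _ =>
      simp only [List.length_cons, List.length_nil] at hpow
      rw [pow_succ, pow_two, hzz, one_mul] at hpow
      exact absurd hpow.symm hC.ne
    | _ :: _ :: _ :: _ :: _, hlen => simp at hlen; omega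
  have hd1 := invol_ne_one hd
  have hdd := invol_mul_self hd
  have hgc : g * d * g⁻¹ * d = d * (g * d * g⁻¹) := Subgroup.mem_centralizer_singleton_iff.1 hg
  -- the conjugate on either side
  obtain ⟨p, q, hp, hq, epq⟩ := two ⟨g * d * g⁻¹, hg⟩
    (Subtype.ext (show g * d * g⁻¹ * (g * d * g⁻¹) = 1 by
      rw [show g * d * g⁻¹ * (g * d * g⁻¹) = g * (d * d) * g⁻¹ by group, hdd]; group))
    (fun e => hd1 (by simpa using e)) hgd
  have hge : g⁻¹ * d * g ∈ Subgroup.centralizer ({d} : Set G) := by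
    rw [Subgroup.mem_centralizer_singleton_iff]
    calc g⁻¹ * d * g * d = g⁻¹ * (d * (g * d * g⁻¹)) * g := by group
      _ = g⁻¹ * (g * d * g⁻¹ * d) * g := by rw [hgc]
      _ = d * (g⁻¹ * d * g) := by group
  obtain ⟨p₁, q₁, hp₁, hq₁, epq₁⟩ := two ⟨g⁻¹ * d * g, hge⟩
    (Subtype.ext (show g⁻¹ * d * g * (g⁻¹ * d * g) = 1 by
      rw [show g⁻¹ * d * g * (g⁻¹ * d * g) = g⁻¹ * (d * d) * g by group, hdd]; group))
    (fun e => hd1 (by
      have e' : g⁻¹ * d * g = 1 := e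
      rw [show d = g * (g⁻¹ * d * g) * g⁻¹ by group, e']; group))
    (fun e => hgd (by
      have e' : g⁻¹ * d * g = d := e
      conv_lhs => rw [← e']
      group))
  -- the root of the product
  have hp₁e : Commute (p₁ : G) (g⁻¹ * d * g) := by
    have h' : Commute p₁ (p₁ * q₁) := (Commute.refl p₁).mul_right (hcl _ _ hp₁ hq₁.1 hq₁.2.2)
    rw [← epq₁] at h'
    exact congrArg Subtype.val h'.eq
  have hwC : g * (p₁ : G) * g⁻¹ ∈ Subgroup.centralizer ({d} : Set G) := by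
    rw [Subgroup.mem_centralizer_singleton_iff]
    calc g * (p₁ : G) * g⁻¹ * d = g * ((p₁ : G) * (g⁻¹ * d * g)) * g⁻¹ := by group
      _ = g * (g⁻¹ * d * g * p₁) * g⁻¹ := by rw [hp₁e.eq]
      _ = d * (g * (p₁ : G) * g⁻¹) := by group
  obtain ⟨w, ew⟩ : ∃ w : ↥(Subgroup.centralizer ({d} : Set G)), w = ⟨g * (p₁ : G) * g⁻¹, hwC⟩ :=
    ⟨_, rfl⟩
  have hww : w * w = p * q := by
    rw [← epq]
    apply Subtype.ext
    rw [ew]
    show g * (p₁ : G) * g⁻¹ * (g * (p₁ : G) * g⁻¹) = g * d * g⁻¹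
    have := congrArg Subtype.val ((dcov_sq_const hC hD hP hw hp₁ ha).trans hbad)
    rw [Subgroup.coe_mul, hz] at this
    calc g * (p₁ : G) * g⁻¹ * (g * (p₁ : G) * g⁻¹) = g * ((p₁ : G) * p₁) * g⁻¹ := by group
      _ = g * d * g⁻¹ := by rw [this]
  refine pair_no_root hD hP h hp hq (x := π w) (by rw [← map_mul, hww, map_mul]) ?_
  intro t ht u hu hn
  obtain ⟨t', rfl⟩ := hC.surj t
  obtain ⟨u', rfl⟩ := hC.surj u
  obtain ⟨c, hc1, hc3⟩ : ∃ c, π c = π t' * π u' ∧ c ^ 3 = 1 := by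
    rcases (hC.ker ((t' * u') ^ 3)).1 (by
      rw [map_pow, map_mul]; exact pow_three hD.1 ht.1.1 hu.1.1 hn) with e | e
    · exact ⟨t' * u', map_mul _ _ _, e⟩
    · refine ⟨t' * u' * z, by rw [map_mul, dcov_map_z hC, mul_one, map_mul], ?_⟩
      rw [(hC.central (t' * u')).mul_pow, e, pow_succ, pow_two, hzz, one_mul, hzz]
  -- it commutes with the lifts of the two pairs
  have hcpq : Commute c (p * q) := by
    have hone : ∀ r, π r ∈ D → Commute (π r) (π t') → Commute (π r) (π u') → Commute c r := by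
      intro r hr k1 k2
      have h' : Commute (t' * u') r :=
        (hcl _ _ hr ht.1.1 k1).symm.mul_left (hcl _ _ hr hu.1.1 k2).symm
      exact dcov_commute_congr hC ((map_mul _ _ _).trans hc1.symm) rfl h'
    exact (hone p hp ht.1.2.2 hu.1.2.2).mul_right (hone q hq.1 ht.2.2.2 hu.2.2.2)
  obtain ⟨c₁, hc₁, hc₁3⟩ : ∃ c₁ : ↥(Subgroup.centralizer ({d} : Set G)),
      (c₁ : G) = g⁻¹ * c * g ∧ c₁ ^ 3 = 1 := by
    have hmem : g⁻¹ * (c : G) * g ∈ Subgroup.centralizer ({d} : Set G) := by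
      rw [Subgroup.mem_centralizer_singleton_iff]
      have h' : (c : G) * (g * d * g⁻¹) = g * d * g⁻¹ * c := by
        rw [← epq] at hcpq
        exact congrArg Subtype.val hcpq.eq
      calc g⁻¹ * (c : G) * g * d = g⁻¹ * ((c : G) * (g * d * g⁻¹)) * g := by group
        _ = g⁻¹ * (g * d * g⁻¹ * c) * g := by rw [h']
        _ = d * (g⁻¹ * (c : G) * g) := by group
    refine ⟨⟨_, hmem⟩, rfl, Subtype.ext ?_⟩
    show (g⁻¹ * (c : G) * g) ^ 3 = 1
    have := congrArg Subtype.val hc3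
    rw [Subgroup.coe_pow, Subgroup.coe_one] at this
    calc (g⁻¹ * (c : G) * g) ^ 3 = g⁻¹ * (c : G) ^ 3 * g := by
          simp only [pow_succ, pow_zero]; group
      _ = 1 := by rw [this]; group
  have hcp₁ : Commute c₁ p₁ := by
    have hce : Commute c₁ (p₁ * q₁) := by
      rw [← epq₁]
      apply Subtype.ext
      show (c₁ : G) * (g⁻¹ * d * g) = g⁻¹ * d * g * c₁
      rw [hc₁]
      have h' : (c : G) * d = d * c := Subgroup.mem_centralizer_singleton_iff.1 c.2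
      calc g⁻¹ * (c : G) * g * (g⁻¹ * d * g) = g⁻¹ * ((c : G) * d) * g := by group
        _ = g⁻¹ * d * g * (g⁻¹ * (c : G) * g) := by rw [h']; group
    have h3 : π c₁ ^ 3 = 1 := by rw [← map_pow, hc₁3, map_one]
    have hfix : π c₁ * π p₁ * (π c₁)⁻¹ = π p₁ := by
      have hcomm : Commute (π c₁) (π p₁ * π q₁) := by rw [← map_mul]; exact hce.map π
      rcases m22_pair_cases hD hP h hp₁ hq₁ hcomm with ⟨e1, -⟩ | ⟨e1, e2⟩
      · exact e1
      · exfalso
        refine hq₁.2.1 ?_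
        calc π q₁ = π c₁ * (π c₁ * (π c₁ * π p₁ * (π c₁)⁻¹) * (π c₁)⁻¹) * (π c₁)⁻¹ := by
              rw [e1, e2, e1]
          _ = π c₁ ^ 3 * π p₁ * (π c₁ ^ 3)⁻¹ := by simp only [pow_succ, pow_zero]; group
          _ = π p₁ := by rw [h3]; group
    rcases dcov_eq hC (x := c₁ * p₁ * c₁⁻¹) (y := p₁) (by rw [map_mul, map_mul, map_inv, hfix])
      with e | e
    · exact commute_of_conj_eq e
    · exfalso
      have k : ∀ v, c₁ * (v * z) * c₁⁻¹ = c₁ * v * c₁⁻¹ * z := fun v => by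
        rw [← mul_assoc c₁ v z, mul_assoc (c₁ * v), ← (hC.central c₁⁻¹).eq, ← mul_assoc]
      refine hC.ne ((mul_eq_left (a := p₁)).1 ?_)
      calc p₁ * z = c₁ * (c₁ * (c₁ * p₁ * c₁⁻¹) * c₁⁻¹) * c₁⁻¹ := by
            rw [e, k, e, mul_assoc p₁, hzz, mul_one, e]
        _ = c₁ ^ 3 * p₁ * (c₁ ^ 3)⁻¹ := by simp only [pow_succ, pow_zero]; group
        _ = p₁ := by rw [hc₁3]; group
  have hwc : Commute w c := by
    apply Subtype.ext
    rw [ew]
    show g * (p₁ : G) * g⁻¹ * c = c * (g * (p₁ : G) * g⁻¹)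
    have h' : (c₁ : G) * p₁ = p₁ * c₁ := congrArg Subtype.val hcp₁.eq
    rw [hc₁] at h'
    calc g * (p₁ : G) * g⁻¹ * c = g * ((p₁ : G) * (g⁻¹ * c * g)) * g⁻¹ := by group
      _ = g * ((g⁻¹ * c * g) * p₁) * g⁻¹ := by rw [h']
      _ = c * (g * (p₁ : G) * g⁻¹) := by group
  exact hc1 ▸ hwc.map π

/-- Every involution of the double cover lifts, and `d` is not a square. -/
theorem m22_dcov_main {G : Type*} [Group G] [Finite G] {d : G} (hd : orderOf d = 2)
    (hq : Cfsg.IsQuasisimple ↥(Subgroup.centralizer ({d} : Set G)))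
    {X : Type*} [Group X] [Finite X] {π : ↥(Subgroup.centralizer ({d} : Set G)) →* X}
    {z : ↥(Subgroup.centralizer ({d} : Set G))} (hz : (z : G) = d) (hC : DCov π z) {E : Set X}
    (hE : Cfsg.IsThreeTranspositionClass E) (h : Cfsg.IsOfTypeM22 X E)
    (hnwc : ∃ g : G, g * d * g⁻¹ ∈ Subgroup.centralizer ({d} : Set G) ∧ g * d * g⁻¹ ≠ d) :
    ∀ x : X, x * x = 1 → ∃ y, y * y = 1 ∧ π y = x := by
  classical
  have hD := CfsgLib.Trans3.class_isGroup hE
  obtain ⟨e₀, he₀, c₀, hc₀, hnc₀, -⟩ := h.2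
  haveI : Nontrivial X := ⟨⟨e₀, 1, invol_ne_one (hD.1.1 _ he₀)⟩⟩
  -- the quotient is simple
  have hcz : Subgroup.center ↥(Subgroup.centralizer ({d} : Set G)) = π.ker := by
    refine le_antisymm (fun x hx => ?_) fun x hx => ?_
    · have : π x ∈ Subgroup.center X := Subgroup.mem_center_iff.2 fun y => by
        obtain ⟨y', rfl⟩ := hC.surj y
        rw [← map_mul, ← map_mul, Subgroup.mem_center_iff.1 hx y']
      rwa [h.1, Subgroup.mem_bot] at this
    · rcases (hC.ker x).1 hx with rfl | rfl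
      · exact one_mem _
      · exact Subgroup.mem_center_iff.2 fun y => (hC.central y).eq
  haveI : IsSimpleGroup X := by
    haveI := hq.2
    exact ((QuotientGroup.quotientMulEquivOfEq hcz).trans
      (QuotientGroup.quotientKerEquivOfSurjective π hC.surj)).symm.isSimpleGroup
  have hcom : commutator X = ⊤ := by
    refine ((inferInstance : (commutator X).Normal).eq_bot_or_eq_top).resolve_left fun e => hnc₀ ?_
    have hm : ⁅e₀, c₀⁆ ∈ commutator X := by
      rw [commutator_def]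
      exact Subgroup.commutator_mem_commutator (Subgroup.mem_top _) (Subgroup.mem_top _)
    rw [e, Subgroup.mem_bot, commutatorElement_eq_one_iff_mul_comm] at hm
    exact hm
  haveI : IsSimpleGroup ↥(commutator X) :=
    ((MulEquiv.subgroupCongr hcom).trans Subgroup.topEquiv).isSimpleGroup
  obtain ⟨hP, hw⟩ := CfsgLib.Trans3.primitive_of_simple_commutator hE
    ⟨⟨e₀, hcom ▸ Subgroup.mem_top _⟩, ⟨c₀, hcom ▸ Subgroup.mem_top _⟩,
      fun e => hnc₀ (congrArg Subtype.val e)⟩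
  -- a hexad
  obtain ⟨p, hp, q, hq', hne, hpq⟩ := id hw
  have nq : q ∈ nbrs E p := ⟨hq', Ne.symm hne, hpq⟩
  obtain ⟨r, hr⟩ : ∃ r, r ∈ nbrs E p ∩ nbrs E q :=
    Set.nonempty_of_ncard_ne_zero (by rw [card_nbrs_two hD h hp nq]; norm_num)
  obtain ⟨T, hT, hT0⟩ := exists_hex hD hP h hp nq hr
  have hl : [p, q, T 0, T 1, T 2, T 3].Nodup ∧ (∀ a ∈ [p, q, T 0, T 1, T 2, T 3], a ∈ E) ∧
      (∀ a ∈ [p, q, T 0, T 1, T 2, T 3], ∀ b ∈ [p, q, T 0, T 1, T 2, T 3], Commute a b) := by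
    refine ⟨?_, ?_, ?_⟩
    · have k1 : ∀ i, p ≠ T i := fun i e => (hT.mem i).1.2.1 e.symm
      have k2 : ∀ i, q ≠ T i := fun i e => (hT.mem i).2.2.1 e.symm
      simp [hne, k1, k2, hT.inj.eq_iff]
    · simp [hp, hq', (hT.mem 0).1.1, (hT.mem 1).1.1, (hT.mem 2).1.1, (hT.mem 3).1.1]
    · have k1 : ∀ i, Commute p (T i) := fun i => (hT.mem i).1.2.2
      have k2 : ∀ i, Commute q (T i) := fun i => (hT.mem i).2.2.2
      simp [hpq, hpq.symm, k1, k2, (k1 _).symm, (k2 _).symm, hT.comm]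
  have hpr : [p, q, T 0, T 1, T 2, T 3].prod = 1 := by
    simp only [List.prod_cons, List.prod_nil, mul_one]
    rw [← mul_assoc (T 1), ← mul_assoc (T 0), ← mul_assoc (T 0), hT.prod, ← mul_assoc,
      hpq.symm.mul_mul_mul_comm, Trans3.sq_one hD.1 hp, Trans3.sq_one hD.1 hq', one_mul]
  have hcl : ∀ s u, π s ∈ E → π u ∈ E → Commute (π s) (π u) → Commute s u := fun s u h1 h2 h3 =>
    dcov_commute_lifts hC hD hP hw hl.1 rfl hl.2.1 hl.2.2 hpr h1 h2 h3
  obtain ⟨a, ha⟩ := hC.surj p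
  have haE : π a ∈ E := ha.symm ▸ hp
  obtain ⟨g, hg, hgd⟩ := hnwc
  have hsq := m22_dcov_sq hd hz hC hD hP hw h hcl hg hgd haE
  intro x hx
  by_cases hx1 : x = 1
  · exact ⟨1, one_mul 1, by rw [map_one, hx1]⟩
  obtain ⟨m, l, -, -, -, -, hmem, hco, hprod⟩ := m22_invol hD hP h hx1 hx
  obtain ⟨y, hy, hyy⟩ := dcov_lift_prod hC hD hP hw hcl haE hmem hco
  exact ⟨y, by rw [hyy, hsq, one_pow], hy.trans hprod⟩

end CfsgLib.Trans3.Fi
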