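import Cfsg.Agent.Lib.Trans3.Fi.M22ElemHex

/-!
A group of type M(22): the elementary abelian 2-subgroups have order at most `2¹⁰`, and those of
that order are generated by 22 commuting members.
-/

set_option autoImplicit false
set_option linter.unusedSectionVars false

namespace CfsgLib.Trans3.Fi

variable {G : Type*} [Group G] [Finite G] {D : Set G}
variable (hD : Cfsg.IsThreeTranspositionGroup D) (hP : Cfsg.IsPrimitiveUnderConj D)
variable (h : Cfsg.IsOfTypeM22 G D)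
include hD hP h

section Pair

variable {d₁ d₂ : G} (h₁ : d₁ ∈ D) (n₂ : d₂ ∈ nbrs D d₁)
include h₁ n₂

/-- A group fixing two commuting members fixes a hexad through them. -/
theorem fixed_hex {A : Subgroup G} (hA : ∀ a ∈ A, a * a = 1) (hA₁ : d₁ ∈ A) (hA₂ : d₂ ∈ A) :
    ∃ T : Fin 4 → G, Hex D d₁ d₂ T ∧ ∀ a ∈ A, ∀ i, ∃ j, a * T i * a⁻¹ = T j := by
  classical
  obtain ⟨M, eM⟩ : ∃ M : Finset G, ∀ z, z ∈ M ↔ z ∈ nbrs D d₁ ∩ nbrs D d₂ :=
    ⟨(Set.toFinite (nbrs D d₁ ∩ nbrs D d₂)).toFinset, fun z => Set.Finite.mem_toFinset _⟩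
  have hM180 : M.card = 180 := by
    rw [← card_nbrs_two hD h h₁ n₂, ← Set.ncard_coe_finset]
    congr 1
    ext z
    exact eM z
  obtain ⟨H, eH⟩ : ∃ H : G → Finset G,
      H = fun u => M.filter fun v => ∃ T, Hex D d₁ d₂ T ∧ T 0 = u ∧ ∃ i, T i = v := ⟨_, rfl⟩
  have hH : ∀ (T : Fin 4 → G), Hex D d₁ d₂ T → ∀ i, H (T i) = Finset.univ.image T := by
    intro T hT i
    ext v
    rw [eH, Finset.mem_filter, Finset.mem_image, eM]
    constructor
    · rintro ⟨-, T', hT', e0, j, rfl⟩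
      obtain ⟨l, hl⟩ := hex_range hD hP h h₁ n₂ hT hT' e0.symm j
      exact ⟨l, Finset.mem_univ _, hl⟩
    · rintro ⟨l, -, rfl⟩
      exact ⟨hT.mem l, T ∘ Equiv.swap 0 i, hex_comp hT _, by simp, Equiv.swap 0 i l, by simp⟩
  have hex : ∀ u ∈ M, ∃ T, Hex D d₁ d₂ T ∧ H u = Finset.univ.image T ∧ T 0 = u := by
    intro u hu
    obtain ⟨T, hT, hT0⟩ := exists_hex hD hP h h₁ n₂ ((eM u).1 hu)
    exact ⟨T, hT, hT0 ▸ hH T hT 0, hT0⟩
  have h45 : (M.image H).card * 4 = 180 := by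
    have hsum := Finset.card_eq_sum_card_image H M
    rw [Finset.sum_const_nat (m := 4) fun k hk => ?_, hM180] at hsum
    · exact hsum.symm
    · obtain ⟨u, hu, rfl⟩ := Finset.mem_image.1 hk
      obtain ⟨T, hT, e, e0⟩ := hex u hu
      rw [show (M.filter fun z => H z = H u) = Finset.univ.image T from ?_,
        Finset.card_image_of_injective _ hT.inj, Finset.card_univ, Fintype.card_fin]
      ext z
      rw [Finset.mem_filter, Finset.mem_image]
      constructor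
      · rintro ⟨hz, ez⟩
        obtain ⟨T', hT', e', e0'⟩ := hex z hz
        have : z ∈ H z := e' ▸ Finset.mem_image.2 ⟨0, Finset.mem_univ _, e0'⟩
        rw [ez, e] at this
        exact Finset.mem_image.1 this
      · rintro ⟨i, -, rfl⟩
        exact ⟨(eM _).2 (hT.mem i), by rw [hH T hT i, e]⟩
  obtain ⟨k, hk, hfix⟩ := sqOne_fixed hA (S := M.image H)
    (fun g s => s.image fun z => g * z * g⁻¹)
    (fun s _ => by simp)
    (fun a _ b _ s _ => by rw [Finset.image_image]; congr 1; funext z; simp [mul_assoc])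
    (fun a ha s hs => by
      obtain ⟨u, hu, rfl⟩ := Finset.mem_image.1 hs
      obtain ⟨T, hT, e, -⟩ := hex u hu
      have hT' := hex_conj hD h₁ n₂ hT (sqOne_comm hA ha hA₁) (sqOne_comm hA ha hA₂)
      refine Finset.mem_image.2 ⟨a * T 0 * a⁻¹, (eM _).2 (hT'.mem 0), ?_⟩
      rw [hH _ hT' 0, e, Finset.image_image]
      rfl)
    (by omega)
  obtain ⟨u, hu, rfl⟩ := Finset.mem_image.1 hk
  obtain ⟨T, hT, e, -⟩ := hex u hu
  refine ⟨T, hT, fun a ha i => ?_⟩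
  have h' := hfix a ha
  rw [e] at h'
  obtain ⟨j, -, hj⟩ := Finset.mem_image.1 ((Finset.ext_iff.1 h' _).1
    (Finset.mem_image.2 ⟨T i, Finset.mem_image.2 ⟨i, Finset.mem_univ _, rfl⟩, rfl⟩))
  exact ⟨j, hj.symm⟩

theorem m22Bound_pair {A : Subgroup G} (hA : ∀ a ∈ A, a * a = 1) (hA₁ : d₁ ∈ A) (hA₂ : d₂ ∈ A) :
    M22Bound D A := by
  classical
  obtain ⟨T, hT, hTA⟩ := fixed_hex hD hP h h₁ n₂ hA hA₁ hA₂
  have a1 : ∀ a ∈ A, Commute a d₁ := fun a ha => sqOne_comm hA ha hA₁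
  have a2 : ∀ a ∈ A, Commute a d₂ := fun a ha => sqOne_comm hA ha hA₂
  have hinv : ∀ a ∈ A, ∀ u : G, a * (a * u * a⁻¹) * a⁻¹ = u := fun a ha u => by
    calc a * (a * u * a⁻¹) * a⁻¹ = (a * a) * u * (a * a)⁻¹ := by group
      _ = u := by rw [hA a ha]; group
  -- each element fixes all or none
  have hall : ∀ a ∈ A, ∀ i, Commute a (T i) → ∀ k, Commute a (T k) := by
    intro a ha i hi k
    choose σ hσ using hTA a ha
    have hinj : Function.Injective σ := fun p q e => hT.inj (by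
      have := congrArg T e
      rw [← hσ, ← hσ] at this
      exact mul_left_cancel (mul_right_cancel this))
    obtain ⟨τ, hτ⟩ : ∃ τ : Equiv.Perm (Fin 4), ∀ m, τ m = σ m :=
      ⟨Equiv.ofBijective σ (Finite.injective_iff_bijective.1 hinj), fun _ => rfl⟩
    have hsq : τ * τ = 1 := Equiv.ext fun m => hT.inj (by
      rw [Equiv.Perm.mul_apply, hτ, hτ, ← hσ, ← hσ, hinv a ha, Equiv.Perm.one_apply])
    have fixed : ∀ m, τ m = m → Commute a (T m) := fun m hm =>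
      commute_of_conj_eq (by rw [hσ, ← hτ, hm])
    rcases perm_four_invol τ hsq with e | e | ⟨p, q, hpq, hp, hq⟩
    · exact fixed k (e k)
    · exact absurd (hT.inj (show T (τ i) = T i by rw [hτ, ← hσ]; exact conj_eq_of_commute hi)) (e i)
    · exact hex_fix_two hD hP h h₁ n₂ hT (a1 a ha) (a2 a ha) hpq (fixed p hp) (fixed q hq) k
  obtain ⟨A₀, eA₀⟩ : ∃ A₀, A₀ = A ⊓ Subgroup.centralizer ({T 0} : Set G) := ⟨_, rfl⟩
  have mA₀ : ∀ a ∈ A₀, a ∈ A ∧ ∀ i, Commute a (T i) := fun a ha => by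
    rw [eA₀, Subgroup.mem_inf, Subgroup.mem_centralizer_singleton_iff] at ha
    exact ⟨ha.1, hall a ha.1 0 ha.2⟩
  have hA₀ : ∀ a ∈ A₀, a * a = 1 := fun a ha => hA a (mA₀ a ha).1
  have tsq : ∀ i, T i * T i = 1 := fun i => Trans3.sq_one hD.1 (hT.mem i).1.1
  -- adjoining the first three members
  obtain ⟨B₁, eB₁⟩ : ∃ B₁, B₁ = A₀ ⊔ Subgroup.zpowers (T 0) := ⟨_, rfl⟩
  obtain ⟨B₂, eB₂⟩ : ∃ B₂, B₂ = B₁ ⊔ Subgroup.zpowers (T 1) := ⟨_, rfl⟩
  obtain ⟨B₃, eB₃⟩ : ∃ B₃, B₃ = B₂ ⊔ Subgroup.zpowers (T 2) := ⟨_, rfl⟩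
  obtain ⟨B₄, eB₄⟩ : ∃ B₄, B₄ = B₃ ⊔ Subgroup.zpowers (T 3) := ⟨_, rfl⟩
  obtain ⟨hm₁, hs₁⟩ := sqOne_join hA₀ (tsq 0) fun a ha => (mA₀ a ha).2 0
  rw [← eB₁] at hm₁ hs₁
  have hc₁ : ∀ i, ∀ b ∈ B₁, Commute b (T i) := by
    intro i b hb
    rcases hm₁ b hb with hb | hb
    · exact (mA₀ b hb).2 i
    · have := ((mA₀ _ hb).2 i).mul_left (hT.comm 0 i)
      rwa [mul_assoc, tsq, mul_one] at this
  obtain ⟨hm₂, hs₂⟩ := sqOne_join hs₁ (tsq 1) (hc₁ 1)
  rw [← eB₂] at hm₂ hs₂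
  have hc₂ : ∀ i, ∀ b ∈ B₂, Commute b (T i) := by
    intro i b hb
    rcases hm₂ b hb with hb | hb
    · exact hc₁ i b hb
    · have := (hc₁ i _ hb).mul_left (hT.comm 1 i)
      rwa [mul_assoc, tsq, mul_one] at this
  obtain ⟨hm₃, hs₃⟩ := sqOne_join hs₂ (tsq 2) (hc₂ 2)
  rw [← eB₃] at hm₃ hs₃
  have hc₃ : ∀ i, ∀ b ∈ B₃, Commute b (T i) := by
    intro i b hb
    rcases hm₃ b hb with hb | hb
    · exact hc₂ i b hb
    · have := (hc₂ i _ hb).mul_left (hT.comm 2 i)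
      rwa [mul_assoc, tsq, mul_one] at this
  obtain ⟨-, hs₄⟩ := sqOne_join hs₃ (tsq 3) (hc₃ 3)
  rw [← eB₄] at hs₄
  have l1 : A₀ ≤ B₁ := eB₁ ▸ le_sup_left
  have l2 : B₁ ≤ B₂ := eB₂ ▸ le_sup_left
  have l3 : B₂ ≤ B₃ := eB₃ ▸ le_sup_left
  have l4 : B₃ ≤ B₄ := eB₄ ▸ le_sup_left
  have t0 : T 0 ∈ B₁ := eB₁ ▸ Subgroup.mem_sup_right (Subgroup.mem_zpowers _)
  have t1 : T 1 ∈ B₂ := eB₂ ▸ Subgroup.mem_sup_right (Subgroup.mem_zpowers _)
  have t2 : T 2 ∈ B₃ := eB₃ ▸ Subgroup.mem_sup_right (Subgroup.mem_zpowers _)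
  have t3 : T 3 ∈ B₄ := eB₄ ▸ Subgroup.mem_sup_right (Subgroup.mem_zpowers _)
  have hd : d₁ ∈ A₀ ∧ d₂ ∈ A₀ := by
    rw [eA₀, Subgroup.mem_inf, Subgroup.mem_inf, Subgroup.mem_centralizer_singleton_iff,
      Subgroup.mem_centralizer_singleton_iff]
    exact ⟨⟨hA₁, (hT.mem 0).1.2.2.eq⟩, hA₂, (hT.mem 0).2.2.2.eq⟩
  have hbig : M22Bound D B₄ := m22Bound_hex hD hP h h₁ n₂ hT hs₄ (l4 (l3 (l2 (l1 hd.1))))
    (l4 (l3 (l2 (l1 hd.2)))) (fun i => by
      fin_cases i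
      exacts [l4 (l3 (l2 t0)), l4 (l3 t1), l4 t2, t3])
  by_cases hfix : ∀ a ∈ A, Commute a (T 0)
  · have e : A₀ = A := by
      rw [eA₀]
      exact inf_eq_left.2 fun a ha => Subgroup.mem_centralizer_singleton_iff.2 (hfix a ha).eq
    exact m22Bound_le (e ▸ l1.trans (l2.trans (l3.trans l4))) hbig
  push Not at hfix
  obtain ⟨x, hx, hx0⟩ := hfix
  obtain ⟨O, eO⟩ : ∃ O : Finset G,
      O = (Finset.univ.image T).filter fun o => ∃ a ∈ A, a * T 0 * a⁻¹ = o := ⟨_, rfl⟩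
  have horb := card_orbit_mul (H := A) (x := T 0) (O := (O : Set G))
    (fun a ha => by
      rw [eO, Finset.mem_coe, Finset.mem_filter]
      obtain ⟨j, hj⟩ := hTA a ha 0
      exact ⟨Finset.mem_image.2 ⟨j, Finset.mem_univ _, hj.symm⟩, a, ha, rfl⟩)
    (fun o ho => by rw [eO, Finset.mem_coe, Finset.mem_filter] at ho; exact ho.2)
  rw [← eA₀, Set.ncard_coe_finset] at horb
  have hO4 : O.card ≤ 4 := by
    rw [eO]
    refine (Finset.card_filter_le _ _).trans ?_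
    rw [Finset.card_image_of_injective _ hT.inj, Finset.card_univ, Fintype.card_fin]
  -- small order
  suffices hsmall : Nat.card A * 2 ≤ 2 ^ 10 by
    refine ⟨by omega, fun e => ?_⟩
    omega
  have moved : ∀ a ∈ A, ¬ Commute a (T 0) → ∀ i, ¬ Commute a (T i) := fun a ha hn i hi =>
    hn (hall a ha i hi 0)
  have nsing : ∀ i, T i ∉ A₀ := fun i hi =>
    moved x hx hx0 i (sqOne_comm hA hx (mA₀ _ hi).1)
  have hpair : ∀ {p q : Fin 4}, p ≠ q → T p * T q ∈ A₀ → ∀ a ∈ A,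
      a * T p * a⁻¹ = T p ∨ a * T p * a⁻¹ = T q := by
    intro p q hpq hm a ha
    have e : T p * T q = a * T p * a⁻¹ * (a * T q * a⁻¹) := by
      conv_lhs => rw [← conj_eq_of_commute (sqOne_comm hA ha (mA₀ _ hm).1)]
      group
    exact pair_determined hD hP h h₁ n₂ (hT.mem p).1.1 (hT.mem q).1.1 (fun c => hpq (hT.inj c))
      (hT.comm p q) (hD.2.1 a _ (hT.mem p).1.1) (hD.2.1 a _ (hT.mem q).1.1)
      (fun c => hpq (hT.inj (mul_left_cancel (mul_right_cancel c))))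
      ((commute_conj_iff a _ _).2 (hT.comm p q)) e
  have dbl : ∀ {S S' : Subgroup G} {v : G}, S' = S ⊔ Subgroup.zpowers v → v ∉ S →
      2 * Nat.card S ≤ Nat.card S' := fun e hv => e ▸ card_double hv
  obtain ⟨j, hj⟩ := hTA x hx 0
  have hj0 : j ≠ 0 := fun e => hx0 (commute_of_conj_eq (e ▸ hj))
  by_cases htwo : ∀ a ∈ A, a * T 0 * a⁻¹ = T 0 ∨ a * T 0 * a⁻¹ = T j
  · -- orbit of two
    have hO2 : O.card ≤ 2 := by
      refine (Finset.card_le_card (t := {T 0, T j}) fun o ho => ?_).trans Finset.card_le_two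
      rw [eO, Finset.mem_filter] at ho
      obtain ⟨a, ha, rfl⟩ := ho.2
      simpa using htwo a ha
    obtain ⟨k, hk0, hkj⟩ := (by decide : ∀ j : Fin 4, ∃ k : Fin 4, k ≠ 0 ∧ k ≠ j) j
    obtain ⟨hm', hs'⟩ := sqOne_join hs₁ (tsq k) (hc₁ k)
    have hkB : T k ∉ B₁ := by
      intro hm
      rcases hm₁ _ hm with hm | hm
      · exact nsing k hm
      · rcases hpair (Ne.symm hk0) ((hT.comm 0 k).eq.trans rfl ▸ hm) x hx with e | e
        · exact hx0 (commute_of_conj_eq e)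
        · exact hkj (hT.inj (e.symm.trans hj))
    have hc' : ∀ i, ∀ b ∈ B₁ ⊔ Subgroup.zpowers (T k), Commute b (T i) := by
      intro i b hb
      rcases hm' b hb with hb | hb
      · exact hc₁ i b hb
      · have := (hc₁ i _ hb).mul_left (hT.comm k i)
        rwa [mul_assoc, tsq, mul_one] at this
    have hle' : B₁ ⊔ Subgroup.zpowers (T k) ≤ B₄ := sup_le (l2.trans (l3.trans l4))
      (Subgroup.zpowers_le.2 (by
        fin_cases k
        exacts [absurd rfl hk0, l4 (l3 t1), l4 t2, t3]))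
    have h1 := dbl eB₁ (nsing 0)
    have h2 := dbl (S := B₁) rfl hkB
    have h3 := Nat.le_of_dvd Nat.card_pos (Subgroup.card_dvd_of_le hle')
    have h4 := hbig.1
    have h5 := Nat.mul_le_mul_right (Nat.card A₀) hO2
    omega
  push Not at htwo
  obtain ⟨y, hy, hy0, hyj⟩ := htwo
  obtain ⟨k, hk⟩ := hTA y hy 0
  have hnpair : ∀ p q : Fin 4, p ≠ q → T p * T q ∉ A₀ := by
    intro p q hpq hm
    have move : ∀ a ∈ A, ¬ Commute a (T 0) → a * T p * a⁻¹ = T q := fun a ha hn =>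
      (hpair hpq hm a ha).resolve_left fun e => moved a ha hn p (commute_of_conj_eq e)
    have ex := move x hx hx0
    have ey := move y hy fun c => hy0 (conj_eq_of_commute c)
    have hfx : Commute (y * x) (T p) := commute_of_conj_eq (by
      calc y * x * T p * (y * x)⁻¹ = y * (x * T p * x⁻¹) * y⁻¹ := by group
        _ = y * (y * T p * y⁻¹) * y⁻¹ := by rw [ex, ey]
        _ = T p := hinv y hy _)
    have h0 := conj_eq_of_commute (hall _ (mul_mem hy hx) p hfx 0)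
    refine hyj ?_
    calc y * T 0 * y⁻¹ = y * (y * x * T 0 * (y * x)⁻¹) * y⁻¹ := by rw [h0]
      _ = y * (y * (x * T 0 * x⁻¹) * y⁻¹) * y⁻¹ := by group
      _ = T j := by rw [hinv y hy, hj]
  have h1B : T 1 ∉ B₁ := by
    intro hm
    rcases hm₁ _ hm with hm | hm
    · exact nsing 1 hm
    · exact hnpair 1 0 (by decide) hm
  have h2B : T 2 ∉ B₂ := by
    intro hm
    rcases hm₂ _ hm with hm | hm
    · rcases hm₁ _ hm with hm | hm
      · exact nsing 2 hm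
      · exact hnpair 2 0 (by decide) hm
    · rcases hm₁ _ hm with hm | hm
      · exact hnpair 2 1 (by decide) hm
      · refine nsing 3 ?_
        have e : T 2 * T 1 * T 0 * (d₁ * d₂) = T 3 := by
          calc T 2 * T 1 * T 0 * (d₁ * d₂) = T 2 * (T 1 * (T 0 * T 0) * T 1) * T 2 * T 3 := by
                rw [← hT.prod]; group
            _ = T 3 := by rw [tsq, mul_one, tsq, mul_one, tsq, one_mul]
        rw [← e]
        exact mul_mem hm (mul_mem hd.1 hd.2)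
  have h1 := dbl eB₁ (nsing 0)
  have h2 := dbl eB₂ h1B
  have h3 := dbl eB₃ h2B
  have h4 := Nat.le_of_dvd Nat.card_pos (Subgroup.card_dvd_of_le l4)
  have h5 := hbig.1
  have h6 := Nat.mul_le_mul_right (Nat.card A₀) hO4
  omega

end Pair

theorem m22Bound_member {A : Subgroup G} (hA : ∀ a ∈ A, a * a = 1) {d : G} (hd : d ∈ D)
    (hAd : ∀ a ∈ A, Commute a d) : M22Bound D A := by
  classical
  obtain ⟨-, hs⟩ := sqOne_join hA (Trans3.sq_one hD.1 hd) hAd
  obtain ⟨A', eA'⟩ : ∃ A', A' = A ⊔ Subgroup.zpowers d := ⟨_, rfl⟩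
  rw [← eA'] at hs
  have hdA : d ∈ A' := eA' ▸ Subgroup.mem_sup_right (Subgroup.mem_zpowers d)
  refine m22Bound_le (B := A') (eA' ▸ le_sup_left) ?_
  obtain ⟨N, eN⟩ : ∃ N : Finset G, ∀ z, z ∈ N ↔ z ∈ nbrs D d :=
    ⟨(Set.toFinite (nbrs D d)).toFinset, fun z => Set.Finite.mem_toFinset _⟩
  have hN : N.card = 693 := by
    rw [← card_nbrs hD h hd, ← Set.ncard_coe_finset]
    congr 1
    ext z
    exact eN z
  obtain ⟨d₂, hd₂, hfix⟩ := sqOne_fixed hs (S := N) (fun g z => g * z * g⁻¹)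
    (fun s _ => by simp) (fun a _ b _ s _ => by group)
    (fun a ha z hz => by
      obtain ⟨z1, z2, z3⟩ := (eN z).1 hz
      have ed := conj_eq_of_commute (sqOne_comm hs ha hdA)
      refine (eN _).2 ⟨hD.2.1 a z z1, fun e => z2 (mul_left_cancel (mul_right_cancel (e.trans ed.symm))),
        ?_⟩
      have h' := (commute_conj_iff a d z).2 z3
      rwa [ed] at h') (by omega)
  have n₂ := (eN d₂).1 hd₂
  obtain ⟨-, hs'⟩ := sqOne_join hs (Trans3.sq_one hD.1 n₂.1)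
    fun a ha => commute_of_conj_eq (hfix a ha)
  exact m22Bound_le (B := A' ⊔ Subgroup.zpowers d₂) le_sup_left
    (m22Bound_pair hD hP h hd n₂ hs' (Subgroup.mem_sup_left hdA)
      (Subgroup.mem_sup_right (Subgroup.mem_zpowers d₂)))

/-- The elementary abelian 2-subgroups of largest order. -/
theorem m22_elem_bound {A : Subgroup G} (hA : ∀ a ∈ A, a * a = 1) : M22Bound D A := by
  classical
  obtain ⟨d, hd, d', hd', hor, hne⟩ := sqOne_orbit hA (S := D) (fun a _ s hs => hD.2.1 a s hs)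
    (m := 877) (by rw [m22_card_D hD hP h])
  by_cases hall : ∀ a ∈ A, Commute a d
  · exact m22Bound_member hD hP h hA hd hall
  push Not at hall
  obtain ⟨x, hx, hxd⟩ := hall
  have hxd' : x * d * x⁻¹ = d' :=
    (hor x hx).resolve_left fun e => hxd (commute_of_conj_eq e)
  have hdd : d' ≠ d := fun e => hxd (commute_of_conj_eq (e ▸ hxd'))
  have hxx : x * d' * x⁻¹ = d := by
    rw [← hxd']
    calc x * (x * d * x⁻¹) * x⁻¹ = (x * x) * d * (x * x)⁻¹ := by group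
      _ = d := by rw [hA x hx]; group
  have hswap : ∀ a ∈ A, (a * d * a⁻¹ = d ∧ a * d' * a⁻¹ = d') ∨
      (a * d * a⁻¹ = d' ∧ a * d' * a⁻¹ = d) := by
    intro a ha
    have e : a * d' * a⁻¹ = x * (a * d * a⁻¹) * x⁻¹ := by
      rw [← hxd']
      calc a * (x * d * x⁻¹) * a⁻¹ = (a * x) * d * (a * x)⁻¹ := by group
        _ = (x * a) * d * (x * a)⁻¹ := by rw [(sqOne_comm hA ha hx).eq]
        _ = x * (a * d * a⁻¹) * x⁻¹ := by group
    rcases hor a ha with e' | e' <;> rw [e'] at e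
    exacts [Or.inl ⟨e', e.trans hxd'⟩, Or.inr ⟨e', e.trans hxx⟩]
  by_cases hc : Commute d d'
  swap
  · refine m22Bound_member hD hP h hA (d := d * d' * d) (self_conj_mem hD hd hd') fun a ha =>
      commute_of_conj_eq ?_
    rw [show a * (d * d' * d) * a⁻¹ = (a * d * a⁻¹) * (a * d' * a⁻¹) * (a * d * a⁻¹) by group]
    rcases hswap a ha with ⟨e1, e2⟩ | ⟨e1, e2⟩ <;> rw [e1, e2]
    exact (braid hD.1 hd hd' hc).symm
  obtain ⟨A₀, eA₀⟩ : ∃ A₀, A₀ = A ⊓ Subgroup.centralizer ({d} : Set G) := ⟨_, rfl⟩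
  have mA₀ : ∀ a, a ∈ A₀ ↔ a ∈ A ∧ Commute a d := fun a => by
    rw [eA₀, Subgroup.mem_inf, Subgroup.mem_centralizer_singleton_iff]; rfl
  have hd0 : ∀ a ∈ A₀, Commute a d' := by
    intro a ha
    obtain ⟨haA, hc'⟩ := (mA₀ a).1 ha
    rcases hswap a haA with ⟨-, e⟩ | ⟨e, -⟩
    · exact commute_of_conj_eq e
    · exact absurd (e.symm.trans (conj_eq_of_commute hc')) hdd
  have dsq := Trans3.sq_one hD.1 hd
  obtain ⟨hmem, hs⟩ := sqOne_join (A := A₀) (fun a ha => hA a ((mA₀ a).1 ha).1) dsq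
    fun a ha => ((mA₀ a).1 ha).2
  obtain ⟨B, eB⟩ : ∃ B, B = A₀ ⊔ Subgroup.zpowers d := ⟨_, rfl⟩
  rw [← eB] at hmem hs
  have hdB : d ∈ B := eB ▸ Subgroup.mem_sup_right (Subgroup.mem_zpowers d)
  have hdA₀ : d ∉ A₀ := fun hm => hxd (sqOne_comm hA hx ((mA₀ d).1 hm).1)
  have hidx : Nat.card A = 2 * Nat.card A₀ := by
    have h1 := card_orbit_mul (H := A) (x := d) (O := {d, d'}) (fun a ha => hor a ha) (by
      rintro o (rfl | rfl)
      exacts [⟨1, one_mem _, by group⟩, ⟨x, hx, hxd'⟩])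
    rw [← eA₀, Set.ncard_pair hdd.symm] at h1
    exact h1
  have hcB : Nat.card A ≤ Nat.card B := hidx ▸ eB ▸ card_double hdA₀
  have hB := m22Bound_member hD hP h hs hd fun b hb => sqOne_comm hs hb hdB
  refine ⟨hcB.trans hB.1, fun e => False.elim ?_⟩
  obtain ⟨X, hX, eX⟩ := hB.2 (le_antisymm hB.1 (e ▸ hcB))
  have inX : ∀ z ∈ D, z ∈ B → z ∈ X := fun z hz hzB => clique_mem hD hP h hX hz fun w hw =>
    sqOne_comm hs hzB (eX ▸ Subgroup.subset_closure hw)
  have hdX := inX d hd hdB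
  have hd'B : ∀ b ∈ B, Commute b d' := by
    intro b hb
    rcases hmem b hb with hb | hb
    · exact hd0 b hb
    · have := (hd0 _ hb).mul_left hc
      rwa [mul_assoc, dsq, mul_one] at this
  have hd'X : d' ∈ X := clique_mem hD hP h hX hd' fun w hw =>
    (hd'B w (eX ▸ Subgroup.subset_closure hw)).symm
  have hd'mem : d' ∈ B := eX ▸ Subgroup.subset_closure hd'X
  have hxB : ∀ z ∈ X, x * z * x⁻¹ ∈ X := by
    intro z hz
    refine inX _ (hD.2.1 x z (hX.sub z hz)) ?_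
    rcases hmem z (eX ▸ Subgroup.subset_closure hz) with hm | hm
    · rw [conj_eq_of_commute (sqOne_comm hA hx ((mA₀ z).1 hm).1)]
      exact eX ▸ Subgroup.subset_closure hz
    · rw [show x * z * x⁻¹ = x * (z * d) * x⁻¹ * (x * d * x⁻¹)⁻¹ by group, hxd',
        conj_eq_of_commute (sqOne_comm hA hx ((mA₀ _).1 hm).1), inv_eq hD.1 hd']
      exact mul_mem ((eB ▸ le_sup_left : A₀ ≤ B) hm) hd'mem
  have hfix : ∀ p ∈ X, p ≠ d → p ≠ d' → Commute x p := by
    intro p hp p1 p2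
    rcases hmem p (eX ▸ Subgroup.subset_closure hp) with hm | hm
    · exact sqOne_comm hA hx ((mA₀ p).1 hm).1
    · exfalso
      have e' : p * d = x * p * x⁻¹ * d' := by
        conv_lhs => rw [← conj_eq_of_commute (sqOne_comm hA hx ((mA₀ _).1 hm).1)]
        rw [← hxd']; group
      have hne' : x * p * x⁻¹ ≠ d' := fun c => p1 (by
        rw [← hxd'] at c; exact mul_left_cancel (mul_right_cancel c))
      rw [(hX.comm _ (hxB p hp) d' hd'X).eq] at e'
      rcases pair_determined hD hP h hd (⟨hd', hdd, hc⟩ : d' ∈ nbrs D d) (hX.sub p hp) hd p1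
        (hX.comm p hp d hdX) hd' (hD.2.1 x p (hX.sub p hp)) hne'.symm
        (hX.comm d' hd'X _ (hxB p hp)) e' with c | c
      exacts [p2 c.symm, hdd c]
  obtain ⟨b, hb, hbd⟩ : ∃ b ∈ X, b ∉ ({d, d'} : Finset G) := by
    refine Finset.not_subset.1 fun hsub => ?_
    have := (Finset.card_le_card hsub).trans Finset.card_le_two
    rw [hX.card] at this; omega
  obtain ⟨c, hc', hcd⟩ : ∃ c ∈ X, c ∉ ({d, d', b} : Finset G) := by
    refine Finset.not_subset.1 fun hsub => ?_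
    have := (Finset.card_le_card hsub).trans Finset.card_le_three
    rw [hX.card] at this; omega
  simp only [Finset.mem_insert, Finset.mem_singleton, not_or] at hbd hcd
  obtain ⟨Bk, hBk, hsub, -⟩ := block_data hD hP h hX (s := {d, b, c})
    (by simp [Finset.insert_subset_iff, hdX, hb, hc'])
    (Finset.card_eq_three.2 ⟨d, b, c, Ne.symm hbd.1, Ne.symm hcd.1, Ne.symm hcd.2.2, rfl⟩)
  obtain ⟨s, hs', hs3⟩ := Finset.exists_subset_card_eq (s := Bk \ {d, d'}) (n := 3) (by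
    have := Finset.le_card_sdiff {d, d'} Bk
    have := Finset.card_le_two (a := d) (b := d')
    rw [hBk.card] at *; omega)
  have := block_fix_three hD hP h hX (hA x hx) hxB hBk (hs'.trans Finset.sdiff_subset) hs3
    (fun p hp => by
      have hp' := hs' hp
      simp only [Finset.mem_sdiff, Finset.mem_insert, Finset.mem_singleton, not_or] at hp'
      exact hfix p (hBk.sub hp'.1) hp'.2.1 hp'.2.2) d (hsub (by simp))
  exact hxd this

end CfsgLib.Trans3.Fi
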