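import Cfsg.Agent.Lib.Trans3.Fi.U6Plane
import Cfsg.Agent.Lib.Trans3.Fi.U6Count

/-!
Every involution of `PSU₆(2)` is a product of at most three orthogonal transvections, and three
independent ones lie in two six-point relations.
-/

set_option autoImplicit false
set_option linter.unusedSectionVars false
set_option linter.unusedSimpArgs false

namespace CfsgLib.Trans3.Fi

open Matrix CfsgLib.MaxSub CfsgLib.Classical CfsgLib.Trans3.TvSU

/-- Six distinct, pairwise commuting members with product one. -/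
abbrev Six {Y : Type*} [Group Y] (D : Set Y) (l : List Y) : Prop :=
  l.Nodup ∧ (∀ u ∈ l, u ∈ D) ∧ (∀ u ∈ l, ∀ v ∈ l, Commute u v) ∧ l.prod = 1

variable {F : Type*} [Field F] [Fintype F] (hF : Fintype.card F = 2 ^ 2)
include hF

section Split

/-- Splitting a transvection off an involution, keeping the vectors it fixes. -/
theorem split_step {g : ↥(Cfsg.SU 6 F 2)} (hg : g * g = 1) (hne : g ≠ 1) :
    ∃ (u v : Fin 6 → F) (g' : ↥(Cfsg.SU 6 F 2)), g = g' * tv hF u ∧ g' * g' = 1 ∧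
      hh u u = 0 ∧ hh u v = 1 ∧ act g' u = u ∧ act g' v = v ∧
      ∀ s, act g s = s → hh u s = 0 ∧ act g' s = s := by
  obtain ⟨x, hx⟩ := exists_moved hF hg hne
  obtain ⟨u, v, huu, -, huv, hu, hv, -, eu⟩ := exists_split hF hg hx
  obtain ⟨-, hg', hu', hv'⟩ := split_fix hF hg huu huv hu hv
  refine ⟨u, v, g * tv hF u, by rw [mul_assoc, tv_sq hF huu, mul_one], hg', huu, huv, hu', hv',
    fun s hs => ?_⟩
  have h1 : hh u s = 0 := by
    rw [eu, hh_add_left hF, hh_invol hF hg, hs, add_self hF]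
  refine ⟨h1, ?_⟩
  rw [act_mul, tv_act hF huu, hh_symm_zero hF h1, zero_smul, add_zero, hs]

/-- An involution is a product of one, two or three transvections at independent orthogonal points. -/
theorem invol_split {g : ↥(Cfsg.SU 6 F 2)} (hg : g * g = 1) (hne : g ≠ 1) :
    (∃ p : Fin 6 → F, p ≠ 0 ∧ hh p p = 0 ∧ g = tv hF p) ∨
    (∃ p q : Fin 6 → F, hh p p = 0 ∧ hh q q = 0 ∧ hh p q = 0 ∧
      (∀ a b : F, a • p + b • q = 0 → a = 0 ∧ b = 0) ∧ g = tv hF q * tv hF p) ∨
    ∃ p q r : Fin 6 → F, hh p p = 0 ∧ hh q q = 0 ∧ hh r r = 0 ∧ hh p q = 0 ∧ hh p r = 0 ∧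
      hh q r = 0 ∧ (∀ a b c : F, a • p + b • q + c • r = 0 → a = 0 ∧ b = 0 ∧ c = 0) ∧
      g = tv hF r * tv hF q * tv hF p := by
  obtain ⟨u₁, v₁, g₁, e₁, hg₁, h11, d1, f1u, f1v, -⟩ := split_step hF hg hne
  have u1ne : u₁ ≠ 0 := fun h => by rw [h, hh_zero_left hF] at d1; exact zero_ne_one d1
  by_cases n1 : g₁ = 1
  · exact Or.inl ⟨u₁, u1ne, h11, by rw [e₁, n1, one_mul]⟩
  obtain ⟨u₂, v₂, g₂, e₂, hg₂, h22, d2, f2u, f2v, k2⟩ := split_step hF hg₁ n1
  obtain ⟨h21, g21u⟩ := k2 _ f1u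
  obtain ⟨h2v1, g21v⟩ := k2 _ f1v
  by_cases n2 : g₂ = 1
  · refine Or.inr (Or.inl ⟨u₁, u₂, h11, h22, hh_symm_zero hF h21, fun a b hab => ?_,
      by rw [e₁, e₂, n2, one_mul]⟩)
    have ha := congrArg (fun z => hh z v₁) hab
    simp only [hh_add_left hF, hh_smul_left hF, d1, h2v1, mul_one, mul_zero, add_zero,
      hh_zero_left hF] at ha
    subst ha
    rw [zero_smul, zero_add] at hab
    have hb := congrArg (fun z => hh z v₂) hab
    simp only [hh_smul_left hF, d2, mul_one, hh_zero_left hF] at hb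
    exact ⟨rfl, hb⟩
  obtain ⟨u₃, v₃, g₃, e₃, hg₃, h33, d3, f3u, f3v, k3⟩ := split_step hF hg₂ n2
  obtain ⟨h31, g31u⟩ := k3 _ g21u
  obtain ⟨h3v1, g31v⟩ := k3 _ g21v
  obtain ⟨h32, g32u⟩ := k3 _ f2u
  obtain ⟨h3v2, g32v⟩ := k3 _ f2v
  have li : ∀ a b c : F, a • u₁ + b • u₂ + c • u₃ = 0 → a = 0 ∧ b = 0 ∧ c = 0 := by
    intro a b c h
    have ha := congrArg (fun z => hh z v₁) h
    simp only [hh_add_left hF, hh_smul_left hF, d1, h2v1, h3v1, mul_one, mul_zero, add_zero,
      hh_zero_left hF] at ha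
    subst ha
    rw [zero_smul, zero_add] at h
    have hb := congrArg (fun z => hh z v₂) h
    simp only [hh_add_left hF, hh_smul_left hF, d2, h3v2, mul_one, mul_zero, add_zero,
      hh_zero_left hF] at hb
    subst hb
    rw [zero_smul, zero_add] at h
    have hc := congrArg (fun z => hh z v₃) h
    simp only [hh_smul_left hF, d3, mul_one, hh_zero_left hF] at hc
    exact ⟨rfl, rfl, hc⟩
  refine Or.inr (Or.inr ⟨u₁, u₂, u₃, h11, h22, h33, hh_symm_zero hF h21, hh_symm_zero hF h31,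
    hh_symm_zero hF h32, li, ?_⟩)
  by_cases n3 : g₃ = 1
  · rw [e₁, e₂, e₃, n3, one_mul]
  -- four independent mutually orthogonal isotropic vectors are too many
  exfalso
  obtain ⟨u₄, v₄, g₄, e₄, -, h44, d4, -, -, k4⟩ := split_step hF hg₃ n3
  have o1 := (k4 _ g31u).1
  have o2 := (k4 _ g32u).1
  have o3 := (k4 _ f3u).1
  have p1 := (k4 _ g31v).1
  have p2 := (k4 _ g32v).1
  have p3 := (k4 _ f3v).1
  have h4 : LinearIndependent F ![u₁, u₂, u₃, u₄] := by
    rw [Fintype.linearIndependent_iff]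
    intro c h
    rw [Fin.sum_univ_four] at h
    simp only [Matrix.cons_val_zero, Matrix.cons_val_one, Matrix.cons_val] at h
    have ha := congrArg (fun z => hh z v₁) h
    simp only [hh_add_left hF, hh_smul_left hF, d1, h2v1, h3v1, p1, mul_one, mul_zero, add_zero,
      hh_zero_left hF] at ha
    rw [ha, zero_smul, zero_add] at h
    have hb := congrArg (fun z => hh z v₂) h
    simp only [hh_add_left hF, hh_smul_left hF, d2, h3v2, p2, mul_one, mul_zero, add_zero,
      hh_zero_left hF] at hb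
    rw [hb, zero_smul, zero_add] at h
    have hc := congrArg (fun z => hh z v₃) h
    simp only [hh_add_left hF, hh_smul_left hF, d3, p3, mul_one, mul_zero, add_zero,
      hh_zero_left hF] at hc
    rw [hc, zero_smul, zero_add] at h
    have hd := congrArg (fun z => hh z v₄) h
    simp only [hh_smul_left hF, d4, mul_one, hh_zero_left hF] at hd
    intro i
    fin_cases i <;> assumption
  have hiso : ∀ x ∈ Submodule.span F (Set.range ![u₁, u₂, u₃, u₄]),
      ∀ y ∈ Submodule.span F (Set.range ![u₁, u₂, u₃, u₄]), hh x y = 0 := by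
    have base : ∀ i j : Fin 4, hh (![u₁, u₂, u₃, u₄] i) (![u₁, u₂, u₃, u₄] j) = 0 := by
      intro i j
      fin_cases i <;> fin_cases j <;>
        simp [h11, h22, h33, h44, h21, h31, h32, o1, o2, o3, hh_symm_zero hF h21,
          hh_symm_zero hF h31, hh_symm_zero hF h32, hh_symm_zero hF o1, hh_symm_zero hF o2,
          hh_symm_zero hF o3]
    intro x hx y hy
    induction hx using Submodule.span_induction with
    | mem x hx =>
      obtain ⟨i, rfl⟩ := hx
      induction hy using Submodule.span_induction with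
      | mem y hy => obtain ⟨j, rfl⟩ := hy; exact base i j
      | zero => exact hh_zero_right hF _
      | add a b _ _ ha hb => rw [hh_add_right hF, ha, hb, add_zero]
      | smul c a _ ha => rw [hh_smul_right hF, ha, mul_zero]
    | zero => exact hh_zero_left hF _
    | add a b _ _ ha hb => rw [hh_add_left hF, ha, hb, add_zero]
    | smul c a _ ha => rw [hh_smul_left hF, ha, mul_zero]
  have := span_isotropic_le hF hiso
  rw [finrank_span_eq_card h4] at this
  simp at this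

end Split

section Model

variable {Y : Type*} [Group Y] {D : Set Y} (f : ↥(Cfsg.SU 6 F 2) →* Y)
  (hf : Function.Surjective f) (hk : f.ker = Subgroup.center ↥(Cfsg.SU 6 F 2))
  (hD : Cfsg.IsThreeTranspositionGroup D)
include hf hk hD

/-- The two six-point relations through three independent orthogonal points. -/
theorem triple_six {p q r : Fin 6 → F} (hpp : hh p p = 0) (hqq : hh q q = 0) (hrr : hh r r = 0)
    (hpq : hh p q = 0) (hpr : hh p r = 0) (hqr : hh q r = 0)
    (li : ∀ a b c : F, a • p + b • q + c • r = 0 → a = 0 ∧ b = 0 ∧ c = 0) :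
    ∃ t₁ t₂ t₃ s₁ s₂ s₃ : Y, Six D [pt hF f p, pt hF f q, pt hF f r, t₁, t₂, t₃] ∧
      Six D [pt hF f p, pt hF f q, pt hF f r, s₁, s₂, s₃] ∧ s₁ ∉ [t₁, t₂, t₃] := by
  obtain ⟨ω, hω⟩ := exists_omega hF
  have two : (2 : F) = 0 := by rw [← one_add_one_eq_two]; exact add_self hF 1
  have w2 : ω ^ 2 = ω + 1 := by linear_combination hω - add_self hF ω
  have hω0 : ω ≠ 0 := fun h => by rw [h] at hω; simp at hω
  have hω1 : ω + 1 ≠ 0 := fun h => by
    rw [show ω = 1 by linear_combination h - add_self hF 1] at hω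
    exact one_ne_zero (hω.symm.trans (by rw [one_pow, add_self hF]))
  have dω : ω ≠ 1 := fun h => hω1 (by rw [h]; exact add_self hF 1)
  have dω' : ω + 1 ≠ 1 := fun h => hω0 (by linear_combination h)
  have dω'' : ω + 1 ≠ ω := fun h => one_ne_zero (by linear_combination h : (1 : F) = 0)
  obtain ⟨w, ew⟩ : ∃ w : F → F → F → (Fin 6 → F), w = fun a b c => a • p + b • q + c • r :=
    ⟨_, rfl⟩
  have hw' : ∀ a b c, w a b c = a • p + b • q + c • r := fun a b c => by rw [ew]
  have hww : ∀ a b c a' b' c', hh (w a b c) (w a' b' c') = 0 := by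
    intro a b c a' b' c'
    simp only [ew, hh_add_left hF, hh_add_right hF, hh_smul_left hF, hh_smul_right hF, hpp, hqq,
      hrr, hpq, hpr, hqr, hh_symm_zero hF hpq, hh_symm_zero hF hpr, hh_symm_zero hF hqr, mul_zero,
      add_zero]
  have hw0 : ∀ a b c, (a ≠ 0 ∨ b ≠ 0 ∨ c ≠ 0) → w a b c ≠ 0 := by
    intro a b c h h0
    obtain ⟨ha, hb, hc⟩ := li a b c (by rw [← hw']; exact h0)
    rcases h with h | h | h <;> exact h ‹_›
  obtain ⟨T, eT⟩ : ∃ T : F × F × F → Y, T = fun v => pt hF f (w v.1 v.2.1 v.2.2) := ⟨_, rfl⟩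
  have hne : ∀ u v : F × F × F, (u.1 ≠ 0 ∨ u.2.1 ≠ 0 ∨ u.2.2 ≠ 0) →
      (∀ a : F, u ≠ a • v) → T u ≠ T v := by
    intro u v hu h he
    rw [eT] at he
    obtain ⟨a, -, ha⟩ := pt_eq hF f hk (hw0 _ _ _ hu) (hww _ _ _ _ _ _) (hww _ _ _ _ _ _) he
    rw [hw', hw', smul_add, smul_add, smul_smul, smul_smul, smul_smul] at ha
    obtain ⟨h1, h2, h3⟩ := li (u.1 - a * v.1) (u.2.1 - a * v.2.1) (u.2.2 - a * v.2.2) (by
      rw [sub_smul, sub_smul, sub_smul]
      linear_combination (norm := module) ha)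
    exact h a (Prod.ext (sub_eq_zero.1 h1) (Prod.ext (sub_eq_zero.1 h2) (sub_eq_zero.1 h3)))
  have block : ∀ (μ ν : F), μ ≠ 0 → ν ≠ 0 → ∀ (l : List (F × F × F)),
      l = [(1, 0, 0), (0, 1, 0), (0, 0, 1), (1, μ, ν), (1, ω * μ, (ω + 1) * ν),
        (1, (ω + 1) * μ, ω * ν)] →
      Six D (l.map T) := by
    intro μ ν hμ hν l hl
    have hnz : ∀ u ∈ l, u.1 ≠ 0 ∨ u.2.1 ≠ 0 ∨ u.2.2 ≠ 0 := by
      subst hl; simp
    refine ⟨?_, ?_, ?_, ?_⟩
    · subst hl
      simp only [List.map_cons, List.map_nil, List.nodup_cons, List.mem_cons, List.not_mem_nil,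
        or_false, not_or, List.nodup_nil, and_true, not_false_eq_true]
      refine ⟨⟨?_, ?_, ?_, ?_, ?_⟩, ⟨?_, ?_, ?_, ?_⟩, ⟨?_, ?_, ?_⟩, ⟨?_, ?_⟩, ?_⟩ <;>
        refine hne _ _ (by simp) fun a ha => ?_ <;>
        simp only [Prod.smul_mk, smul_eq_mul, Prod.mk.injEq, mul_one, mul_zero] at ha <;>
        obtain ⟨h1, h2, h3⟩ := ha <;>
        first
          | exact one_ne_zero h1 | exact one_ne_zero h2 | exact one_ne_zero h3
          | (subst h1; first
              | exact hμ (by simpa [hω0, hω1] using h2.symm)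
              | exact hν (by simpa [hω0, hω1] using h3.symm)
              | (rw [one_mul] at h2
                 first
                   | exact dω (mul_right_cancel₀ hμ (h2.symm.trans (one_mul μ).symm))
                   | exact dω' (mul_right_cancel₀ hμ (h2.symm.trans (one_mul μ).symm))
                   | exact dω'' (mul_right_cancel₀ hμ h2.symm)))
    · intro u hu
      obtain ⟨v, hv, rfl⟩ := List.mem_map.1 hu
      rw [eT]
      exact pt_mem hF f hf hk hD (hw0 _ _ _ (hnz v hv)) (hww _ _ _ _ _ _)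
    · intro u hu v hv
      obtain ⟨u, hu', rfl⟩ := List.mem_map.1 hu
      obtain ⟨v, hv', rfl⟩ := List.mem_map.1 hv
      rw [eT]
      exact (pt_commute hF f hk (hw0 _ _ _ (hnz u hu')) (hw0 _ _ _ (hnz v hv')) (hww _ _ _ _ _ _)
        (hww _ _ _ _ _ _)).2 (hww _ _ _ _ _ _)
    · rw [show T = (fun g => f g) ∘ fun v => tv hF (w v.1 v.2.1 v.2.2) from eT, ← List.map_map,
        ← map_list_prod]
      refine (map_eq_one_iff' hF f hk).2 ?_
      convert one_mem (Subgroup.center ↥(Cfsg.SU 6 F 2))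
      refine act_ext fun x => ?_
      subst hl
      simp only [List.map_cons, List.map_nil, List.prod_cons, List.prod_nil, mul_one, act_mul,
        act_one, tv_act hF (hww _ _ _ _ _ _), hh_add_left hF, hh_smul_left hF, hww, mul_zero,
        add_zero]
      have hh_w : ∀ a b c, hh x (w a b c) = a ^ 2 * hh x p + b ^ 2 * hh x q + c ^ 2 * hh x r := by
        intro a b c
        rw [hw', hh_add_right hF, hh_add_right hF, hh_smul_right hF, hh_smul_right hF,
          hh_smul_right hF]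
      simp only [hh_w]
      simp only [hw']
      obtain ⟨X, eX⟩ : ∃ X, hh x p = X := ⟨_, rfl⟩
      obtain ⟨Y₁, eY⟩ : ∃ Y₁, hh x q = Y₁ := ⟨_, rfl⟩
      obtain ⟨Z, eZ⟩ : ∃ Z, hh x r = Z := ⟨_, rfl⟩
      rw [eX, eY, eZ]
      have c1 := cube_one hF hμ
      have c2 := cube_one hF hν
      have c3 := cube_one hF hω0
      have c4 := cube_one hF hω1
      have hA : 1 + ω ^ 2 + (ω + 1) ^ 2 = 0 := by
        linear_combination 2 * w2 + (2 * ω + 2) * two
      have hP : 1 + ω + (ω + 1) = 0 := by linear_combination (ω + 1) * two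
      have hR : 1 + ω ^ 3 + (ω + 1) ^ 3 = 1 := by linear_combination c3 + c4 + two
      have hQ : 1 + ω * (ω + 1) ^ 2 + (ω + 1) * ω ^ 2 = 0 := by
        linear_combination (2 * ω + 5) * w2 + (4 * ω + 3) * two
      match_scalars
      · ring
      · linear_combination (μ ^ 2 * Y₁ + ν ^ 2 * Z) * hA + 2 * X * two
      · linear_combination μ * X * hP + μ * ν ^ 2 * Z * hQ + μ ^ 3 * Y₁ * hR + Y₁ * c1 + Y₁ * two
      · linear_combination ν * X * hP + ν * μ ^ 2 * Y₁ * hQ + ν ^ 3 * Z * hR + Z * c2 + Z * two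
  have e1 : T (1, 0, 0) = pt hF f p := by rw [eT]; simp [hw']
  have e2 : T (0, 1, 0) = pt hF f q := by rw [eT]; simp [hw']
  have e3 : T (0, 0, 1) = pt hF f r := by rw [eT]; simp [hw']
  have hA := block 1 1 one_ne_zero one_ne_zero _ rfl
  have hB := block 1 ω one_ne_zero hω0 _ rfl
  simp only [List.map_cons, List.map_nil, e1, e2, e3] at hA hB
  refine ⟨_, _, _, _, _, _, hA, hB, ?_⟩
  simp only [List.mem_cons, List.not_mem_nil, or_false, not_or]
  refine ⟨?_, ?_, ?_⟩ <;> refine hne _ _ (by simp) fun a ha => ?_ <;>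
    simp only [Prod.smul_mk, smul_eq_mul, Prod.mk.injEq, mul_one] at ha <;>
    obtain ⟨h1', h2', h3'⟩ := ha <;> subst h1' <;> simp only [one_mul] at h2' h3'
  · exact dω (by first | exact h3'.symm | exact h3')
  · exact dω (by first | exact h2'.symm | exact h2')
  · exact dω' (by first | exact h2'.symm | exact h2')

/-- The involutions of the model. -/
theorem model_invol {y : Y} (hy : y ≠ 1) (hy2 : y * y = 1) :
    y ∈ D ∨ (∃ p ∈ D, ∃ q ∈ D, p ≠ q ∧ Commute p q ∧ y = p * q) ∨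
    ∃ p q r t₁ t₂ t₃ s₁ s₂ s₃ : Y, y = p * q * r ∧ Six D [p, q, r, t₁, t₂, t₃] ∧
      Six D [p, q, r, s₁, s₂, s₃] ∧ s₁ ∉ [t₁, t₂, t₃] := by
  obtain ⟨g, rfl⟩ := hf y
  have hz : g * g ∈ Subgroup.center ↥(Cfsg.SU 6 F 2) :=
    (map_eq_one_iff' hF f hk).1 (by rw [map_mul, hy2])
  obtain ⟨g', eg⟩ : ∃ g', g' = g * (g * g) := ⟨_, rfl⟩
  have hg' : g' * g' = 1 := by
    rw [eg, ← center_cube hF hz]
    simp only [pow_succ, pow_zero, one_mul, mul_assoc]
  have hfg : f g' = f g := by rw [eg, map_mul, (map_eq_one_iff' hF f hk).2 hz, mul_one]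
  have hne : g' ≠ 1 := fun h => hy (by rw [← hfg, h, map_one])
  rcases invol_split hF hg' hne with ⟨p, hp, hpp, e⟩ | ⟨p, q, hpp, hqq, hpq, li, e⟩ |
      ⟨p, q, r, hpp, hqq, hrr, hpq, hpr, hqr, li, e⟩
  · left
    rw [← hfg, e]
    exact pt_mem hF f hf hk hD hp hpp
  · right; left
    have hp : p ≠ 0 := fun h => one_ne_zero (α := F) (li 1 0 (by simp [h])).1
    have hq : q ≠ 0 := fun h => one_ne_zero (α := F) (li 0 1 (by simp [h])).2
    refine ⟨pt hF f q, pt_mem hF f hf hk hD hq hqq, pt hF f p, pt_mem hF f hf hk hD hp hpp,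
      fun h => ?_, (pt_commute hF f hk hq hp hqq hpp).2 (hh_symm_zero hF hpq),
      by rw [← hfg, e, map_mul]; rfl⟩
    obtain ⟨a, -, ha⟩ := pt_eq hF f hk hq hqq hpp h
    exact one_ne_zero (α := F) (li (-a) 1 (by rw [one_smul, neg_smul, ha, neg_add_cancel])).2
  · right; right
    obtain ⟨t₁, t₂, t₃, s₁, s₂, s₃, h1, h2, h3⟩ := triple_six hF f hf hk hD hrr hqq hpp
      (hh_symm_zero hF hqr) (hh_symm_zero hF hpr) (hh_symm_zero hF hpq) (fun a b c h => by
        obtain ⟨x, y, z⟩ := li c b a (by rw [← h]; abel)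
        exact ⟨z, y, x⟩)
    exact ⟨_, _, _, t₁, t₂, t₃, s₁, s₂, s₃, by rw [← hfg, e, map_mul, map_mul]; rfl, h1, h2, h3⟩

end Model

omit hF

/-- The involutions of a group of type `PSU₆(2)`. -/
theorem u6_invol {G : Type*} [Group G] [Finite G] {D : Set G} (hU : IsU6 G)
    (hD : Cfsg.IsThreeTranspositionGroup D) {y : G} (hy : y ≠ 1) (hy2 : y * y = 1) :
    y ∈ D ∨ (∃ p ∈ D, ∃ q ∈ D, p ≠ q ∧ Commute p q ∧ y = p * q) ∨
    ∃ p q r t₁ t₂ t₃ s₁ s₂ s₃ : G, y = p * q * r ∧ Six D [p, q, r, t₁, t₂, t₃] ∧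
      Six D [p, q, r, s₁, s₂, s₃] ∧ s₁ ∉ [t₁, t₂, t₃] := by
  obtain ⟨F, _, _, f, hF, hf, hk⟩ := exists_model hU hD
  exact model_invol hF f hf hk hD hy hy2

end CfsgLib.Trans3.Fi
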