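import Cfsg.Agent.Lib.Trans3.Fi.M24Sign
import Cfsg.Agent.Lib.Trans3.Fi.U6Rad
import Cfsg.Agent.Lib.Classical.SUCenter

/-!
`PSU₆(2)`: the centraliser of a maximal commuting set of 21 transvections has order at most `2⁹`.
-/

set_option autoImplicit false
set_option linter.unusedSectionVars false
set_option linter.unusedSimpArgs false

namespace CfsgLib.Trans3.Fi

open Matrix CfsgLib.MaxSub CfsgLib.Classical CfsgLib.Trans3.TvSU

section Model

variable {F : Type*} [Field F] [Fintype F] (hF : Fintype.card F = 2 ^ 2)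
include hF

/-- A totally isotropic subspace of dimension three has a dual system and is its own orthogonal. -/
theorem exists_duals {S : Submodule F (Fin 6 → F)} (hS : ∀ x ∈ S, ∀ y ∈ S, hh x y = 0)
    (h3 : Module.finrank F S = 3) :
    ∃ v w : Fin 3 → (Fin 6 → F), (∀ i, v i ∈ S ∧ v i ≠ 0) ∧
      (∀ i j, hh (w j) (v i) = if i = j then 1 else 0) ∧
      ∀ x, (∀ i, hh x (v i) = 0) → x ∈ S := by
  classical
  let b := Module.finBasisOfFinrankEq F S h3
  have hli : LinearIndependent F fun j => (b j : Fin 6 → F) :=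
    b.linearIndependent.map' S.subtype (Submodule.ker_subtype S)
  have hw : ∀ j, ∃ x, ∀ i, hh x (b i : Fin 6 → F) = if i = j then 1 else 0 := by
    intro j
    obtain ⟨x, hx, hx'⟩ := exists_hh hF (hli.notMem_span_image
      (s := {i | i ≠ j}) (x := j) (by simp))
    refine ⟨x, fun i => ?_⟩
    split_ifs with h
    · rw [h]; exact hx'
    · exact hx _ (Submodule.subset_span ⟨i, h, rfl⟩)
  choose w hw using hw
  refine ⟨fun i => b i, w, fun i => ⟨(b i).2, hli.ne_zero i⟩, fun i j => hw j i, fun x hx => ?_⟩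
  let φ : (Fin 6 → F) →ₗ[F] (Fin 3 → F) :=
    { toFun := fun z i => hh z (b i : Fin 6 → F)
      map_add' := fun x y => funext fun i => hh_add_left hF x y _
      map_smul' := fun c x => funext fun i => hh_smul_left hF c x _ }
  have hsurj : LinearMap.range φ = ⊤ := by
    rw [eq_top_iff]
    intro t _
    rw [pi_eq_sum_univ' t]
    refine Submodule.sum_mem _ fun i _ => Submodule.smul_mem _ _ ⟨w i, funext fun j => ?_⟩
    show hh (w i) (b j : Fin 6 → F) = _
    rw [hw, Pi.single_apply]
  have h1 := LinearMap.finrank_range_add_finrank_ker φ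
  rw [hsurj, finrank_top, Module.finrank_pi, Module.finrank_pi, Fintype.card_fin, Fintype.card_fin] at h1
  have he : S = LinearMap.ker φ := Submodule.eq_of_le_of_finrank_le
    (fun y hy => LinearMap.mem_ker.2 (funext fun i => hS y hy _ (b i).2)) (by omega)
  rw [he, LinearMap.mem_ker]
  exact funext hx

variable {Y : Type*} [Group Y] [Finite Y] {D : Set Y} (f : ↥(Cfsg.SU 6 F 2) →* Y)
  (hf : Function.Surjective f) (hk : f.ker = Subgroup.center ↥(Cfsg.SU 6 F 2))
  (hD : Cfsg.IsThreeTranspositionGroup D)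
include hf hk hD

/-- The vectors of 21 commuting transvections fill a totally isotropic space of dimension three. -/
theorem clique_space {E : Set Y} (hE : E ⊆ D) (hc : ∀ a ∈ E, ∀ b ∈ E, Commute a b)
    (h21 : E.ncard = 21) : ∃ S : Submodule F (Fin 6 → F), Module.finrank F S = 3 ∧
      (∀ x ∈ S, ∀ y ∈ S, hh x y = 0) ∧ ∀ x ∈ S, x ≠ 0 → pt hF f x ∈ E := by
  classical
  obtain ⟨T, eT⟩ : ∃ T : Set (Fin 6 → F), T = {v | (v ≠ 0 ∧ hh v v = 0) ∧ pt hF f v ∈ E} :=
    ⟨_, rfl⟩
  have hT : ∀ x ∈ T, ∀ y ∈ T, hh x y = 0 := fun x hx y hy => by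
    rw [eT] at hx hy
    exact (pt_commute hF f hk hx.1.1 hy.1.1 hx.1.2 hy.1.2).1 (hc _ hx.2 _ hy.2)
  have hS : ∀ x ∈ Submodule.span F T, ∀ y ∈ Submodule.span F T, hh x y = 0 := by
    intro x hx
    induction hx using Submodule.span_induction with
    | mem u hu =>
      intro y hy
      induction hy using Submodule.span_induction with
      | mem v hv => exact hT u hu v hv
      | zero => exact hh_zero_right hF u
      | add v w _ _ h1 h2 => rw [hh_add_right hF, h1, h2, add_zero]
      | smul c v _ h1 => rw [hh_smul_right hF, h1, mul_zero]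
    | zero => intro y _; exact hh_zero_left hF y
    | add u v _ _ h1 h2 => intro y hy; rw [hh_add_left hF, h1 y hy, h2 y hy, add_zero]
    | smul c u _ h1 => intro y hy; rw [hh_smul_left hF, h1 y hy, mul_zero]
  have h3 := span_isotropic_le hF hS
  have h1 := card_vectors hF f hf hk hD hE
  have hT63 : T.ncard = 63 := by
    rw [← Nat.card_coe_set_eq, eT]
    exact h1.trans (by rw [Nat.card_coe_set_eq, h21])
  have hins : insert 0 T ⊆ (Submodule.span F T : Set (Fin 6 → F)) :=
    Set.insert_subset (zero_mem _) Submodule.subset_span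
  have h0 : (0 : Fin 6 → F) ∉ T := by rw [eT]; exact fun hm => hm.1.1 rfl
  have hcard : Nat.card (Submodule.span F T) = 4 ^ Module.finrank F (Submodule.span F T) := by
    rw [Module.natCard_eq_pow_finrank (K := F), Nat.card_eq_fintype_card, hF]; norm_num
  have hn : (insert 0 T).ncard = 64 := by
    rw [Set.ncard_insert_of_notMem h0, hT63]
  have hle := Set.ncard_le_ncard hins (Set.toFinite _)
  rw [hn, ← Nat.card_coe_set_eq] at hle
  change 64 ≤ Nat.card (Submodule.span F T) at hle
  rw [hcard] at hle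
  have hd3 : Module.finrank F (Submodule.span F T) = 3 := by
    rcases Nat.lt_or_ge (Module.finrank F (Submodule.span F T)) 3 with hlt | hge
    · interval_cases Module.finrank F (Submodule.span F T) <;> omega
    · omega
  refine ⟨_, hd3, hS, fun x hx hx0 => ?_⟩
  have he := Set.eq_of_subset_of_ncard_le hins (by
    rw [hn, ← Nat.card_coe_set_eq]
    change Nat.card (Submodule.span F T) ≤ 64
    rw [hcard, hd3]
    norm_num) (Set.toFinite _)
  have : x ∈ insert 0 T := he ▸ hx
  rw [eT] at this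
  exact (this.resolve_left hx0).2

omit [Finite Y] hf hk hD in
/-- Elements of `SU₆(2)` acting alike on a dual system are equal. -/
theorem act_eq_of_duals {S : Submodule F (Fin 6 → F)} {v w : Fin 3 → (Fin 6 → F)}
    (hvw : ∀ i j, hh (w j) (v i) = if i = j then 1 else 0)
    (hperp : ∀ x, (∀ i, hh x (v i) = 0) → x ∈ S) {g k : ↥(Cfsg.SU 6 F 2)}
    (hS : ∀ x ∈ S, act g x = act k x) (hw : ∀ j, act g (w j) = act k (w j)) : g = k := by
  refine act_ext fun x => ?_
  obtain ⟨y, ey⟩ : ∃ y, y = x + (hh x (v 0) • w 0 + hh x (v 1) • w 1 + hh x (v 2) • w 2) :=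
    ⟨_, rfl⟩
  have hy : y ∈ S := hperp y fun i => by
    simp only [ey, hh_add_left hF, hh_smul_left hF, hvw]
    fin_cases i <;> simp <;> exact add_self hF _
  have ex : x = y + (hh x (v 0) • w 0 + hh x (v 1) • w 1 + hh x (v 2) • w 2) := by
    rw [ey, add_assoc, vec_add_self hF, add_zero]
  rw [ex]
  simp only [act_add hF, act_smul hF, hw, hS y hy]

theorem clique_centralizer {E : Set Y} (hE : E ⊆ D) (hc : ∀ a ∈ E, ∀ b ∈ E, Commute a b)
    (h21 : E.ncard = 21) : Nat.card ↥(Subgroup.centralizer E) ≤ 512 := by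
  classical
  obtain ⟨S, h3, hS, hSE⟩ := clique_space hF f hf hk hD hE hc h21
  obtain ⟨v, w, hv, hvw, hperp⟩ := exists_duals hF hS h3
  have hwv : ∀ i j, hh (v i) (w j) = if i = j then 1 else 0 := fun i j => by
    rw [← hh_conj hF, hvw]
    split_ifs <;> simp
  obtain ⟨C, eC⟩ : ∃ C : Subgroup ↥(Cfsg.SU 6 F 2),
      C = (Subgroup.centralizer E).comap f := ⟨_, rfl⟩
  -- scalar on the space
  have hsc : ∀ g ∈ C, ∃ l : {a : F // a ≠ 0}, ∀ x ∈ S, act g x = (l : F) • x := by
    intro g hg
    rw [eC, Subgroup.mem_comap, Subgroup.mem_centralizer_iff] at hg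
    have heig : ∀ x ∈ S, x ≠ 0 → ∃ a : F, a ≠ 0 ∧ act g x = a • x := fun x hx hx0 =>
      eigen_of_commute hF f hf hk hD hx0 (hS x hx x hx) (hg _ (hSE x hx hx0)).symm
    obtain ⟨a, ha0, ha⟩ := heig (v 0) (hv 0).1 (hv 0).2
    refine ⟨⟨a, ha0⟩, fun x hx => ?_⟩
    by_cases hxv : x ∈ Submodule.span F {v 0}
    · obtain ⟨c, rfl⟩ := Submodule.mem_span_singleton.1 hxv
      rw [act_smul hF, ha, smul_comm]
    have hx0 : x ≠ 0 := fun e => hxv (e ▸ zero_mem _)
    have hsum : x + v 0 ≠ 0 := fun e =>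
      hxv (by rw [vec_eq_of_add hF _ _ e]; exact Submodule.mem_span_singleton_self _)
    obtain ⟨b, -, hb⟩ := heig x hx hx0
    obtain ⟨c, -, hc'⟩ := heig _ (add_mem hx (hv 0).1) hsum
    rw [act_add hF, ha, hb, smul_add] at hc'
    have h0 : (b + c) • x + (a + c) • v 0 = 0 := by
      rw [add_smul, add_smul, add_add_add_comm, hc', vec_add_self hF]
    by_cases hbc : b + c = 0
    · rw [hbc, zero_smul, zero_add, smul_eq_zero] at h0
      have hac := h0.resolve_right (hv 0).2
      rw [hb, show b = a by linear_combination hbc - hac]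
    · exact absurd (Submodule.mem_span_singleton.2 ⟨(b + c)⁻¹ * (a + c), by
        rw [mul_smul, ← vec_eq_of_add hF _ _ h0, smul_smul, inv_mul_cancel₀ hbc, one_smul]⟩) hxv
  choose lam hlam using hsc
  -- the coefficients
  obtain ⟨N, eN⟩ : ∃ N : ↥C → Fin 3 → Fin 3 → F,
      N = fun (g : ↥C) i j => hh (act (g : ↥(Cfsg.SU 6 F 2)) (w j) + (lam g g.2 : F) • w j) (w i) :=
    ⟨_, rfl⟩
  have hdiff : ∀ (g : ↥C) j, act (g : ↥(Cfsg.SU 6 F 2)) (w j) + (lam g g.2 : F) • w j ∈ S := by
    intro g j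
    refine hperp _ fun i => ?_
    have h1 := hh_act (g : ↥(Cfsg.SU 6 F 2)) (w j) (v i)
    rw [hlam g g.2 _ (hv i).1, hh_smul_right hF] at h1
    rw [hh_add_left hF, hh_smul_left hF]
    linear_combination ((lam g g.2 : F)) * h1 -
      hh (act (g : ↥(Cfsg.SU 6 F 2)) (w j)) (v i) * cube_one hF (lam g g.2).2 +
      add_self hF ((lam g g.2 : F) * hh (w j) (v i))
  have hexp : ∀ x ∈ S, x = hh x (w 0) • v 0 + hh x (w 1) • v 1 + hh x (w 2) • v 2 := by
    intro x hx
    refine vec_eq_of_add hF _ _ ?_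
    obtain ⟨y, ey⟩ : ∃ y, y = x + (hh x (w 0) • v 0 + hh x (w 1) • v 1 + hh x (w 2) • v 2) :=
      ⟨_, rfl⟩
    rw [← ey]
    have hyS : y ∈ S := ey ▸ add_mem hx (add_mem (add_mem (Submodule.smul_mem _ _ (hv 0).1)
      (Submodule.smul_mem _ _ (hv 1).1)) (Submodule.smul_mem _ _ (hv 2).1))
    have hyw : ∀ i, hh y (w i) = 0 := fun i => by
      simp only [ey, hh_add_left hF, hh_smul_left hF, hwv]
      fin_cases i <;> simp <;> exact add_self hF _
    refine eq_zero_of_hh hF fun z => ?_
    obtain ⟨u, eu⟩ : ∃ u, u = z + (hh z (v 0) • w 0 + hh z (v 1) • w 1 + hh z (v 2) • w 2) :=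
      ⟨_, rfl⟩
    have hu : u ∈ S := hperp u fun i => by
      simp only [eu, hh_add_left hF, hh_smul_left hF, hvw]
      fin_cases i <;> simp <;> exact add_self hF _
    have h1 := hS u hu y hyS
    simp only [eu, hh_add_left hF, hh_smul_left hF, fun i => hh_symm_zero hF (hyw i), mul_zero,
      add_zero] at h1
    exact h1
  have hrel : ∀ (g : ↥C) j k, N g k j = (lam g g.2 : F) ^ 2 * N g j k ^ 2 := by
    intro g j k
    obtain ⟨a, ea⟩ : ∃ a : F, a = (lam g g.2 : F) := ⟨_, rfl⟩
    obtain ⟨s, es⟩ : ∃ s, s = act (g : ↥(Cfsg.SU 6 F 2)) (w j) + a • w j := ⟨_, rfl⟩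
    obtain ⟨t, et⟩ : ∃ t, t = act (g : ↥(Cfsg.SU 6 F 2)) (w k) + a • w k := ⟨_, rfl⟩
    have hsS : s ∈ S := es ▸ ea ▸ hdiff g j
    have htS : t ∈ S := et ▸ ea ▸ hdiff g k
    have gj : act (g : ↥(Cfsg.SU 6 F 2)) (w j) = s + a • w j := by
      rw [es, add_assoc, vec_add_self hF, add_zero]
    have gk : act (g : ↥(Cfsg.SU 6 F 2)) (w k) = t + a • w k := by
      rw [et, add_assoc, vec_add_self hF, add_zero]
    have h1 := hh_act (g : ↥(Cfsg.SU 6 F 2)) (w j) (w k)
    rw [gj, gk] at h1
    simp only [hh_add_left hF, hh_add_right hF, hh_smul_left hF, hh_smul_right hF, hS s hsS t htS,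
      zero_add] at h1
    rw [← hh_conj hF t (w j)] at h1
    rw [eN]
    show hh (act (g : ↥(Cfsg.SU 6 F 2)) (w j) + (lam g g.2 : F) • w j) (w k) =
      (lam g g.2 : F) ^ 2 * hh (act (g : ↥(Cfsg.SU 6 F 2)) (w k) + (lam g g.2 : F) • w k) (w j) ^ 2
    rw [← ea, ← es, ← et]
    have a3 := cube_one hF (ea ▸ (lam g g.2).2 : a ≠ 0)
    linear_combination a * h1 - (hh s (w k) + a * hh (w j) (w k)) * a3 -
      add_self hF (a ^ 2 * hh t (w j) ^ 2)
  let Φ : ↥C → {a : F // a ≠ 0} × (F × F × F) × (Fin 3 → Bool) := fun g =>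
    (lam g g.2, (N g 0 1, N g 0 2, N g 1 2), fun i => decide (N g i i = 0))
  have hinj : Function.Injective Φ := by
    intro g g' e
    simp only [Φ, Prod.mk.injEq] at e
    obtain ⟨el, ⟨e01, e02, e12⟩, ed⟩ := e
    have eN' : ∀ i j, N g i j = N g' i j := by
      have hdiag : ∀ i, N g i i = N g' i i := fun i => by
        have h1 := congrFun ed i
        simp only [decide_eq_decide] at h1
        by_cases hz : N g i i = 0
        · rw [hz, h1.1 hz]
        · have hz' : N g' i i ≠ 0 := fun hh0 => hz (h1.2 hh0)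
          have r1 := hrel g i i
          have r2 := hrel g' i i
          rw [← el] at r2
          have l0 : (lam g g.2 : F) ≠ 0 := (lam g g.2).2
          have c1 : (lam g g.2 : F) ^ 2 * N g i i = 1 :=
            mul_right_cancel₀ hz (by linear_combination -r1)
          have c2 : (lam g g.2 : F) ^ 2 * N g' i i = 1 :=
            mul_right_cancel₀ hz' (by linear_combination -r2)
          exact mul_left_cancel₀ (pow_ne_zero 2 l0) (c1.trans c2.symm)
      intro i j
      have low : ∀ i j, N g i j = N g' i j → N g j i = N g' j i := fun i j e => by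
        rw [hrel g i j, hrel g' i j, el, e]
      fin_cases i <;> fin_cases j
      exacts [hdiag 0, e01, e02, low 0 1 e01, hdiag 1, e12, low 0 2 e02, low 1 2 e12, hdiag 2]
    refine Subtype.ext (act_eq_of_duals hF hvw hperp (fun x hx => ?_) fun j => ?_)
    · rw [hlam g g.2 x hx, hlam g' g'.2 x hx, el]
    · have h1 := hexp _ (hdiff g j)
      have h2 := hexp _ (hdiff g' j)
      rw [eN] at eN'
      simp only at eN'
      rw [eN', eN', eN', ← h2, el] at h1
      exact add_right_cancel h1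
  have hu : Nat.card {a : F // a ≠ 0} = 3 := by
    rw [← Nat.card_congr unitsEquivNeZero, Nat.card_units, Nat.card_eq_fintype_card, hF]
    norm_num
  have hle := Nat.card_le_card_of_injective Φ hinj
  rw [Nat.card_prod, Nat.card_prod, Nat.card_prod, Nat.card_prod, hu, Nat.card_fun,
    Nat.card_eq_fintype_card (α := F), hF, Nat.card_eq_fintype_card (α := Fin 3), Fintype.card_fin,
    Nat.card_eq_fintype_card (α := Bool), Fintype.card_bool] at hle
  -- the fibres of `f`
  have hker : Nat.card f.ker = 3 := by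
    rw [hk, card_center_su (q := 2) hF (n := 6) (by norm_num)]; rfl
  have h1 := Subgroup.card_eq_card_quotient_mul_card_subgroup f.ker
  rw [Nat.card_congr (QuotientGroup.quotientKerEquivOfSurjective f hf).toEquiv, hker] at h1
  have h2 := C.card_mul_index
  rw [eC, Subgroup.index_comap_of_surjective _ hf, h1,
    ← (Subgroup.centralizer E).card_mul_index] at h2
  have h4 : Nat.card ↥C = 3 * Nat.card ↥(Subgroup.centralizer E) := by
    rw [eC]
    refine Nat.eq_of_mul_eq_mul_right (m := (Subgroup.centralizer E).index)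
      (Nat.pos_of_ne_zero Subgroup.index_ne_zero_of_finite) ?_
    rw [h2]; ring
  rw [h4] at hle
  omega

end Model

section Wrap

variable {G : Type*} [Group G] [Finite G] {D : Set G} (hU : IsU6 G)
variable (hD : Cfsg.IsThreeTranspositionGroup D)
include hU hD

theorem u6_clique_centralizer {E : Set G} (hE : E ⊆ D) (hc : ∀ a ∈ E, ∀ b ∈ E, Commute a b)
    (h21 : E.ncard = 21) : Nat.card ↥(Subgroup.centralizer E) ≤ 512 := by
  obtain ⟨F, _, _, f, hF, hf, hk⟩ := exists_model hU hD
  exact clique_centralizer hF f hf hk hD hE hc h21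

theorem u6_plane_clique {p q x y : G} (hp : p ∈ D) (hq : q ∈ D) (hx : x ∈ D) (hy : y ∈ D)
    (hne : p ≠ q) (hpq : Commute p q) (hxp : Commute x p) (hxq : Commute x q) (hyp : Commute y p)
    (hyq : Commute y q) (hxy : ¬ Commute x y) :
    (∀ z ∈ Pp D {p, q} x, ∀ z' ∈ Pp D {p, q} x, Commute z z') ∧
      16 ≤ {z | z ∈ Pp D {p, q} x ∧ ¬ Commute z y}.ncard := by
  obtain ⟨F, _, _, f, hF, hf, hk⟩ := exists_model hU hD
  exact plane_clique hF f hf hk hD hp hq hx hy hne hpq hxp hxq hyp hyq hxy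

end Wrap

end CfsgLib.Trans3.Fi
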