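import Cfsg.Agent.Lib.Trans3.Fi.Unique
import Cfsg.Agent.Lib.Trans3.Fi.U6Invol

/-!
Double covers of groups of 3-transpositions: with a relation of six commuting members commuting
members lift to commuting elements, and with a relation of five members they lift to involutions.
Also: the transvections of `PSU₆(2)` are 3-transpositions.
-/

set_option autoImplicit false
set_option linter.unusedSectionVars false

namespace CfsgLib.Trans3.Fi

/-- A double cover. -/
structure DCov {C X : Type*} [Group C] [Group X] (π : C →* X) (z : C) : Prop where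
  surj : Function.Surjective π
  ne : z ≠ 1
  central : ∀ x : C, Commute x z
  ker : ∀ x : C, π x = 1 ↔ x = 1 ∨ x = z

section Basics

variable {C X : Type*} [Group C] [Group X] {π : C →* X} {z : C} (hC : DCov π z)
include hC

theorem dcov_map_z : π z = 1 := (hC.ker z).2 (Or.inr rfl)

theorem dcov_sq : z * z = 1 := by
  rcases (hC.ker (z * z)).1 (by rw [map_mul, dcov_map_z hC, one_mul]) with e | e
  · exact e
  · exact absurd (mul_eq_left.1 e) hC.ne

theorem dcov_eq {x y : C} (h : π x = π y) : x = y ∨ x = y * z := by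
  rcases (hC.ker (y⁻¹ * x)).1 (by rw [map_mul, map_inv, h, inv_mul_cancel]) with e | e
  · exact Or.inl (inv_mul_eq_one.1 e).symm
  · exact Or.inr (by rw [← e, mul_inv_cancel_left])

theorem dcov_comm {s u : C} (h : Commute (π s) (π u)) : u * s = s * u ∨ u * s = s * u * z :=
  dcov_eq hC (by rw [map_mul, map_mul, h.eq])

/-- Changing a lift does not change whether it commutes. -/
theorem dcov_commute_congr {s u s' u' : C} (hs : π s = π s') (hu : π u = π u') (h : Commute s u) :
    Commute s' u' := by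
  have hsz : ∀ {a b : C}, π a = π b → ∀ {w : C}, Commute a w → Commute b w := by
    intro a b hab w hw
    rcases dcov_eq hC hab.symm with e | e <;> rw [e]
    exacts [hw, hw.mul_left (hC.central w).symm]
  exact (hsz hu (hsz hs h).symm).symm

/-- An element anticommuting with every entry, and the product. -/
theorem dcov_anti (s : C) : ∀ L : List C, (∀ u ∈ L, u * s = s * u * z) →
    L.prod * s = s * L.prod * z ^ L.length
  | [], _ => by simp
  | u :: L, h => by
    have ih := dcov_anti s L fun v hv => h v (List.mem_cons_of_mem _ hv)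
    have hp : ∀ n : ℕ, ∀ w : C, Commute (z ^ n) w := fun n w => ((hC.central w).pow_right n).symm
    rw [List.prod_cons, List.length_cons, pow_succ', mul_assoc, ih, ← mul_assoc u, ← mul_assoc u,
      h u List.mem_cons_self, mul_assoc (s * u) z, (hC.central L.prod).symm.eq]
    simp only [mul_assoc]

end Basics

section Cover

variable {C X : Type*} [Group C] [Group X] [Finite X] {π : C →* X} {z : C} (hC : DCov π z)
variable {D : Set X} (hD : Cfsg.IsThreeTranspositionGroup D) (hP : Cfsg.IsPrimitiveUnderConj D)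
  (hw : ∃ a ∈ D, ∃ b ∈ D, a ≠ b ∧ Commute a b)
include hC hD hP hw

/-- Commuting members lift to commuting elements. -/
theorem dcov_commute_lifts {l : List X} (hnd : l.Nodup) (hlen : l.length = 6)
    (hmem : ∀ a ∈ l, a ∈ D) (hco : ∀ a ∈ l, ∀ b ∈ l, Commute a b) (hpr : l.prod = 1)
    {s u : C} (hs : π s ∈ D) (hu : π u ∈ D) (h : Commute (π s) (π u)) : Commute s u := by
  by_cases hne : π s = π u
  · exact dcov_commute_congr hC rfl hne (Commute.refl s)
  by_contra hbad
  -- then no two commuting members have commuting lifts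
  have hall : ∀ s' u' : C, π s' ∈ D → π u' ∈ D → π s' ≠ π u' → Commute (π s') (π u') →
      u' * s' = s' * u' * z := by
    intro s' u' hs' hu' hne' h'
    refine (dcov_comm hC h').resolve_left fun hc => hbad ?_
    obtain ⟨g₁, e₁⟩ := hP.1 _ hs' _ hs
    have k2 : Commute (π s) (g₁ * π u' * g₁⁻¹) := e₁ ▸ (commute_conj_iff g₁ _ _).2 h'
    have n2 : g₁ * π u' * g₁⁻¹ ≠ π s := fun e =>
      hne' (mul_left_cancel (mul_right_cancel (e₁.trans e.symm)))
    obtain ⟨g₂, f₁, f₂⟩ := trans_comm hD hP hw hs (hD.2.1 g₁ _ hu') n2 k2 hu (Ne.symm hne) h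
    obtain ⟨g, hg⟩ := hC.surj (g₂ * g₁)
    refine dcov_commute_congr hC ?_ ?_ ((commute_conj_iff g s' u').2 hc.symm)
    · rw [map_mul, map_mul, map_inv, hg]
      conv_rhs => rw [← f₁, ← e₁]
      group
    · rw [map_mul, map_mul, map_inv, hg]
      conv_rhs => rw [← f₂]
      group
  obtain ⟨lift, hlift⟩ : ∃ lift : X → C, ∀ x, π (lift x) = x :=
    ⟨_, fun x => Function.surjInv_eq hC.surj x⟩
  match l, hlen with
  | a :: rest, hlen =>
    rw [List.nodup_cons] at hnd
    replace hlen : rest.length = 5 := by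
      rw [List.length_cons] at hlen; omega
    have hanti := dcov_anti hC (lift a) (rest.map lift) fun v hv => by
      obtain ⟨b, hb, rfl⟩ := List.mem_map.1 hv
      refine hall _ _ ?_ ?_ ?_ ?_ <;> simp only [hlift]
      · exact hmem a (by simp)
      · exact hmem b (by simp [hb])
      · exact fun e => hnd.1 (e ▸ hb)
      · exact hco a (by simp) b (by simp [hb])
    have hπ : π (rest.map lift).prod = π (lift a)⁻¹ := by
      rw [map_list_prod, List.map_map, show π ∘ lift = id from funext hlift, List.map_id, map_inv,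
        hlift, eq_inv_iff_mul_eq_one]
      rw [List.prod_cons] at hpr
      exact mul_eq_one_comm.1 hpr
    have hc : Commute (lift a) (rest.map lift).prod :=
      dcov_commute_congr hC rfl hπ.symm ((Commute.refl (lift a)).inv_right)
    rw [List.length_map, hlen, show z ^ 5 = z by
      rw [pow_succ, pow_succ, pow_succ, pow_two, dcov_sq hC, one_mul, dcov_sq hC, one_mul]] at hanti
    rw [← hc.eq] at hanti
    exact hC.ne (mul_eq_left.1 hanti.symm)

/-- Lifts of members have one square. -/
theorem dcov_sq_const {s u : C} (hs : π s ∈ D) (hu : π u ∈ D) : s * s = u * u := by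
  obtain ⟨g₁, e₁⟩ := hP.1 _ hs _ hu
  obtain ⟨g, hg⟩ := hC.surj g₁
  have hzz := dcov_sq hC
  have hsq : s * s = 1 ∨ s * s = z :=
    (hC.ker _).1 (by rw [map_mul, Trans3.sq_one hD.1 hs])
  have e : π u = π (g * s * g⁻¹) := by rw [map_mul, map_mul, map_inv, hg, e₁]
  have h2 : g * s * g⁻¹ * (g * s * g⁻¹) = s * s := by
    rw [show g * s * g⁻¹ * (g * s * g⁻¹) = g * (s * s) * g⁻¹ by group]
    rcases hsq with e | e <;> rw [e]
    · group
    · exact conj_eq_of_commute (hC.central g)
  rcases dcov_eq hC e with e' | e' <;> rw [e']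
  · exact h2.symm
  · rw [(hC.central (g * s * g⁻¹)).symm.mul_mul_mul_comm, hzz, mul_one, h2]

/-- The square of a product of commuting lifts. -/
theorem dcov_prod_sq (hcl : ∀ s u : C, π s ∈ D → π u ∈ D → Commute (π s) (π u) → Commute s u)
    {a : C} (ha : π a ∈ D) : ∀ L : List C, (∀ u ∈ L, π u ∈ D) →
      (∀ u ∈ L, ∀ v ∈ L, Commute (π u) (π v)) → L.prod * L.prod = (a * a) ^ L.length
  | [], _, _ => by simp
  | u :: L, h1, h2 => by
    have hc : Commute u L.prod := Commute.list_prod_right _ _ fun v hv =>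
      hcl u v (h1 u List.mem_cons_self) (h1 v (List.mem_cons_of_mem _ hv))
        (h2 u List.mem_cons_self v (List.mem_cons_of_mem _ hv))
    rw [List.prod_cons, hc.symm.mul_mul_mul_comm, dcov_prod_sq hcl ha L
      (fun v hv => h1 v (List.mem_cons_of_mem _ hv))
      (fun v hv w hw' => h2 v (List.mem_cons_of_mem _ hv) w (List.mem_cons_of_mem _ hw')),
      dcov_sq_const hC hD hP hw (h1 u List.mem_cons_self) ha, List.length_cons, pow_succ']

/-- A product of commuting members lifts to a product of commuting lifts. -/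
theorem dcov_lift_prod (hcl : ∀ s u : C, π s ∈ D → π u ∈ D → Commute (π s) (π u) → Commute s u)
    {a : C} (ha : π a ∈ D) {l : List X} (hmem : ∀ x ∈ l, x ∈ D)
    (hco : ∀ x ∈ l, ∀ y ∈ l, Commute x y) :
    ∃ y : C, π y = l.prod ∧ y * y = (a * a) ^ l.length := by
  obtain ⟨lift, hlift⟩ : ∃ lift : X → C, ∀ x, π (lift x) = x :=
    ⟨_, fun x => Function.surjInv_eq hC.surj x⟩
  refine ⟨(l.map lift).prod, ?_, ?_⟩
  · rw [map_list_prod, List.map_map, show π ∘ lift = id from funext hlift, List.map_id]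
  · rw [dcov_prod_sq hC hD hP hw hcl ha _ (fun u hu => ?_) (fun u hu v hv => ?_), List.length_map]
    · obtain ⟨x, hx, rfl⟩ := List.mem_map.1 hu
      rw [hlift]; exact hmem x hx
    · obtain ⟨x, hx, rfl⟩ := List.mem_map.1 hu
      obtain ⟨y, hy, rfl⟩ := List.mem_map.1 hv
      rw [hlift, hlift]; exact hco x hx y hy

/-- With a relation of five members the lifts of members are involutions. -/
theorem dcov_sq_one (hcl : ∀ s u : C, π s ∈ D → π u ∈ D → Commute (π s) (π u) → Commute s u)
    {l : List X} (hlen : l.length = 5) (hmem : ∀ x ∈ l, x ∈ D)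
    (hco : ∀ x ∈ l, ∀ y ∈ l, Commute x y) (hpr : l.prod = 1) {a : C} (ha : π a ∈ D) : a * a = 1 := by
  obtain ⟨y, hy, hyy⟩ := dcov_lift_prod hC hD hP hw hcl ha hmem hco
  have hzz := dcov_sq hC
  have hy1 : y * y = 1 := by
    rcases (hC.ker y).1 (hy.trans hpr) with e | e <;> rw [e]
    exacts [one_mul 1, hzz]
  rw [hy1, hlen] at hyy
  rcases (hC.ker (a * a)).1 (by rw [map_mul, Trans3.sq_one hD.1 ha]) with e | e
  · exact e
  · rw [e, pow_succ, pow_succ, pow_succ, pow_two, hzz, one_mul, hzz, one_mul] at hyy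
    exact absurd hyy.symm hC.ne

end Cover

/-- If every involution of the quotient of the centraliser of `d` lifts to an involution, `d` is
not a square. -/
theorem not_square_of_lifts {G : Type*} [Group G] {d : G} (hd : orderOf d = 2)
    {X : Type*} [Group X] {π : ↥(Subgroup.centralizer ({d} : Set G)) →* X}
    {z : ↥(Subgroup.centralizer ({d} : Set G))} (hz : (z : G) = d) (hC : DCov π z)
    (hlift : ∀ x : X, x * x = 1 → ∃ y, y * y = 1 ∧ π y = x) : ¬ ∃ g : G, g ^ 2 = d := by
  rintro ⟨g, hg⟩
  have hd1 := invol_ne_one hd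
  have hgd : g ∈ Subgroup.centralizer ({d} : Set G) :=
    Subgroup.mem_centralizer_singleton_iff.2 (by rw [← hg, ← pow_succ, ← pow_succ'])
  have hsq : (⟨g, hgd⟩ : ↥(Subgroup.centralizer ({d} : Set G))) * ⟨g, hgd⟩ = z :=
    Subtype.ext ((show g * g = d by rw [← pow_two, hg]).trans hz.symm)
  obtain ⟨y, hy, hye⟩ := hlift (π ⟨g, hgd⟩) (by rw [← map_mul, hsq, dcov_map_z hC])
  refine hC.ne ?_
  rcases dcov_eq hC hye.symm with e | e <;> rw [e] at hsq
  · exact hsq.symm.trans hy
  · rw [(hC.central y).symm.mul_mul_mul_comm, dcov_sq hC, mul_one] at hsq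
    exact hsq.symm.trans hy

/-- The quotient of the centraliser of an involution by it. -/
theorem dcov_centralizer {G : Type*} [Group G] {d : G} (hd : orderOf d = 2)
    [hzn : ((Subgroup.zpowers d).subgroupOf (Subgroup.centralizer ({d} : Set G))).Normal] :
    DCov (QuotientGroup.mk' ((Subgroup.zpowers d).subgroupOf (Subgroup.centralizer ({d} : Set G))))
      ⟨d, Subgroup.mem_centralizer_singleton_iff.2 rfl⟩ where
  surj := QuotientGroup.mk'_surjective _
  ne e := invol_ne_one hd (congrArg Subtype.val e)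
  central x := Subtype.ext (Subgroup.mem_centralizer_singleton_iff.1 x.2)
  ker x := by
    rw [QuotientGroup.mk'_apply, QuotientGroup.eq_one_iff, Subgroup.mem_subgroupOf]
    constructor
    · intro hx
      rw [Subgroup.zpowers_eq_closure] at hx
      have key : (x : G) = 1 ∨ (x : G) = d := by
        generalize (x : G) = w₀ at hx ⊢
        induction hx using Subgroup.closure_induction with
        | mem w hw => exact Or.inr hw
        | one => exact Or.inl rfl
        | mul a b _ _ ha hb =>
          rcases ha with rfl | rfl <;> rcases hb with rfl | rfl <;> simp [invol_mul_self hd]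
        | inv a _ ha =>
          rcases ha with rfl | rfl
          exacts [Or.inl inv_one, Or.inr (invol_inv hd)]
      exact key.imp Subtype.ext Subtype.ext
    · rintro (rfl | rfl)
      exacts [one_mem _, Subgroup.mem_zpowers d]

open Matrix CfsgLib.MaxSub CfsgLib.Classical CfsgLib.Trans3.TvSU in
/-- `PSU₆(2)` is generated by a conjugation invariant set of 3-transpositions. -/
theorem u6_exists_group {X : Type*} [Group X] [Finite X] (hU : IsU6 X) :
    ∃ D : Set X, Cfsg.IsThreeTranspositionGroup D := by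
  haveI := u6_simple hU
  obtain ⟨F, i₁, i₂, hF4, ⟨e⟩⟩ := id hU
  have hF : Fintype.card F = 2 ^ 2 := hF4
  obtain ⟨f, hf, hk⟩ : ∃ f : ↥(Cfsg.SU 6 F 2) →* X, Function.Surjective f ∧
      f.ker = Subgroup.center ↥(Cfsg.SU 6 F 2) := by
    refine ⟨e.symm.toMonoidHom.comp (QuotientGroup.mk' _),
      e.symm.surjective.comp (QuotientGroup.mk'_surjective _), ?_⟩
    ext x
    rw [MonoidHom.mem_ker]
    show e.symm (QuotientGroup.mk' _ x) = 1 ↔ _
    rw [e.symm.map_eq_one_iff]
    exact QuotientGroup.eq_one_iff x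
  have : Fact (Nat.Prime 2) := ⟨Nat.prime_two⟩
  obtain ⟨D, eD⟩ : ∃ D : Set X, D = {y | ∃ p, p ≠ 0 ∧ hh p p = 0 ∧ y = f (tv hF p)} := ⟨_, rfl⟩
  have hne : ∀ p, p ≠ 0 → hh p p = 0 → f (tv hF p) ≠ 1 := by
    intro p hp hpp e
    have h2 := center_invol hF ((map_eq_one_iff' hF f hk).1 e) (tv_sq hF hpp)
    obtain ⟨x, -, hx⟩ := exists_hh hF (S := ⊥) (r := p) (by simpa using hp)
    have h3 := congrArg (fun g => act g x) h2
    simp only [tv_act hF hpp, hx, one_smul, act_one, add_eq_left] at h3
    exact hp h3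
  have hiso : ∀ p r : Fin 6 → F, hh p p = 0 → hh r r = 0 →
      hh (r + hh r p • p) (r + hh r p • p) = 0 := by
    intro p r hpp hrr
    rw [← tv_act hF hpp, hh_act]; exact hrr
  have hU' : ThreeSet D := by
    refine ⟨⟨fun y hy => ?_, fun y hy w hw => ?_⟩, fun g y hy => ?_⟩
    · rw [eD] at hy
      obtain ⟨p, hp, hpp, rfl⟩ := hy
      exact orderOf_eq_prime (by rw [pow_two, ← map_mul, tv_sq hF hpp, map_one]) (hne p hp hpp)
    · rw [eD] at hy hw
      obtain ⟨p, hp, hpp, rfl⟩ := hy
      obtain ⟨r, hr, hrr, rfl⟩ := hw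
      by_cases h0 : hh p r = 0
      · left
        rw [((tv_comm hF hpp hrr h0).map f).mul_pow, pow_two, pow_two, ← map_mul, ← map_mul,
          tv_sq hF hpp, tv_sq hF hrr, map_one, one_mul]
      · right
        have i1 : (tv hF p)⁻¹ = tv hF p := inv_eq_of_mul_eq_one_right (tv_sq hF hpp)
        have i2 : (tv hF r)⁻¹ = tv hF r := inv_eq_of_mul_eq_one_right (tv_sq hF hrr)
        have hb : hh r p ≠ 0 := fun h' => h0 (hh_symm_zero hF h')
        have hb3 := cube_one hF hb
        have hvec : p + hh p r • r = hh r p ^ 2 • (r + hh r p • p) := by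
          rw [smul_add, smul_smul, ← pow_succ, hb3, one_smul, hh_conj hF r p, add_comm]
        have e : tv hF p * tv hF r * tv hF p = tv hF r * tv hF p * tv hF r := by
          have c1 := conj_tv hF (tv hF p) hrr
          have c2 := conj_tv hF (tv hF r) hpp
          rw [i1, tv_act hF hpp] at c1
          rw [i2, tv_act hF hrr, hvec, tv_smul hF (hiso p r hpp hrr) (pow_ne_zero 2 hb)] at c2
          exact c1.trans c2.symm
        rw [pow_succ, pow_two, ← map_mul, ← map_mul, ← map_mul]
        have : tv hF p * tv hF r * (tv hF p * tv hF r) * (tv hF p * tv hF r) = 1 := by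
          calc tv hF p * tv hF r * (tv hF p * tv hF r) * (tv hF p * tv hF r)
              = tv hF p * tv hF r * tv hF p * (tv hF r * tv hF p * tv hF r) := by group
            _ = tv hF r * tv hF p * (tv hF r * tv hF r) * tv hF p * tv hF r := by rw [e]; group
            _ = 1 := by
              rw [tv_sq hF hrr, mul_one, mul_assoc (tv hF r), tv_sq hF hpp, mul_one, tv_sq hF hrr]
        rw [this, map_one]
    · obtain ⟨g, rfl⟩ := hf g
      rw [eD] at hy ⊢
      obtain ⟨p, hp, hpp, rfl⟩ := hy
      refine ⟨act g p, fun e => hp ?_, by rw [hh_act]; exact hpp,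
        by rw [← map_inv, ← map_mul, ← map_mul, conj_tv hF g hpp]⟩
      have h1 := congrArg (act g⁻¹) e
      rwa [← act_mul, inv_mul_cancel, act_one, act, Matrix.mulVec_zero] at h1
  obtain ⟨p, hp, hpp⟩ := exists_iso hF
  exact ⟨D, group_of_simple hU' (u := f (tv hF p)) (eD ▸ ⟨p, hp, hpp, rfl⟩)⟩

/-- Every involution of a double cover of `PSU₆(2)` lifts to an involution. -/
theorem u6_dcov_lift {C X : Type*} [Group C] [Group X] [Finite X] {π : C →* X} {z : C}
    (hC : DCov π z) (hU : IsU6 X) : ∀ x : X, x * x = 1 → ∃ y, y * y = 1 ∧ π y = x := by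
  obtain ⟨D, hD⟩ := u6_exists_group hU
  obtain ⟨hP, hw⟩ := u6_prim hU hD
  obtain ⟨a, b, c, p, q, r, p', q', r', ⟨s1, s2, s3, s4⟩, -, -⟩ := u6_planes hU hD
  have hcl : ∀ s u : C, π s ∈ D → π u ∈ D → Commute (π s) (π u) → Commute s u := fun s u h1 h2 h3 =>
    dcov_commute_lifts hC hD hP hw s1 rfl s2 s3 s4 h1 h2 h3
  obtain ⟨u, hu, v, hv, hne, huv⟩ := id hw
  obtain ⟨t₁, t₂, t₃, ⟨-, l2, l3, l4⟩, -⟩ := (u6Facts hU hD).line u v hu hv hne huv
  obtain ⟨ã, hã⟩ := hC.surj u
  have hsq := dcov_sq_one hC hD hP hw hcl rfl l2 l3 l4 (a := ã) (hã.symm ▸ hu)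
  intro x hx
  by_cases hx1 : x = 1
  · exact ⟨1, one_mul 1, by rw [map_one, hx1]⟩
  have fin : ∀ l : List X, (∀ w ∈ l, w ∈ D) → (∀ w ∈ l, ∀ w' ∈ l, Commute w w') →
      l.prod = x → ∃ y, y * y = 1 ∧ π y = x := fun l h1 h2 h3 => by
    obtain ⟨y, hy, hyy⟩ := dcov_lift_prod hC hD hP hw hcl (hã.symm ▸ hu) h1 h2
    exact ⟨y, by rw [hyy, hsq, one_pow], hy.trans h3⟩
  rcases u6_invol hU hD hx1 hx with h | ⟨p, hp, q, hq, -, hpq, rfl⟩ |
    ⟨p, q, r, t₁, t₂, t₃, _, _, _, rfl, ⟨-, hm, hc, -⟩, -, -⟩
  · exact fin [x] (by simpa using h) (by simp) (by simp)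
  · exact fin [p, q] (by simp [hp, hq]) (by simp [hpq, hpq.symm]) (by simp)
  · refine fin [p, q, r] (fun w hw' => hm w ?_) (fun w hw' w' hw'' => hc w ?_ w' ?_)
      (by simp [mul_assoc]) <;>
    simp only [List.mem_cons, List.not_mem_nil, or_false] at * <;> tauto

end CfsgLib.Trans3.Fi
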