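import Cfsg.Agent.Lib.Trans3.Fi.M24Order
import Cfsg.Agent.Lib.Trans3.Fi.U6Triple
import Mathlib.GroupTheory.Transfer

/-!
A group of type M(24) has a subgroup of index two: transfer of a sign from a Sylow 2-subgroup built
from two maximal commuting sets of members and a Sylow 2-subgroup of the centraliser of a
non-commuting pair.
-/

set_option autoImplicit false
set_option linter.unusedSectionVars false
set_option linter.unusedSimpArgs false

namespace CfsgLib.Trans3.Fi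

open scoped Pointwise
open Matrix CfsgLib.MaxSub CfsgLib.Classical CfsgLib.Trans3.TvSU

/-- The members commuting with a set and with a further element. -/
abbrev Pp {G : Type*} [Group G] (D F : Set G) (x : G) : Set G :=
  {z | z ∈ D ∧ (∀ f ∈ F, Commute z f) ∧ Commute z x}

section Model

variable {F : Type*} [Field F] [Fintype F] (hF : Fintype.card F = 2 ^ 2)
variable {Y : Type*} [Group Y] [Finite Y] {D : Set Y} (f : ↥(Cfsg.SU 6 F 2) →* Y)
  (hf : Function.Surjective f) (hk : f.ker = Subgroup.center ↥(Cfsg.SU 6 F 2))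
  (hD : Cfsg.IsThreeTranspositionGroup D)
include hF hf hk hD

theorem plane_clique {p q x y : Y} (hp : p ∈ D) (hq : q ∈ D) (hx : x ∈ D) (hy : y ∈ D)
    (hne : p ≠ q) (hpq : Commute p q) (hxp : Commute x p) (hxq : Commute x q) (hyp : Commute y p)
    (hyq : Commute y q) (hxy : ¬ Commute x y) :
    (∀ z ∈ Pp D {p, q} x, ∀ z' ∈ Pp D {p, q} x, Commute z z') ∧
      16 ≤ {z | z ∈ Pp D {p, q} x ∧ ¬ Commute z y}.ncard := by
  classical
  obtain ⟨P, hP, hPP, rfl⟩ := exists_pt hF f hf hk hD hp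
  obtain ⟨Q, hQ, hQQ, rfl⟩ := exists_pt hF f hf hk hD hq
  obtain ⟨X, hX, hXX, rfl⟩ := exists_pt hF f hf hk hD hx
  obtain ⟨V, hV, hVV, rfl⟩ := exists_pt hF f hf hk hD hy
  rw [pt_commute hF f hk hP hQ hPP hQQ] at hpq
  rw [pt_commute hF f hk hX hP hXX hPP] at hxp
  rw [pt_commute hF f hk hX hQ hXX hQQ] at hxq
  rw [pt_commute hF f hk hV hP hVV hPP] at hyp
  rw [pt_commute hF f hk hV hQ hVV hQQ] at hyq
  rw [pt_commute hF f hk hX hV hXX hVV] at hxy
  have hind : ∀ α β γ : F, α • P + β • Q + γ • X = 0 → α = 0 ∧ β = 0 ∧ γ = 0 := by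
    intro α β γ h
    have hγ : γ = 0 := by
      have h' := congrArg (fun v => hh v V) h
      simp only [hh_add_left hF, hh_smul_left hF, hh_symm_zero hF hyp, hh_symm_zero hF hyq,
        hh_zero_left hF, mul_zero, zero_add] at h'
      exact (mul_eq_zero.1 h').resolve_right hxy
    rw [hγ, zero_smul, add_zero] at h
    have hβ : β = 0 := by
      by_contra hb
      have hQs : Q = (-(β⁻¹ * α)) • P := by
        rw [neg_smul, mul_smul, eq_neg_iff_add_eq_zero]
        calc Q + β⁻¹ • α • P = β⁻¹ • (α • P + β • Q) := by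
              rw [smul_add, smul_smul β⁻¹ β, inv_mul_cancel₀ hb, one_smul, add_comm]
          _ = 0 := by rw [h, smul_zero]
      have hc : -(β⁻¹ * α) ≠ 0 := fun e => hQ (by rw [hQs, e, zero_smul])
      exact hne (by rw [hQs, pt_smul hF f hPP hc])
    rw [hβ, zero_smul, add_zero, smul_eq_zero] at h
    exact ⟨h.resolve_right hP, hβ, hγ⟩
  let W : Submodule F (Fin 6 → F) := Submodule.span F (Set.range ![P, Q, X])
  have hli : LinearIndependent F ![P, Q, X] := by
    rw [Fintype.linearIndependent_iff]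
    intro g hg
    simp only [Fin.sum_univ_three, Matrix.cons_val_zero, Matrix.cons_val_one,
      Matrix.cons_val] at hg
    obtain ⟨h0, h1, h2⟩ := hind _ _ _ hg
    intro i
    fin_cases i <;> assumption
  have hWW : ∀ u ∈ W, ∀ v ∈ W, hh u v = 0 := by
    intro u hu v hv
    obtain ⟨c, rfl⟩ := (Submodule.mem_span_range_iff_exists_fun F).1 hu
    obtain ⟨d, rfl⟩ := (Submodule.mem_span_range_iff_exists_fun F).1 hv
    simp only [Fin.sum_univ_three, Matrix.cons_val_zero, Matrix.cons_val_one, Matrix.cons_val,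
      hh_add_left hF, hh_add_right hF, hh_smul_left hF, hh_smul_right hF, hPP, hQQ, hXX, hpq,
      hh_symm_zero hF hpq, hxp, hh_symm_zero hF hxp, hxq, hh_symm_zero hF hxq, mul_zero, add_zero]
  have hin : ∀ z ∈ Pp D {pt hF f P, pt hF f Q} (pt hF f X),
      ∃ v, v ≠ 0 ∧ hh v v = 0 ∧ v ∈ W ∧ z = pt hF f v := by
    rintro z ⟨hz, hzF, hzx⟩
    obtain ⟨v, hv, hvv, rfl⟩ := exists_pt hF f hf hk hD hz
    refine ⟨v, hv, hvv, ?_, rfl⟩
    by_contra hout
    have h1 := (pt_commute hF f hk hv hP hvv hPP).1 (hzF _ (by simp))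
    have h2 := (pt_commute hF f hk hv hQ hvv hQQ).1 (hzF _ (by simp))
    have h3 := (pt_commute hF f hk hv hX hvv hXX).1 hzx
    have hvW : ∀ u ∈ W, hh v u = 0 := by
      intro u hu
      obtain ⟨c, rfl⟩ := (Submodule.mem_span_range_iff_exists_fun F).1 hu
      simp only [Fin.sum_univ_three, Matrix.cons_val_zero, Matrix.cons_val_one, Matrix.cons_val,
        hh_add_right hF, hh_smul_right hF, h1, h2, h3, mul_zero, add_zero]
    have hle := span_isotropic_le hF (S := W ⊔ Submodule.span F {v}) (by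
      intro a ha b hb
      obtain ⟨a₁, ha₁, a₂, ha₂, rfl⟩ := Submodule.mem_sup.1 ha
      obtain ⟨b₁, hb₁, b₂, hb₂, rfl⟩ := Submodule.mem_sup.1 hb
      obtain ⟨s, rfl⟩ := Submodule.mem_span_singleton.1 ha₂
      obtain ⟨t, rfl⟩ := Submodule.mem_span_singleton.1 hb₂
      simp only [hh_add_left hF, hh_add_right hF, hh_smul_left hF, hh_smul_right hF, hWW _ ha₁ _ hb₁,
        hvv, hvW _ hb₁, hh_symm_zero hF (hvW _ ha₁), mul_zero, add_zero])
    have hlt : W < W ⊔ Submodule.span F {v} := lt_of_le_of_ne le_sup_left fun e =>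
      hout (e.ge (Submodule.mem_sup_right (Submodule.mem_span_singleton_self v)))
    have h4 := Submodule.finrank_lt_finrank_of_lt hlt
    rw [show W = Submodule.span F (Set.range ![P, Q, X]) from rfl, finrank_span_eq_card hli,
      Fintype.card_fin] at h4
    exact absurd (h4.trans_le hle) (lt_irrefl 3)
  refine ⟨fun z hz z' hz' => ?_, ?_⟩
  · obtain ⟨u, hu, huu, huW, rfl⟩ := hin z hz
    obtain ⟨v, hv, hvv, hvW, rfl⟩ := hin z' hz'
    exact (pt_commute hF f hk hu hv huu hvv).2 (hWW u huW v hvW)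
  · obtain ⟨w, ew⟩ : ∃ w : F × F → (Fin 6 → F), w = fun c => c.1 • P + c.2 • Q + X := ⟨_, rfl⟩
    have hw0 : ∀ c, w c ≠ 0 := fun c e => by
      have := hind c.1 c.2 1 (by rw [one_smul]; rw [ew] at e; exact e)
      exact one_ne_zero this.2.2
    have hwv : ∀ c : F × F, hh (w c) (w c) = 0 := fun c => by
      simp only [ew, hh_add_left hF, hh_add_right hF, hh_smul_left hF, hh_smul_right hF, hPP, hQQ,
        hXX, hpq, hh_symm_zero hF hpq, hxp, hh_symm_zero hF hxp, hxq, hh_symm_zero hF hxq,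
        mul_zero, add_zero]
    have hwn : ∀ c : F × F, ∀ u : Fin 6 → F, hh u P = 0 → hh u Q = 0 → hh u X = 0 →
        hh (w c) u = 0 := fun c u e1 e2 e3 => by
      simp only [ew, hh_add_left hF, hh_smul_left hF, hh_symm_zero hF e1, hh_symm_zero hF e2,
        hh_symm_zero hF e3, mul_zero, add_zero]
    have h16 : (Set.range fun c : F × F => pt hF f (w c)).ncard = 16 := by
      rw [Set.ncard_range_of_injective ?_, Nat.card_prod, Nat.card_eq_fintype_card, hF]
      · norm_num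
      intro c d e
      obtain ⟨s, -, hs⟩ := pt_eq hF f hk (hw0 c) (hwv c) (hwv d) e
      have h' : (c.1 - s * d.1) • P + (c.2 - s * d.2) • Q + (1 - s) • X = 0 := by
        calc (c.1 - s * d.1) • P + (c.2 - s * d.2) • Q + (1 - s) • X = w c - s • w d := by
              rw [ew]; module
          _ = 0 := by rw [hs, sub_self]
      obtain ⟨e1, e2, e3⟩ := hind _ _ _ h'
      rw [sub_eq_zero] at e1 e2 e3
      rw [← e3, one_mul] at e1 e2
      exact Prod.ext e1 e2
    rw [← h16]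
    refine Set.ncard_le_ncard ?_
    rintro _ ⟨c, rfl⟩
    refine ⟨⟨pt_mem hF f hf hk hD (hw0 c) (hwv c), ?_, ?_⟩, fun e => hxy ?_⟩
    · intro g hg
      simp only [Set.mem_insert_iff, Set.mem_singleton_iff] at hg
      rcases hg with rfl | rfl
      · exact (pt_commute hF f hk (hw0 c) hP (hwv c) hPP).2
          (hwn c P hPP hpq (hh_symm_zero hF hxp))
      · exact (pt_commute hF f hk (hw0 c) hQ (hwv c) hQQ).2
          (hwn c Q (hh_symm_zero hF hpq) hQQ (hh_symm_zero hF hxq))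
    · exact (pt_commute hF f hk (hw0 c) hX (hwv c) hXX).2 (hwn c X hxp hxq hXX)
    · have h' := (pt_commute hF f hk (hw0 c) hV (hwv c) hVV).1 e
      simpa only [ew, hh_add_left hF, hh_smul_left hF, hh_symm_zero hF hyp, hh_symm_zero hF hyq,
        mul_zero, zero_add] using h'

end Model

/-- Common neighbours fixing two maximal commuting sets. -/
structure Plane {G : Type*} [Group G] (D : Set G) (x y : G) (F : Set G) : Prop where
  sub : F ⊆ CN D x y
  ne : F.Nonempty
  clique : ∀ u ∈ F, ∀ v ∈ F, Commute u v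
  cx : ∀ z ∈ Pp D F x, ∀ z' ∈ Pp D F x, Commute z z'
  cy : ∀ z ∈ Pp D F y, ∀ z' ∈ Pp D F y, Commute z z'
  nx : 16 ≤ {z | z ∈ Pp D F x ∧ ¬ Commute z y}.ncard
  ny : 16 ≤ {z | z ∈ Pp D F y ∧ ¬ Commute z x}.ncard

theorem u6_plane {G : Type*} [Group G] [Finite G] {D : Set G} (hU : IsU6 G)
    (hD : Cfsg.IsThreeTranspositionGroup D) {x y : G} (hx : x ∈ D) (hy : y ∈ D)
    (hxy : ¬ Commute x y) : ∃ F, Plane D x y F := by
  obtain ⟨A, B, C, E, hq⟩ := u6_quad hU hD hx hy hxy
  obtain ⟨Fd, _, _, f, hF, hf, hk⟩ := exists_model hU hD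
  obtain ⟨hA, xA, yA⟩ := hq.mem A (by simp)
  obtain ⟨hB, xB, yB⟩ := hq.mem B (by simp)
  obtain ⟨hC, xC, yC⟩ := hq.mem C (by simp)
  have hne : A * B * A ≠ C := fun e => hq.ce (e ▸ hq.t₂)
  have hP : A * B * A ∈ D := self_conj_mem hD hA hB
  have xP : Commute x (A * B * A) := (xA.mul_right xB).mul_right xA
  have yP : Commute y (A * B * A) := (yA.mul_right yB).mul_right yA
  obtain ⟨a1, a2⟩ := plane_clique hF f hf hk hD hP hC hx hy hne hq.t₁ xP xC yP yC hxy
  obtain ⟨b1, b2⟩ := plane_clique hF f hf hk hD hP hC hy hx hne hq.t₁ yP yC xP xC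
    fun e => hxy e.symm
  refine ⟨{A * B * A, C}, ⟨?_, ⟨C, by simp⟩, ?_, a1, b1, a2, b2⟩⟩
  · rintro u (rfl | rfl)
    exacts [⟨hP, xP, yP⟩, ⟨hC, xC, yC⟩]
  · rintro u (rfl | rfl) v (rfl | rfl)
    exacts [Commute.refl _, hq.t₁, hq.t₁.symm, Commute.refl _]

section Step

variable {G : Type*} [Group G] [Finite G] {D : Set G}

/-- One level up. -/
theorem plane_up (hN : Nice D) {e x y : G} (he : e ∈ D) (hx : x ∈ nbrs D e) (hy : y ∈ nbrs D e)
    (hxy : ¬ Commute x y) {F : Set (Qd D e)} (hF : Plane (Db D e) (bar hx) (bar hy) F) :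
    ∃ F', Plane D x y F' := by
  have hPre := pre_of_group hN.group
  obtain ⟨F', eF⟩ : ∃ F' : Set G, F' = insert e {z | ∃ hz : z ∈ nbrs D e, bar hz ∈ F} := ⟨_, rfl⟩
  have lift : ∀ q ∈ F, ∃ z, ∃ hz : z ∈ nbrs D e, bar hz = q ∧ z ∈ F' := by
    intro q hq
    obtain ⟨z, hz, rfl⟩ := exists_bar (hF.sub hq).1
    exact ⟨z, hz, rfl, eF ▸ Or.inr ⟨hz, hq⟩⟩
  have split : ∀ {w z : G}, z ∈ Pp D F' w → z = e ∨ ∃ hz : z ∈ nbrs D e,
      ∀ {u : G} (hu : u ∈ nbrs D e), u = w → bar hz ∈ Pp (Db D e) F (bar hu) := by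
    intro w z ⟨hzD, hzF, hzw⟩
    by_cases hze : z = e
    · exact Or.inl hze
    refine Or.inr ⟨⟨hzD, hze, (hzF e (eF ▸ Set.mem_insert _ _)).symm⟩, fun hu e' => ?_⟩
    refine ⟨bar_mem _, fun q hq => ?_, (commute_bar hPre _ hu).2 (e' ▸ hzw)⟩
    obtain ⟨v, hv, rfl, hvF⟩ := lift q hq
    exact (commute_bar hPre _ hv).2 (hzF v hvF)
  have cl : ∀ {w : G} (hw : w ∈ nbrs D e),
      (∀ z ∈ Pp (Db D e) F (bar hw), ∀ z' ∈ Pp (Db D e) F (bar hw), Commute z z') →
      ∀ z ∈ Pp D F' w, ∀ z' ∈ Pp D F' w, Commute z z' := by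
    intro w hw hc z hz z' hz'
    rcases split hz with rfl | ⟨n, hn⟩
    · exact (hz'.2.1 z (eF ▸ Set.mem_insert _ _)).symm
    rcases split hz' with rfl | ⟨n', hn'⟩
    · exact hz.2.1 z' (eF ▸ Set.mem_insert _ _)
    exact (commute_bar hPre n n').1 (hc _ (hn hw rfl) _ (hn' hw rfl))
  have cnt : ∀ {w v : G} (hw : w ∈ nbrs D e) (hv : v ∈ nbrs D e),
      {z | z ∈ Pp (Db D e) F (bar hw) ∧ ¬ Commute z (bar hv)}.ncard ≤
        {z | z ∈ Pp D F' w ∧ ¬ Commute z v}.ncard := by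
    intro w v hw hv
    obtain ⟨T, eT⟩ : ∃ T : Set G, T = {z | z ∈ Pp D F' w ∧ ¬ Commute z v} := ⟨_, rfl⟩
    have hT : {z | z ∈ nbrs D e ∧ z ∈ T} ⊆ T := fun z hz => hz.2
    rw [← eT]
    refine le_trans (Eq.ge ?_) (Set.ncard_le_ncard hT)
    refine ncard_bar_eq hN he (fun q hq => hq.1.1) fun z hz => ?_
    rw [eT]
    constructor
    · rintro ⟨⟨-, h1, h2⟩, h3⟩
      refine ⟨⟨hz.1, fun u hu => ?_, (commute_bar hPre hz hw).1 h2⟩,
        fun c => h3 ((commute_bar hPre hz hv).2 c)⟩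
      rw [eF] at hu
      rcases hu with rfl | ⟨hu, hq⟩
      exacts [hz.2.2.symm, (commute_bar hPre hz hu).1 (h1 _ hq)]
    · rintro ⟨⟨-, h1, h2⟩, h3⟩
      refine ⟨⟨bar_mem hz, fun q hq => ?_, (commute_bar hPre hz hw).2 h2⟩,
        fun c => h3 ((commute_bar hPre hz hv).1 c)⟩
      obtain ⟨u, hu, rfl, huF⟩ := lift q hq
      exact (commute_bar hPre hz hu).2 (h1 u huF)
  refine ⟨F', ⟨?_, ⟨e, eF ▸ Set.mem_insert _ _⟩, ?_, cl hx hF.cx, cl hy hF.cy,
    hF.nx.trans (cnt hx hy), hF.ny.trans (cnt hy hx)⟩⟩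
  · rw [eF]
    rintro u (rfl | ⟨hu, hq⟩)
    · exact ⟨he, hx.2.2.symm, hy.2.2.symm⟩
    · exact ⟨hu.1, (commute_bar hPre hx hu).1 (hF.sub hq).2.1,
        (commute_bar hPre hy hu).1 (hF.sub hq).2.2⟩
  · rw [eF]
    rintro u (rfl | ⟨hu, hq⟩) v (rfl | ⟨hv, hq'⟩)
    exacts [Commute.refl _, hv.2.2, hu.2.2.symm,
      (commute_bar hPre hu hv).1 (hF.clique _ hq _ hq')]

theorem m22_plane (hD : Cfsg.IsThreeTranspositionGroup D) (hP : Cfsg.IsPrimitiveUnderConj D)
    (h : Cfsg.IsOfTypeM22 G D) {x y : G} (hx : x ∈ D) (hy : y ∈ D) (hxy : ¬ Commute x y) :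
    ∃ F, Plane D x y F := by
  have hN := nice_m22 hD h
  obtain ⟨e, he, ex, ey⟩ := (lvl_m22 hD hP h).common x y hx hy hxy
  have nx : x ∈ nbrs D e := ⟨hx, fun c => hxy (c ▸ ey), ex⟩
  have ny : y ∈ nbrs D e := ⟨hy, fun c => hxy (c ▸ ex).symm, ey⟩
  obtain ⟨F, hF⟩ := u6_plane (m22_isU6 hD h he) (hN.group_Db he) (bar_mem nx) (bar_mem ny)
    fun c => hxy ((commute_bar (pre_of_group hD) nx ny).1 c)
  exact plane_up hN he nx ny hxy hF

theorem m23_plane (hD : Cfsg.IsThreeTranspositionGroup D) (hP : Cfsg.IsPrimitiveUnderConj D)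
    (h : Cfsg.IsOfTypeM23 G D) {x y : G} (hx : x ∈ D) (hy : y ∈ D) (hxy : ¬ Commute x y) :
    ∃ F, Plane D x y F := by
  have hN := nice_m23 hD h
  obtain ⟨e, he, ex, ey⟩ := (lvl_m23 hD hP h).common x y hx hy hxy
  have nx : x ∈ nbrs D e := ⟨hx, fun c => hxy (c ▸ ey), ex⟩
  have ny : y ∈ nbrs D e := ⟨hy, fun c => hxy (c ▸ ex).symm, ey⟩
  obtain ⟨F, hF⟩ := m22_plane (hN.group_Db he) (m23_prim_below hD h hP he) (m23_below hD h he)
    (bar_mem nx) (bar_mem ny) fun c => hxy ((commute_bar (pre_of_group hD) nx ny).1 c)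
  exact plane_up hN he nx ny hxy hF

/-- A homomorphism on a subgroup and one on a normalising subgroup that agree glue. -/
theorem exists_glue {C : Type*} [CommGroup C] {A B : Subgroup G}
    (hB : B ≤ Subgroup.normalizer (A : Set G)) (φ : ↥A →* C) (χ : ↥B →* C)
    (hag : ∀ u (ha : u ∈ A) (hb : u ∈ B), φ ⟨u, ha⟩ = χ ⟨u, hb⟩)
    (hinv : ∀ u (ha : u ∈ A) b, b ∈ B → ∀ h : b * u * b⁻¹ ∈ A, φ ⟨_, h⟩ = φ ⟨u, ha⟩) :
    ∃ ψ : ↥(A ⊔ B) →* C, (∀ u (ha : u ∈ A), ψ ⟨u, Subgroup.mem_sup_left ha⟩ = φ ⟨u, ha⟩) ∧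
      ∀ u (hb : u ∈ B), ψ ⟨u, Subgroup.mem_sup_right hb⟩ = χ ⟨u, hb⟩ := by
  have hex : ∀ x : ↥(A ⊔ B), ∃ a : ↥A, ∃ b : ↥B, (a : G) * b = x := by
    intro x
    have hx : (x : G) ∈ ((A : Set G) * B) :=
      (Subgroup.coe_mul_of_right_le_normalizer_left A B hB) ▸ x.2
    obtain ⟨a, ha, b, hb, e⟩ := Set.mem_mul.1 hx
    exact ⟨⟨a, ha⟩, ⟨b, hb⟩, e⟩
  choose fa fb hf using hex
  have uniq : ∀ {a a' : ↥A} {b b' : ↥B}, (a : G) * b = a' * b' → φ a * χ b = φ a' * χ b' := by
    intro a a' b b' e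
    have e' : (a' : G)⁻¹ * a = b' * (b : G)⁻¹ := by
      rw [eq_mul_inv_iff_mul_eq, mul_assoc, e, inv_mul_cancel_left]
    have hmem : (a' : G)⁻¹ * a ∈ A := mul_mem (inv_mem a'.2) a.2
    have := hag _ hmem (e' ▸ mul_mem b'.2 (inv_mem b.2))
    rw [show (⟨_, hmem⟩ : ↥A) = a'⁻¹ * a from rfl, map_mul, map_inv] at this
    rw [show (⟨(a' : G)⁻¹ * a, _⟩ : ↥B) = b' * b⁻¹ from Subtype.ext e', map_mul, map_inv] at this
    rw [eq_inv_mul_iff_mul_eq.1 this.symm |>.symm]
    rw [mul_assoc, inv_mul_cancel_right]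
  let ψ : ↥(A ⊔ B) → C := fun x => φ (fa x) * χ (fb x)
  have hmul : ∀ x y, ψ (x * y) = ψ x * ψ y := by
    intro x y
    have hconj : (fb x : G) * fa y * (fb x : G)⁻¹ ∈ A :=
      (Subgroup.mem_normalizer_iff.1 (hB (fb x).2) _).1 (fa y).2
    show φ (fa (x * y)) * χ (fb (x * y)) = _
    rw [uniq (a' := fa x * ⟨_, hconj⟩) (b' := fb x * fb y) (by
      rw [hf, Subgroup.coe_mul, Subgroup.coe_mul, Subgroup.coe_mul, ← hf x, ← hf y]; group),
      map_mul, map_mul, hinv _ (fa y).2 _ (fb x).2 hconj]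
    exact mul_mul_mul_comm _ _ _ _
  refine ⟨MonoidHom.mk' ψ hmul, fun u ha => ?_, fun u hb => ?_⟩
  · show φ (fa _) * χ (fb _) = _
    rw [uniq (a' := ⟨u, ha⟩) (b' := 1) (by rw [hf]; simp), map_one, mul_one]
  · show φ (fa _) * χ (fb _) = _
    rw [uniq (a' := 1) (b' := ⟨u, hb⟩) (by rw [hf]; simp), map_one, one_mul]

end Step

variable {G : Type*} [Group G] [Finite G] {D : Set G}
variable (hD : Cfsg.IsThreeTranspositionGroup D) (hP : Cfsg.IsPrimitiveUnderConj D)
variable (h : Cfsg.IsOfTypeM24 G D)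
include hD hP h

/-- Five pairwise commuting members: three further ones complete an octad. -/
theorem m24_five {a g n e f : G} (hnd : [a, g, n, e, f].Nodup)
    (hm : ∀ u ∈ [a, g, n, e, f], u ∈ D)
    (hc : ∀ u ∈ [a, g, n, e, f], ∀ v ∈ [a, g, n, e, f], Commute u v) :
    ∃ t₁ t₂ t₃, Fac D 3 [a, g, n, e, f].prod [t₁, t₂, t₃] := by
  have hN := nice_m24 hD hP h
  have hPre := pre_of_group hD
  simp only [List.nodup_cons, List.mem_cons, List.not_mem_nil, or_false, not_or,
    List.nodup_nil, and_true, not_false_eq_true] at hnd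
  obtain ⟨⟨ag, an, ae, af⟩, ⟨gn, ge, gf⟩, ⟨ne', nf⟩, ef⟩ := hnd
  have hf : f ∈ D := hm f (by simp)
  have na : a ∈ nbrs D f := ⟨hm a (by simp), af, hc f (by simp) a (by simp)⟩
  have ng : g ∈ nbrs D f := ⟨hm g (by simp), gf, hc f (by simp) g (by simp)⟩
  have nn : n ∈ nbrs D f := ⟨hm n (by simp), nf, hc f (by simp) n (by simp)⟩
  have ne : e ∈ nbrs D f := ⟨hm e (by simp), ef, hc f (by simp) e (by simp)⟩
  have bn : ∀ {u : G} (hu : u ∈ nbrs D f), u ≠ e → Commute e u →
      bar hu ∈ nbrs (Db D f) (bar ne) := fun hu h1 h2 =>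
    ⟨bar_mem hu, fun x => h1 (hN.bar_inj hf hu ne x), (commute_bar hPre ne hu).2 h2⟩
  obtain ⟨T₁, T₂, T₃, hT, hprops⟩ := m23_seven (hN.group_Db hf) (m24_prim_below hD hP h hf)
    (m24_below hD hP h hf) (bar_mem ne) (bn na ae (hc e (by simp) a (by simp)))
    (bn ng ge (hc e (by simp) g (by simp))) (bn nn ne' (hc e (by simp) n (by simp)))
    (fun x => ag (hN.bar_inj hf na ng x)) (fun x => an (hN.bar_inj hf na nn x))
    (fun x => gn (hN.bar_inj hf ng nn x)) ((commute_bar hPre na ng).2 (hc a (by simp) g (by simp)))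
    ((commute_bar hPre na nn).2 (hc a (by simp) n (by simp)))
    ((commute_bar hPre ng nn).2 (hc g (by simp) n (by simp)))
  obtain ⟨t₁, m₁, rfl⟩ := exists_bar (hT.2.2.1 T₁ (by simp))
  obtain ⟨t₂, m₂, rfl⟩ := exists_bar (hT.2.2.1 T₂ (by simp))
  obtain ⟨t₃, m₃, rfl⟩ := exists_bar (hT.2.2.1 T₃ (by simp))
  refine ⟨t₁, t₂, t₃, ?_⟩
  obtain ⟨K, eK⟩ : ∃ K : List {u // u ∈ nbrs D f}, K =
      [⟨a, na⟩, ⟨g, ng⟩, ⟨n, nn⟩, ⟨e, ne⟩, ⟨t₁, m₁⟩, ⟨t₂, m₂⟩, ⟨t₃, m₃⟩] := ⟨_, rfl⟩
  have hKb : K.map (fun u => bar u.2) =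
      [bar na, bar ng, bar nn, bar ne] ++ [bar m₁, bar m₂, bar m₃] := by rw [eK]; rfl
  have hKv : K.map Subtype.val = [a, g, n, e, t₁, t₂, t₃] := by rw [eK]; rfl
  have hKn : [a, g, n, e, t₁, t₂, t₃].Nodup := by
    rw [← hKv]
    refine (List.Nodup.of_map (fun u => bar u.2) ?_).map Subtype.val_injective
    rw [hKb, List.nodup_append']
    refine ⟨?_, hT.1, fun q hq hq' => ?_⟩
    · have i1 : bar na ≠ bar ng := fun x => ag (hN.bar_inj hf na ng x)
      have i2 : bar na ≠ bar nn := fun x => an (hN.bar_inj hf na nn x)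
      have i3 : bar na ≠ bar ne := fun x => ae (hN.bar_inj hf na ne x)
      have i4 : bar ng ≠ bar nn := fun x => gn (hN.bar_inj hf ng nn x)
      have i5 : bar ng ≠ bar ne := fun x => ge (hN.bar_inj hf ng ne x)
      have i6 : bar nn ≠ bar ne := fun x => ne' (hN.bar_inj hf nn ne x)
      simp [i1, i2, i3, i4, i5, i6]
    · rw [show [bar na, bar ng, bar nn, bar ne] = [bar na, bar ng, bar nn] ++ [bar ne] from rfl] at hq
      rcases List.mem_append.1 hq with hq | hq
      · exact (hprops q hq').2.1 hq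
      · rw [List.mem_singleton] at hq
        exact (hprops q hq').1.2.1 hq
  have hKc : ∀ u ∈ [a, g, n, e, t₁, t₂, t₃], ∀ v ∈ [a, g, n, e, t₁, t₂, t₃], Commute u v := by
    intro u hu v hv
    rw [← hKv] at hu hv
    obtain ⟨p, hp, rfl⟩ := List.mem_map.1 hu
    obtain ⟨q, hq, rfl⟩ := List.mem_map.1 hv
    refine (commute_bar hPre p.2 q.2).1 ?_
    have hp' : bar p.2 ∈ [bar na, bar ng, bar nn, bar ne] ++ [bar m₁, bar m₂, bar m₃] :=
      hKb ▸ List.mem_map_of_mem hp
    have hq' : bar q.2 ∈ [bar na, bar ng, bar nn, bar ne] ++ [bar m₁, bar m₂, bar m₃] :=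
      hKb ▸ List.mem_map_of_mem hq
    have hold : ∀ z ∈ [bar na, bar ng, bar nn, bar ne],
        ∃ w, ∃ hw : w ∈ nbrs D f, w ∈ [a, g, n, e, f] ∧ z = bar hw := by
      intro z hz
      simp only [List.mem_cons, List.not_mem_nil, or_false] at hz
      rcases hz with rfl | rfl | rfl | rfl
      exacts [⟨a, na, by simp, rfl⟩, ⟨g, ng, by simp, rfl⟩, ⟨n, nn, by simp, rfl⟩,
        ⟨e, ne, by simp, rfl⟩]
    have cross : ∀ z ∈ [bar m₁, bar m₂, bar m₃], ∀ w ∈ [bar na, bar ng, bar nn, bar ne],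
        Commute z w := by
      intro z hz w hw
      rw [show [bar na, bar ng, bar nn, bar ne] = [bar na, bar ng, bar nn] ++ [bar ne] from rfl] at hw
      rcases List.mem_append.1 hw with hw | hw
      · exact (hprops z hz).2.2 w hw
      · rw [List.mem_singleton] at hw
        rw [hw]
        exact (hprops z hz).1.2.2.symm
    rcases List.mem_append.1 hp' with hp' | hp' <;> rcases List.mem_append.1 hq' with hq' | hq'
    · obtain ⟨w, hw, hwl, e1⟩ := hold _ hp'
      obtain ⟨w', hw', hwl', e2⟩ := hold _ hq'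
      rw [e1, e2]
      exact (commute_bar hPre hw hw').2 (hc w hwl w' hwl')
    · exact (cross _ hq' _ hp').symm
    · exact cross _ hp' _ hq'
    · exact hT.2.2.2.1 _ hp' _ hq'
  have hKD : ∀ u ∈ [a, g, n, e, t₁, t₂, t₃], u ∈ D := by
    intro u hu
    rw [← hKv] at hu
    obtain ⟨p, -, rfl⟩ := List.mem_map.1 hu
    exact p.2.1
  obtain ⟨z, ez⟩ : ∃ z : ↥(Hd D f), z = ⟨a, Subgroup.subset_closure na⟩ *
      ⟨g, Subgroup.subset_closure ng⟩ * (⟨n, Subgroup.subset_closure nn⟩ *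
      ⟨e, Subgroup.subset_closure ne⟩) * (⟨t₁, Subgroup.subset_closure m₁⟩ *
      ⟨t₂, Subgroup.subset_closure m₂⟩ * ⟨t₃, Subgroup.subset_closure m₃⟩) := ⟨_, rfl⟩
  have hz : z ∈ Subgroup.center ↥(Hd D f) := by
    rw [← QuotientGroup.eq_one_iff, ez]
    simp only [QuotientGroup.mk_mul]
    rw [show (_ : Qd D f) * _ * _ = bar m₁ * bar m₂ * bar m₃ from rfl]
    have h3 := fac_cons hT
    exact (congrArg (fun r => r * (bar m₁ * bar m₂ * bar m₃)) h3.symm).trans
      (h3.symm ▸ fac_sq (hN.group_Db hf) hT)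
  have hzv : (z : G) = a * g * (n * e) * (t₁ * t₂ * t₃) := by rw [ez]; rfl
  have hzf : (z : G) = f := by
    refine (m24_center_mem hD hP h hf hz).resolve_left fun e1 => ?_
    refine m24_noRel_seven hD hP h _ hKn rfl hKD hKc ?_
    rw [← e1, hzv]
    simp [mul_assoc]
  refine ⟨?_, rfl, fun u hu => hKD u ?_, fun u hu v hv => hKc u ?_ v ?_, ?_⟩
  · exact hKn.sublist ((((List.Sublist.refl _).cons e).cons n).cons g |>.cons a)
  · simp only [List.mem_cons] at hu ⊢; tauto
  · simp only [List.mem_cons] at hu ⊢; tauto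
  · simp only [List.mem_cons] at hv ⊢; tauto
  have hsq : ∀ j k : G, Commute j k → j * j = 1 → k * k = 1 → (j * k)⁻¹ = j * k := fun j k hjk h1 h2 =>
    inv_eq_of_mul_eq_one_right (by
      calc j * k * (j * k) = j * (k * j) * k := by group
        _ = j * (j * k) * k := by rw [hjk.eq]
        _ = (j * j) * (k * k) := by group
        _ = 1 := by rw [h1, h2, one_mul])
  have sa := fun u (hu : u ∈ [a, g, n, e, f]) => Trans3.sq_one hD.1 (hm u hu)
  have cagne : Commute (a * g) (n * e) :=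
    ((hc a (by simp) n (by simp)).mul_right (hc a (by simp) e (by simp))).mul_left
      ((hc g (by simp) n (by simp)).mul_right (hc g (by simp) e (by simp)))
  have hi : (a * g * (n * e))⁻¹ = a * g * (n * e) := by
    rw [_root_.mul_inv_rev, hsq n e (hc n (by simp) e (by simp)) (sa n (by simp)) (sa e (by simp)),
      hsq a g (hc a (by simp) g (by simp)) (sa a (by simp)) (sa g (by simp))]
    exact cagne.symm.eq
  have ht : t₁ * t₂ * t₃ = a * g * (n * e) * f := by
    rw [← hi, ← hzf, hzv]; group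
  simp only [List.prod_cons, List.prod_nil, mul_one]
  rw [← mul_assoc, ht]
  simp [mul_assoc]

/-- A relation between pairwise commuting members has even length. -/
theorem m24_even : ∀ (k : ℕ) (l : List G), l.length = k → (∀ u ∈ l, u ∈ D) →
    (∀ u ∈ l, ∀ v ∈ l, Commute u v) → l.prod = 1 → Even k := by
  classical
  intro k
  induction k using Nat.strong_induction_on with
  | _ k ih =>
    intro l hlen hm hc hp
    by_cases hnd : l.Nodup
    · match l, hlen with
      | [], hlen => exact hlen ▸ Even.zero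
      | [u], _ =>
        exact absurd (by simpa using hp) (invol_ne_one (hD.1.1 u (hm u (by simp))))
      | [_, _], hlen => exact hlen ▸ even_two
      | [u, v, w], _ =>
        exfalso
        have hN := nice_m24 hD hP h
        obtain ⟨a, ha, -⟩ := hN.pair
        exact hN.noRel_succ ha (noRel_two' (hN.group_Db ha)) _ hnd rfl hm hc hp
      | [_, _, _, _], hlen => exact hlen ▸ ⟨2, rfl⟩
      | a :: g :: n :: e :: f :: r, hlen =>
        have hsub : ∀ u ∈ [a, g, n, e, f], u ∈ a :: g :: n :: e :: f :: r := fun u hu => by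
          rw [show a :: g :: n :: e :: f :: r = [a, g, n, e, f] ++ r from rfl]
          exact List.mem_append_left _ hu
        obtain ⟨t₁, t₂, t₃, ht⟩ := m24_five hD hP h
          (hnd.sublist (List.sublist_append_left [a, g, n, e, f] r))
          (fun u hu => hm u (hsub u hu)) fun u hu v hv => hc u (hsub u hu) v (hsub v hv)
        have hr : ∀ u ∈ r, u ∈ a :: g :: n :: e :: f :: r := fun u hu => by simp [hu]
        have hcross : ∀ u ∈ [t₁, t₂, t₃], ∀ v ∈ r, Commute u v := by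
          intro u hu v hv
          refine (commute_of_prod hD le_rfl ht (hm v (hr v hv)) ?_ u hu).symm
          exact Commute.list_prod_right _ _ fun w hw => hc v (hr v hv) w (hsub w hw)
        simp only [List.length_cons] at hlen
        have := ih (r.length + 3) (by omega) ([t₁, t₂, t₃] ++ r) (by simp) (fun u hu => by
            rcases List.mem_append.1 hu with hu | hu
            exacts [ht.2.2.1 u hu, hm u (hr u hu)])
          (fun u hu v hv => by
            rcases List.mem_append.1 hu with hu | hu <;> rcases List.mem_append.1 hv with hv | hv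
            exacts [ht.2.2.2.1 u hu v hv, hcross u hu v hv, (hcross v hv u hu).symm,
              hc u (hr u hu) v (hr v hv)])
          (by
            rw [List.prod_append, ht.2.2.2.2, ← List.prod_append]
            exact hp)
        obtain ⟨m, hm'⟩ := this
        exact ⟨m + 1, by omega⟩
    · obtain ⟨u, hu⟩ : ∃ u, List.Sublist [u, u] l := by
        simpa [List.nodup_iff_sublist] using hnd
      obtain ⟨r, hperm⟩ := hu.exists_perm_append
      have hsub : ∀ w ∈ r, w ∈ l := fun w hw => hperm.symm.subset (List.mem_append_right _ hw)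
      have hl : l.prod = u * u * r.prod := by
        rw [perm_prod hperm hc, List.prod_append]; simp
      rw [hp, Trans3.sq_one hD.1 (hm u (hu.subset (by simp))), one_mul] at hl
      have hlen' : r.length + 2 = k := by
        rw [← hlen, hperm.length_eq, List.length_append]; simp; omega
      obtain ⟨m, hm'⟩ := ih r.length (by omega) r rfl (fun w hw => hm w (hsub w hw))
        (fun w hw w' hw' => hc w (hsub w hw) w' (hsub w' hw')) hl.symm
      exact ⟨m + 1, by omega⟩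

/-- The parity on the group of a commuting set of members. -/
theorem exists_parity {E : Set G} (hE : E ⊆ D) (hc : ∀ u ∈ E, ∀ v ∈ E, Commute u v) :
    ∃ φ : ↥(Subgroup.closure E) →* ℤˣ,
      ∀ u (hu : u ∈ E), φ ⟨u, Subgroup.subset_closure hu⟩ = -1 := by
  have hex : ∀ x : ↥(Subgroup.closure E), ∃ l : List G, (∀ u ∈ l, u ∈ E) ∧ l.prod = x := by
    rintro ⟨x, hx⟩
    induction hx using Subgroup.closure_induction with
    | mem u hu => exact ⟨[u], by simpa using hu, by simp⟩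
    | one => exact ⟨[], by simp, rfl⟩
    | mul u v _ _ h1 h2 =>
      obtain ⟨l, hl, e⟩ := h1
      obtain ⟨l', hl', e'⟩ := h2
      exact ⟨l ++ l', fun w hw => (List.mem_append.1 hw).elim (hl w) (hl' w), by
        rw [List.prod_append, e, e']⟩
    | inv u _ h1 =>
      obtain ⟨l, hl, e⟩ := h1
      refine ⟨l.reverse, fun w hw => hl w (List.mem_reverse.1 hw), ?_⟩
      simp only at e ⊢
      rw [← e, List.prod_inv_reverse, List.map_congr_left (f := fun z => z⁻¹) (g := id)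
        fun w hw => inv_eq hD.1 (hE (hl w hw)), List.map_id]
  choose f hf hp using hex
  have wd : ∀ {l l' : List G}, (∀ u ∈ l, u ∈ E) → (∀ u ∈ l', u ∈ E) → l.prod = l'.prod →
      (-1 : ℤˣ) ^ l.length = (-1) ^ l'.length := by
    intro l l' hl hl' e
    have hall : ∀ w ∈ l ++ l'.reverse, w ∈ E := fun w hw => (List.mem_append.1 hw).elim (hl w)
      fun hw => hl' w (List.mem_reverse.1 hw)
    have hev := m24_even hD hP h _ (l ++ l'.reverse) rfl (fun w hw => hE (hall w hw))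
      (fun u hu v hv => hc u (hall u hu) v (hall v hv)) (by
        rw [List.prod_append, e, show l'.reverse.prod = l'.prod⁻¹ by
          rw [List.prod_inv_reverse, List.map_congr_left (f := fun z => z⁻¹) (g := id)
            fun w hw => inv_eq hD.1 (hE (hl' w hw)), List.map_id], mul_inv_cancel])
    rw [List.length_append, List.length_reverse] at hev
    rw [neg_one_pow_eq_ite, neg_one_pow_eq_ite]
    exact if_congr (Nat.even_add.1 hev) rfl rfl
  refine ⟨MonoidHom.mk' (fun x => (-1 : ℤˣ) ^ (f x).length) fun x y => ?_, fun u hu => ?_⟩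
  · rw [← pow_add, ← List.length_append]
    exact wd (hf _) (fun w hw => (List.mem_append.1 hw).elim (hf x w) (hf y w))
      (by rw [hp, List.prod_append, hp, hp]; rfl)
  · refine (wd (l' := [u]) (hf _) (by simpa using hu) (by rw [hp]; simp)).trans ?_
    simp

/-- Conjugation permuting a commuting set keeps the parity. -/
theorem parity_conj {E : Set G} {A : Subgroup G} (eA : A = Subgroup.closure E) (φ : ↥A →* ℤˣ)
    (hφ : ∀ u (hu : u ∈ E), φ ⟨u, eA ▸ Subgroup.subset_closure hu⟩ = -1) {g : G}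
    (hg : ∀ u ∈ E, g * u * g⁻¹ ∈ E) {x : G} (hx : x ∈ A) (hgx : g * x * g⁻¹ ∈ A) :
    φ ⟨_, hgx⟩ = φ ⟨x, hx⟩ := by
  have hx' := hx
  rw [eA] at hx'
  suffices ∀ z (hz : z ∈ Subgroup.closure E), ∃ hgz : g * z * g⁻¹ ∈ A,
      φ ⟨_, hgz⟩ = φ ⟨z, eA ▸ hz⟩ from (this x hx').choose_spec
  intro z hz
  induction hz using Subgroup.closure_induction with
  | mem u hu => exact ⟨eA ▸ Subgroup.subset_closure (hg u hu), (hφ _ (hg u hu)).trans (hφ u hu).symm⟩
  | one => exact ⟨by simp, congrArg φ (Subtype.ext (by simp))⟩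
  | mul u v _ _ h1 h2 =>
    obtain ⟨a, ha⟩ := h1
    obtain ⟨b, hb⟩ := h2
    refine ⟨by simpa [mul_assoc] using mul_mem a b, ?_⟩
    refine Eq.trans ?_ (((congrArg₂ (· * ·) ha hb)).trans (map_mul φ ⟨u, _⟩ ⟨v, _⟩).symm)
    rw [← map_mul]
    exact congrArg φ (Subtype.ext (by simp [mul_assoc]))
  | inv u _ h1 =>
    obtain ⟨a, ha⟩ := h1
    refine ⟨by simpa [mul_assoc] using inv_mem a, ?_⟩
    refine Eq.trans ?_ ((congrArg (·⁻¹) ha).trans (map_inv φ ⟨u, _⟩).symm)
    rw [← map_inv]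
    exact congrArg φ (Subtype.ext (by simp [mul_assoc]))

/-- In a maximal commuting set, an element of the group commuting with `y` comes from the members
commuting with `y`. -/
theorem mem_closure_fix {E : Set G} (hE : E ⊆ D) (hc : ∀ u ∈ E, ∀ v ∈ E, Commute u v)
    (hmax : ∀ z ∈ D, (∀ u ∈ E, Commute z u) → z ∈ E) {o y : G} (ho : o ∈ E) (hy : y ∈ D)
    (hoy : Commute o y) {x : G} (hx : x ∈ Subgroup.closure E) (hxy : Commute x y) :
    x ∈ Subgroup.closure {u | u ∈ E ∧ Commute u y} := by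
  classical
  obtain ⟨A, eA⟩ : ∃ A : Subgroup G, A = Subgroup.closure {u | u ∈ E ∧ Commute u y} := ⟨_, rfl⟩
  rw [← eA]
  have mA : ∀ u ∈ E, Commute u y → u ∈ A := fun u hu h' => eA ▸ Subgroup.subset_closure ⟨hu, h'⟩
  have short : ∀ (k : ℕ) (l : List G), l.length = k → (∀ u ∈ l, u ∈ E) →
      ∃ r : List G, r.Nodup ∧ r.length ≤ 4 ∧ (∀ u ∈ r, u ∈ E) ∧ r.prod = l.prod := by
    intro k
    induction k using Nat.strong_induction_on with
    | _ k ih =>
      intro l hlen hl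
      by_cases hnd : l.Nodup
      · by_cases h4 : l.length ≤ 4
        · exact ⟨l, hnd, h4, hl, rfl⟩
        match l, hlen, h4 with
        | [], _, h4 => exact absurd (by simp) h4
        | [_], _, h4 => exact absurd (by simp) h4
        | [_, _], _, h4 => exact absurd (by simp) h4
        | [_, _, _], _, h4 => exact absurd (by simp) h4
        | [_, _, _, _], _, h4 => exact absurd (by simp) h4
        | a :: g :: n :: e :: f :: r, hlen, _ =>
          have hsub : ∀ u ∈ [a, g, n, e, f], u ∈ E := fun u hu => hl u (by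
            rw [show a :: g :: n :: e :: f :: r = [a, g, n, e, f] ++ r from rfl]
            exact List.mem_append_left _ hu)
          obtain ⟨t₁, t₂, t₃, ht⟩ := m24_five hD hP h
            (hnd.sublist (List.sublist_append_left [a, g, n, e, f] r))
            (fun u hu => hE (hsub u hu)) fun u hu v hv => hc u (hsub u hu) v (hsub v hv)
          have htE : ∀ t ∈ [t₁, t₂, t₃], t ∈ E := fun t ht' => hmax t (ht.2.2.1 t ht') fun v hv =>
            (commute_of_prod hD le_rfl ht (hE hv)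
              (Commute.list_prod_right _ _ fun w hw => hc v hv w (hsub w hw)) t ht').symm
          simp only [List.length_cons] at hlen
          obtain ⟨q, q1, q2, q3, q4⟩ := ih (r.length + 3) (by omega) ([t₁, t₂, t₃] ++ r)
            (by simp) fun u hu => by
              rcases List.mem_append.1 hu with hu | hu
              exacts [htE u hu, hl u (by simp [hu])]
          refine ⟨q, q1, q2, q3, q4.trans ?_⟩
          rw [List.prod_append, ht.2.2.2.2, ← List.prod_append]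
          rfl
      · obtain ⟨u, hu⟩ : ∃ u, List.Sublist [u, u] l := by
          simpa [List.nodup_iff_sublist] using hnd
        obtain ⟨r, hperm⟩ := hu.exists_perm_append
        have hsub : ∀ w ∈ r, w ∈ l := fun w hw => hperm.symm.subset (List.mem_append_right _ hw)
        have hlen' : r.length + 2 = k := by
          rw [← hlen, hperm.length_eq, List.length_append]; simp; omega
        obtain ⟨q, q1, q2, q3, q4⟩ := ih r.length (by omega) r rfl fun w hw => hl w (hsub w hw)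
        refine ⟨q, q1, q2, q3, q4.trans ?_⟩
        rw [perm_prod hperm fun a ha b hb => hc a (hl a ha) b (hl b hb), List.prod_append]
        have := Trans3.sq_one hD.1 (hE (hl u (hu.subset (by simp))))
        simp [this]
  obtain ⟨l, hl, hlx⟩ : ∃ l : List G, (∀ u ∈ l, u ∈ E) ∧ l.prod = x := by
    clear hxy
    induction hx using Subgroup.closure_induction with
    | mem u hu => exact ⟨[u], by simpa using hu, by simp⟩
    | one => exact ⟨[], by simp, rfl⟩
    | mul u v _ _ h1 h2 =>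
      obtain ⟨l, hl, e⟩ := h1
      obtain ⟨l', hl', e'⟩ := h2
      exact ⟨l ++ l', fun w hw => (List.mem_append.1 hw).elim (hl w) (hl' w), by
        rw [List.prod_append, e, e']⟩
    | inv u _ h1 =>
      obtain ⟨l, hl, e⟩ := h1
      refine ⟨l.reverse, fun w hw => hl w (List.mem_reverse.1 hw), ?_⟩
      rw [← e, List.prod_inv_reverse, List.map_congr_left (f := fun z => z⁻¹) (g := id)
        fun w hw => inv_eq hD.1 (hE (hl w hw)), List.map_id]
  obtain ⟨r, hnd, h4, hr, hrp⟩ := short _ l rfl hl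
  rw [← hlx, ← hrp] at hxy ⊢
  have small : ∀ q : List G, q.Nodup → q.length ≤ 3 → (∀ u ∈ q, u ∈ E) → Commute q.prod y →
      q.prod ∈ A := by
    intro q q1 q2 q3 q4
    refine Subgroup.list_prod_mem _ fun u hu => mA u (q3 u hu) (Commute.symm ?_)
    exact commute_of_prod hD q2 ⟨q1, rfl, fun w hw => hE (q3 w hw),
      fun w hw w' hw' => hc w (q3 w hw) w' (q3 w' hw'), rfl⟩ hy q4.symm u hu
  by_cases h3 : r.length ≤ 3
  · exact small r hnd h3 hr hxy
  by_cases hex : ∃ u ∈ r, Commute u y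
  · obtain ⟨u, hu, huy⟩ := hex
    have hp := perm_prod (List.perm_cons_erase hu) fun a ha b hb => hc a (hr a ha) b (hr b hb)
    rw [List.prod_cons] at hp
    rw [hp] at hxy ⊢
    refine mul_mem (mA u (hr u hu) huy) (small _ (hnd.erase u) (by
      rw [List.length_erase_of_mem hu]; omega) (fun w hw => hr w (List.mem_of_mem_erase hw)) ?_)
    simpa using huy.inv_left.mul_left hxy
  · simp only [not_exists, not_and] at hex
    match r, hnd, hr, h3, h4, hxy, hex with
    | [a, g, n, e], hnd, hr, _, _, hxy, hex =>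
      have hs : ∀ u ∈ [o, a, g, n, e], u ∈ E := fun u hu => by
        rcases List.mem_cons.1 hu with rfl | hu
        exacts [ho, hr u hu]
      obtain ⟨t₁, t₂, t₃, ht⟩ := m24_five hD hP h
        (List.nodup_cons.2 ⟨fun hm => hex o hm hoy, hnd⟩) (fun u hu => hE (hs u hu))
        fun u hu v hv => hc u (hs u hu) v (hs v hv)
      have htE : ∀ t ∈ [t₁, t₂, t₃], t ∈ E := fun t ht' => hmax t (ht.2.2.1 t ht') fun v hv =>
        (commute_of_prod hD le_rfl ht (hE hv)
          (Commute.list_prod_right _ _ fun w hw => hc v hv w (hs w hw)) t ht').symm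
      have hpy : Commute [o, a, g, n, e].prod y := by
        rw [List.prod_cons]; exact hoy.mul_left hxy
      rw [show [a, g, n, e].prod = o⁻¹ * [o, a, g, n, e].prod from
        (inv_mul_cancel_left o _).symm.trans (congrArg _ List.prod_cons.symm), ← ht.2.2.2.2]
      refine mul_mem (inv_mem (mA o ho hoy)) (small _ ht.1 le_rfl htE ?_)
      rw [ht.2.2.2.2]; exact hpy
    | [], _, _, h3, _, _, _ => simp at h3
    | [_], _, _, h3, _, _, _ => simp at h3
    | [_, _], _, _, h3, _, _, _ => simp at h3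
    | [_, _, _], _, _, h3, _, _, _ => simp at h3
    | _ :: _ :: _ :: _ :: _ :: _, _, _, _, h4, _, _ => simp at h4 <;> omega

omit hP h in
/-- A maximal commuting set is what its normaliser permutes. -/
theorem perm_of_normalizer {E : Set G} {A : Subgroup G} (eA : A = Subgroup.closure E)
    (hE : E ⊆ D) (hc : ∀ u ∈ E, ∀ v ∈ E, Commute u v)
    (hmax : ∀ z ∈ D, (∀ u ∈ E, Commute z u) → z ∈ E) {g : G}
    (hg : g ∈ Subgroup.normalizer (A : Set G)) : ∀ u ∈ E, g * u * g⁻¹ ∈ E := by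
  intro u hu
  refine hmax _ (hD.2.1 g u (hE hu)) fun v hv => ?_
  refine commute_closure hc ?_ (Subgroup.subset_closure hv)
  rw [← eA]
  exact (Subgroup.mem_normalizer_iff.1 hg u).1 (eA ▸ Subgroup.subset_closure hu)

/-- There is a sign on a Sylow 2-subgroup, negative on all its members. -/
theorem m24_sign : ∃ (H : Subgroup G) (ψ : ↥H →* ℤˣ), Odd H.index ∧
    ∀ u (hu : u ∈ H), u ∈ D → ψ ⟨u, hu⟩ = -1 := by
  classical
  have hN := nice_m24 hD hP h
  have hPre := pre_of_group hD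
  have hL : ∀ x ∈ D, Lvl (Db D x) := fun _ hx => m24_lvl_below hD hP h hx
  obtain ⟨x, hx, y, hy, hxy, hQ, π₀, hπ₀⟩ := card_Ld24 hD hP h
  have hset : nbrs D x ∩ nbrs D y = CN D x y := Set.ext fun z =>
    ⟨fun ⟨⟨h1, _, h2⟩, _, _, h3⟩ => ⟨h1, h2, h3⟩, fun ⟨h1, h2, h3⟩ =>
      ⟨⟨h1, fun c => hxy (c ▸ h3).symm, h2⟩, h1, fun c => hxy (c ▸ h2), h3⟩⟩
  obtain ⟨L, eL⟩ : ∃ L : Subgroup G, L = Subgroup.closure (CN D x y) := ⟨_, rfl⟩
  have hLd : Ld D x y = L := by rw [eL, ← hset]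
  have hLc : ∀ z ∈ L, Commute z x ∧ Commute z y := fun z hz =>
    Up.closure_CN hN hP hL (m24_commonThree hD hP h) (eL ▸ hz)
  have hSL : CN D x y ⊆ L := eL ▸ Subgroup.subset_closure
  -- the sign on `L`
  obtain ⟨χ, hχ⟩ : ∃ χ : ↥L →* ℤˣ, ∀ s (hs : s ∈ CN D x y), χ ⟨s, hSL hs⟩ = -1 := by
    obtain ⟨π, hπ⟩ : ∃ π : ↥L →* Equiv.Perm (Fin 3), Function.Surjective π := hLd ▸ ⟨π₀, hπ₀⟩
    refine ⟨Equiv.Perm.sign.comp π, fun s hs => (Int.units_eq_one_or _).resolve_left fun h1 => ?_⟩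
    have hall : ∀ t (ht : t ∈ CN D x y), Equiv.Perm.sign (π ⟨t, hSL ht⟩) = 1 := by
      intro t ht
      obtain ⟨k, hk, rfl⟩ := Up.trans_common hN hP hL hx hy hxy hs.1 hs.2.1 hs.2.2 ht.1 ht.2.1 ht.2.2
      have hk' : k ∈ L := eL ▸ hk
      rw [show (⟨k * s * k⁻¹, hSL ht⟩ : ↥L) = ⟨k, hk'⟩ * ⟨s, hSL hs⟩ * ⟨k, hk'⟩⁻¹ from rfl,
        map_mul, map_mul, map_mul, map_mul,
        show Equiv.Perm.sign (π ⟨s, hSL hs⟩) = 1 from h1, mul_one, ← map_mul, ← map_mul,
        mul_inv_cancel, map_one, map_one]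
    have key : ∀ z (hz : z ∈ Subgroup.closure (CN D x y)),
        Equiv.Perm.sign (π ⟨z, eL ▸ hz⟩) = 1 := by
      intro z hz
      induction hz using Subgroup.closure_induction with
      | mem g hg => exact hall g hg
      | one => exact map_one (Equiv.Perm.sign.comp π)
      | mul g g' hg hg' i1 i2 =>
        exact (map_mul (Equiv.Perm.sign.comp π) ⟨g, eL ▸ hg⟩ ⟨g', eL ▸ hg'⟩).trans
          ((congrArg₂ (· * ·) i1 i2).trans (one_mul 1))
      | inv g hg i1 =>
        exact (map_inv (Equiv.Perm.sign.comp π) ⟨g, eL ▸ hg⟩).trans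
          ((congrArg (·⁻¹) i1).trans inv_one)
    obtain ⟨⟨z, hz⟩, e⟩ := hπ (Equiv.swap 0 1)
    have h2 := key z (eL ▸ hz)
    rw [e, Equiv.Perm.sign_swap (by decide)] at h2
    exact absurd h2 (by decide)
  -- the flag and the Sylow subgroup of `L`
  obtain ⟨e₀, he₀, ex, ey⟩ := Up.exists_common hN hP hL hx hy hxy
  have nx : x ∈ nbrs D e₀ := ⟨hx, fun c => hxy (c ▸ ey), ex⟩
  have ny : y ∈ nbrs D e₀ := ⟨hy, fun c => hxy (c ▸ ex).symm, ey⟩
  obtain ⟨F₀, hF₀⟩ := m23_plane (hN.group_Db he₀) (m24_prim_below hD hP h he₀)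
    (m24_below hD hP h he₀) (bar_mem nx) (bar_mem ny) fun c => hxy ((commute_bar hPre nx ny).1 c)
  obtain ⟨F, hF⟩ := plane_up hN he₀ nx ny hxy hF₀
  haveI : Fact (Nat.Prime 2) := ⟨Nat.prime_two⟩
  have hFL : Subgroup.closure F ≤ L := (Subgroup.closure_le _).2 fun u hu => hSL (hF.sub hu)
  obtain ⟨P, hP'⟩ := IsPGroup.exists_le_sylow
    ((isPGroup_two_closure_of_commute hF.clique
      fun u hu => Trans3.sq_one hD.1 (hF.sub hu).1).of_equiv (Subgroup.subgroupOfEquivOfLe hFL).symm)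
  obtain ⟨T, eT⟩ : ∃ T : Subgroup G, T = (P : Subgroup ↥L).map L.subtype := ⟨_, rfl⟩
  have hTL : T ≤ L := eT ▸ Subgroup.map_subtype_le _
  have hT2 : IsPGroup 2 T := eT ▸ P.isPGroup'.map L.subtype
  have hTcard : 2 ^ 13 ≤ Nat.card T := by
    rw [eT, Subgroup.card_map_of_injective L.subtype_injective]
    refine Nat.le_of_dvd Nat.card_pos (P.pow_dvd_card_of_pow_dvd_card ?_)
    rw [hLd] at hQ
    refine Dvd.dvd.trans ?_ (Subgroup.card_quotient_dvd_card (Subgroup.center ↥L))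
    rw [hQ]
    norm_num
  obtain ⟨C₀, eC⟩ : ∃ C₀ : Set G, C₀ = {z | z ∈ D ∧ z ∈ T} := ⟨_, rfl⟩
  have hFC : F ⊆ C₀ := fun u hu => eC ▸ ⟨(hF.sub hu).1, eT ▸
    ⟨⟨u, hFL (Subgroup.subset_closure hu)⟩, hP' (Subgroup.subset_closure hu), rfl⟩⟩
  have hC₀ : ∀ u ∈ C₀, u ∈ D ∧ Commute u x ∧ Commute u y ∧ ∀ v ∈ C₀, Commute u v := by
    intro u hu
    rw [eC] at hu ⊢
    exact ⟨hu.1, (hLc u (hTL hu.2)).1, (hLc u (hTL hu.2)).2,
      fun v hv => commute_of_mem_two_group hD.1 hT2 hu.1 hv.1 hu.2 hv.2⟩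
  -- the two maximal commuting sets
  have base : ∀ w : G, (∀ u ∈ C₀, Commute u w) → (∀ z ∈ Pp D F w, ∀ z' ∈ Pp D F w, Commute z z') →
      w ∈ D → (∀ z ∈ Pp D F w, ∀ u ∈ C₀, Commute z u) ∧
      (∀ z ∈ D, (∀ v ∈ Pp D F w, Commute z v) → z ∈ Pp D F w) := by
    intro w hw hcl hwD
    refine ⟨fun z hz u hu => hcl z hz u ⟨(hC₀ u hu).1, fun v hv => (hC₀ u hu).2.2.2 v (hFC hv),
      hw u hu⟩, fun z hz hall => ⟨hz, fun u hu => hall u ⟨(hF.sub hu).1,
        fun v hv => hF.clique u hu v hv, hw u (hFC hu)⟩, hall w ⟨hwD,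
        fun v hv => (hw v (hFC hv)).symm, Commute.refl w⟩⟩⟩
  obtain ⟨E, eE⟩ : ∃ E : Set G, E = Pp D F x := ⟨_, rfl⟩
  obtain ⟨E', eE'⟩ : ∃ E' : Set G, E' = Pp D F y := ⟨_, rfl⟩
  obtain ⟨hEC, hEmax⟩ := base x (fun u hu => (hC₀ u hu).2.1) hF.cx hx
  obtain ⟨hEC', hEmax'⟩ := base y (fun u hu => (hC₀ u hu).2.2.1) hF.cy hy
  rw [← eE] at hEC hEmax
  rw [← eE'] at hEC' hEmax'
  have hEc : ∀ u ∈ E, ∀ v ∈ E, Commute u v := eE ▸ hF.cx
  have hEc' : ∀ u ∈ E', ∀ v ∈ E', Commute u v := eE' ▸ hF.cy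
  have hED : E ⊆ D := eE ▸ fun u hu => hu.1
  have hED' : E' ⊆ D := eE' ▸ fun u hu => hu.1
  obtain ⟨o, hoF⟩ := hF.ne
  have hoE : o ∈ E := eE ▸ ⟨(hF.sub hoF).1, fun v hv => hF.clique o hoF v hv, (hF.sub hoF).2.1.symm⟩
  have hoE' : o ∈ E' :=
    eE' ▸ ⟨(hF.sub hoF).1, fun v hv => hF.clique o hoF v hv, (hF.sub hoF).2.2.symm⟩
  have hOS : ∀ {u : G}, u ∈ E → Commute u y → u ∈ CN D x y ∧ u ∈ E' := fun {u} hu huy => by
    rw [eE] at hu
    rw [eE']
    exact ⟨⟨hu.1, hu.2.2.symm, huy.symm⟩, hu.1, hu.2.1, huy⟩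
  have hOS' : ∀ {u : G}, u ∈ E' → Commute u x → u ∈ CN D x y ∧ u ∈ E := fun {u} hu hux => by
    rw [eE'] at hu
    rw [eE]
    exact ⟨⟨hu.1, hux.symm, hu.2.2.symm⟩, hu.1, hu.2.1, hux⟩
  -- the Sylow subgroup of `L` permutes both
  have hTfix : ∀ {w : G} {K : Set G}, K = Pp D F w → (∀ u ∈ T, Commute u w) →
      (∀ z ∈ K, ∀ u ∈ C₀, Commute z u) → ∀ t ∈ T, ∀ u ∈ K, t * u * t⁻¹ ∈ K := by
    intro w K eK hw hKC t ht u hu
    have hu' := hu
    rw [eK] at hu'
    rw [eK]
    refine ⟨hD.2.1 t u hu'.1, fun v hv => ?_, ?_⟩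
    · have hv' : t⁻¹ * v * t ∈ C₀ := by
        have hvC := hFC hv
        rw [eC] at hvC ⊢
        exact ⟨by simpa using hD.2.1 t⁻¹ v hvC.1, mul_mem (mul_mem (inv_mem ht) hvC.2) ht⟩
      have := (commute_conj_iff t u _).2 (hKC u hu _ hv')
      rwa [show t * (t⁻¹ * v * t) * t⁻¹ = v by group] at this
    · nth_rw 1 [← conj_eq_of_commute (hw t ht)]
      exact (commute_conj_iff t u w).2 hu'.2.2
  have hTE := hTfix eE (fun u hu => (hLc u (hTL hu)).1) hEC
  have hTE' := hTfix eE' (fun u hu => (hLc u (hTL hu)).2) hEC'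
  obtain ⟨A, eA⟩ : ∃ A : Subgroup G, A = Subgroup.closure E := ⟨_, rfl⟩
  obtain ⟨A', eA'⟩ : ∃ A' : Subgroup G, A' = Subgroup.closure E' := ⟨_, rfl⟩
  have hnorm : ∀ {K : Set G} {g : G}, (∀ u ∈ K, g * u * g⁻¹ ∈ K) →
      g ∈ Subgroup.normalizer (Subgroup.closure K : Set G) := by
    intro K g hg
    have himg : MulAut.conj g '' K = K := Set.eq_of_subset_of_ncard_le
      (by rintro _ ⟨u, hu, rfl⟩; exact hg u hu)
      (Set.ncard_image_of_injective K (MulAut.conj g).injective).ge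
    have hmap : (Subgroup.closure K).map (MulAut.conj g).toMonoidHom = Subgroup.closure K := by
      rw [MonoidHom.map_closure]
      exact congrArg _ himg
    rw [Subgroup.mem_normalizer_iff]
    intro u
    constructor
    · intro hu
      have := Subgroup.mem_map_of_mem (MulAut.conj g).toMonoidHom hu
      rwa [hmap] at this
    · intro hu
      rw [← hmap] at hu
      obtain ⟨v, hv, e⟩ := hu
      exact (mul_left_cancel (mul_right_cancel (show g * v * g⁻¹ = g * u * g⁻¹ from e))) ▸ hv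
  obtain ⟨M, eM⟩ : ∃ M : Subgroup G, M = A' ⊓ Subgroup.normalizer (A : Set G) := ⟨_, rfl⟩
  have hTA : T ≤ Subgroup.normalizer (A : Set G) := fun t ht => eA ▸ hnorm (hTE t ht)
  have hTA' : T ≤ Subgroup.normalizer (A' : Set G) := fun t ht => eA' ▸ hnorm (hTE' t ht)
  have hTM : T ≤ Subgroup.normalizer (M : Set G) := fun t ht => by
    rw [Subgroup.mem_normalizer_iff, eM]
    intro u
    simp only [Subgroup.mem_inf, (Subgroup.mem_normalizer_iff.1 (hTA' ht) u)]
    refine and_congr_right fun _ => ⟨fun hu => mul_mem (mul_mem (hTA ht) hu) (inv_mem (hTA ht)),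
      fun hu => ?_⟩
    have := mul_mem (mul_mem (inv_mem (hTA ht)) hu) (hTA ht)
    rwa [show t⁻¹ * (t * u * t⁻¹) * t = u by group] at this
  obtain ⟨φ₀, hφ₀⟩ := exists_parity hD hP h hED' hEc'
  let φ' : ↥M →* ℤˣ := φ₀.comp (Subgroup.inclusion (eM ▸ eA' ▸ inf_le_left : M ≤ _))
  have hMA' : ∀ {u : G}, u ∈ M → u ∈ Subgroup.closure E' := fun {u} hu => by
    rw [eM, eA'] at hu; exact hu.1
  have hfixpt : ∀ u ∈ Subgroup.closure E', Commute u x →
      u ∈ Subgroup.closure {v | v ∈ E' ∧ Commute v x} := fun u hu hux =>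
    mem_closure_fix hD hP h hED' hEc' hEmax' hoE' hx (hF.sub hoF).2.1.symm hu hux
  obtain ⟨χB, hχM, hχT⟩ := exists_glue hTM φ' (χ.comp (Subgroup.inclusion hTL))
    (fun u hu hu' => by
      have key : ∀ z ∈ Subgroup.closure {v | v ∈ E' ∧ Commute v x},
          ∃ (a : z ∈ Subgroup.closure E') (b : z ∈ L), φ₀ ⟨z, a⟩ = χ ⟨z, b⟩ := by
        intro z hz
        induction hz using Subgroup.closure_induction with
        | mem v hv =>
          exact ⟨Subgroup.subset_closure hv.1, hSL (hOS' hv.1 hv.2).1,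
            (hφ₀ v hv.1).trans (hχ v (hOS' hv.1 hv.2).1).symm⟩
        | one => exact ⟨one_mem _, one_mem _, (map_one φ₀).trans (map_one χ).symm⟩
        | mul v v' _ _ i1 i2 =>
          obtain ⟨a, b, i1⟩ := i1
          obtain ⟨a', b', i2⟩ := i2
          exact ⟨mul_mem a a', mul_mem b b', (map_mul φ₀ ⟨v, a⟩ ⟨v', a'⟩).trans
            ((congrArg₂ (· * ·) i1 i2).trans (map_mul χ ⟨v, b⟩ ⟨v', b'⟩).symm)⟩
        | inv v _ i1 =>
          obtain ⟨a, b, i1⟩ := i1
          exact ⟨inv_mem a, inv_mem b, (map_inv φ₀ ⟨v, a⟩).trans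
            ((congrArg (·⁻¹) i1).trans (map_inv χ ⟨v, b⟩).symm)⟩
      obtain ⟨a, b, e⟩ := key u (hfixpt u (hMA' hu) (hLc u (hTL hu')).1)
      exact e)
    (fun u hu t ht htu => parity_conj hD hP h rfl φ₀ hφ₀ (hTE' t ht) (hMA' hu) (hMA' htu))
  obtain ⟨B, eB⟩ : ∃ B : Subgroup G, B = M ⊔ T := ⟨_, rfl⟩
  have hBA : B ≤ Subgroup.normalizer (A : Set G) := eB ▸ sup_le (eM ▸ inf_le_right) hTA
  have hBy : ∀ b ∈ B, Commute b y := by
    intro b hb
    have : B ≤ Subgroup.centralizer ({y} : Set G) := eB ▸ sup_le (fun u hu => by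
        refine (Subgroup.closure_le _).2 (fun v hv => ?_) (hMA' hu)
        rw [eE'] at hv
        exact Subgroup.mem_centralizer_singleton_iff.2 hv.2.2.eq)
      fun u hu => Subgroup.mem_centralizer_singleton_iff.2 (hLc u (hTL hu)).2.eq
    exact Subgroup.mem_centralizer_singleton_iff.1 (this hb)
  subst eB
  obtain ⟨φ₁, hφ₁⟩ := exists_parity hD hP h hED hEc
  subst eA
  obtain ⟨ψ, hψA, -⟩ := exists_glue hBA φ₁ χB
    (fun u hu hu' => by
      have key : ∀ z ∈ Subgroup.closure {v | v ∈ E ∧ Commute v y},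
          ∃ (a : z ∈ Subgroup.closure E) (b : z ∈ M ⊔ T), φ₁ ⟨z, a⟩ = χB ⟨z, b⟩ := by
        intro z hz
        induction hz using Subgroup.closure_induction with
        | mem v hv =>
          have hvM : v ∈ M := by
            rw [eM, eA']
            refine ⟨Subgroup.subset_closure (hOS hv.1 hv.2).2, hnorm fun w hw => ?_⟩
            rwa [conj_eq_of_commute (hEc v hv.1 w hw)]
          exact ⟨Subgroup.subset_closure hv.1, Subgroup.mem_sup_left hvM,
            (hφ₁ v hv.1).trans ((hφ₀ v (hOS hv.1 hv.2).2).symm.trans (hχM v hvM).symm)⟩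
        | one => exact ⟨one_mem _, one_mem _, (map_one φ₁).trans (map_one χB).symm⟩
        | mul v v' _ _ i1 i2 =>
          obtain ⟨a, b, i1⟩ := i1
          obtain ⟨a', b', i2⟩ := i2
          exact ⟨mul_mem a a', mul_mem b b', (map_mul φ₁ ⟨v, a⟩ ⟨v', a'⟩).trans
            ((congrArg₂ (· * ·) i1 i2).trans (map_mul χB ⟨v, b⟩ ⟨v', b'⟩).symm)⟩
        | inv v _ i1 =>
          obtain ⟨a, b, i1⟩ := i1
          exact ⟨inv_mem a, inv_mem b, (map_inv φ₁ ⟨v, a⟩).trans
            ((congrArg (·⁻¹) i1).trans (map_inv χB ⟨v, b⟩).symm)⟩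
      obtain ⟨a, b, e⟩ := key u (mem_closure_fix hD hP h hED hEc hEmax hoE hy
        (hF.sub hoF).2.2.symm hu (hBy u hu'))
      exact e)
    (fun u hu b hb hbu => parity_conj hD hP h rfl φ₁ hφ₁
      (perm_of_normalizer hD rfl hED hEc hEmax (hBA hb)) hu hbu)
  obtain ⟨H, eH⟩ : ∃ H : Subgroup G, H = Subgroup.closure E ⊔ (M ⊔ T) := ⟨_, rfl⟩
  have h2A : IsPGroup 2 (Subgroup.closure E) :=
    isPGroup_two_closure_of_commute hEc fun u hu => Trans3.sq_one hD.1 (hED hu)
  have h2M : IsPGroup 2 M := (isPGroup_two_closure_of_commute hEc'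
    fun u hu => Trans3.sq_one hD.1 (hED' hu)).to_le fun u hu => hMA' hu
  have h2H : IsPGroup 2 H :=
    eH ▸ h2A.to_sup_of_normal_left' (h2M.to_sup_of_normal_left' hT2 hTM) hBA
  -- a member of `H` belongs to `E`
  have hmemE : ∀ u ∈ H, u ∈ D → u ∈ E := fun u hu huD => hEmax u huD fun v hv =>
    commute_of_mem_two_group hD.1 h2H huD (hED hv) hu (eH ▸ Subgroup.mem_sup_left
      (Subgroup.subset_closure hv))
  -- its order
  have hB : Nat.card ↥(M ⊔ T) ≥ 16 * 2 ^ 13 := by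
    have horb := card_orbit_mul (H := M ⊔ T) (x := x)
      (O := (fun g => g * x * g⁻¹) '' (M ⊔ T : Subgroup G)) (fun g hg => ⟨g, hg, rfl⟩)
      (fun _ ⟨g, hg, e⟩ => ⟨g, hg, e⟩)
    have hT' : Nat.card T ≤ Nat.card ↥((M ⊔ T) ⊓ Subgroup.centralizer ({x} : Set G)) :=
      Nat.le_of_dvd Nat.card_pos (Subgroup.card_dvd_of_le
        fun t ht => Subgroup.mem_inf.2 ⟨Subgroup.mem_sup_right ht,
          Subgroup.mem_centralizer_singleton_iff.2 (hLc t (hTL ht)).1.eq⟩)
    have h16 : 16 ≤ ((fun g => g * x * g⁻¹) '' (M ⊔ T : Subgroup G)).ncard := by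
      refine hF.ny.trans (Set.ncard_le_ncard_of_injOn (fun v => v * y * x * (v * y)⁻¹) ?_ ?_)
      · rintro v ⟨hv, hvx⟩
        refine ⟨v * y, Subgroup.mem_sup_left ?_, rfl⟩
        have hv' : v ∈ E' := eE'.symm ▸ hv
        have hyE : y ∈ E' := eE'.symm ▸ (⟨hy, fun u hu => (hF.sub hu).2.2, Commute.refl y⟩ :
          y ∈ Pp D F y)
        rw [eM, eA']
        refine ⟨mul_mem (Subgroup.subset_closure hv') (Subgroup.subset_closure hyE), hnorm ?_⟩
        intro u hu
        have hxE : ∀ w ∈ C₀, v * y * w * (v * y)⁻¹ = w := fun w hw =>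
          conj_eq_of_commute ((hEC' v hv' w hw).mul_left (hEC' y hyE w hw))
        have hx' : v * y * x * (v * y)⁻¹ ∈ E := by
          rw [eE]
          refine ⟨hD.2.1 _ x hx, fun w hw => ?_, ?_⟩
          · rw [← hxE w (hFC hw)]
            exact (commute_conj_iff (v * y) x w).2 (hC₀ w (hFC hw)).2.1.symm
          · rw [show v * y * x * (v * y)⁻¹ = v * (y * x * y⁻¹) * v⁻¹ by group, inv_eq hD.1 hy,
              inv_eq hD.1 hv.1]
            exact (pair_conj_commute hD hv.1 hy hx hv.2.2 (fun c => hvx c.symm) hxy).symm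
        -- the image is commuting with all of `E`
        refine hEmax _ (hD.2.1 _ u (hED hu)) fun w hw => ?_
        have hpre : ∀ w ∈ E, (v * y)⁻¹ * w * (v * y) ∈ E := by
          intro w hw
          rw [eE]
          refine ⟨by simpa using hD.2.1 (v * y)⁻¹ w (hED hw), fun z hz => ?_, ?_⟩
          · rw [← commute_conj_iff (v * y), hxE z (hFC hz),
              show v * y * ((v * y)⁻¹ * w * (v * y)) * (v * y)⁻¹ = w by group]
            exact hEC w hw z (hFC hz)
          · rw [← commute_conj_iff (v * y),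
              show v * y * ((v * y)⁻¹ * w * (v * y)) * (v * y)⁻¹ = w by group]
            exact hEc w hw _ hx'
        have := (commute_conj_iff (v * y) u _).2 (hEc u hu _ (hpre w hw))
        rwa [show v * y * ((v * y)⁻¹ * w * (v * y)) * (v * y)⁻¹ = w by group] at this
      · rintro v ⟨hv, hvx⟩ w ⟨hw, hwx⟩ e
        by_contra hne
        obtain ⟨z, ez⟩ : ∃ z, z = y * x * y⁻¹ := ⟨_, rfl⟩
        have hzD : z ∈ D := ez ▸ hD.2.1 y x hx
        have e' : v * z * v⁻¹ = w * z * w⁻¹ := by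
          rw [ez]; simpa [mul_assoc] using e
        have hc : Commute (w * v) z := commute_of_conj_eq (by
          calc w * v * z * (w * v)⁻¹ = w * (v * z * v⁻¹) * w⁻¹ := by group
            _ = z := by
              rw [e', inv_eq hD.1 hw.1, show w * (w * z * w) * w = (w * w) * z * (w * w) by group,
                Trans3.sq_one hD.1 hw.1, one_mul, mul_one])
        have hvz := ((commute_mul_iff hD.1 hw.1 hv.1 hzD (Ne.symm hne)
          ((hF.cy w hw v hv))).1 hc.symm).2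
        apply hvx
        have hvy : Commute v y := hv.2.2
        rw [← commute_conj_iff y, conj_eq_of_commute hvy.symm, ← ez]
        exact hvz.symm
    rw [horb]
    exact Nat.mul_le_mul h16 (hTcard.trans hT')
  have hH : 17 * (16 * 2 ^ 13) ≤ Nat.card H := by
    have horb := card_orbit_mul (H := H) (x := y) (O := (fun g => g * y * g⁻¹) '' (H : Set G))
      (fun g hg => ⟨g, hg, rfl⟩) (fun _ ⟨g, hg, e⟩ => ⟨g, hg, e⟩)
    rw [horb]
    refine Nat.mul_le_mul ?_ (hB.trans (Nat.le_of_dvd Nat.card_pos (Subgroup.card_dvd_of_le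
      fun b hb => Subgroup.mem_inf.2 ⟨eH ▸ Subgroup.mem_sup_right hb,
        Subgroup.mem_centralizer_singleton_iff.2 (hBy b hb).eq⟩)))
    have hy1 : y ∉ (fun v => v * y * v⁻¹) '' {z | z ∈ Pp D F x ∧ ¬ Commute z y} := by
      rintro ⟨v, ⟨-, hvy⟩, e⟩
      exact hvy (commute_of_conj_eq e)
    have hinj : Set.InjOn (fun v => v * y * v⁻¹) {z | z ∈ Pp D F x ∧ ¬ Commute z y} := by
      rintro v ⟨hv, hvy⟩ w ⟨hw, hwy⟩ e
      by_contra hne
      have hc : Commute (w * v) y := commute_of_conj_eq (by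
        calc w * v * y * (w * v)⁻¹ = w * (v * y * v⁻¹) * w⁻¹ := by group
          _ = y := by
            rw [show v * y * v⁻¹ = w * y * w⁻¹ from e, inv_eq hD.1 hw.1,
              show w * (w * y * w) * w = (w * w) * y * (w * w) by group,
              Trans3.sq_one hD.1 hw.1, one_mul, mul_one])
      exact hvy ((commute_mul_iff hD.1 hw.1 hv.1 hy (Ne.symm hne) (hF.cx w hw v hv)).1
        hc.symm).2.symm
    have hsub : insert y ((fun v => v * y * v⁻¹) '' {z | z ∈ Pp D F x ∧ ¬ Commute z y}) ⊆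
        (fun g => g * y * g⁻¹) '' (H : Set G) := by
      rintro u (rfl | ⟨v, ⟨hv, -⟩, rfl⟩)
      · exact ⟨1, one_mem H, by simp⟩
      · exact ⟨v, eH ▸ Subgroup.mem_sup_left (Subgroup.subset_closure (eE.symm ▸ hv)), rfl⟩
    refine le_trans ?_ (Set.ncard_le_ncard hsub)
    rw [Set.ncard_insert_of_notMem hy1, hinj.ncard_image]
    exact Nat.succ_le_succ hF.nx
  subst eH
  refine ⟨_, ψ, ?_, fun u hu huD => ?_⟩
  · obtain ⟨k, hk⟩ := IsPGroup.iff_card.1 h2H
    have hidx := Subgroup.card_mul_index (Subgroup.closure E ⊔ (M ⊔ T))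
    rw [hk, m24_card hD hP h] at hidx
    rw [hk] at hH
    have hk22 : 22 ≤ k := by
      by_contra hc
      have := Nat.pow_le_pow_right (show 0 < 2 by norm_num) (show k ≤ 21 by omega)
      omega
    obtain ⟨j, rfl⟩ := Nat.exists_eq_add_of_le hk22
    rw [pow_add, mul_assoc (2 ^ 22)] at hidx
    have hodd : Odd (2 ^ j * (Subgroup.closure E ⊔ (M ⊔ T)).index) := by
      have : 2 ^ j * (Subgroup.closure E ⊔ (M ⊔ T)).index =
          3 ^ 16 * 5 ^ 2 * 7 ^ 3 * 11 * 13 * 17 * 23 * 29 :=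
        Nat.eq_of_mul_eq_mul_left (show 0 < 2 ^ 22 by norm_num) (hidx.trans (by norm_num))
      rw [this]
      exact ⟨_, (by norm_num : (3 ^ 16 * 5 ^ 2 * 7 ^ 3 * 11 * 13 * 17 * 23 * 29 : ℕ) =
        2 * ((3 ^ 16 * 5 ^ 2 * 7 ^ 3 * 11 * 13 * 17 * 23 * 29) / 2) + 1)⟩
    exact (Nat.odd_mul.1 hodd).2
  · exact (hψA u (Subgroup.subset_closure (hmemE u hu huD))).trans (hφ₁ u (hmemE u hu huD))

/-- No member is a product of commutators. -/
theorem m24_not_commutator {d : G} (hd : d ∈ D) : d ∉ commutator G := by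
  classical
  intro hc
  obtain ⟨H, ψ, hodd, hψ⟩ := m24_sign hD hP h
  haveI := Fintype.ofFinite (Quotient (MulAction.orbitRel (Subgroup.zpowers d) (G ⧸ H)))
  haveI : Fintype (G ⧸ H) := Fintype.ofFinite _
  have h1 : MonoidHom.transfer ψ d = 1 :=
    Abelianization.commutator_subset_ker (MonoidHom.transfer ψ) hc
  have hval : ∀ q : Quotient (MulAction.orbitRel (Subgroup.zpowers d) (G ⧸ H)),
      ψ ⟨q.out.out⁻¹ * d ^ Function.minimalPeriod (d • ·) q.out * q.out.out,
        QuotientGroup.out_conj_pow_minimalPeriod_mem H d q.out⟩ =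
      (-1 : ℤˣ) ^ Function.minimalPeriod (d • ·) q.out := by
    intro q
    have hp : Function.IsPeriodicPt (d • · : G ⧸ H → G ⧸ H) 2 q.out := by
      show d • d • q.out = q.out
      rw [smul_smul, Trans3.sq_one hD.1 hd, one_smul]
    have key : ∀ (k : ℕ) (hm : q.out.out⁻¹ * d ^ k * q.out.out ∈ H), k = 1 ∨ k = 2 →
        ψ ⟨_, hm⟩ = (-1 : ℤˣ) ^ k := by
      rintro k hm (rfl | rfl)
      · rw [pow_one (-1 : ℤˣ)]
        exact hψ _ hm (by simpa using hD.2.1 q.out.out⁻¹ d hd)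
      · rw [show (-1 : ℤˣ) ^ 2 = 1 by decide]
        refine Eq.trans (congrArg ψ (Subtype.ext ?_)) (map_one ψ)
        simp [pow_two, Trans3.sq_one hD.1 hd]
    exact key _ _ ((Nat.dvd_prime Nat.prime_two).1 hp.minimalPeriod_dvd)
  rw [MonoidHom.transfer_eq_prod_quotient_orbitRel_zpowers_quot,
    Finset.prod_congr rfl fun q _ => hval q, Finset.prod_pow_eq_pow_sum,
    ← Subgroup.index_eq_sum_minimalPeriod H d, hodd.neg_one_pow] at h1
  exact absurd h1 (by decide)

/-- The layer has index two. -/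
theorem m24_layer : (Cfsg.layer G).index = 2 := by
  have hN := nice_m24 hD hP h
  have hC := primitive_isClass hD hP
  have hw := m24_pairc hD hP h
  have h2 := primitive_pCore_two hD hP
  have h3 := primitive_pCore_three hD hP hw
  obtain ⟨a, ha, b, hb, hab⟩ := hN.pair
  obtain ⟨L, hLn, hLq, -⟩ :=
    exists_quasisimple hC ⟨a, ha, b, hb, ne_of_not_commute hab⟩ h2 h3
  haveI := hLn
  have hLc : Cfsg.IsComponent L := ⟨(inferInstance : L.Normal).isSubnormal, hLq⟩
  have hlayer : Cfsg.layer G = L :=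
    le_antisymm (sSup_le fun M hM => (component_unique hC hM hLc).le) (CfsgLib.Comp.le_layer hLc)
  have hconn : (Cfsg.commutingGraph D).Connected := by
    haveI : Nonempty D := ⟨⟨a, ha⟩⟩
    refine ⟨fun u v => ?_⟩
    have adj : ∀ u v : D, Commute (u : G) v → (Cfsg.commutingGraph D).Reachable u v := by
      intro u v huv
      by_cases e : u = v
      · exact e ▸ SimpleGraph.Reachable.refl _
      · exact SimpleGraph.Adj.reachable ⟨e, Or.inl huv⟩
    by_cases huv : Commute (u : G) v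
    · exact adj u v huv
    · obtain ⟨r, hr, hru, hrv⟩ := (lvl_m24 hD hP h).common u v u.2 v.2 huv
      exact (adj u ⟨r, hr⟩ hru.symm).trans (adj ⟨r, hr⟩ v hrv)
  obtain ⟨hle, hcomm⟩ := index_le_two_of_connected hC L hLq hconn
  rw [hlayer]
  have hne0 : L.index ≠ 0 := Subgroup.FiniteIndex.index_ne_zero
  refine le_antisymm hle ?_
  by_contra hlt
  have hL1 : L.index = 1 := by omega
  rw [Subgroup.index_eq_one] at hL1
  refine m24_not_commutator hD hP h ha ?_
  have hperf := Subgroup.isPerfect_iff.1 hLq.1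
  have : L ≤ commutator G := by
    rw [← hperf, commutator_def]
    exact Subgroup.commutator_mono le_top le_top
  exact this (hL1 ▸ Subgroup.mem_top a)

end CfsgLib.Trans3.Fi
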