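import Cfsg.Agent.Lib.Trans3.FischerSpace
import Cfsg.Agent.Lib.Trans3.Fi.M22Count
import Mathlib.Algebra.Order.Chebyshev

/-!
Closed sets of pairwise non-commuting 3-transpositions: the number of members satisfies a
divisibility coming from their affine planes and a bound coming from the commuting graph; and
small orbits of 3-groups.
-/

set_option autoImplicit false
set_option linter.unusedSectionVars false

namespace CfsgLib.Trans3.Fi

open scoped _root_.Classical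

variable {G : Type*} [Group G] [Finite G] {D : Set G}

/-- Triples spanning a plane inside a closed set of pairwise non-commuting members. -/
theorem card_triples (hD : Cfsg.IsThreeTranspositionGroup D) {U : Finset G}
    (hU : ∀ a ∈ U, a ∈ D) (hcl : ∀ a ∈ U, ∀ b ∈ U, a * b * a ∈ U)
    (hnc : ∀ a ∈ U, ∀ b ∈ U, a ≠ b → ¬ Commute a b) :
    (U.offDiag.sigma fun p => U \ {p.1, p.2, p.1 * p.2 * p.1}).card =
      (U.card * U.card - U.card) * (U.card - 3) := by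
  rw [Finset.card_sigma, Finset.sum_congr rfl (g := fun _ => U.card - 3), Finset.sum_const,
    Finset.offDiag_card, smul_eq_mul]
  intro p hp
  obtain ⟨h1, h2, h12⟩ := Finset.mem_offDiag.1 hp
  have hl := onLine_of hD (hU _ h1) (hU _ h2) (hnc _ h1 _ h2 h12)
  have e1 : p.1 ≠ p.1 * p.2 * p.1 := fun e => (hl.rot hD).2.2.2.1 (e ▸ Commute.refl _)
  have e2 : p.2 ≠ p.1 * p.2 * p.1 := fun e => (hl.swap.rot hD).2.2.2.1 (e ▸ Commute.refl _)
  rw [Finset.card_sdiff_of_subset ?_, Finset.card_insert_of_notMem (by simp [h12, e1]),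
    Finset.card_pair e2]
  intro w hw
  simp only [Finset.mem_insert, Finset.mem_singleton] at hw
  rcases hw with rfl | rfl | rfl
  exacts [h1, h2, hcl _ h1 _ h2]

/-- A closed set of pairwise non-commuting members: its planes count. -/
theorem affine_count (hD : Cfsg.IsThreeTranspositionGroup D) {S : Set G}
    (hS : S ⊆ D) (hcl : ∀ a ∈ S, ∀ b ∈ S, a * b * a ∈ S)
    (hnc : ∀ a ∈ S, ∀ b ∈ S, a ≠ b → ¬ Commute a b) :
    432 ∣ (S.ncard * S.ncard - S.ncard) * (S.ncard - 3) := by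
  haveI := Fintype.ofFinite G
  obtain ⟨U, eU⟩ : ∃ U : Finset G, U = S.toFinset := ⟨_, rfl⟩
  have hm : ∀ a, a ∈ U ↔ a ∈ S := fun a => by simp [eU]
  rw [Set.ncard_eq_toFinset_card', ← eU, ← card_triples hD (fun a ha => hS ((hm a).1 ha))
    (fun a ha b hb => (hm _).2 (hcl a ((hm a).1 ha) b ((hm b).1 hb)))
    (fun a ha b hb => hnc a ((hm a).1 ha) b ((hm b).1 hb))]
  obtain ⟨span, hspan⟩ : ∃ span : (_ : G × G) × G → Finset G, ∀ t, ∀ w, w ∈ span t ↔ w ∈ U ∧
      ∀ V : Finset G, (∀ a ∈ V, ∀ b ∈ V, a * b * a ∈ V) → t.1.1 ∈ V → t.1.2 ∈ V → t.2 ∈ V →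
        w ∈ V :=
    ⟨fun t => U.filter fun w => ∀ V : Finset G, (∀ a ∈ V, ∀ b ∈ V, a * b * a ∈ V) →
      t.1.1 ∈ V → t.1.2 ∈ V → t.2 ∈ V → w ∈ V, fun t w => Finset.mem_filter⟩
  obtain ⟨T, eT⟩ : ∃ T : Finset ((_ : G × G) × G),
      T = U.offDiag.sigma fun p => U \ {p.1, p.2, p.1 * p.2 * p.1} := ⟨_, rfl⟩
  have hT : ∀ t, t ∈ T ↔ (t.1.1 ∈ U ∧ t.1.2 ∈ U ∧ t.1.1 ≠ t.1.2) ∧
      t.2 ∈ U ∧ t.2 ≠ t.1.1 ∧ t.2 ≠ t.1.2 ∧ t.2 ≠ t.1.1 * t.1.2 * t.1.1 := fun t => by
    simp [eT, Finset.mem_sigma, Finset.mem_offDiag, and_assoc]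
  have hclU : ∀ a ∈ U, ∀ b ∈ U, a * b * a ∈ U := fun a ha b hb =>
    (hm _).2 (hcl a ((hm a).1 ha) b ((hm b).1 hb))
  have hsub : ∀ t ∈ T, (span t).card = 9 ∧ (∀ a ∈ span t, ∀ b ∈ span t, a * b * a ∈ span t) := by
    intro t ht
    obtain ⟨⟨t1, t2, t12⟩, t3, t31, t32, t33⟩ := (hT t).1 ht
    have hS' : ∀ {w}, w ∈ U → w ∈ S := fun hw => (hm _).1 hw
    have hx1 := hnc _ (hS' t1) _ (hS' t2) t12
    obtain ⟨Y, ⟨Y0, Y1, Y3⟩, hY⟩ := exists_affine hD (hS (hS' t1)) (hS (hS' t2)) (hS (hS' t3)) hx1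
      (hnc _ (hS' t1) _ (hS' t3) (Ne.symm t31)) (hnc _ (hS' t2) _ (hS' t3) (Ne.symm t32))
      (hnc _ (hS' t2) _ (hS' (hclU _ t1 _ t3)) fun e => t33 (by
        have hsq := sq_one hD.1 (hS (hS' t1))
        rw [e, show t.1.1 * (t.1.1 * t.2 * t.1.1) * t.1.1 = (t.1.1 * t.1.1) * t.2 * (t.1.1 * t.1.1)
          by group, hsq, one_mul, mul_one]))
    have hin : ∀ V : Finset G, (∀ a ∈ V, ∀ b ∈ V, a * b * a ∈ V) → t.1.1 ∈ V → t.1.2 ∈ V →
        t.2 ∈ V → ∀ p, Y p ∈ V := by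
      intro V hV v0 v1 v3
      have hstep : ∀ p q r, Y p ∈ V → Y q ∈ V → p ≠ q → thirdPt p q = r → Y r ∈ V := by
        rintro p q _ hp hq hne rfl
        exact (hY p q hne).2.2.2.2.1 ▸ hV _ hp _ hq
      have z0 : Y 0 ∈ V := Y0.symm ▸ v0
      have z1 : Y 1 ∈ V := Y1.symm ▸ v1
      have z3 : Y 3 ∈ V := Y3.symm ▸ v3
      have z2 := hstep 0 1 2 z0 z1 (by decide) (by decide)
      have z6 := hstep 0 3 6 z0 z3 (by decide) (by decide)
      have z8 := hstep 1 3 8 z1 z3 (by decide) (by decide)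
      have z5 := hstep 1 6 5 z1 z6 (by decide) (by decide)
      have z4 := hstep 2 6 4 z2 z6 (by decide) (by decide)
      have z7 := hstep 2 3 7 z2 z3 (by decide) (by decide)
      intro p
      fin_cases p <;> assumption
    have heq : span t = Finset.univ.image Y := by
      ext w
      rw [hspan]
      simp only [Finset.mem_image, Finset.mem_univ, true_and]
      refine ⟨fun ⟨_, hw⟩ => ?_, fun ⟨p, hp⟩ => hp ▸ ⟨hin U hclU t1 t2 t3 p,
        fun V hV v0 v1 v3 => hin V hV v0 v1 v3 p⟩⟩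
      have := hw (Finset.univ.image Y) (fun a ha b hb => by
        simp only [Finset.mem_image, Finset.mem_univ, true_and] at ha hb ⊢
        obtain ⟨p, rfl⟩ := ha
        obtain ⟨q, rfl⟩ := hb
        rcases eq_or_ne p q with rfl | hne
        · exact ⟨p, by rw [sq_one hD.1 (hS (hS' (hin U hclU t1 t2 t3 p))), one_mul]⟩
        · exact ⟨thirdPt p q, (hY p q hne).2.2.2.2.1.symm⟩)
        (by simp only [Finset.mem_image, Finset.mem_univ, true_and]; exact ⟨0, Y0⟩)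
        (by simp only [Finset.mem_image, Finset.mem_univ, true_and]; exact ⟨1, Y1⟩)
        (by simp only [Finset.mem_image, Finset.mem_univ, true_and]; exact ⟨3, Y3⟩)
      simpa using this
    refine ⟨?_, fun a ha b hb => (hspan t _).2 ⟨hclU _ ((hspan t _).1 ha).1 _ ((hspan t _).1 hb).1,
      fun V hV v0 v1 v3 => hV _ (((hspan t _).1 ha).2 V hV v0 v1 v3) _
        (((hspan t _).1 hb).2 V hV v0 v1 v3)⟩⟩
    rw [heq, Finset.card_image_of_injective]
    · rfl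
    · intro p q e
      by_contra hne
      exact (hY p q hne).2.2.2.1 (e ▸ Commute.refl _)
  have hself : ∀ t ∈ T, t.1.1 ∈ span t ∧ t.1.2 ∈ span t ∧ t.2 ∈ span t := by
    intro t ht
    obtain ⟨⟨t1, t2, -⟩, t3, -⟩ := (hT t).1 ht
    exact ⟨(hspan t _).2 ⟨t1, fun _ _ v _ _ => v⟩, (hspan t _).2 ⟨t2, fun _ _ _ v _ => v⟩,
      (hspan t _).2 ⟨t3, fun _ _ _ _ v => v⟩⟩
  rw [← eT, Finset.card_eq_sum_card_image span T]
  refine Finset.dvd_sum fun P hP => dvd_of_eq ?_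
  obtain ⟨t₀, ht₀, rfl⟩ := Finset.mem_image.1 hP
  obtain ⟨h9, hPcl⟩ := hsub t₀ ht₀
  have hPU : ∀ w ∈ span t₀, w ∈ U := fun w hw => ((hspan t₀ w).1 hw).1
  have hfib : T.filter (fun t => span t = span t₀) =
      (span t₀).offDiag.sigma fun p => span t₀ \ {p.1, p.2, p.1 * p.2 * p.1} := by
    ext t
    rw [Finset.mem_filter, hT, Finset.mem_sigma, Finset.mem_offDiag]
    simp only [Finset.mem_sdiff, Finset.mem_insert, Finset.mem_singleton, not_or]
    constructor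
    · rintro ⟨⟨⟨t1, t2, t12⟩, t3, hr⟩, e⟩
      obtain ⟨m1, m2, m3⟩ := hself t ((hT t).2 ⟨⟨t1, t2, t12⟩, t3, hr⟩)
      rw [e] at m1 m2 m3
      exact ⟨⟨m1, m2, t12⟩, m3, hr⟩
    · rintro ⟨⟨m1, m2, t12⟩, m3, hr⟩
      have ht : t ∈ T := (hT t).2 ⟨⟨hPU _ m1, hPU _ m2, t12⟩, hPU _ m3, hr⟩
      refine ⟨(hT t).1 ht, Finset.eq_of_subset_of_card_le (fun w hw => ?_)
        (by rw [h9, (hsub t ht).1])⟩
      exact ((hspan t w).1 hw).2 _ hPcl m1 m2 m3
  rw [hfib, card_triples hD (fun a ha => hS ((hm a).1 (hPU a ha))) hPcl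
    (fun a ha b hb => hnc a ((hm a).1 (hPU a ha)) b ((hm b).1 (hPU b hb))), h9]

omit [Group G] [Finite G] in
/-- A set of pairwise non-adjacent vertices of a strongly regular graph. -/
theorem indep_bound {T S : Finset G} {R : G → G → Prop} {k μ : ℕ} (hS : S ⊆ T)
    (hind : ∀ a ∈ S, ∀ b ∈ S, ¬ R a b) (hk : ∀ a ∈ S, (T.filter fun b => R a b).card = k)
    (hm : ∀ a ∈ S, ∀ b ∈ S, a ≠ b → (T.filter fun c => R a c ∧ R b c).card = μ) :
    (k * S.card) ^ 2 ≤ (T.card - S.card) * (k * S.card + μ * (S.card * S.card - S.card)) := by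
  obtain ⟨n, en⟩ : ∃ n : G → ℕ, ∀ w, n w = ∑ a ∈ S, if R a w then 1 else 0 := ⟨_, fun _ => rfl⟩
  have h0 : ∀ w ∈ S, n w = 0 := fun w hw => by
    rw [en]; exact Finset.sum_eq_zero fun a ha => if_neg (hind a ha w hw)
  have h1 : ∑ w ∈ T \ S, n w = k * S.card := by
    have h := Finset.sum_sdiff (f := n) hS
    rw [Finset.sum_eq_zero h0, add_zero] at h
    rw [h]
    simp only [en]
    rw [Finset.sum_comm, Finset.sum_congr rfl (g := fun _ => k) (fun a ha => by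
      rw [Finset.sum_boole, hk a ha, Nat.cast_id]), Finset.sum_const, smul_eq_mul, mul_comm]
  have h2 : ∑ w ∈ T \ S, n w ^ 2 ≤ k * S.card + μ * (S.card * S.card - S.card) := by
    refine le_trans (Finset.sum_le_sum_of_subset Finset.sdiff_subset) (le_of_eq ?_)
    simp only [en, pow_two, Finset.sum_mul_sum]
    rw [Finset.sum_comm]
    rw [Finset.sum_congr rfl (g := fun a => k + μ * (S.card - 1)) (fun a ha => ?_),
      Finset.sum_const, smul_eq_mul, mul_add, mul_comm S.card k, ← mul_assoc, mul_comm S.card μ,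
      mul_assoc, Nat.mul_sub_left_distrib, mul_one]
    rw [Finset.sum_comm, ← Finset.add_sum_erase _ _ ha,
      Finset.sum_congr (s₁ := S.erase a) (g := fun _ => μ) rfl (fun b hb => by
        obtain ⟨hba, hb⟩ := Finset.mem_erase.1 hb
        rw [← hm a ha b hb (Ne.symm hba), Finset.card_filter]
        exact Finset.sum_congr rfl fun w _ => by by_cases R a w <;> by_cases R b w <;> simp [*]),
      Finset.sum_const, Finset.card_erase_of_mem ha, smul_eq_mul, ← hk a ha, Finset.card_filter,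
      mul_comm]
    congr 1
    exact Finset.sum_congr rfl fun w _ => by by_cases R a w <;> simp [*]
  have h3 := sq_sum_le_card_mul_sum_sq (s := T \ S) (f := n)
  rw [h1, Finset.card_sdiff_of_subset hS] at h3
  exact h3.trans (Nat.mul_le_mul_left _ h2)

/-- A 3-group permuting a set whose cardinality is not divisible by `3 ^ j` has an orbit of
smaller size. -/
theorem exists_small_orbit {R : Subgroup G} {A : Set G} {j : ℕ} (hR : IsPGroup 3 ↥R)
    (hA : ∀ g ∈ R, ∀ a ∈ A, g * a * g⁻¹ ∈ A) (hj : ¬ 3 ^ j ∣ A.ncard) :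
    ∃ a ∈ A, Nat.card ↥R ≤ 3 ^ (j - 1) * Nat.card ↥(R ⊓ Subgroup.centralizer ({a} : Set G)) := by
  haveI := Fintype.ofFinite G
  haveI : Fact (Nat.Prime 3) := ⟨Nat.prime_three⟩
  obtain ⟨orb, eo⟩ : ∃ orb : G → Finset G, ∀ a w, w ∈ orb a ↔ ∃ g ∈ R, g * a * g⁻¹ = w :=
    ⟨fun a => Finset.univ.filter fun w => ∃ g ∈ R, g * a * g⁻¹ = w, fun a w => by simp⟩
  have hsz : ∀ a, Nat.card ↥R =
      (orb a : Set G).ncard * Nat.card ↥(R ⊓ Subgroup.centralizer ({a} : Set G)) := fun a =>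
    card_orbit_mul (fun g hg => (eo a _).2 ⟨g, hg, rfl⟩) fun o ho => (eo a o).1 ho
  by_contra hno
  push Not at hno
  refine hj ?_
  rw [Set.ncard_eq_toFinset_card', Finset.card_eq_sum_card_image orb]
  refine Finset.dvd_sum fun O hO => ?_
  obtain ⟨a, ha, rfl⟩ := Finset.mem_image.1 hO
  rw [Set.mem_toFinset] at ha
  have hfib : A.toFinset.filter (fun b => orb b = orb a) = orb a := by
    ext b
    rw [Finset.mem_filter, Set.mem_toFinset]
    constructor
    · rintro ⟨-, e⟩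
      rw [← e, eo]
      exact ⟨1, one_mem _, by group⟩
    · intro hb
      obtain ⟨g, hg, rfl⟩ := (eo a b).1 hb
      refine ⟨hA g hg a ha, ?_⟩
      ext w
      rw [eo, eo]
      constructor
      · rintro ⟨k, hk, rfl⟩
        exact ⟨k * g, mul_mem hk hg, by group⟩
      · rintro ⟨k, hk, rfl⟩
        exact ⟨k * g⁻¹, mul_mem hk (inv_mem hg), by group⟩
  rw [hfib, ← Set.ncard_coe_finset]
  obtain ⟨n, hn⟩ := IsPGroup.iff_card.1 hR
  obtain ⟨i, -, hi⟩ := (Nat.dvd_prime_pow Nat.prime_three).1 (hn ▸ ⟨_, hsz a⟩ :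
    (orb a : Set G).ncard ∣ 3 ^ n)
  rw [hi]
  refine pow_dvd_pow 3 ?_
  by_contra hlt
  have h1 := hno a ha
  have h2 := hsz a
  have h3 : 3 ^ i ≤ 3 ^ (j - 1) := Nat.pow_le_pow_right (by norm_num) (by omega)
  rw [hi] at h2
  have := Nat.mul_le_mul_right (Nat.card ↥(R ⊓ Subgroup.centralizer ({a} : Set G))) h3
  omega

end CfsgLib.Trans3.Fi
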