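import Cfsg.Agent.Lib.Trans3.Fi.U6Count

/-!
Paths of four transvections of `PSU₆(2)`: one exists, and two non-commuting transvections commute
with all members of any of them.
-/

set_option autoImplicit false
set_option linter.unusedSectionVars false
set_option linter.unusedSimpArgs false

namespace CfsgLib.Trans3.Fi

open Matrix CfsgLib.MaxSub CfsgLib.Classical CfsgLib.Trans3.TvSU

/-- A path of four members. -/
structure Path4 {Y : Type*} [Group Y] (D : Set Y) (a b c e : Y) : Prop where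
  ma : a ∈ D
  mb : b ∈ D
  mc : c ∈ D
  me : e ∈ D
  ab : ¬ Commute a b
  bc : ¬ Commute b c
  ce : ¬ Commute c e
  ac : Commute a c
  ae : Commute a e
  be : Commute b e

variable {F : Type*} [Field F] [Fintype F] (hF : Fintype.card F = 2 ^ 2)
variable {Y : Type*} [Group Y] {D : Set Y} (f : ↥(Cfsg.SU 6 F 2) →* Y)
  (hf : Function.Surjective f) (hk : f.ker = Subgroup.center ↥(Cfsg.SU 6 F 2))
  (hD : Cfsg.IsThreeTranspositionGroup D)
include hF hf hk hD

theorem exists_path_four : ∃ a b c e : Y, Path4 D a b c e := by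
  have hsum : ∀ x y : Fin 6 → F, hh x y = ∑ i, x i * y i ^ 2 := fun _ _ => rfl
  obtain ⟨v₁, e1⟩ : ∃ v : Fin 6 → F, v = ![1, 1, 0, 0, 0, 0] := ⟨_, rfl⟩
  obtain ⟨v₂, e2⟩ : ∃ v : Fin 6 → F, v = ![0, 1, 1, 0, 0, 0] := ⟨_, rfl⟩
  obtain ⟨v₃, e3⟩ : ∃ v : Fin 6 → F, v = ![0, 0, 1, 1, 0, 0] := ⟨_, rfl⟩
  obtain ⟨v₄, e4⟩ : ∃ v : Fin 6 → F, v = ![0, 0, 0, 1, 1, 0] := ⟨_, rfl⟩
  have n1 : v₁ ≠ 0 := fun h => by simpa [e1] using congrFun h 0
  have n2 : v₂ ≠ 0 := fun h => by simpa [e2] using congrFun h 1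
  have n3 : v₃ ≠ 0 := fun h => by simpa [e3] using congrFun h 2
  have n4 : v₄ ≠ 0 := fun h => by simpa [e4] using congrFun h 3
  have i1 : hh v₁ v₁ = 0 := by simp [hsum, e1, Fin.sum_univ_succ, add_self hF]
  have i2 : hh v₂ v₂ = 0 := by simp [hsum, e2, Fin.sum_univ_succ, add_self hF]
  have i3 : hh v₃ v₃ = 0 := by simp [hsum, e3, Fin.sum_univ_succ, add_self hF]
  have i4 : hh v₄ v₄ = 0 := by simp [hsum, e4, Fin.sum_univ_succ, add_self hF]
  have nc : ∀ {p r : Fin 6 → F}, p ≠ 0 → r ≠ 0 → hh p p = 0 → hh r r = 0 → hh p r = 1 →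
      ¬ Commute (pt hF f p) (pt hF f r) := fun h1 h2 h3 h4 h5 h => by
    rw [(pt_commute hF f hk h1 h2 h3 h4).1 h] at h5
    exact zero_ne_one h5
  exact ⟨pt hF f v₁, pt hF f v₂, pt hF f v₃, pt hF f v₄,
    ⟨pt_mem hF f hf hk hD n1 i1, pt_mem hF f hf hk hD n2 i2, pt_mem hF f hf hk hD n3 i3,
      pt_mem hF f hf hk hD n4 i4,
      nc n1 n2 i1 i2 (by simp [hsum, e1, e2, Fin.sum_univ_succ]),
      nc n2 n3 i2 i3 (by simp [hsum, e2, e3, Fin.sum_univ_succ]),
      nc n3 n4 i3 i4 (by simp [hsum, e3, e4, Fin.sum_univ_succ]),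
      (pt_commute hF f hk n1 n3 i1 i3).2 (by simp [hsum, e1, e3, Fin.sum_univ_succ]),
      (pt_commute hF f hk n1 n4 i1 i4).2 (by simp [hsum, e1, e4, Fin.sum_univ_succ]),
      (pt_commute hF f hk n2 n4 i2 i4).2 (by simp [hsum, e2, e4, Fin.sum_univ_succ])⟩⟩

theorem path_perp {a b c e : Y} (hp : Path4 D a b c e) :
    ∃ u ∈ D, ∃ v ∈ D, ¬ Commute u v ∧ ∀ t ∈ [a, b, c, e], Commute t u ∧ Commute t v := by
  obtain ⟨p₁, n1, i1, rfl⟩ := exists_pt hF f hf hk hD hp.ma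
  obtain ⟨p₂, n2, i2, rfl⟩ := exists_pt hF f hf hk hD hp.mb
  obtain ⟨p₃, n3, i3, rfl⟩ := exists_pt hF f hf hk hD hp.mc
  obtain ⟨p₄, n4, i4, rfl⟩ := exists_pt hF f hf hk hD hp.me
  have h12 : hh p₁ p₂ ≠ 0 := fun h => hp.ab ((pt_commute hF f hk n1 n2 i1 i2).2 h)
  have h23 : hh p₂ p₃ ≠ 0 := fun h => hp.bc ((pt_commute hF f hk n2 n3 i2 i3).2 h)
  have h34 : hh p₃ p₄ ≠ 0 := fun h => hp.ce ((pt_commute hF f hk n3 n4 i3 i4).2 h)
  have h21 : hh p₂ p₁ ≠ 0 := fun h => h12 (hh_symm_zero hF h)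
  have h32 : hh p₃ p₂ ≠ 0 := fun h => h23 (hh_symm_zero hF h)
  have h43 : hh p₄ p₃ ≠ 0 := fun h => h34 (hh_symm_zero hF h)
  have h13 := (pt_commute hF f hk n1 n3 i1 i3).1 hp.ac
  have h14 := (pt_commute hF f hk n1 n4 i1 i4).1 hp.ae
  have h24 := (pt_commute hF f hk n2 n4 i2 i4).1 hp.be
  have h31 := hh_symm_zero hF h13
  have h41 := hh_symm_zero hF h14
  have h42 := hh_symm_zero hF h24
  obtain ⟨W, eW⟩ : ∃ W : Submodule F (Fin 6 → F), W = Submodule.span F (Set.range ![p₁, p₂, p₃, p₄]) :=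
    ⟨_, rfl⟩
  let φ : (Fin 6 → F) →ₗ[F] (Fin 4 → F) :=
    { toFun := fun z => ![hh z p₁, hh z p₂, hh z p₃, hh z p₄]
      map_add' := fun x y => by ext i; fin_cases i <;> simp [hh_add_left hF]
      map_smul' := fun t x => by ext i; fin_cases i <;> simp [hh_smul_left hF] }
  have hker : ∀ z, z ∈ LinearMap.ker φ ↔ hh z p₁ = 0 ∧ hh z p₂ = 0 ∧ hh z p₃ = 0 ∧ hh z p₄ = 0 := by
    intro z
    rw [LinearMap.mem_ker]
    constructor
    · intro h
      exact ⟨congrFun h 0, congrFun h 1, congrFun h 2, congrFun h 3⟩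
    · intro h
      ext i
      fin_cases i <;> simp [φ, h.1, h.2.1, h.2.2.1, h.2.2.2]
  have key : ∀ t : Fin 4 → F, (∑ i, t i • ![p₁, p₂, p₃, p₄] i) ∈ LinearMap.ker φ → ∀ i, t i = 0 := by
    intro t ht
    rw [hker, Fin.sum_univ_four] at ht
    simp only [Matrix.cons_val, hh_add_left hF, hh_smul_left hF, i1, i2, i3, i4, h13, h14, h24,
      h31, h41, h42, mul_zero, add_zero, zero_add, mul_eq_zero, h21, or_false] at ht
    obtain ⟨a1, a2, a3, a4⟩ := ht
    have t3 : t 2 = 0 := by simpa [h34] using a4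
    have t2 : t 1 = 0 := by simpa using a1
    rw [t3, zero_mul, add_zero, mul_eq_zero] at a2
    rw [t2, zero_mul, zero_add, mul_eq_zero] at a3
    intro i
    fin_cases i
    exacts [a2.resolve_right h12, t2, t3, a3.resolve_right h43]
  have hli : LinearIndependent F ![p₁, p₂, p₃, p₄] := by
    rw [Fintype.linearIndependent_iff]
    intro t ht
    exact key t (by rw [ht]; exact zero_mem _)
  have hW4 : Module.finrank F W = 4 := by
    rw [eW, finrank_span_eq_card hli, Fintype.card_fin]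
  have hK2 : 2 ≤ Module.finrank F (LinearMap.ker φ) := by
    have h1 := LinearMap.finrank_range_add_finrank_ker φ
    have h2 : Module.finrank F (LinearMap.range φ) ≤ 4 := by
      simpa using Submodule.finrank_le (LinearMap.range φ)
    simp only [Module.finrank_pi, Fintype.card_fin] at h1
    omega
  have hWK : W ⊓ LinearMap.ker φ = ⊥ := by
    rw [Submodule.eq_bot_iff]
    rintro z ⟨hzW, hzK⟩
    rw [eW] at hzW
    obtain ⟨t, rfl⟩ := (Submodule.mem_span_range_iff_exists_fun F).1 hzW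
    simp [key t hzK]
  have htop : W ⊔ LinearMap.ker φ = ⊤ := by
    refine Submodule.eq_top_of_finrank_eq ?_
    have h := Submodule.finrank_sup_add_finrank_inf_eq W (LinearMap.ker φ)
    rw [hWK, finrank_bot, add_zero, hW4] at h
    have h' := Submodule.finrank_le (W ⊔ LinearMap.ker φ)
    simp only [Module.finrank_pi, Fintype.card_fin] at h' ⊢
    omega
  have hnd : ∀ x ∈ LinearMap.ker φ, x ≠ 0 → ∃ z ∈ LinearMap.ker φ, hh z x ≠ 0 := by
    intro x hx hx0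
    by_contra! hall
    refine hx0 (eq_zero_of_hh hF fun z => ?_)
    have hz : z ∈ W ⊔ LinearMap.ker φ := htop ▸ trivial
    obtain ⟨w, hw, k, hk', rfl⟩ := Submodule.mem_sup.1 hz
    rw [hh_add_left hF, hall k hk', add_zero]
    rw [eW] at hw
    obtain ⟨t, rfl⟩ := (Submodule.mem_span_range_iff_exists_fun F).1 hw
    obtain ⟨a1, a2, a3, a4⟩ := (hker x).1 hx
    rw [Fin.sum_univ_four]
    simp [hh_add_left hF, hh_smul_left hF, hh_symm_zero hF a1, hh_symm_zero hF a2,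
      hh_symm_zero hF a3, hh_symm_zero hF a4]
  obtain ⟨p, hpK, hp0, hpp⟩ : ∃ p, p ∈ LinearMap.ker φ ∧ p ≠ 0 ∧ hh p p = 0 := by
    have hne : LinearMap.ker φ ≠ ⊥ := fun h => by rw [h, finrank_bot] at hK2; omega
    obtain ⟨x, hx, hx0⟩ := Submodule.exists_mem_ne_zero_of_ne_bot hne
    rcases hh_self hF x with hxx | hxx
    · exact ⟨x, hx, hx0, hxx⟩
    obtain ⟨y, hy, hyx⟩ : ∃ y ∈ LinearMap.ker φ, y ∉ Submodule.span F ({x} : Set (Fin 6 → F)) := by
      by_contra! hall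
      have h1 := (Submodule.finrank_mono hall).trans (le_of_eq (finrank_span_singleton hx0))
      omega
    obtain ⟨y', ey⟩ : ∃ y', y' = y + hh y x • x := ⟨_, rfl⟩
    have hy' : y' ∈ LinearMap.ker φ := ey ▸ add_mem hy (Submodule.smul_mem _ _ hx)
    have hy'0 : y' ≠ 0 := fun h => hyx (by
      rw [vec_eq_of_add hF _ _ (ey.symm.trans h)]
      exact Submodule.smul_mem _ _ (Submodule.subset_span rfl))
    have hy'x : hh y' x = 0 := by
      rw [ey, hh_add_left hF, hh_smul_left hF, hxx, mul_one, add_self hF]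
    rcases hh_self hF y' with h | h
    · exact ⟨y', hy', hy'0, h⟩
    refine ⟨x + y', add_mem hx hy', fun e0 => ?_, ?_⟩
    · rw [← vec_eq_of_add hF _ _ e0, hxx] at hy'x
      exact one_ne_zero hy'x
    · rw [hh_add_left hF, hh_add_right hF, hh_add_right hF, hxx, h, hy'x, hh_symm_zero hF hy'x,
        add_zero, zero_add, add_self hF]
  obtain ⟨z, hz, hzp⟩ := hnd p hpK hp0
  obtain ⟨z', ez⟩ : ∃ z', z' = (hh z p)⁻¹ • z := ⟨_, rfl⟩
  have hz'p : hh p z' = 1 := hh_symm_one hF (by rw [ez, hh_smul_left hF, inv_mul_cancel₀ hzp])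
  obtain ⟨l, hqq, hpq⟩ := exists_pair hF hpp hz'p
  have hqK : z' + l • p ∈ LinearMap.ker φ :=
    add_mem (ez ▸ Submodule.smul_mem _ _ hz) (Submodule.smul_mem _ _ hpK)
  have hq0 : z' + l • p ≠ 0 := fun h => by rw [h, hh_zero_right hF] at hpq; exact zero_ne_one hpq
  refine ⟨pt hF f p, pt_mem hF f hf hk hD hp0 hpp, pt hF f (z' + l • p),
    pt_mem hF f hf hk hD hq0 hqq, fun h => ?_, ?_⟩
  · rw [(pt_commute hF f hk hp0 hq0 hpp hqq).1 h] at hpq
    exact zero_ne_one hpq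
  obtain ⟨a1, a2, a3, a4⟩ := (hker p).1 hpK
  obtain ⟨b1, b2, b3, b4⟩ := (hker _).1 hqK
  intro t ht
  simp only [List.mem_cons, List.not_mem_nil, or_false] at ht
  rcases ht with rfl | rfl | rfl | rfl
  exacts [⟨(pt_commute hF f hk n1 hp0 i1 hpp).2 (hh_symm_zero hF a1),
      (pt_commute hF f hk n1 hq0 i1 hqq).2 (hh_symm_zero hF b1)⟩,
    ⟨(pt_commute hF f hk n2 hp0 i2 hpp).2 (hh_symm_zero hF a2),
      (pt_commute hF f hk n2 hq0 i2 hqq).2 (hh_symm_zero hF b2)⟩,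
    ⟨(pt_commute hF f hk n3 hp0 i3 hpp).2 (hh_symm_zero hF a3),
      (pt_commute hF f hk n3 hq0 i3 hqq).2 (hh_symm_zero hF b3)⟩,
    ⟨(pt_commute hF f hk n4 hp0 i4 hpp).2 (hh_symm_zero hF a4),
      (pt_commute hF f hk n4 hq0 i4 hqq).2 (hh_symm_zero hF b4)⟩]

end CfsgLib.Trans3.Fi
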