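import Cfsg.Agent.Lib.Trans3.Fi.U6Five
import Cfsg.Agent.Lib.Trans3.Fi.U6Path

/-!
Elements of order five in PSU₆(2), M(22) and M(23).
-/

set_option autoImplicit false
set_option linter.unusedSectionVars false
set_option linter.style.haveILetI false

namespace CfsgLib.Trans3.Fi

open Equiv Equiv.Perm

variable {G : Type*} [Group G] [Finite G] {D : Set G}

theorem loc_u6_five (hU : IsU6 G) (hD : Cfsg.IsThreeTranspositionGroup D) : Loc D 5 3 := by
  haveI := Fact.mk (show Nat.Prime 5 by norm_num)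
  obtain ⟨F, _, _, f, hF, hf, hk⟩ := exists_model hU hD
  have hfix : ∀ x : G, orderOf x = 5 → (Fx D x).Nonempty := fun x hx =>
    exists_fixed_of_mod hD hx (by rw [u6_card_D hU hD]; norm_num)
  have hconf : ∀ x : G, orderOf x = 5 → SymConf 3 (Fx D x) := fun x hx => by
    obtain ⟨d, hd⟩ := hfix x hx
    exact (five_local hF f hf hk hD hx hd.1 hd.2).1
  have hcent : ∀ x : G, orderOf x = 5 →
      Nat.card ↥(Subgroup.centralizer ({x} : Set G)) = 30 := fun x hx => by
    obtain ⟨d, hd⟩ := hfix x hx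
    have h := card_orbit_mul (H := Subgroup.centralizer ({x} : Set G)) (x := d) (O := Fx D x)
      (fun g hg => commute_of_mem_Fx hg hd hD) (fun o ho => by
        obtain ⟨g, hg, hgd⟩ := (hconf x hx).trans hd ho
        refine ⟨g, ?_, hgd⟩
        refine (Subgroup.closure_le _).2 (fun y hy => ?_) hg
        exact SetLike.mem_coe.2 (Subgroup.mem_centralizer_singleton_iff.2 hy.2.eq))
    rw [(five_local hF f hf hk hD hx hd.1 hd.2).2, (hconf x hx).ncard] at h
    exact h
  refine ⟨hconf, fun x hx => by rw [hcent x hx]; rfl, fun x y hx hy => ?_⟩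
  refine conj_of_sylow (p := 5) (c := 30) (by norm_num) ?_ hcent ?_ x y hx hy
  · rw [u6_card hU]; norm_num
  · rw [u6_card hU]
    intro e h1 h2 _ h4
    interval_cases e <;> omega

theorem u6_exists_path (hU : IsU6 G) (hD : Cfsg.IsThreeTranspositionGroup D) :
    ∃ a b c e : G, Path4 D a b c e := by
  obtain ⟨F, _, _, f, hF, hf, hk⟩ := exists_model hU hD
  exact exists_path_four hF f hf hk hD

theorem u6_path_perp (hU : IsU6 G) (hD : Cfsg.IsThreeTranspositionGroup D) {a b c e : G}
    (hp : Path4 D a b c e) :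
    ∃ u ∈ D, ∃ v ∈ D, ¬ Commute u v ∧ ∀ t ∈ [a, b, c, e], Commute t u ∧ Commute t v := by
  obtain ⟨F, _, _, f, hF, hf, hk⟩ := exists_model hU hD
  exact path_perp hF f hf hk hD hp

/-- The five-cycle of a path of four. -/
theorem path_cycle (hD : Cfsg.IsThreeTranspositionGroup D) {a b c e : G} (hp : Path4 D a b c e) :
    ∃ y : G, orderOf y = 5 ∧ ∀ u, (∀ t ∈ [a, b, c, e], Commute t u) → Commute u y := by
  have sq : ∀ {u : G}, u ∈ D → u * u = 1 := fun hu => Trans3.sq_one hD.1 hu
  have pc : ∀ {u w : G}, u ∈ D → w ∈ D → Commute u w → (u * w) ^ 2 = 1 := fun hu hw h =>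
    (commute_iff_pow_two hD.1 hu hw).1 h
  have pn : ∀ {u w : G}, u ∈ D → w ∈ D → ¬ Commute u w → (u * w) ^ 3 = 1 := fun hu hw h =>
    Trans3.pow_three hD.1 hu hw h
  obtain ⟨ψ, hψ⟩ := exists_hom_perm (k := 4) ![a, b, c, e] (fun i j => by
    fin_cases i <;> fin_cases j <;> simp [CoxeterMatrix.A] <;>
    first
      | exact sq hp.ma | exact sq hp.mb | exact sq hp.mc | exact sq hp.me
      | exact pn hp.ma hp.mb hp.ab | exact pn hp.mb hp.mc hp.bc | exact pn hp.mc hp.me hp.ce
      | exact pn hp.mb hp.ma fun h => hp.ab h.symm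
      | exact pn hp.mc hp.mb fun h => hp.bc h.symm
      | exact pn hp.me hp.mc fun h => hp.ce h.symm
      | exact pc hp.ma hp.mc hp.ac | exact pc hp.ma hp.me hp.ae | exact pc hp.mb hp.me hp.be
      | exact pc hp.mc hp.ma hp.ac.symm | exact pc hp.me hp.ma hp.ae.symm
      | exact pc hp.me hp.mb hp.be.symm)
  have hinj : Function.Injective ψ := by
    rw [← MonoidHom.ker_eq_bot_iff]
    by_contra hne
    haveI : Nontrivial ↥ψ.ker := (Subgroup.nontrivial_iff_ne_bot _).2 hne
    have hle := Equiv.Perm.alternatingGroup_le_of_normal (α := Fin 5)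
      (by rw [Nat.card_fin]) (N := ψ.ker) inferInstance
    have hsw : ∀ i : Fin 4, (swap i.castSucc i.succ : Perm (Fin 5)).IsSwap :=
      fun i => ⟨_, _, Fin.castSucc_lt_succ.ne, rfl⟩
    have h1 : ψ (swap (0 : Fin 4).castSucc (0 : Fin 4).succ *
        swap (1 : Fin 4).castSucc (1 : Fin 4).succ) = 1 :=
      MonoidHom.mem_ker.1 (hle (mul_mem_alternatingGroup_of_isSwap (hsw _) (hsw _)))
    rw [map_mul, hψ, hψ] at h1
    simp only [Matrix.cons_val_zero, Matrix.cons_val_one] at h1
    exact hp.ab (by rw [eq_inv_of_mul_eq_one_left h1, inv_eq hD.1 hp.mb])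
  refine ⟨ψ (finRotate 5), ?_, fun u hu => ?_⟩
  · haveI := Fact.mk (show Nat.Prime 5 by norm_num)
    rw [orderOf_injective ψ hinj]
    exact orderOf_eq_prime (by decide +kernel) (by decide +kernel)
  · have hmem : finRotate 5 ∈ Submonoid.closure
        (Set.range fun i : Fin 4 => (swap i.castSucc i.succ : Perm (Fin 5))) := by
      rw [mclosure_swap_castSucc_succ]; trivial
    suffices hall : ∀ s ∈ Submonoid.closure
        (Set.range fun i : Fin 4 => (swap i.castSucc i.succ : Perm (Fin 5))), Commute u (ψ s) from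
      hall _ hmem
    intro s hs'
    clear hmem
    induction hs' using Submonoid.closure_induction with
    | mem s hs =>
      obtain ⟨i, rfl⟩ := hs
      rw [hψ]
      refine (hu _ ?_).symm
      fin_cases i <;> simp
    | one => rw [map_one]; exact Commute.one_right u
    | mul s t _ _ hs ht => rw [map_mul]; exact hs.mul_right ht

/-- A commuting pair of order `p` spans; free action counts. -/
theorem dvd_ncard_of_free {E : Subgroup G} {A : Set G} (hA : ∀ k ∈ E, ∀ a ∈ A, k * a * k⁻¹ ∈ A)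
    (hfree : ∀ k ∈ E, ∀ a ∈ A, Commute a k → k = 1) : Nat.card ↥E ∣ A.ncard := by
  classical
  letI : MulAction ↥E A :=
    { smul := fun k a => ⟨(k : G) * a * (k : G)⁻¹, hA k k.2 a a.2⟩
      one_smul := fun a => Subtype.ext (by show (1 : G) * a * (1 : G)⁻¹ = a; simp)
      mul_smul := fun k l a => Subtype.ext (by
        show ((k * l : ↥E) : G) * a * ((k * l : ↥E) : G)⁻¹ =
          k * ((l : G) * a * (l : G)⁻¹) * (k : G)⁻¹
        rw [Subgroup.coe_mul]; group) }
  have hstab : ∀ a : A, MulAction.stabilizer ↥E a = ⊥ := by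
    intro a
    rw [Subgroup.eq_bot_iff_forall]
    intro k hk
    have h1 : (k : G) * a * (k : G)⁻¹ = a :=
      congrArg Subtype.val (MulAction.mem_stabilizer_iff.1 hk)
    exact Subtype.ext (hfree k k.2 a a.2 (mul_inv_eq_iff_eq_mul.1 h1).symm)
  haveI := Fintype.ofFinite (Quotient (MulAction.orbitRel ↥E A))
  rw [← Nat.card_coe_set_eq, Nat.card_congr (MulAction.selfEquivSigmaOrbitsQuotientStabilizer ↥E A),
    Nat.card_sigma]
  refine Finset.dvd_sum fun ω _ => ?_
  rw [hstab, ← Subgroup.index_eq_card, Subgroup.index_bot]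

section M22

variable (hD : Cfsg.IsThreeTranspositionGroup D) (hP : Cfsg.IsPrimitiveUnderConj D)
variable (h : Cfsg.IsOfTypeM22 G D)
include hD hP h

theorem loc_below22_five {d : G} (hd : d ∈ D) : Loc (Db D d) 5 3 :=
  loc_u6_five (m22_isU6 hD h hd) ((nice_m22 hD h).group_Db hd)

theorem m22_five_conf {x : G} (hx : orderOf x = 5) (hne : (Fx D x).Nonempty) :
    SymConf 5 (Fx D x) := by
  haveI := Fact.mk (show Nat.Prime 5 by norm_num)
  have hW : ∀ {b y : G}, b ∈ Fx D x → y ∈ Fx D x → ¬ Commute b y →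
      {w ∈ Fx D x | Commute b w ∧ Commute y w}.ncard % 5 = 1 := by
    intro b y hb hy hby
    have h1 := common_modEq hD (p := 5) hx hb hy
    rw [m22_common_card hD hP h hb.1 hy.1 hby] at h1
    exact h1
  refine conf_up (gated_m22 hD hP h) (by norm_num) (by norm_num)
    (fun d hd => loc_below22_five hD hP h hd) le_rfl hx hne ?_ ?_
  · intro b hb y hy hby _ k hk2 hk3 heq
    have := hW hb hy hby
    generalize {w ∈ Fx D x | Commute b w ∧ Commute y w}.ncard = N at this heq
    interval_cases k <;> norm_num [Nat.choose] at heq ⊢ <;> omega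
  · intro b hb y hy hby
    exact Set.nonempty_of_ncard_ne_zero fun e => by
      have := hW hb hy hby
      rw [e] at this
      norm_num at this

/-- Two commuting independent elements of order five, each with fixed members. -/
theorem m22_five_witness : ∃ y z : G, orderOf y = 5 ∧ orderOf z = 5 ∧ Commute y z ∧
    z ∉ Subgroup.zpowers y ∧ (Fx D y).Nonempty ∧ (Fx D z).Nonempty := by
  have hN := nice_m22 hD h
  have hPre := pre_of_group hD
  obtain ⟨d, hd, -⟩ := hN.pair
  obtain ⟨qa, qb, qc, qe, hq⟩ := u6_exists_path (m22_isU6 hD h hd) (hN.group_Db hd)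
  obtain ⟨a, ha, rfl⟩ := exists_bar hq.ma
  obtain ⟨b, hb, rfl⟩ := exists_bar hq.mb
  obtain ⟨c, hc, rfl⟩ := exists_bar hq.mc
  obtain ⟨e, he, rfl⟩ := exists_bar hq.me
  have hp : Path4 D a b c e :=
    ⟨ha.1, hb.1, hc.1, he.1, fun x => hq.ab ((commute_bar hPre ha hb).2 x),
      fun x => hq.bc ((commute_bar hPre hb hc).2 x), fun x => hq.ce ((commute_bar hPre hc he).2 x),
      (commute_bar hPre ha hc).1 hq.ac, (commute_bar hPre ha he).1 hq.ae,
      (commute_bar hPre hb he).1 hq.be⟩
  obtain ⟨y, hy, hycomm⟩ := path_cycle hD hp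
  obtain ⟨C, eC⟩ : ∃ C : Set G, C = {u | u ∈ D ∧ ∀ t ∈ [a, b, c, e], Commute t u} := ⟨_, rfl⟩
  have hCS : C ⊆ Fx D y := by
    rw [eC]; exact fun u hu => ⟨hu.1, hycomm u hu.2⟩
  have hdC : d ∈ C := by
    rw [eC]
    refine ⟨hd, fun t ht => ?_⟩
    simp only [List.mem_cons, List.not_mem_nil, or_false] at ht
    rcases ht with rfl | rfl | rfl | rfl
    exacts [ha.2.2.symm, hb.2.2.symm, hc.2.2.symm, he.2.2.symm]
  have hconf := m22_five_conf hD hP h hy ⟨d, hCS hdC⟩
  have hclosed : ∀ u ∈ C, ∀ w ∈ Fx D y, Commute u w → w ∈ C := by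
    intro u hu w hw huw
    by_cases hwu : w = u
    · exact hwu ▸ hu
    have hu' := hu
    rw [eC] at hu'
    have hmem : ∀ t ∈ [a, b, c, e], t ∈ nbrs D u := by
      intro t ht
      have htD : t ∈ D := by
        simp only [List.mem_cons, List.not_mem_nil, or_false] at ht
        rcases ht with rfl | rfl | rfl | rfl
        exacts [ha.1, hb.1, hc.1, he.1]
      refine ⟨htD, fun e' => ?_, (hu'.2 t ht).symm⟩
      simp only [List.mem_cons, List.not_mem_nil, or_false] at ht
      rcases ht with rfl | rfl | rfl | rfl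
      · subst e'; exact hp.ab (hu'.2 b (by simp)).symm
      · subst e'; exact hp.bc (hu'.2 c (by simp)).symm
      · subst e'; exact hp.bc (hu'.2 b (by simp))
      · subst e'; exact hp.ce (hu'.2 c (by simp))
    have na := hmem a (by simp)
    have nb' := hmem b (by simp)
    have nc := hmem c (by simp)
    have ne := hmem e (by simp)
    obtain ⟨qu, hqu, qv, hqv, huv, hall⟩ := u6_path_perp (m22_isU6 hD h hu'.1) (hN.group_Db hu'.1)
      (a := bar na) (b := bar nb') (c := bar nc) (e := bar ne)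
      ⟨bar_mem na, bar_mem nb', bar_mem nc, bar_mem ne,
        fun x => hp.ab ((commute_bar hPre na nb').1 x), fun x => hp.bc ((commute_bar hPre nb' nc).1 x),
        fun x => hp.ce ((commute_bar hPre nc ne).1 x), (commute_bar hPre na nc).2 hp.ac,
        (commute_bar hPre na ne).2 hp.ae, (commute_bar hPre nb' ne).2 hp.be⟩
    obtain ⟨v₁, hv₁, rfl⟩ := exists_bar hqu
    obtain ⟨v₂, hv₂, rfl⟩ := exists_bar hqv
    have inC : ∀ {v : G} (hv : v ∈ nbrs D u),
        (∀ t ∈ [bar na, bar nb', bar nc, bar ne], Commute t (bar hv)) → v ∈ C := by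
      intro v hv hall
      rw [eC]
      refine ⟨hv.1, fun t ht => ?_⟩
      simp only [List.mem_cons, List.not_mem_nil, or_false] at ht
      rcases ht with rfl | rfl | rfl | rfl
      exacts [(commute_bar hPre na hv).1 (hall _ (by simp)),
        (commute_bar hPre nb' hv).1 (hall _ (by simp)), (commute_bar hPre nc hv).1 (hall _ (by simp)),
        (commute_bar hPre ne hv).1 (hall _ (by simp))]
    have h1 := inC hv₁ fun t ht => (hall t ht).1
    have h2 := inC hv₂ fun t ht => (hall t ht).2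
    have h12 : ¬ Commute v₁ v₂ := fun x => huv ((commute_bar hPre hv₁ hv₂).2 x)
    have h3 : v₁ * v₂ * v₁ ∈ C := by
      rw [eC] at h1 h2 ⊢
      exact ⟨self_conj_mem hD h1.1 h2.1, fun t ht =>
        ((h1.2 t ht).mul_right (h2.2 t ht)).mul_right (h1.2 t ht)⟩
    have n3 : v₁ * v₂ * v₁ ∈ nb (Fx D y) u :=
      ⟨hCS h3, fun e' => by
        have hc1 : Commute u v₁ := hv₁.2.2
        have e2 : v₂ = v₁ * u * v₁ := by
          rw [← e']; simp [← mul_assoc, Trans3.sq_one hD.1 hv₁.1, mul_assoc v₂]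
        rw [← hc1.eq, mul_assoc, Trans3.sq_one hD.1 hv₁.1, mul_one] at e2
        exact hv₂.2.1 e2, (hv₁.2.2.mul_right hv₂.2.2).mul_right hv₁.2.2⟩
    have hsub : ({v₁, v₂, v₁ * v₂ * v₁} : Set G) ⊆ nb (Fx D y) u := by
      rintro z (rfl | rfl | rfl)
      exacts [⟨hCS h1, hv₁.2.1, hv₁.2.2⟩, ⟨hCS h2, hv₂.2.1, hv₂.2.2⟩, n3]
    have hnb := loc_nb (gated_m22 hD hP h) (p := 5) (n := 3) (by norm_num) (by norm_num)
      (fun d hd => loc_below22_five hD hP h hd) (by norm_num) hy (hCS hu)
    have hne12 : v₁ ≠ v₂ := ne_of_not_commute h12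
    have hne13 : v₁ ≠ v₁ * v₂ * v₁ := fun x => h12 (by
      have : v₁ * v₁ = v₁ * (v₁ * v₂ * v₁) := congrArg (v₁ * ·) x
      rw [Trans3.sq_one hD.1 hv₁.1, ← mul_assoc, ← mul_assoc, Trans3.sq_one hD.1 hv₁.1, one_mul] at this
      exact absurd (by rw [eq_inv_of_mul_eq_one_left this.symm, inv_eq hD.1 hv₁.1]) hne12.symm)
    have hne23 : v₂ ≠ v₁ * v₂ * v₁ := fun x => h12 (by
      show v₁ * v₂ = v₂ * v₁
      conv_rhs => rw [x]
      rw [mul_assoc, Trans3.sq_one hD.1 hv₁.1, mul_one])
    have heq := Set.eq_of_subset_of_ncard_le hsub (by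
      rw [hnb.ncard, Set.ncard_insert_of_notMem (by simp [hne12, hne13]), Set.ncard_pair hne23]
      rfl) (Set.toFinite _)
    have : w ∈ ({v₁, v₂, v₁ * v₂ * v₁} : Set G) := heq ▸ ⟨hw, hwu, huw⟩
    rcases this with rfl | rfl | rfl
    exacts [h1, h2, h3]
  -- all fixed members centralise the path
  have hall : ∀ w ∈ Fx D y, w ∈ C := by
    intro w hw
    by_cases hdw : Commute d w
    · exact hclosed d hdC w hw hdw
    haveI := Fact.mk (show Nat.Prime 5 by norm_num)
    obtain ⟨v, hv, hdv, hwv⟩ : {v ∈ Fx D y | Commute d v ∧ Commute w v}.Nonempty :=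
      Set.nonempty_of_ncard_ne_zero fun e0 => by
        have h1 := common_modEq hD (p := 5) hy (hCS hdC) hw
        rw [m22_common_card hD hP h hd hw.1 hdw, e0] at h1
        exact absurd h1 (by decide)
    exact hclosed v (hclosed d hdC v hv hdv) w hw hwv.symm
  obtain ⟨ψ, hψ, hψS, hr⟩ := hconf.closure_eq
  refine ⟨y, ψ (finRotate 5), hy, ?_, ?_, ?_, ⟨d, hCS hdC⟩, ⟨a, ha.1, ?_⟩⟩
  · haveI := Fact.mk (show Nat.Prime 5 by norm_num)
    rw [orderOf_injective ψ hψ]
    exact orderOf_eq_prime (by decide +kernel) (by decide +kernel)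
  · have hle : Subgroup.closure (Fx D y) ≤ Subgroup.centralizer ({y} : Set G) := by
      rw [Subgroup.closure_le]
      exact fun v hv => SetLike.mem_coe.2 (Subgroup.mem_centralizer_singleton_iff.2 hv.2.eq)
    exact (Subgroup.mem_centralizer_singleton_iff.1 (hle (hr ▸ ⟨finRotate 5, rfl⟩)) :
      Commute (ψ (finRotate 5)) y).symm
  · intro hmem
    obtain ⟨i, hi⟩ := Subgroup.mem_zpowers_iff.1 hmem
    have hcen : ∀ σ : Perm (Fin 5), σ.IsSwap → Commute (finRotate 5) σ := by
      intro σ hσ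
      have hs : ψ σ ∈ Fx D y := hψS ▸ ⟨σ, hσ, rfl⟩
      refine Commute.of_map hψ ?_
      rw [← hi]
      exact (hs.2.symm).zpow_left i
    exact absurd (eq_one_of_commute_swaps (by norm_num) hcen) (by decide +kernel)
  · have hle : Subgroup.closure (Fx D y) ≤ Subgroup.centralizer ({a} : Set G) := by
      rw [Subgroup.closure_le]
      intro v hv
      have := hall v hv
      rw [eC] at this
      exact SetLike.mem_coe.2 (Subgroup.mem_centralizer_singleton_iff.2 (this.2 a (by simp)).symm.eq)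
    exact (Subgroup.mem_centralizer_singleton_iff.1 (hle (hr ▸ ⟨finRotate 5, rfl⟩)) :
      Commute (ψ (finRotate 5)) a).symm

theorem m22_five_fixed {x : G} (hx : orderOf x = 5) : (Fx D x).Nonempty := by
  classical
  haveI := Fact.mk (show Nat.Prime 5 by norm_num)
  obtain ⟨y, z, hy, hz, hyz, hzy, hfy, hfz⟩ := m22_five_witness hD hP h
  have hy5 : ∀ k : ℕ, y ^ k = y ^ (k % 5) := fun k => by
    rw [← pow_mod_orderOf, hy]
  obtain ⟨E, eE⟩ : ∃ E : Subgroup G, E = Subgroup.zpowers y ⊔ Subgroup.zpowers z := ⟨_, rfl⟩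
  have hyE : y ∈ E := eE ▸ Subgroup.mem_sup_left (Subgroup.mem_zpowers y)
  have hzE : z ∈ E := eE ▸ Subgroup.mem_sup_right (Subgroup.mem_zpowers z)
  have hdis : Disjoint (Subgroup.zpowers z) (Subgroup.zpowers y) := by
    rw [Subgroup.disjoint_def]
    intro w hw1 hw2
    by_contra hne
    have h1 : Subgroup.zpowers w = Subgroup.zpowers z := Subgroup.eq_of_le_of_card_ge
      (Subgroup.zpowers_le.2 hw1) (by
        have h5 : orderOf w ∣ 5 := hz ▸ (Nat.card_zpowers z ▸ Subgroup.orderOf_dvd_natCard _ hw1)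
        rw [Nat.card_zpowers, Nat.card_zpowers, hz,
          ((Nat.dvd_prime (by norm_num)).1 h5).resolve_left fun e => hne (orderOf_eq_one_iff.1 e)])
    exact hzy (Subgroup.zpowers_le.2 hw2 (h1 ▸ Subgroup.mem_zpowers z))
  have hnorm : ∀ w ∈ E, ∃ i j : ℤ, w = z ^ i * y ^ j := by
    intro w hw
    rw [eE, ← Subgroup.closure_eq (Subgroup.zpowers y), ← Subgroup.closure_eq (Subgroup.zpowers z),
      ← Subgroup.closure_union] at hw
    induction hw using Subgroup.closure_induction with
    | mem v hv =>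
      rcases hv with hv | hv <;> obtain ⟨i, rfl⟩ := Subgroup.mem_zpowers_iff.1 hv
      · exact ⟨0, i, by simp⟩
      · exact ⟨i, 0, by simp⟩
    | one => exact ⟨0, 0, by simp⟩
    | mul v w _ _ hv hw =>
      obtain ⟨i, j, rfl⟩ := hv
      obtain ⟨k, l, rfl⟩ := hw
      exact ⟨i + k, j + l, by
        rw [zpow_add, zpow_add, mul_assoc, mul_assoc, ← mul_assoc (y ^ j),
          ((hyz.zpow_zpow j k)).eq, mul_assoc]⟩
    | inv v _ hv =>
      obtain ⟨i, j, rfl⟩ := hv
      exact ⟨-i, -j, by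
        rw [mul_inv_rev, ← zpow_neg, ← zpow_neg, ((hyz.zpow_zpow (-j) (-i))).eq]⟩
  have hEcard : Nat.card ↥E = 25 := by
    rw [card_factor (A := Subgroup.zpowers z) (B := Subgroup.zpowers y) (H := E)
      (Subgroup.zpowers_le.2 hzE) (Subgroup.zpowers_le.2 hyE) hdis (fun w hw => by
        obtain ⟨i, j, rfl⟩ := hnorm w hw
        exact ⟨z ^ i, Subgroup.zpow_mem_zpowers z i, by simp⟩),
      Nat.card_zpowers, Nat.card_zpowers, hy, hz]
  -- the six lines
  obtain ⟨L, eL⟩ : ∃ L : Option (Fin 5) → G, L = fun o => o.elim y fun i => z * y ^ (i : ℕ) :=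
    ⟨_, rfl⟩
  have hLo : ∀ o, orderOf (L o) = 5 := by
    rintro (_ | i)
    · rw [eL]; exact hy
    · rw [eL]
      refine orderOf_eq_prime ?_ fun e0 => ?_
      · simp only [Option.elim_some]
        rw [(hyz.symm.pow_right _).mul_pow, ← pow_mul, hy5 ((i : ℕ) * 5), Nat.mul_mod_left,
          pow_zero, mul_one, ← hz, pow_orderOf_eq_one]
      · simp only [Option.elim_some] at e0
        exact hzy (by rw [eq_inv_of_mul_eq_one_left e0]; exact inv_mem (Subgroup.npow_mem_zpowers _ _))
  have hLE : ∀ o, L o ∈ E := by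
    rintro (_ | i) <;> rw [eL]
    · exact hyE
    · exact mul_mem hzE (Subgroup.pow_mem _ hyE _)
  have hgen : ∀ k ∈ E, k ≠ 1 → ∃ o, L o ∈ Subgroup.zpowers k := by
    intro k hk hk1
    obtain ⟨i, j, rfl⟩ := hnorm k hk
    by_cases hi : (5 : ℤ) ∣ i
    · refine ⟨none, ?_⟩
      obtain ⟨m, rfl⟩ := hi
      have hz1 : z ^ ((5 : ℤ) * m) = 1 := by
        rw [zpow_mul, show z ^ (5 : ℤ) = 1 by
          rw [zpow_ofNat, ← hz, pow_orderOf_eq_one], one_zpow]
      rw [hz1, one_mul] at hk1 ⊢
      have h5 : ¬ (5 : ℤ) ∣ j := fun h5 => hk1 (by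
        obtain ⟨m, rfl⟩ := h5
        rw [zpow_mul, show y ^ (5 : ℤ) = 1 by rw [zpow_ofNat, ← hy, pow_orderOf_eq_one], one_zpow])
      obtain ⟨u, v, huv⟩ : IsCoprime (5 : ℤ) j := by
        rw [Int.isCoprime_iff_gcd_eq_one, Int.gcd_def]
        refine (Nat.Prime.coprime_iff_not_dvd (p := 5) (by norm_num)).2 fun h' => h5 ?_
        exact Int.natAbs_dvd_natAbs.1 h'
      rw [eL]
      refine Subgroup.mem_zpowers_iff.2 ⟨v, ?_⟩
      show (y ^ j) ^ v = y
      rw [← zpow_mul, show j * v = 1 + 5 * (-u) by linarith, zpow_add, zpow_one, zpow_mul,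
        show y ^ (5 : ℤ) = 1 by rw [zpow_ofNat, ← hy, pow_orderOf_eq_one], one_zpow, mul_one]
    · obtain ⟨u, v, huv⟩ : IsCoprime (5 : ℤ) i := by
        rw [Int.isCoprime_iff_gcd_eq_one, Int.gcd_def]
        refine (Nat.Prime.coprime_iff_not_dvd (p := 5) (by norm_num)).2 fun h' => hi ?_
        exact Int.natAbs_dvd_natAbs.1 h'
      refine ⟨some ⟨((j * v) % 5).toNat, by omega⟩, Subgroup.mem_zpowers_iff.2 ⟨v, ?_⟩⟩
      rw [eL]
      simp only [Option.elim_some]
      rw [((hyz.symm.zpow_zpow i j)).mul_zpow, ← zpow_mul, ← zpow_mul]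
      congr 1
      · rw [show i * v = 1 + 5 * (-u) by linarith, zpow_add, zpow_one, zpow_mul,
          show z ^ (5 : ℤ) = 1 by rw [zpow_ofNat, ← hz, pow_orderOf_eq_one], one_zpow, mul_one]
      · rw [← zpow_natCast, Int.toNat_of_nonneg (Int.emod_nonneg _ (by norm_num)),
          ← zpow_mod_orderOf y (j * v), hy]
        rfl
  have hpair : ∀ o o', o ≠ o' → ∀ d, d ∈ D → Commute d (L o) → Commute d (L o') → False := by
    intro o o' hoo d hd h1 h2
    have hboth : Commute d y ∧ Commute d z := by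
      have getz : ∀ i : Fin 5, Commute d y → Commute d (z * y ^ (i : ℕ)) → Commute d z := by
        intro i hy' hi
        have := hi.mul_right (hy'.pow_right (i : ℕ)).inv_right
        rwa [mul_inv_cancel_right] at this
      rw [eL] at h1 h2
      rcases o with _ | i <;> rcases o' with _ | i' <;>
        simp only [Option.elim_none, Option.elim_some] at h1 h2
      · exact absurd rfl hoo
      · exact ⟨h1, getz i' h1 h2⟩
      · exact ⟨h2, getz i h2 h1⟩
      · have h3 := h1.inv_right.mul_right h2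
        rw [mul_inv_rev, mul_assoc, inv_mul_cancel_left, ← zpow_natCast y, ← zpow_natCast y,
          ← zpow_neg, ← zpow_add] at h3
        have hne5 : ¬ (5 : ℤ) ∣ (-(i : ℤ) + i') := by
          intro h5
          refine hoo (congrArg some (Fin.ext ?_))
          have := i.2
          have := i'.2
          omega
        obtain ⟨u, v, huv⟩ : IsCoprime (5 : ℤ) (-(i : ℤ) + i') := by
          rw [Int.isCoprime_iff_gcd_eq_one, Int.gcd_def]
          refine (Nat.Prime.coprime_iff_not_dvd (p := 5) (by norm_num)).2 fun h' => hne5 ?_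
          exact Int.natAbs_dvd_natAbs.1 h'
        have hy' : Commute d y := by
          have h4 := h3.zpow_right v
          rwa [← zpow_mul, show (-(i : ℤ) + i') * v = 1 + 5 * (-u) by linarith, zpow_add, zpow_one,
            zpow_mul, show y ^ (5 : ℤ) = 1 by rw [zpow_ofNat, ← hy, pow_orderOf_eq_one], one_zpow,
            mul_one] at h4
        exact ⟨hy', getz i hy' h1⟩
    have hle : E ≤ Subgroup.centralizer ({d} : Set G) := by
      rw [eE, sup_le_iff, Subgroup.zpowers_le, Subgroup.zpowers_le]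
      exact ⟨Subgroup.mem_centralizer_singleton_iff.2 hboth.1.symm.eq,
        Subgroup.mem_centralizer_singleton_iff.2 hboth.2.symm.eq⟩
    have := Subgroup.card_dvd_of_le hle
    rw [hEcard, card_centralizer hD hP h hd] at this
    norm_num at this
  have hline : ∀ o, (Fx D (L o)).Nonempty → (Fx D (L o)).ncard = 10 := fun o ho => by
    rw [(m22_five_conf hD hP h (hLo o) ho).ncard]; rfl
  obtain ⟨T, eT⟩ : ∃ T : Set G, T = ⋃ o, Fx D (L o) := ⟨_, rfl⟩
  have hTcard : T.ncard = ∑ o, (Fx D (L o)).ncard := by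
    rw [eT, Set.ncard_iUnion_of_finite (fun o => Set.toFinite _) (fun o o' hoo => by
      rw [Function.onFun, Set.disjoint_left]
      exact fun d h1 h2 => hpair o o' hoo d h1.1 h1.2 h2.2), finsum_eq_sum_of_fintype]
  have hdvd : 25 ∣ (D \ T).ncard := by
    rw [← hEcard]
    refine dvd_ncard_of_free (fun k hk a ha => ?_) (fun k hk a ha hc => ?_)
    · refine ⟨hD.2.1 k a ha.1, fun h' => ha.2 ?_⟩
      rw [eT, Set.mem_iUnion] at h' ⊢
      obtain ⟨o, ho⟩ := h'
      refine ⟨o, ha.1, ?_⟩
      have hck : k * (L o) * k⁻¹ = L o := by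
        obtain ⟨i, j, rfl⟩ := hnorm k hk
        obtain ⟨i', j', e'⟩ := hnorm (L o) (hLE o)
        have hzc : Commute z (L o) := e' ▸ ((Commute.refl z).zpow_right i').mul_right (hyz.symm.zpow_right j')
        have hyc : Commute y (L o) := e' ▸ (hyz.zpow_right i').mul_right ((Commute.refl y).zpow_right j')
        exact mul_inv_eq_iff_eq_mul.2 ((hzc.zpow_left i).mul_left (hyc.zpow_left j)).eq
      have h2 := ho.2
      rw [← hck] at h2
      exact (commute_conj_iff k a (L o)).1 h2
    · by_contra hk1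
      obtain ⟨o, ho⟩ := hgen k hk hk1
      obtain ⟨i, hi⟩ := Subgroup.mem_zpowers_iff.1 ho
      refine ha.2 ?_
      rw [eT, Set.mem_iUnion]
      exact ⟨o, ha.1, hi ▸ hc.zpow_right i⟩
  have hsum : (D \ T).ncard + T.ncard = 3510 := by
    rw [← m22_card_D hD hP h]
    refine Set.ncard_sdiff_add_ncard_of_subset ?_ (Set.toFinite _)
    rw [eT]
    exact Set.iUnion_subset fun o d hd => hd.1
  have hall : ∀ o, (Fx D (L o)).Nonempty := by
    intro o
    by_contra hno
    have hT50 : T.ncard ≤ 50 := by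
      rw [hTcard, ← Finset.add_sum_erase _ _ (Finset.mem_univ o),
        Set.not_nonempty_iff_eq_empty.1 hno, Set.ncard_empty, zero_add]
      refine le_trans (Finset.sum_le_card_nsmul _ _ 10 fun o' _ => ?_) ?_
      · by_cases ho' : (Fx D (L o')).Nonempty
        · exact le_of_eq (hline o' ho')
        · rw [Set.not_nonempty_iff_eq_empty.1 ho', Set.ncard_empty]; norm_num
      · rw [Finset.card_erase_of_mem (Finset.mem_univ o)]; simp
    have hT20 : 20 ≤ T.ncard := by
      rw [hTcard]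
      have hsub : ({none, some 0} : Finset (Option (Fin 5))) ⊆ Finset.univ := Finset.subset_univ _
      refine le_trans (le_of_eq ?_) (Finset.sum_le_sum_of_subset hsub)
      rw [Finset.sum_pair (by simp)]
      rw [hline none (by rw [eL]; exact hfy), hline (some 0) (by rw [eL]; simpa using hfz)]
    have h10 : 10 ∣ T.ncard := by
      rw [hTcard]
      refine Finset.dvd_sum fun o' _ => ?_
      by_cases ho' : (Fx D (L o')).Nonempty
      · rw [hline o' ho']
      · rw [Set.not_nonempty_iff_eq_empty.1 ho', Set.ncard_empty]; norm_num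
    omega
  -- every element of order five is conjugate into the group
  have hP5 : IsPGroup 5 ↥E := IsPGroup.of_card (n := 2) (by rw [hEcard]; norm_num)
  obtain ⟨P, hPle⟩ := hP5.exists_le_sylow
  have hPE : (P : Subgroup G) = E := (Subgroup.eq_of_le_of_card_ge hPle (by
    rw [hEcard, Sylow.card_eq_multiplicity, m22_card hD hP h]
    refine le_trans (Nat.pow_le_pow_right (by norm_num) (?_ : _ ≤ 2)) (by norm_num)
    by_contra! hh
    have := ((show Nat.Prime 5 by norm_num).pow_dvd_iff_le_factorization (by norm_num)).2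
      (Nat.succ_le_of_lt hh)
    norm_num at this)).symm
  obtain ⟨Q, hQ⟩ := (IsPGroup.of_card (p := 5) (n := 1)
    (show Nat.card ↥(Subgroup.zpowers x) = 5 ^ 1 by rw [Nat.card_zpowers, hx, pow_one])).exists_le_sylow
  obtain ⟨g, hg⟩ := MulAction.exists_smul_eq G Q P
  have hgx : g * x * g⁻¹ ∈ E := by
    rw [← hPE, ← hg, Sylow.coe_subgroup_smul]
    exact ⟨x, hQ (Subgroup.mem_zpowers x), rfl⟩
  have hne : g * x * g⁻¹ ≠ 1 := fun e0 => by
    rw [conj_eq_one_iff] at e0
    rw [e0, orderOf_one] at hx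
    omega
  obtain ⟨o, ho⟩ := hgen _ hgx hne
  have heq : Subgroup.zpowers (L o) = Subgroup.zpowers (g * x * g⁻¹) :=
    Subgroup.eq_of_le_of_card_ge (Subgroup.zpowers_le.2 ho) (by
      rw [Nat.card_zpowers, Nat.card_zpowers, Trans3.orderOf_conj, hx, hLo])
  obtain ⟨d, hd, hdc⟩ := hall o
  obtain ⟨i, hi⟩ := Subgroup.mem_zpowers_iff.1 (heq ▸ Subgroup.mem_zpowers (g * x * g⁻¹) :
    g * x * g⁻¹ ∈ Subgroup.zpowers (L o))
  refine ⟨g⁻¹ * d * g, by simpa using hD.2.1 g⁻¹ d hd, ?_⟩
  rw [← commute_conj_iff g, show g * (g⁻¹ * d * g) * g⁻¹ = d by group, ← hi]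
  exact hdc.zpow_right i

theorem loc_m22_five : Loc D 5 5 :=
  loc_up (n := 3) (gated_m22 hD hP h) (by norm_num) (by norm_num)
    (fun d hd => loc_below22_five hD hP h hd) (fun x hx => m22_five_fixed hD hP h hx)
    (fun x hx => m22_five_conf hD hP h hx (m22_five_fixed hD hP h hx))

end M22

section M23

variable (hD : Cfsg.IsThreeTranspositionGroup D) (hP : Cfsg.IsPrimitiveUnderConj D)
variable (h : Cfsg.IsOfTypeM23 G D)
include hD hP h

theorem loc_m23_five : Loc D 5 7 := by
  haveI := Fact.mk (show Nat.Prime 5 by norm_num)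
  have hfix : ∀ x : G, orderOf x = 5 → (Fx D x).Nonempty := fun x hx =>
    exists_fixed_of_mod hD hx (by rw [m23_card_D hD hP h]; norm_num)
  have hL : ∀ d ∈ D, Loc (Db D d) 5 5 := fun d hd =>
    loc_m22_five ((nice_m23 hD h).group_Db hd) (m23_prim_below hD h hP hd) (m23_below hD h hd)
  have hW : ∀ {x b y : G}, orderOf x = 5 → b ∈ Fx D x → y ∈ Fx D x → ¬ Commute b y →
      {w ∈ Fx D x | Commute b w ∧ Commute y w}.ncard % 5 = 1 := by
    intro x b y hx hb hy hby
    have h1 := common_modEq hD (p := 5) hx hb hy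
    rw [m23_common_card hD hP h hb.1 hy.1 hby] at h1
    exact h1
  refine loc_up (n := 5) (gated_m23 hD hP h) (by norm_num) (by norm_num) hL hfix fun x hx =>
    conf_up (gated_m23 hD hP h) (by norm_num) (by norm_num) hL (by norm_num) hx (hfix x hx) ?_ ?_
  · intro b hb y hy hby _ k hk2 hk3 heq
    have := hW hx hb hy hby
    generalize {w ∈ Fx D x | Commute b w ∧ Commute y w}.ncard = N at this heq
    interval_cases k <;> norm_num [Nat.choose] at heq ⊢ <;> omega
  · intro b hb y hy hby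
    exact Set.nonempty_of_ncard_ne_zero fun e => by
      have := hW hx hb hy hby
      rw [e] at this
      norm_num at this

end M23

end CfsgLib.Trans3.Fi
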