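import Cfsg.Agent.Lib.Trans3.Basic
import Cfsg.Agent.Lib.Trans3.Graph
import Cfsg.Prelude.Def_Classical
import Cfsg.Prelude.Def_FischerSpaces
import Mathlib

/-!
Diagonal quadratic spaces over the field with three elements: vectors, reflections, isometries from
additive maps, and coordinates on the products of commuting elements of order three.
-/

set_option autoImplicit false

namespace CfsgLib.Trans3.Fi.SS

variable {n : ℕ}

/-- The bilinear form with the given diagonal. -/
def bs (μ : Fin n → ZMod 3) (u v : Fin n → ZMod 3) : ZMod 3 := ∑ i, μ i * (u i * v i)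

/-- The quadratic form with the given diagonal. -/
def qs (μ : Fin n → ZMod 3) (v : Fin n → ZMod 3) : ZMod 3 := ∑ i, μ i * (v i * v i)

/-- The reflection. -/
def rs (μ : Fin n → ZMod 3) (r v : Fin n → ZMod 3) : Fin n → ZMod 3 := v + bs μ r v • r

variable {μ : Fin n → ZMod 3}

theorem qs_eq (v : Fin n → ZMod 3) : qs μ v = bs μ v v := rfl

theorem bs_comm (u v : Fin n → ZMod 3) : bs μ u v = bs μ v u :=
  Finset.sum_congr rfl fun i _ => by ring

theorem bs_add (r a b : Fin n → ZMod 3) : bs μ r (a + b) = bs μ r a + bs μ r b := by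
  simp [bs, mul_add, Finset.sum_add_distrib]

theorem bs_smul (r a : Fin n → ZMod 3) (t : ZMod 3) : bs μ r (t • a) = t * bs μ r a := by
  simp only [bs, Finset.mul_sum, Pi.smul_apply, smul_eq_mul]
  exact Finset.sum_congr rfl fun i _ => by ring

theorem bs_smul' (r a : Fin n → ZMod 3) (t : ZMod 3) : bs μ (t • r) a = t * bs μ r a := by
  rw [bs_comm, bs_smul, bs_comm]

theorem bs_single (i : Fin n) (t : ZMod 3) (r : Fin n → ZMod 3) :
    bs μ r (Pi.single i t) = μ i * (r i * t) := by
  simp [bs, Pi.single_apply]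

theorem qs_single (i : Fin n) (t : ZMod 3) : qs μ (Pi.single i t) = μ i * (t * t) := by
  rw [qs_eq, bs_single, Pi.single_eq_same]

theorem rs_add (r a b : Fin n → ZMod 3) : rs μ r (a + b) = rs μ r a + rs μ r b := by
  simp only [rs, bs_add, add_smul]
  abel

theorem rs_smul (r a : Fin n → ZMod 3) (t : ZMod 3) : rs μ r (t • a) = t • rs μ r a := by
  simp only [rs, bs_smul, smul_add, smul_smul]

theorem bs_rs {r : Fin n → ZMod 3} (hr : qs μ r = 1) (a b : Fin n → ZMod 3) :
    bs μ (rs μ r a) (rs μ r b) = bs μ a b := by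
  have h3 : (3 : ZMod 3) = 0 := by decide
  have e1 : bs μ (rs μ r a) (rs μ r b) =
      bs μ a b + (bs μ r a * bs μ r b) * 2 + bs μ r a * bs μ r b * bs μ r r := by
    rw [rs, rs, bs_add, bs_comm (a + _) b, bs_add, bs_comm (a + _) (_ • r), bs_add, bs_smul',
      bs_smul', bs_smul, bs_comm b a, bs_comm b r, bs_smul]
    ring
  rw [e1, ← qs_eq, hr]
  linear_combination (bs μ r a * bs μ r b) * h3

theorem qs_rs {r : Fin n → ZMod 3} (hr : qs μ r = 1) (a : Fin n → ZMod 3) :
    qs μ (rs μ r a) = qs μ a := bs_rs hr a a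

theorem rs_rs {r : Fin n → ZMod 3} (hr : qs μ r = 1) (a : Fin n → ZMod 3) :
    rs μ r (rs μ r a) = a := by
  have h3 : ∀ b : ZMod 3, b + (b + b * 1) = 0 := by decide
  rw [rs, rs, bs_add, bs_smul, ← qs_eq, hr, add_assoc, ← add_smul]
  rw [h3, zero_smul, add_zero]

theorem rs_scale {t : ZMod 3} (ht : t ≠ 0) (r c : Fin n → ZMod 3) : rs μ (t • r) c = rs μ r c := by
  have h2 : ∀ a b : ZMod 3, a ≠ 0 → a * b * a = b := by decide
  rw [rs, rs, bs_smul', smul_smul, h2 _ _ ht]

/-- Conjugating a reflection by another. -/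
theorem rs_conj {s : Fin n → ZMod 3} (hs : qs μ s = 1) (r a : Fin n → ZMod 3) :
    rs μ s (rs μ r (rs μ s a)) = rs μ (rs μ s r) a := by
  have e : bs μ r (rs μ s a) = bs μ (rs μ s r) a := by
    conv_rhs => rw [← rs_rs hs a]
    rw [bs_rs hs]
  rw [show rs μ r (rs μ s a) = rs μ s a + bs μ r (rs μ s a) • r from rfl, rs_add, rs_rs hs, rs_smul,
    e]
  rfl

theorem single_smul (i : Fin n) (t : ZMod 3) :
    (Pi.single i t : Fin n → ZMod 3) = t.val • Pi.single i 1 := by
  funext j
  simp only [Pi.smul_apply, Pi.single_apply, smul_ite, smul_zero, nsmul_one, ZMod.natCast_zmod_val]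

theorem induction_basis (P : (Fin n → ZMod 3) → Prop) (h0 : P 0)
    (ha : ∀ a b, P a → P b → P (a + b)) (hb : ∀ i, P (Pi.single i 1)) (c : Fin n → ZMod 3) :
    P c := by
  rw [← Finset.univ_sum_single c]
  refine Finset.sum_induction _ P ha h0 fun i _ => ?_
  rw [single_smul]
  induction (c i).val with
  | zero => rwa [zero_smul]
  | succ k ih => rw [succ_nsmul]; exact ha _ _ ih (hb i)

/-- The isometry given by an injective additive map preserving the form. -/
theorem exists_iso {Q : (Fin n → ZMod 3) → ZMod 3} {f : (Fin n → ZMod 3) → (Fin n → ZMod 3)}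
    (hf : ∀ a b, f (a + b) = f a + f b) (hi : Function.Injective f) (hq : ∀ v, Q (f v) = Q v) :
    ∃ M : ↥(Cfsg.isometryGroup (ZMod 3) Q), ∀ x,
      ((M : Matrix.GeneralLinearGroup (Fin n) (ZMod 3)) :
        Matrix (Fin n) (Fin n) (ZMod 3)).mulVec x = f x := by
  obtain ⟨L, hL⟩ : ∃ L : (Fin n → ZMod 3) →ₗ[ZMod 3] (Fin n → ZMod 3), ∀ x, L x = f x :=
    ⟨AddMonoidHom.toZModLinearMap 3 (AddMonoidHom.mk' f hf), fun _ => rfl⟩
  obtain ⟨M, hM⟩ : ∃ M : Matrix (Fin n) (Fin n) (ZMod 3), ∀ x, M.mulVec x = f x :=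
    ⟨LinearMap.toMatrix' L, fun x => by rw [← hL]; exact LinearMap.toMatrix'_mulVec L x⟩
  haveI : Fact (Nat.Prime 3) := ⟨Nat.prime_three⟩
  have hu : IsUnit M := Matrix.mulVec_injective_iff_isUnit.1 (by rw [funext hM]; exact hi)
  exact ⟨⟨hu.unit, fun u _ => (congrArg Q (hM u)).trans (hq u)⟩, hM⟩

section Coord

variable {G : Type*} [Group G]

/-- The product of the powers. -/
def coord : {n : ℕ} → (Fin n → G) → (Fin n → ZMod 3) → G
  | 0, _, _ => 1
  | _ + 1, g, c => g 0 ^ (c 0).val * coord (Fin.tail g) (Fin.tail c)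

theorem coord_cons (g : Fin (n + 1) → G) (a : ZMod 3) (c : Fin n → ZMod 3) :
    coord g (Fin.cons a c) = g 0 ^ a.val * coord (Fin.tail g) c := by
  rw [coord, Fin.cons_zero, Fin.tail_cons]

theorem coord_cons_zero (g : Fin (n + 1) → G) (c : Fin n → ZMod 3) :
    coord g (Fin.cons 0 c) = coord (Fin.tail g) c := by
  rw [coord_cons, ZMod.val_zero, pow_zero, one_mul]

theorem coord_zero : ∀ {n : ℕ} (g : Fin n → G), coord g 0 = 1
  | 0, _ => rfl
  | _ + 1, g => by
    rw [coord, show Fin.tail (0 : Fin (_ + 1) → ZMod 3) = 0 from rfl, coord_zero]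
    simp

theorem coord_single : ∀ {n : ℕ} (g : Fin n → G) (i : Fin n), coord g (Pi.single i 1) = g i
  | 0, _, i => i.elim0
  | n + 1, g, i => by
    refine Fin.cases ?_ (fun j => ?_) i
    · rw [coord, Pi.single_eq_same, show Fin.tail (Pi.single (0 : Fin (n + 1)) (1 : ZMod 3) : Fin (n + 1) → ZMod 3) = 0 from
        funext fun j => Pi.single_eq_of_ne (M := fun _ => ZMod 3) (Fin.succ_ne_zero j) 1, coord_zero,
        show (1 : ZMod 3).val = 1 from rfl]
      simp
    · rw [coord, Pi.single_eq_of_ne (Fin.succ_ne_zero j).symm,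
        show Fin.tail (Pi.single j.succ (1 : ZMod 3) : Fin (n + 1) → ZMod 3) = Pi.single j 1 from
          funext fun k => by simp [Fin.tail, Pi.single_apply],
        coord_single (Fin.tail g) j]
      simp [Fin.tail]

theorem coord_commute : ∀ {n : ℕ} (g : Fin n → G) (x : G), (∀ i, Commute x (g i)) →
    ∀ c, Commute x (coord g c)
  | 0, _, x, _, _ => Commute.one_right x
  | _ + 1, g, x, h, c =>
    ((h 0).pow_right _).mul_right (coord_commute (Fin.tail g) x (fun i => h i.succ) _)

theorem coord_add : ∀ {n : ℕ} (g : Fin n → G), (∀ i, g i ^ 3 = 1) →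
    (∀ i j, Commute (g i) (g j)) → ∀ a b, coord g (a + b) = coord g a * coord g b
  | 0, _, _, _, _, _ => (mul_one 1).symm
  | _ + 1, g, h3, hc, a, b => by
    have ih := coord_add (Fin.tail g) (fun i => h3 i.succ) (fun i j => hc i.succ j.succ)
      (Fin.tail a) (Fin.tail b)
    have hmove : Commute (coord (Fin.tail g) (Fin.tail a)) (g 0 ^ (b 0).val) :=
      (coord_commute (Fin.tail g) _ (fun i => (hc 0 i.succ).pow_left _) _).symm
    simp only [coord]
    rw [show Fin.tail (a + b) = Fin.tail a + Fin.tail b from rfl, ih, Pi.add_apply, ZMod.val_add,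
      ← pow_eq_pow_mod _ (h3 0), pow_add]
    calc g 0 ^ (a 0).val * g 0 ^ (b 0).val *
          (coord (Fin.tail g) (Fin.tail a) * coord (Fin.tail g) (Fin.tail b))
        = g 0 ^ (a 0).val * (g 0 ^ (b 0).val * coord (Fin.tail g) (Fin.tail a)) *
            coord (Fin.tail g) (Fin.tail b) := by simp only [mul_assoc]
      _ = _ := by rw [← hmove.eq]; simp only [mul_assoc]

theorem coord_neg (g : Fin n → G) (h3 : ∀ i, g i ^ 3 = 1) (hc : ∀ i j, Commute (g i) (g j))
    (a : Fin n → ZMod 3) : coord g (-a) = (coord g a)⁻¹ :=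
  eq_inv_of_mul_eq_one_left (by rw [← coord_add g h3 hc, neg_add_cancel, coord_zero])

theorem coord_cube (g : Fin n → G) (h3 : ∀ i, g i ^ 3 = 1) (hc : ∀ i j, Commute (g i) (g j))
    (a : Fin n → ZMod 3) : coord g a ^ 3 = 1 := by
  rw [pow_succ, pow_two, ← coord_add g h3 hc, ← coord_add g h3 hc,
    show a + a + a = 0 from funext fun j => (by decide : ∀ z : ZMod 3, z + z + z = 0) _, coord_zero]

/-- Additive maps agreeing on the coordinate vectors agree. -/
theorem hom_ext {f f' : (Fin n → ZMod 3) → G} (h : ∀ a b, f (a + b) = f a * f b)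
    (h' : ∀ a b, f' (a + b) = f' a * f' b) (hi : ∀ i, f (Pi.single i 1) = f' (Pi.single i 1))
    (c : Fin n → ZMod 3) : f c = f' c := by
  have e0 : ∀ g : (Fin n → ZMod 3) → G, (∀ a b, g (a + b) = g a * g b) → g 0 = 1 := fun g hg => by
    have := hg 0 0; rw [add_zero, left_eq_mul] at this; exact this
  exact induction_basis (fun v => f v = f' v) (by rw [e0 f h, e0 f' h'])
    (fun a b p q => by rw [h, h', p, q]) hi c

/-- Every element of the group generated is a product of powers. -/
theorem coord_mem (g : Fin n → G) (h3 : ∀ i, g i ^ 3 = 1) (hc : ∀ i j, Commute (g i) (g j))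
    {x : G} : x ∈ Subgroup.closure (Set.range g) ↔ ∃ c, coord g c = x := by
  constructor
  · intro hx
    induction hx using Subgroup.closure_induction with
    | mem z hz => obtain ⟨i, rfl⟩ := hz; exact ⟨_, coord_single g i⟩
    | one => exact ⟨0, coord_zero g⟩
    | mul s t _ _ h1 h2 =>
      obtain ⟨a, rfl⟩ := h1; obtain ⟨b, rfl⟩ := h2
      exact ⟨a + b, coord_add g h3 hc a b⟩
    | inv s _ h1 =>
      obtain ⟨a, rfl⟩ := h1
      exact ⟨-a, coord_neg g h3 hc a⟩
  · rintro ⟨c, rfl⟩
    refine induction_basis (fun c => coord g c ∈ Subgroup.closure (Set.range g))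
      (by rw [coord_zero]; exact one_mem _) (fun a b p q => by rw [coord_add g h3 hc]; exact mul_mem p q)
      (fun i => by rw [coord_single]; exact Subgroup.subset_closure ⟨i, rfl⟩) c

/-- A homomorphism carries the products. -/
theorem coord_map {H : Type*} [Group H] (f : G →* H) :
    ∀ {n : ℕ} (g : Fin n → G) (c : Fin n → ZMod 3), f (coord g c) = coord (f ∘ g) c
  | 0, _, _ => map_one f
  | _ + 1, g, c => by
    simp only [coord, map_mul, map_pow, coord_map f (Fin.tail g)]
    rfl

end Coord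

end CfsgLib.Trans3.Fi.SS
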