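import Cfsg.Agent.Lib.Trans3.Fi.Vec

/-!
An involution of `SU₆(2)` whose conjugates give products of order at most three is a transvection.
-/

set_option autoImplicit false
set_option linter.unusedSectionVars false
set_option linter.unusedSimpArgs false

namespace CfsgLib.Trans3.Fi

open Matrix CfsgLib.MaxSub CfsgLib.Classical CfsgLib.Trans3.TvSU

variable {F : Type*} [Field F] [Fintype F] (hF : Fintype.card F = 2 ^ 2)
include hF

theorem act_add (g : ↥(Cfsg.SU 6 F 2)) (x y : Fin 6 → F) : act g (x + y) = act g x + act g y :=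
  mulVec_add _ _ _

theorem act_smul (g : ↥(Cfsg.SU 6 F 2)) (c : F) (x : Fin 6 → F) : act g (c • x) = c • act g x :=
  mulVec_smul _ _ _

variable {g : ↥(Cfsg.SU 6 F 2)} (hg : g * g = 1)
include hg

theorem act_act (x : Fin 6 → F) : act g (act g x) = x := by rw [← act_mul, hg, act_one]

theorem hh_invol (x y : Fin 6 → F) : hh (act g x) y = hh x (act g y) := by
  rw [← hh_act g x (act g y), act_act hF hg]

theorem act_moved (x : Fin 6 → F) : act g (act g x + x) = act g x + x := by
  rw [act_add hF, act_act hF hg, add_comm]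

/-- A non-trivial involution moves some vector in a direction not orthogonal to it. -/
theorem exists_moved (hne : g ≠ 1) : ∃ x, hh (act g x + x) x = 1 := by
  by_contra! hall
  have h0 : ∀ x, hh (act g x + x) x = 0 := fun x => by
    refine ((fixed hF ?_).resolve_right (hall x))
    rw [hh_conj hF, hh_add_right hF, hh_add_left hF, hh_invol hF hg]
  refine hne (act_ext fun x => ?_)
  rw [act_one]
  refine vec_eq_of_add hF _ _ ?_
  have hanti : ∀ u w, hh (act g u + u) w = hh (act g u + u) w ^ 2 := by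
    intro u w
    have h1 := h0 (u + w)
    rw [act_add hF, show act g u + act g w + (u + w) = (act g u + u) + (act g w + w) by abel,
      hh_add_left hF, hh_add_right hF, hh_add_right hF, h0, h0] at h1
    have h2 : hh (act g w + w) u = hh (act g u + u) w ^ 2 := by
      rw [hh_conj hF, hh_add_left hF, hh_add_right hF, hh_invol hF hg]
    rw [h2] at h1
    linear_combination h1 - add_self hF (hh (act g u + u) w ^ 2)
  apply eq_zero_of_hh hF
  intro w
  apply hh_symm_zero hF
  obtain ⟨ω, hω⟩ := exists_omega hF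
  have h1 := hanti x w
  have h2 := hanti x (ω • w)
  rw [hh_smul_right hF, mul_pow, pow_four hF] at h2
  linear_combination h2 - ω * h1 - hh (act g x + x) w * hω +
    (ω * hh (act g x + x) w) * add_self hF 1

/-- Splitting off one transvection. -/
theorem exists_split {x : Fin 6 → F} (hx : hh (act g x + x) x = 1) :
    ∃ u v : Fin 6 → F, hh u u = 0 ∧ hh v v = 0 ∧ hh u v = 1 ∧ act g u = u ∧
      act g v = v + u ∧ (∃ l : F, v = x + l • u) ∧ u = act g x + x := by
  have hu := act_moved hF hg x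
  have huu : hh (act g x + x) (act g x + x) = 0 := by
    rw [hh_add_right hF, ← hh_invol hF hg, hu, add_self hF]
  obtain ⟨l, h1, h2⟩ := exists_pair hF huu hx
  refine ⟨_, _, huu, h1, h2, hu, ?_, ⟨l, rfl⟩, rfl⟩
  rw [act_add hF, act_smul hF, hu, show x + l • (act g x + x) + (act g x + x) =
    act g x + l • (act g x + x) + (x + x) by abel, vec_add_self hF, add_zero]

theorem split_fix {u v : Fin 6 → F} (huu : hh u u = 0) (huv : hh u v = 1) (hu : act g u = u)
    (hv : act g v = v + u) :
    Commute g (tv hF u) ∧ (g * tv hF u) * (g * tv hF u) = 1 ∧ act (g * tv hF u) u = u ∧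
      act (g * tv hF u) v = v := by
  have hc : Commute g (tv hF u) := by
    have h := conj_tv hF g huu
    rw [hu] at h
    exact mul_inv_eq_iff_eq_mul.1 h
  refine ⟨hc, ?_, ?_, ?_⟩
  · rw [mul_assoc, ← mul_assoc (tv hF u), ← hc.eq, mul_assoc g (tv hF u), tv_sq hF huu, mul_one,
      hg]
  · rw [act_mul, tv_act hF huu, huu, zero_smul, add_zero, hu]
  · rw [act_mul, tv_act hF huu, hh_symm_one hF huv, one_smul, act_add hF, hv, hu, add_assoc,
      vec_add_self hF, add_zero]

omit hg in
/-- A vector moved by a transvection product which is not an eigenvector. -/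
theorem word_not_central {u v u' v' : Fin 6 → F} (huu : hh u u = 0) (hvv : hh v v = 0)
    (huv : hh u v = 1) (huu' : hh u' u' = 0) (hvv' : hh v' v' = 0) (huv' : hh u' v' = 1)
    (h1 : hh u u' = 0) (h2 : hh u v' = 0) (h3 : hh v u' = 0) (h4 : hh v v' = 0)
    {w : ↥(Cfsg.SU 6 F 2)} (hw : w = tv hF u * tv hF u' * (tv hF v * tv hF (v + v'))) :
    w * w ∉ Subgroup.center ↥(Cfsg.SU 6 F 2) ∧ w * w * w ∉ Subgroup.center ↥(Cfsg.SU 6 F 2) := by
  have k1 := hh_symm_one hF huv
  have k2 := hh_symm_one hF huv'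
  have k3 := hh_symm_zero hF h1
  have k4 := hh_symm_zero hF h2
  have k5 := hh_symm_zero hF h3
  have k6 := hh_symm_zero hF h4
  have hq : hh (v + v') (v + v') = 0 := by
    simp only [hh_add_left hF, hh_add_right hF, hvv, hvv', h4, k6, add_zero]
  have e1 : act w u = u + u' + v' := by
    rw [hw]
    simp only [act_mul, tv_act hF hq, tv_act hF hvv, tv_act hF huu, tv_act hF huu',
      hh_add_left hF, hh_add_right hF, hh_smul_left hF, huu, hvv, huv, huu', hvv', huv',
      h1, h2, h3, h4, k1, k2, k3, k4, k5, k6, add_zero, zero_add, mul_zero, mul_one,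
      one_smul, zero_smul, add_self hF 1]
    rw [show u + (v + v') + v + u' = u + u' + v' + (v + v) by abel, vec_add_self hF, add_zero]
  have e2 : act w (u + u' + v') = v + v' := by
    rw [hw]
    simp only [act_mul, tv_act hF hq, tv_act hF hvv, tv_act hF huu, tv_act hF huu',
      hh_add_left hF, hh_add_right hF, hh_smul_left hF, huu, hvv, huv, huu', hvv', huv',
      h1, h2, h3, h4, k1, k2, k3, k4, k5, k6, add_zero, zero_add, mul_zero, mul_one,
      one_smul, zero_smul, add_self hF 1]
    rw [show u + u' + v' + v + u' + u = v + v' + ((u + u) + (u' + u')) by abel,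
      vec_add_self hF, vec_add_self hF, add_zero, add_zero]
  have e3 : act w (v + v') = v + v' + u' + u := by
    rw [hw]
    simp only [act_mul, tv_act hF hq, tv_act hF hvv, tv_act hF huu, tv_act hF huu',
      hh_add_left hF, hh_add_right hF, hh_smul_left hF, huu, hvv, huv, huu', hvv', huv',
      h1, h2, h3, h4, k1, k2, k3, k4, k5, k6, add_zero, zero_add, mul_zero, mul_one,
      one_smul, zero_smul, add_self hF 1]
  refine ⟨fun hz => ?_, fun hz => ?_⟩
  · obtain ⟨c, hc, hc'⟩ := center_act hF hz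
    have := congrArg (fun x => hh x v) (hc' u)
    rw [act_mul, e1, e2] at this
    simp only [hh_add_left hF, hh_smul_left hF, huv, hvv, k6, add_zero, mul_one] at this
    exact hc this.symm
  · obtain ⟨c, hc, hc'⟩ := center_act hF hz
    have := congrArg (fun x => hh x u) (hc' u)
    rw [act_mul, act_mul, e1, e2, e3] at this
    simp only [hh_add_left hF, hh_smul_left hF, k1, k4, k3, huu, add_zero, mul_zero,
      one_ne_zero] at this

/-- The alternative: a transvection, or a conjugate giving a product of order above three. -/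
theorem invol_cases (hne : g ≠ 1) :
    (∃ p : Fin 6 → F, p ≠ 0 ∧ hh p p = 0 ∧ g = tv hF p) ∨
      ∃ s : ↥(Cfsg.SU 6 F 2), g * (s * g * s⁻¹) * (g * (s * g * s⁻¹)) ∉
          Subgroup.center ↥(Cfsg.SU 6 F 2) ∧
        g * (s * g * s⁻¹) * (g * (s * g * s⁻¹)) * (g * (s * g * s⁻¹)) ∉
          Subgroup.center ↥(Cfsg.SU 6 F 2) := by
  obtain ⟨x, hx⟩ := exists_moved hF hg hne
  obtain ⟨u, v, huu, hvv, huv, hu, hv, -, -⟩ := exists_split hF hg hx
  obtain ⟨hc1, hg1, hu1, hv1⟩ := split_fix hF hg huu huv hu hv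
  have hu0 : u ≠ 0 := fun h => by
    rw [h, hh_zero_left hF] at huv; exact zero_ne_one huv
  have hg1' : g = g * tv hF u * tv hF u := by rw [mul_assoc, tv_sq hF huu, mul_one]
  obtain ⟨g1, eg1⟩ : ∃ g1, g1 = g * tv hF u := ⟨_, rfl⟩
  rw [← eg1] at hg1 hu1 hv1 hg1'
  by_cases h1 : g1 = 1
  · exact Or.inl ⟨u, hu0, huu, by rw [hg1', h1, one_mul]⟩
  right
  obtain ⟨x0, hx0⟩ := exists_moved hF hg1 h1
  obtain ⟨y, ey⟩ : ∃ y, y = x0 + hh x0 v • u + hh x0 u • v := ⟨_, rfl⟩
  have hN : act g1 y + y = act g1 x0 + x0 := by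
    rw [ey, act_add hF, act_add hF, act_smul hF, act_smul hF, hu1, hv1,
      show act g1 x0 + hh x0 v • u + hh x0 u • v + (x0 + hh x0 v • u + hh x0 u • v) =
        act g1 x0 + x0 + ((hh x0 v • u + hh x0 v • u) + (hh x0 u • v + hh x0 u • v)) by abel,
      vec_add_self hF, vec_add_self hF, add_zero, add_zero]
  have hNu : hh (act g1 x0 + x0) u = 0 := by
    rw [hh_add_left hF, hh_invol hF hg1, hu1, add_self hF]
  have hNv : hh (act g1 x0 + x0) v = 0 := by
    rw [hh_add_left hF, hh_invol hF hg1, hv1, add_self hF]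
  have hy : hh (act g1 y + y) y = 1 := by
    rw [hN, ey, hh_add_right hF, hh_add_right hF, hh_smul_right hF, hh_smul_right hF, hNu, hNv,
      hx0, mul_zero, mul_zero, add_zero, add_zero]
  have hyu : hh y u = 0 := by
    rw [ey, hh_add_left hF, hh_add_left hF, hh_smul_left hF, hh_smul_left hF, huu,
      hh_symm_one hF huv]
    linear_combination add_self hF (hh x0 u)
  have hyv : hh y v = 0 := by
    rw [ey, hh_add_left hF, hh_add_left hF, hh_smul_left hF, hh_smul_left hF, hvv, huv]
    linear_combination add_self hF (hh x0 v)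
  obtain ⟨u', v', huu', hvv', huv', hu', hv', ⟨l, el⟩, eu'⟩ := exists_split hF hg1 hy
  rw [hN] at eu'
  rw [← eu'] at hNu hNv
  have h1' : hh u u' = 0 := hh_symm_zero hF hNu
  have h3 : hh v u' = 0 := hh_symm_zero hF hNv
  have h2 : hh u v' = 0 := by
    rw [el, hh_add_right hF, hh_smul_right hF, h1', hh_symm_zero hF hyu, mul_zero, add_zero]
  have h4 : hh v v' = 0 := by
    rw [el, hh_add_right hF, hh_smul_right hF, h3, hh_symm_zero hF hyv, mul_zero, add_zero]
  obtain ⟨hc2, hR, hRu', hRv'⟩ := split_fix hF hg1 huu' huv' hu' hv'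
  obtain ⟨R, eR⟩ : ∃ R, R = g1 * tv hF u' := ⟨_, rfl⟩
  rw [← eR] at hR hRu' hRv'
  have hRu : act R u = u := by
    rw [eR, act_mul, tv_act hF huu', h1', zero_smul, add_zero, hu1]
  have hRv : act R v = v := by
    rw [eR, act_mul, tv_act hF huu', h3, zero_smul, add_zero, hv1]
  obtain ⟨q, eq⟩ : ∃ q, q = v + v' := ⟨_, rfl⟩
  have hqq : hh q q = 0 := by
    rw [eq]
    simp only [hh_add_left hF, hh_add_right hF, hvv, hvv', h4, hh_symm_zero hF h4, add_zero]
  have hRq : act R q = q := by rw [eq, act_add hF, hRv, hRv']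
  have comm : ∀ p, hh p p = 0 → act R p = p → Commute R (tv hF p) := by
    intro p hpp hp
    have h := conj_tv hF R hpp
    rw [hp] at h
    exact mul_inv_eq_iff_eq_mul.1 h
  -- the four transvections form a chain `a' — a — b' — b`
  obtain ⟨a, ea⟩ : ∃ a, a = tv hF u := ⟨_, rfl⟩
  obtain ⟨b, eb⟩ : ∃ b, b = tv hF u' := ⟨_, rfl⟩
  obtain ⟨a', ea'⟩ : ∃ a', a' = tv hF v := ⟨_, rfl⟩
  obtain ⟨b', eb'⟩ : ∃ b', b' = tv hF q := ⟨_, rfl⟩
  have ha : a * a = 1 := by rw [ea, tv_sq hF huu]
  have hb : b * b = 1 := by rw [eb, tv_sq hF huu']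
  have ha' : a' * a' = 1 := by rw [ea', tv_sq hF hvv]
  have hb' : b' * b' = 1 := by rw [eb', tv_sq hF hqq]
  have cRa : Commute R a := ea ▸ comm _ huu hRu
  have cRb : Commute R b := eb ▸ comm _ huu' hRu'
  have cRa' : Commute R a' := ea' ▸ comm _ hvv hRv
  have cRb' : Commute R b' := eb' ▸ comm _ hqq hRq
  have cab : Commute a b := by rw [ea, eb]; exact tv_comm hF huu huu' h1'
  have hgd : g = a * b * R := by
    have : g1 = R * b := by rw [eR, eb, mul_assoc, tv_sq hF huu', mul_one]
    rw [hg1', this, ← ea, mul_assoc, ← cab.eq, ← mul_assoc, cRa.eq, mul_assoc, cRb.eq, ← mul_assoc]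
  -- `s` moves `a' b'` to `a b`
  obtain ⟨s, es⟩ : ∃ s, s = a' * a * b' * b := ⟨_, rfl⟩
  have cRs : Commute R s := es ▸ ((cRa'.mul_right cRa).mul_right cRb').mul_right cRb
  have fix_act : ∀ p r, hh p p = 0 → hh r r = 0 → act s p = r → s * tv hF p * s⁻¹ = tv hF r :=
    fun p r hpp _ h => by rw [conj_tv hF s hpp, h]
  have k1 := hh_symm_one hF huv
  have k2 := hh_symm_one hF huv'
  have k3 := hh_symm_zero hF h1'
  have k4 := hh_symm_zero hF h2
  have k5 := hh_symm_zero hF h3
  have k6 := hh_symm_zero hF h4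
  have hqq' : hh (v + v') (v + v') = 0 := by rw [← eq]; exact hqq
  have s1 : s * a' * s⁻¹ = a := by
    rw [ea', ea]
    refine fix_act v u hvv huu ?_
    rw [es, ea', ea, eb', eb]
    simp only [act_mul, eq, tv_act hF hqq', tv_act hF hvv, tv_act hF huu, tv_act hF huu',
      hh_add_left hF, hh_add_right hF, hvv, hvv', huu, huu', huv, huv', h1', h2, h3, h4, k1, k2,
      k3, k4, k5, k6, add_zero, zero_add, one_smul, zero_smul]
    rw [show v + u + v = u + (v + v) by abel, vec_add_self hF, add_zero]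
  have s2 : s * b' * s⁻¹ = b := by
    rw [eb', eb]
    refine fix_act q u' hqq huu' ?_
    rw [es, ea', ea, eb', eb, eq]
    simp only [act_mul, eq, tv_act hF hqq', tv_act hF hvv, tv_act hF huu, tv_act hF huu',
      hh_add_left hF, hh_add_right hF, hvv, hvv', huu, huu', huv, huv', h1', h2, h3, h4, k1, k2,
      k3, k4, k5, k6, add_zero, zero_add, one_smul, zero_smul, add_self hF 1]
    rw [show v + v' + u' + (v + v') = u' + ((v + v) + (v' + v')) by abel, vec_add_self hF,
      vec_add_self hF, add_zero, add_zero]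
  have hk : s⁻¹ * g * s = a' * b' * R := by
    have e : s * (a' * b' * R) = g * s := by
      calc s * (a' * b' * R) = (s * a' * s⁻¹) * (s * b' * s⁻¹) * (s * R) := by group
        _ = a * b * (R * s) := by rw [s1, s2, cRs.eq]
        _ = g * s := by simp only [hgd, mul_assoc]
    rw [mul_assoc, ← e, inv_mul_cancel_left]
  refine ⟨s⁻¹, ?_⟩
  have hw : g * (s⁻¹ * g * s⁻¹⁻¹) = a * b * (a' * b') := by
    rw [inv_inv, hk, hgd, ← mul_assoc (a * b * R), mul_assoc (a * b) R,
      (cRa'.mul_right cRb').eq, ← mul_assoc (a * b), mul_assoc (a * b * (a' * b')) R R, hR,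
      mul_one]
  rw [hw]
  exact word_not_central hF huu hvv huv huu' hvv' huv' h1' h2 h3 h4 (w := _)
    (by rw [ea, eb, ea', eb', eq])

end CfsgLib.Trans3.Fi
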