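import Cfsg.Agent.Lib.Trans3.Fi.Up

/-!
Tools for the classes of involutions of the Fischer groups: the number of factors of a product of
commuting members, transitivity on commuting tuples one level higher, and lifting of products.
-/

set_option autoImplicit false
set_option linter.unusedSectionVars false

namespace CfsgLib.Trans3.Fi

variable {G : Type*} [Group G] [Finite G] {D : Set G}

/-- Ordered commuting `k`-tuples form one class. -/
def TupleConj (D : Set G) (k : ℕ) : Prop :=
  ∀ l l' : List G, l.length = k → l'.length = k → l.Nodup → l'.Nodup →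
    (∀ u ∈ l, u ∈ D) → (∀ u ∈ l', u ∈ D) → (∀ u ∈ l, ∀ v ∈ l, Commute u v) →
    (∀ u ∈ l', ∀ v ∈ l', Commute u v) → ∃ g : G, l.map (fun u => g * u * g⁻¹) = l'

/-- Products of equally many commuting members are conjugate. -/
theorem TupleConj.isConj {k : ℕ} (hT : TupleConj D k) {x y : G} {l l' : List G}
    (h : Fac D k x l) (h' : Fac D k y l') : IsConj x y := by
  obtain ⟨g, hg⟩ := hT l l' h.2.1 h'.2.1 h.1 h'.1 h.2.2.1 h'.2.2.1 h.2.2.2.1 h'.2.2.2.1
  refine isConj_iff.2 ⟨g, ?_⟩
  rw [← h.2.2.2.2, ← h'.2.2.2.2, ← hg]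
  exact map_list_prod (MulAut.conj g) l

omit [Finite G] in
theorem tupleConj_one (hN : ∀ u ∈ D, ∀ v ∈ D, ∃ g : G, g * u * g⁻¹ = v) : TupleConj D 1 := by
  intro l l' hl hl' _ _ hm hm' _ _
  obtain ⟨u, rfl⟩ := List.length_eq_one_iff.1 hl
  obtain ⟨v, rfl⟩ := List.length_eq_one_iff.1 hl'
  obtain ⟨g, hg⟩ := hN u (hm u (by simp)) v (hm' v (by simp))
  exact ⟨g, by simp [hg]⟩

/-- Transitivity on tuples one level higher. -/
theorem tupleConj_succ (hN : Nice D) (hP : Cfsg.IsPrimitiveUnderConj D)
    (hL : ∀ a ∈ D, Lvl (Db D a)) {k : ℕ} (hT : ∀ a ∈ D, TupleConj (Db D a) k) :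
    TupleConj D (k + 1) := by
  intro l l' hl hl' hn hn' hm hm' hc hc'
  match l, l', hl, hl' with
  | a :: r, a' :: r', hl, hl' =>
    have ha := hm a List.mem_cons_self
    have ha' := hm' a' List.mem_cons_self
    obtain ⟨g, hg⟩ := hP.1 a ha a' ha'
    have hPre := pre_of_group hN.group
    have hr : ∀ u ∈ r, g * u * g⁻¹ ∈ nbrs D a' := fun u hu =>
      ⟨hN.group.2.1 g u (hm u (List.mem_cons_of_mem _ hu)), fun e => (List.nodup_cons.1 hn).1 (by
        rw [← hg] at e
        exact mul_left_cancel (mul_right_cancel e) ▸ hu), by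
        rw [← hg]
        exact (commute_conj_iff g a u).2 (hc a List.mem_cons_self u (List.mem_cons_of_mem _ hu))⟩
    have hr' : ∀ u ∈ r', u ∈ nbrs D a' := fun u hu =>
      ⟨hm' u (List.mem_cons_of_mem _ hu), fun e => (List.nodup_cons.1 hn').1 (e ▸ hu),
        hc' a' List.mem_cons_self u (List.mem_cons_of_mem _ hu)⟩
    obtain ⟨A, eA⟩ : ∃ A : List {x // x ∈ nbrs D a'}, A = r.pmap
        (fun u hu => ⟨g * u * g⁻¹, hu⟩) hr := ⟨_, rfl⟩
    obtain ⟨B, eB⟩ : ∃ B : List {x // x ∈ nbrs D a'}, B = r'.pmap Subtype.mk hr' := ⟨_, rfl⟩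
    have hAv : A.map Subtype.val = r.map fun u => g * u * g⁻¹ := by
      rw [eA, List.map_pmap]
      exact List.pmap_eq_map ..
    have hBv : B.map Subtype.val = r' := by
      rw [eB, List.map_pmap]
      exact (List.pmap_eq_map ..).trans (List.map_id _)
    have hAn : A.Nodup := List.Nodup.of_map Subtype.val (by
      rw [hAv]
      exact (List.nodup_cons.1 hn).2.map fun u v e => mul_left_cancel (mul_right_cancel e))
    have hBn : B.Nodup := List.Nodup.of_map Subtype.val (by
      rw [hBv]; exact (List.nodup_cons.1 hn').2)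
    have hAc : ∀ u ∈ A, ∀ v ∈ A, Commute u.1 v.1 := by
      intro u hu v hv
      have hu' := List.mem_map_of_mem (f := Subtype.val) hu
      have hv' := List.mem_map_of_mem (f := Subtype.val) hv
      rw [hAv] at hu' hv'
      obtain ⟨p, hp, ep⟩ := List.mem_map.1 hu'
      obtain ⟨q, hq, eq'⟩ := List.mem_map.1 hv'
      rw [← ep, ← eq']
      exact (commute_conj_iff g p q).2
        (hc p (List.mem_cons_of_mem _ hp) q (List.mem_cons_of_mem _ hq))
    have hBc : ∀ u ∈ B, ∀ v ∈ B, Commute u.1 v.1 := by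
      intro u hu v hv
      have hu' := List.mem_map_of_mem (f := Subtype.val) hu
      have hv' := List.mem_map_of_mem (f := Subtype.val) hv
      rw [hBv] at hu' hv'
      exact hc' _ (List.mem_cons_of_mem _ hu') _ (List.mem_cons_of_mem _ hv')
    have hinj : ∀ u v : {x // x ∈ nbrs D a'}, bar u.2 = bar v.2 → u = v := fun u v e =>
      Subtype.ext (hN.bar_inj ha' u.2 v.2 e)
    obtain ⟨q, hq⟩ := hT a' ha' (A.map fun u => bar u.2) (B.map fun u => bar u.2)
      (by rw [List.length_map, eA, List.length_pmap]; simpa using hl)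
      (by rw [List.length_map, eB, List.length_pmap]; simpa using hl')
      (hAn.map hinj) (hBn.map hinj)
      (fun u hu => by obtain ⟨v, -, rfl⟩ := List.mem_map.1 hu; exact bar_mem v.2)
      (fun u hu => by obtain ⟨v, -, rfl⟩ := List.mem_map.1 hu; exact bar_mem v.2)
      (fun u hu v hv => by
        obtain ⟨u₀, hu₀, rfl⟩ := List.mem_map.1 hu
        obtain ⟨v₀, hv₀, rfl⟩ := List.mem_map.1 hv
        exact (commute_bar hPre u₀.2 v₀.2).2 (hAc u₀ hu₀ v₀ hv₀))
      (fun u hu v hv => by
        obtain ⟨u₀, hu₀, rfl⟩ := List.mem_map.1 hu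
        obtain ⟨v₀, hv₀, rfl⟩ := List.mem_map.1 hv
        exact (commute_bar hPre u₀.2 v₀.2).2 (hBc u₀ hu₀ v₀ hv₀))
    obtain ⟨k₀, rfl⟩ := QuotientGroup.mk_surjective q
    rw [List.map_map] at hq
    have key : ∀ (A B : List {x // x ∈ nbrs D a'}),
        A.map ((fun u => (k₀ : Qd D a') * u * (k₀ : Qd D a')⁻¹) ∘ fun u => bar u.2) =
          (B.map fun u => bar u.2) →
        (A.map Subtype.val).map (fun u => (k₀ : G) * u * (k₀ : G)⁻¹) = B.map Subtype.val := by
      intro A
      induction A with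
      | nil =>
        intro B h
        cases B with
        | nil => rfl
        | cons => simp at h
      | cons u t ih =>
        intro B h
        cases B with
        | nil => simp at h
        | cons v s =>
          simp only [List.map_cons, List.cons.injEq, Function.comp_apply] at h ⊢
          exact ⟨Up.conj_bar hN hP hL ha' k₀ u.2 v.2 h.1, ih s h.2⟩
    have h2 := key A B hq
    rw [hAv, hBv, List.map_map] at h2
    refine ⟨(k₀ : G) * g, ?_⟩
    rw [List.map_cons, show (k₀ : G) * g * a * ((k₀ : G) * g)⁻¹ =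
      k₀ * (g * a * g⁻¹) * (k₀ : G)⁻¹ by group, hg, conj_eq_of_commute (commute_Hd k₀.2).symm]
    refine congrArg (a' :: ·) (Eq.trans ?_ h2)
    refine List.map_congr_left fun u _ => ?_
    show _ = (k₀ : G) * (g * u * g⁻¹) * (k₀ : G)⁻¹
    group

variable (hD : Cfsg.IsThreeTranspositionGroup D)
include hD

/-- Products of different numbers of commuting members differ, without short relations. -/
theorem fac_ne {m : ℕ} (hm : m ≤ 3) {m' : ℕ} (hlt : m < m') {j : G} {l l' : List G}
    (h : Fac D m j l) (h' : Fac D m' j l')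
    (hno : ∀ k, k ≤ m + m' → 1 ≤ k → (k % 2 = (m + m') % 2) → NoRel D k) : False := by
  classical
  induction m generalizing j l l' m' with
  | zero =>
    have hl := List.length_eq_zero_iff.1 h.2.1
    subst hl
    exact hno m' (by omega) (by omega) (by omega) l' h'.1 h'.2.1 h'.2.2.1 h'.2.2.2.1
      (h'.2.2.2.2.trans h.2.2.2.2.symm)
  | succ n ih =>
    by_cases hx : ∃ x ∈ l, x ∈ l'
    · obtain ⟨x, hxl, hxl'⟩ := hx
      obtain ⟨n', rfl⟩ : ∃ n', m' = n' + 1 := ⟨m' - 1, by omega⟩
      exact ih (by omega) (by omega) (fac_erase h hxl) (fac_erase h' hxl')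
        fun k hk h1 h2 => hno k (by omega) h1 (by omega)
    · simp only [not_exists, not_and] at hx
      have cross : ∀ a ∈ l, ∀ b ∈ l', Commute b a := by
        intro a ha b hb
        refine commute_of_prod hD hm h (h'.2.2.1 b hb) ?_ a ha
        rw [← h'.2.2.2.2]
        exact Commute.list_prod_right _ _ fun c hc => h'.2.2.2.1 b hb c hc
      refine hno (n + 1 + m') le_rfl (by omega) rfl (l ++ l')
        (List.nodup_append'.2 ⟨h.1, h'.1, hx⟩) (by rw [List.length_append, h.2.1, h'.2.1])
        (fun a ha => (List.mem_append.1 ha).elim (h.2.2.1 a) (h'.2.2.1 a)) ?_ ?_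
      · intro a ha b hb
        rcases List.mem_append.1 ha with ha | ha <;> rcases List.mem_append.1 hb with hb | hb
        exacts [h.2.2.2.1 a ha b hb, (cross a ha b hb).symm, cross b hb a ha, h'.2.2.2.1 a ha b hb]
      · rw [List.prod_append, h.2.2.2.2, h'.2.2.2.2, fac_sq hD h]

omit [Finite G] in
theorem noRel_one : NoRel D 1 := by
  intro l _ hlen hmem _ hprod
  obtain ⟨a, rfl⟩ := List.length_eq_one_iff.1 hlen
  exact invol_ne_one (hD.1.1 a (hmem a (by simp))) (by simpa using hprod)

theorem fac_orderOf {m : ℕ} {j : G} {l : List G} (h : Fac D m j l) (hno : NoRel D m) :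
    orderOf j = 2 := by
  haveI : Fact (Nat.Prime 2) := ⟨Nat.prime_two⟩
  refine orderOf_eq_prime (by rw [pow_two]; exact fac_sq hD h) fun e => ?_
  exact hno l h.1 h.2.1 h.2.2.1 h.2.2.2.1 (h.2.2.2.2.trans e)

end CfsgLib.Trans3.Fi
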