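import Mathlib.Algebra.BigOperators.Ring.Finset
import Mathlib.Algebra.Order.BigOperators.Group.Finset
import Mathlib.Combinatorics.Enumerative.DoubleCounting
import Mathlib.Data.Fintype.BigOperators
import Mathlib.Tactic

/-!
Counting in a reflexive symmetric relation with the parameters of the transposition graphs of
`Fi₂₃` and of its section in `Fi₂₄`.
-/

set_option autoImplicit false

namespace CfsgLib.Trans3.Fi

variable {α : Type*} [DecidableEq α] (R : α → α → Prop) [DecidableRel R]

theorem sum_common {T S : Finset α} (e : α) :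
    ∑ f ∈ S, (T.filter fun g => R e g ∧ R f g).card =
      ∑ g ∈ T.filter (fun g => R e g), (S.filter fun f => R f g).card := by
  simp only [Finset.card_filter, Finset.sum_filter, ← ite_and]
  rw [Finset.sum_comm]
  refine Finset.sum_congr rfl fun g _ => ?_
  by_cases h : R e g <;> simp [h]

variable (hrefl : ∀ x, R x x) (hsymm : ∀ x y, R x y → R y x)
include hrefl hsymm

/-- A class of members linked by commuting has at least 576 of them. -/
theorem fibre_bound {β : Type*} [DecidableEq β] {S : Finset α} (π : α → β)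
    (hπ : ∀ u ∈ S, ∀ v ∈ S, R u v → π u = π v)
    (hk : ∀ u ∈ S, (S.filter fun f => R u f).card = 352)
    (hl : ∀ u ∈ S, ∀ v ∈ S, u ≠ v → R u v → (S.filter fun f => R u f ∧ R v f).card = 128)
    {e : α} (he : e ∈ S) : 576 ≤ (S.filter fun f => π f = π e).card := by
  obtain ⟨N, eN⟩ : ∃ N : Finset α, N = S.filter fun f => R e f := ⟨_, rfl⟩
  obtain ⟨F, eF⟩ : ∃ F : Finset α, F = S.filter fun f => π f = π e := ⟨_, rfl⟩
  rw [← eF]
  have hNF : N ⊆ F := by
    intro f hf
    rw [eN, Finset.mem_filter] at hf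
    rw [eF, Finset.mem_filter]
    exact ⟨hf.1, (hπ e he f hf.1 hf.2).symm⟩
  have hFS : F ⊆ S := eF ▸ Finset.filter_subset _ _
  have heN : e ∈ N := eN ▸ Finset.mem_filter.2 ⟨he, hrefl e⟩
  have htot : ∑ f ∈ S, (S.filter fun g => R e g ∧ R f g).card = 352 * 352 := by
    rw [sum_common, ← eN, Finset.sum_const_nat (m := 352) fun g hg => ?_, eN, hk e he]
    rw [eN, Finset.mem_filter] at hg
    rw [← hk g hg.1]
    congr 1
    exact Finset.filter_congr fun f _ => ⟨hsymm _ _, hsymm _ _⟩
  have hout : ∀ f ∈ S, f ∉ F → (S.filter fun g => R e g ∧ R f g).card = 0 := by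
    intro f hf hfF
    rw [Finset.card_eq_zero, Finset.filter_eq_empty_iff]
    rintro g hg ⟨heg, hfg⟩
    exact hfF (eF ▸ Finset.mem_filter.2 ⟨hf, (hπ f hf g hg hfg).trans (hπ e he g hg heg).symm⟩)
  rw [← Finset.sum_subset hFS hout, ← Finset.sum_sdiff hNF,
    ← Finset.add_sum_erase N _ heN] at htot
  have h1 : (S.filter fun g => R e g ∧ R e g).card = 352 := by
    rw [← hk e he]
    congr 1
    exact Finset.filter_congr fun g _ => and_self_iff
  have h2 : ∀ f ∈ N.erase e, (S.filter fun g => R e g ∧ R f g).card = 128 := by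
    intro f hf
    rw [Finset.mem_erase, eN, Finset.mem_filter] at hf
    exact hl e he f hf.2.1 (Ne.symm hf.1) hf.2.2
  have hNc : N.card = 352 := eN ▸ hk e he
  rw [h1, Finset.sum_const_nat h2, Finset.card_erase_of_mem heN, hNc] at htot
  have h3 : ∀ f ∈ F \ N, (S.filter fun g => R e g ∧ R f g).card ≤ 351 := by
    intro f hf
    rw [Finset.mem_sdiff] at hf
    have hsub : (S.filter fun g => R e g ∧ R f g) ⊆ N.erase e := by
      intro g hg
      rw [Finset.mem_filter] at hg
      rw [Finset.mem_erase, eN, Finset.mem_filter]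
      refine ⟨fun hge => hf.2 ?_, hg.1, hg.2.1⟩
      rw [eN, Finset.mem_filter]
      exact ⟨hFS hf.1, hsymm _ _ (hge ▸ hg.2.2)⟩
    exact (Finset.card_le_card hsub).trans (by rw [Finset.card_erase_of_mem heN, hNc])
  have h4 := Finset.sum_le_card_nsmul _ _ _ h3
  rw [smul_eq_mul] at h4
  have h5 := Finset.card_sdiff_add_card_eq_card hNF
  omega

/-- A member outside a set of 3240 members with these parameters is linked to one inside. -/
theorem exists_linked {V S : Finset α} (hS : S ⊆ V) (hV : V.card = 31671) (hSc : S.card = 3240)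
    (hk : ∀ u ∈ V, (V.filter fun f => R u f).card = 3511)
    (hl : ∀ u ∈ V, ∀ v ∈ V, u ≠ v → R u v → (V.filter fun f => R u f ∧ R v f).card = 695)
    (hm : ∀ u ∈ V, ∀ v ∈ V, ¬ R u v → (V.filter fun f => R u f ∧ R v f).card = 351)
    (hSS : ∀ u ∈ S, (S.filter fun f => R u f).card = 352) {b : α} (hb : b ∈ V) (hbS : b ∉ S) :
    ∃ e ∈ S, R e b := by
  obtain ⟨T, eT⟩ : ∃ T : Finset α, T = V \ S := ⟨_, rfl⟩
  have hTc : T.card = 28431 := by rw [eT, Finset.card_sdiff_of_subset hS, hV, hSc]
  have split : ∀ (p : α → Prop) [DecidablePred p],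
      (T.filter p).card + (S.filter p).card = (V.filter p).card := by
    intro p _
    rw [← Finset.card_union_of_disjoint (Finset.disjoint_filter_filter (eT ▸ disjoint_sdiff_self_left)),
      ← Finset.filter_union, eT, Finset.sdiff_union_of_subset hS]
  obtain ⟨P, eP⟩ : ∃ P : α → ℕ, P = fun g => (S.filter fun e => R e g).card := ⟨_, rfl⟩
  have hP : ∀ g, P g = (S.filter fun e => R e g).card := fun g => by rw [eP]
  have hA : ∀ e ∈ S, (T.filter fun g => R e g).card = 3159 := by
    intro e he
    have := split fun g => R e g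
    rw [hk e (hS he), hSS e he] at this
    omega
  have h1 : ∑ g ∈ T, P g = 3240 * 3159 := by
    simp only [hP]
    have h := Finset.sum_card_bipartiteAbove_eq_sum_card_bipartiteBelow R (s := S) (t := T)
    simp only [Finset.bipartiteAbove, Finset.bipartiteBelow] at h
    rw [← h, Finset.sum_const_nat hA, hSc]
  have hB : ∀ e ∈ S, ∑ f ∈ S, (T.filter fun g => R e g ∧ R f g).card = 1137240 := by
    intro e he
    have hs : ∑ f ∈ S, (S.filter fun g => R e g ∧ R f g).card = 352 * 352 := by
      rw [sum_common, Finset.sum_const_nat (m := 352) fun g hg => ?_, hSS e he]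
      rw [Finset.mem_filter] at hg
      rw [← hSS g hg.1]
      congr 1
      exact Finset.filter_congr fun f _ => ⟨hsymm _ _, hsymm _ _⟩
    have hv : ∀ f ∈ S, (V.filter fun g => R e g ∧ R f g).card =
        351 + ((if R e f then 344 else 0) + if f = e then 2816 else 0) := by
      intro f hf
      by_cases hfe : f = e
      · subst hfe
        rw [if_pos (hrefl f), if_pos rfl, ← add_assoc]
        refine Eq.trans ?_ (hk f (hS hf))
        congr 1
        exact Finset.filter_congr fun g _ => and_self_iff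
      · by_cases hef : R e f
        · rw [if_pos hef, if_neg hfe, hl e (hS he) f (hS hf) (Ne.symm hfe) hef]
        · rw [if_neg hef, if_neg hfe, hm e (hS he) f (hS hf) hef]
    have hsum : ∑ f ∈ S, (T.filter fun g => R e g ∧ R f g).card +
        ∑ f ∈ S, (S.filter fun g => R e g ∧ R f g).card =
        ∑ f ∈ S, (V.filter fun g => R e g ∧ R f g).card := by
      rw [← Finset.sum_add_distrib]
      exact Finset.sum_congr rfl fun f _ => split fun g => R e g ∧ R f g
    rw [hs, Finset.sum_congr rfl hv, Finset.sum_add_distrib, Finset.sum_add_distrib,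
      Finset.sum_const, ← Finset.sum_filter, Finset.sum_const, hSS e he, Finset.sum_ite_eq',
      if_pos he, hSc, smul_eq_mul, smul_eq_mul] at hsum
    omega
  have h2 : ∑ g ∈ T, P g * P g = 3240 * 1137240 := by
    have hsq : ∀ g, P g * P g = ∑ e ∈ S, if R e g then P g else 0 := fun g => by
      rw [← Finset.sum_filter, Finset.sum_const, smul_eq_mul, ← hP]
    simp only [hsq]
    rw [Finset.sum_comm, Finset.sum_const_nat (m := 1137240) fun e he => ?_, hSc]
    rw [← hB e he, sum_common, ← Finset.sum_filter]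
    exact Finset.sum_congr rfl fun g _ => hP g
  have h3 : ∑ g ∈ T, ((P g : ℤ) - 360) ^ 2 = 0 := by
    calc ∑ g ∈ T, ((P g : ℤ) - 360) ^ 2
        = ∑ g ∈ T, (((P g * P g : ℕ) : ℤ) - 720 * (P g : ℤ) + 129600) :=
          Finset.sum_congr rfl fun g _ => by push_cast; ring
      _ = 0 := by
          rw [Finset.sum_add_distrib, Finset.sum_sub_distrib, ← Finset.mul_sum, ← Nat.cast_sum,
            ← Nat.cast_sum, h1, h2, Finset.sum_const, hTc]
          norm_num
  have hbT : b ∈ T := eT ▸ Finset.mem_sdiff.2 ⟨hb, hbS⟩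
  have h4 := (Finset.sum_eq_zero_iff_of_nonneg fun g _ => sq_nonneg _).1 h3 b hbT
  rw [sq_eq_zero_iff, sub_eq_zero] at h4
  have h5 : P b ≠ 0 := by intro e; rw [e] at h4; norm_num at h4
  rw [hP, Ne, Finset.card_eq_zero, ← Ne, ← Finset.nonempty_iff_ne_empty] at h5
  obtain ⟨e, he⟩ := h5
  rw [Finset.mem_filter] at he
  exact ⟨e, he.1, he.2⟩

end CfsgLib.Trans3.Fi
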