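import Cfsg.Agent.Lib.Trans3.Fi.M24Base
import Cfsg.Agent.Lib.Trans3.Fi.SrgCount

/-!
In a group of type M(24) a non-commuting pair has 3240 common neighbours, and every further
neighbour of one of the two commutes with one of them; so the level one up holds.
-/

set_option autoImplicit false
set_option linter.unusedSectionVars false

namespace CfsgLib.Trans3.Fi

section General

variable {G : Type*} [Group G] [Finite G] {D : Set G}

/-- Counting inside a neighbourhood. -/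
theorem ncard_bar_eq (hN : Nice D) {a : G} (ha : a ∈ D) {P : G → Prop} {T : Set (Qd D a)}
    (hT : T ⊆ Db D a) (hP : ∀ y (hy : y ∈ nbrs D a), bar hy ∈ T ↔ P y) :
    {y | y ∈ nbrs D a ∧ P y}.ncard = T.ncard :=
  Set.ncard_congr (fun _ hy => bar hy.1) (fun y hy => (hP y hy.1).2 hy.2)
    (fun _ _ hy hz e => hN.bar_inj ha hy.1 hz.1 e) fun q hq => by
      obtain ⟨y, hy, rfl⟩ := exists_bar (hT hq)
      exact ⟨y, ⟨hy, (hP y hy).1 hq⟩, rfl⟩

theorem ncard_CN_bar (hN : Nice D) {a u v : G} (ha : a ∈ D) (hu : u ∈ nbrs D a)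
    (hv : v ∈ nbrs D a) :
    {y | y ∈ nbrs D a ∧ Commute u y ∧ Commute v y}.ncard =
      (CN (Db D a) (bar hu) (bar hv)).ncard :=
  ncard_bar_eq hN ha (fun _ hq => hq.1) fun y hy => by
    have hPre := pre_of_group hN.group
    exact ⟨fun hq => ⟨(commute_bar hPre hu hy).1 hq.2.1, (commute_bar hPre hv hy).1 hq.2.2⟩,
      fun hq => ⟨bar_mem hy, (commute_bar hPre hu hy).2 hq.1, (commute_bar hPre hv hy).2 hq.2⟩⟩

theorem ncard_nbrs_inter (hN : Nice D) {a e : G} (ha : a ∈ D) (he : e ∈ nbrs D a) :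
    (nbrs D a ∩ nbrs D e).ncard = (nbrs (Db D a) (bar he)).ncard := by
  have hPre := pre_of_group hN.group
  refine Eq.trans ?_ (ncard_bar_eq hN ha (T := nbrs (Db D a) (bar he))
    (P := fun y => y ≠ e ∧ Commute e y) (fun _ hq => hq.1) fun y hy =>
    ⟨fun hq => ⟨fun x => hq.2.1 (by subst x; rfl), (commute_bar hPre he hy).1 hq.2.2⟩,
      fun hq => ⟨bar_mem hy, fun x => hq.1 (hN.bar_inj ha hy he x),
        (commute_bar hPre he hy).2 hq.2⟩⟩)
  congr 1
  ext y
  exact ⟨fun ⟨h1, h2⟩ => ⟨h1, h2.2⟩, fun ⟨h1, h2⟩ => ⟨h1, h1.1, h2⟩⟩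

/-- Commutation passes to the image in a neighbourhood group. -/
theorem commute_mk {a z : G} (k : ↥(Hd D a)) (hz : z ∈ nbrs D a) (h : Commute (k : G) z) :
    Commute (k : Qd D a) (bar hz) := by
  show (QuotientGroup.mk _ : Qd D a) * QuotientGroup.mk _ = _
  rw [← QuotientGroup.mk_mul, ← QuotientGroup.mk_mul]
  exact congrArg QuotientGroup.mk (Subtype.ext h.eq)

theorem perm_three_same : ∀ p q : Equiv.Perm (Fin 3),
    p ≠ 1 ∧ q ≠ 1 ∧ p * p = 1 ∧ q * q = 1 ∧ p * q = q * p → p = q := by decide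

theorem perm_three_other : ∀ p : Equiv.Perm (Fin 3), p ≠ 1 → p * p = 1 →
    ∃ g : Equiv.Perm (Fin 3), g * p * g⁻¹ ≠ p ∧ ∃ k : Equiv.Perm (Fin 3),
      k * p * k⁻¹ ≠ p ∧ k * p * k⁻¹ ≠ g * p * g⁻¹ := by decide

theorem ncard_CN_self {u : G} (hu : u ∈ D) : (CN D u u).ncard = (nbrs D u).ncard + 1 := by
  rw [← Set.ncard_insert_of_notMem (show u ∉ nbrs D u from fun h => h.2.1 rfl)]
  congr 1
  ext y
  constructor
  · rintro ⟨hy, h1, -⟩
    by_cases e : y = u
    · exact Or.inl e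
    · exact Or.inr ⟨hy, e, h1⟩
  · rintro (rfl | hy)
    · exact ⟨hu, Commute.refl y, Commute.refl y⟩
    · exact ⟨hy.1, hy.2.2, hy.2.2⟩

theorem ncard_CN_comm {u v : G} (hu : u ∈ D) (hv : v ∈ D) (hne : u ≠ v) (hc : Commute u v) :
    (CN D u v).ncard = (nbrs D u ∩ nbrs D v).ncard + 2 := by
  have hs : CN D u v = insert u (insert v (nbrs D u ∩ nbrs D v)) := by
    ext y
    constructor
    · rintro ⟨hy, h1, h2⟩
      by_cases e1 : y = u
      · exact Or.inl e1
      by_cases e2 : y = v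
      · exact Or.inr (Or.inl e2)
      exact Or.inr (Or.inr ⟨⟨hy, e1, h1⟩, hy, e2, h2⟩)
    · rintro (rfl | rfl | hy)
      exacts [⟨hu, Commute.refl y, hc.symm⟩, ⟨hv, hc, Commute.refl y⟩,
        ⟨hy.1.1, hy.1.2.2, hy.2.2.2⟩]
  rw [hs, Set.ncard_insert_of_notMem, Set.ncard_insert_of_notMem (fun h => h.2.2.1 rfl)]
  rintro (e | h)
  exacts [hne e, h.1.2.1 rfl]

theorem card_split {d : G} (hd : d ∈ D) :
    D.ncard = 1 + (nbrs D d).ncard + {y | y ∈ D ∧ ¬ Commute d y}.ncard := by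
  have hu : D = insert d (nbrs D d ∪ {y | y ∈ D ∧ ¬ Commute d y}) := by
    ext y
    simp only [Set.mem_insert_iff, Set.mem_union, Set.mem_ofPred_eq]
    constructor
    · intro hy
      by_cases h1 : y = d
      · exact Or.inl h1
      by_cases h2 : Commute d y
      · exact Or.inr (Or.inl ⟨hy, h1, h2⟩)
      · exact Or.inr (Or.inr ⟨hy, h2⟩)
    · rintro (rfl | ⟨hy, -⟩ | ⟨hy, -⟩) <;> assumption
  conv_lhs => rw [hu]
  rw [Set.ncard_insert_of_notMem, Set.ncard_union_eq]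
  · omega
  · rw [Set.disjoint_left]
    exact fun y hy hy' => hy'.2 hy.2.2
  · rintro (hy | hy)
    exacts [hy.2.1 rfl, hy.2 (Commute.refl d)]

variable (hD : Cfsg.IsThreeTranspositionGroup D) (hP : Cfsg.IsPrimitiveUnderConj D)
  (hw : ∃ u ∈ D, ∃ v ∈ D, u ≠ v ∧ Commute u v)
include hD hP hw

/-- All non-commuting pairs have equally many common neighbours. -/
theorem ncard_CN_const {d c u v : G} (hd : d ∈ D) (hc : c ∈ D) (hdc : ¬ Commute d c) (hu : u ∈ D)
    (hv : v ∈ D) (huv : ¬ Commute u v) : (CN D u v).ncard = (CN D d c).ncard := by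
  obtain ⟨g, hg⟩ := hP.1 d hd u hu
  have hgc : ¬ Commute u (g * c * g⁻¹) := by rw [← hg, commute_conj_iff]; exact hdc
  obtain ⟨k, hk, hk'⟩ := trans_noncomm hD hP hw hu (hD.2.1 g c hc) hgc hv huv
  rw [← hk', show (CN D u (k * (g * c * g⁻¹) * k⁻¹)).ncard = _ from ncard_common_conj hD hk,
    ← Set.ncard_image_of_injective (CN D d c) (MulAut.conj g).injective]
  congr 1
  ext y
  constructor
  · rintro ⟨hy, h1, h2⟩
    refine ⟨g⁻¹ * y * g, ⟨by simpa using hD.2.1 g⁻¹ y hy, ?_, ?_⟩, by simp [mul_assoc]⟩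
    · rw [← commute_conj_iff g, hg, show g * (g⁻¹ * y * g) * g⁻¹ = y by group]; exact h1
    · rw [← commute_conj_iff g, show g * (g⁻¹ * y * g) * g⁻¹ = y by group]; exact h2
  · rintro ⟨w, ⟨hw', h1, h2⟩, rfl⟩
    exact ⟨hD.2.1 g w hw', hg ▸ (commute_conj_iff g d w).2 h1, (commute_conj_iff g c w).2 h2⟩

/-- Double counting around a member. -/
theorem far_mul_CN {k l : ℕ} (hk : ∀ d ∈ D, (nbrs D d).ncard = k)
    (hl : ∀ d ∈ D, ∀ e ∈ nbrs D d, (nbrs D d ∩ nbrs D e).ncard = l) {d c : G} (hd : d ∈ D)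
    (hc : c ∈ D) (hdc : ¬ Commute d c) :
    {y | y ∈ D ∧ ¬ Commute d y}.ncard * (CN D d c).ncard = k * (k - 1 - l) := by
  classical
  haveI := Fintype.ofFinite G
  obtain ⟨far, efar⟩ : ∃ far : Set G, far = {y | y ∈ D ∧ ¬ Commute d y} := ⟨_, rfl⟩
  rw [← efar]
  have hA : ∀ y ∈ far, {e | e ∈ nbrs D d ∧ Commute e y}.ncard = (CN D d c).ncard := by
    intro y hy
    rw [efar] at hy
    rw [← ncard_CN_const hD hP hw hd hc hdc hd hy.1 hy.2]
    congr 1
    ext e
    exact ⟨fun ⟨⟨h1, _, h2⟩, h3⟩ => ⟨h1, h2, h3.symm⟩, fun ⟨h1, h2, h3⟩ =>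
      ⟨⟨h1, fun x => hy.2 (x ▸ h3).symm, h2⟩, h3.symm⟩⟩
  have hB : ∀ e ∈ nbrs D d, {y | y ∈ far ∧ Commute e y}.ncard = k - 1 - l := by
    intro e he
    have ne : d ∈ nbrs D e := ⟨hd, Ne.symm he.2.1, he.2.2.symm⟩
    have hu : nbrs D e = insert d ((nbrs D e ∩ nbrs D d) ∪ {y | y ∈ far ∧ Commute e y}) := by
      ext y
      simp only [Set.mem_insert_iff, Set.mem_union, Set.mem_inter_iff, Set.mem_ofPred_eq, efar]
      constructor
      · intro hy
        by_cases h1 : y = d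
        · exact Or.inl h1
        by_cases h2 : Commute d y
        · exact Or.inr (Or.inl ⟨hy, hy.1, h1, h2⟩)
        · exact Or.inr (Or.inr ⟨⟨hy.1, h2⟩, hy.2.2⟩)
      · rintro (rfl | ⟨hy, -⟩ | ⟨⟨hy, h2⟩, h3⟩)
        exacts [ne, hy, ⟨hy, fun x => h2 (x ▸ he.2.2), h3⟩]
    have h1 := hk e he.1
    rw [hu, Set.ncard_insert_of_notMem, Set.ncard_union_eq, hl e he.1 d ne] at h1
    · omega
    · rw [Set.disjoint_left]
      rintro y ⟨-, hy⟩ ⟨hy', -⟩
      rw [efar] at hy'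
      exact hy'.2 hy.2.2
    · rintro (⟨-, hy⟩ | ⟨hy, -⟩)
      · exact hy.2.1 rfl
      · rw [efar] at hy; exact hy.2 (Commute.refl d)
  have h1 := Finset.sum_card_bipartiteAbove_eq_sum_card_bipartiteBelow
    (fun y e : G => Commute e y) (s := far.toFinset) (t := (nbrs D d).toFinset)
  rw [Finset.sum_const_nat (m := (CN D d c).ncard) (fun y hy => ?_),
    Finset.sum_const_nat (m := k - 1 - l) (fun e he => ?_)] at h1
  · rwa [← Set.ncard_eq_toFinset_card', ← Set.ncard_eq_toFinset_card', hk d hd] at h1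
  · rw [Set.mem_toFinset] at he
    rw [← hB e he, ← Set.ncard_coe_finset]
    congr 1
    ext y
    simp [Finset.bipartiteBelow]
  · rw [Set.mem_toFinset] at hy
    rw [← hA y hy, ← Set.ncard_coe_finset]
    congr 1
    ext e
    simp [Finset.bipartiteAbove]

end General

section Below

variable {G : Type*} [Group G] [Finite G] {D : Set G}
variable (hD : Cfsg.IsThreeTranspositionGroup D) (hP : Cfsg.IsPrimitiveUnderConj D)
include hD hP

theorem m22_common_card (h : Cfsg.IsOfTypeM22 G D) {d c : G} (hd : d ∈ D) (hc : c ∈ D)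
    (hdc : ¬ Commute d c) : (CN D d c).ncard = 126 := by
  obtain ⟨b, hb, -⟩ := m22_pair hD h hd
  have h1 := far_mul_CN hD hP ⟨b, hb.1, d, hd, hb.2.1, hb.2.2.symm⟩
    (fun e he => card_nbrs hD h he) (fun e he f hf => card_nbrs_two hD h he hf) hd hc hdc
  have h2 := card_split (D := D) hd
  rw [m22_card_D hD hP h, card_nbrs hD h hd] at h2
  obtain ⟨n, hn⟩ : ∃ n, n = {y | y ∈ D ∧ ¬ Commute d y}.ncard := ⟨_, rfl⟩
  rw [← hn] at h1 h2
  obtain rfl : n = 2816 := by omega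
  omega

theorem m23_inter_card (h : Cfsg.IsOfTypeM23 G D) {d e : G} (hd : d ∈ D) (he : e ∈ nbrs D d) :
    (nbrs D d ∩ nbrs D e).ncard = 693 := by
  rw [ncard_nbrs_inter (nice_m23 hD h) hd he]
  exact card_nbrs ((nice_m23 hD h).group_Db hd) (m23_below hD h hd) (bar_mem he)

theorem m23_common_card (h : Cfsg.IsOfTypeM23 G D) {d c : G} (hd : d ∈ D) (hc : c ∈ D)
    (hdc : ¬ Commute d c) : (CN D d c).ncard = 351 := by
  obtain ⟨b, hb⟩ := m23_nbr hD h hd
  have h1 := far_mul_CN hD hP ⟨b, hb.1, d, hd, hb.2.1, hb.2.2.symm⟩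
    (fun e he => card_nbrs23 hD hP h he) (fun e he f hf => m23_inter_card hD hP h he hf) hd hc hdc
  have h2 := card_split (D := D) hd
  rw [m23_card_D hD hP h, card_nbrs23 hD hP h hd] at h2
  obtain ⟨n, hn⟩ : ∃ n, n = {y | y ∈ D ∧ ¬ Commute d y}.ncard := ⟨_, rfl⟩
  rw [← hn] at h1 h2
  obtain rfl : n = 28160 := by omega
  omega

theorem m23_pair_card (h : Cfsg.IsOfTypeM23 G D) {d c : G} (hd : d ∈ D) (hc : c ∈ D)
    (hdc : ¬ Commute d c) :
    Nat.card ↥(Subgroup.centralizer ({d} : Set G) ⊓ Subgroup.centralizer ({c} : Set G)) =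
      4585351680 := by
  obtain ⟨b, hb⟩ := m23_nbr hD h hd
  have hw : ∃ u ∈ D, ∃ v ∈ D, u ≠ v ∧ Commute u v := ⟨b, hb.1, d, hd, hb.2.1, hb.2.2.symm⟩
  have h1 := card_orbit_mul (H := Subgroup.centralizer ({d} : Set G)) (x := c)
    (O := {y | y ∈ D ∧ ¬ Commute d y})
    (fun g hg => ⟨hD.2.1 g c hc, fun x => hdc ((commute_conj_iff g d c).1 (by
      rwa [conj_eq_of_commute (Subgroup.mem_centralizer_singleton_iff.1 hg)]))⟩)
    (fun o ho => by
      obtain ⟨g, hg, hg'⟩ := trans_noncomm hD hP hw hd hc hdc ho.1 ho.2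
      exact ⟨g, Subgroup.mem_centralizer_singleton_iff.2 (commute_of_conj_eq hg).eq, hg'⟩)
  have h2 := card_split (D := D) hd
  rw [m23_card_D hD hP h, card_nbrs23 hD hP h hd] at h2
  rw [card_centralizer23 hD hP h hd] at h1
  obtain ⟨n, hn⟩ : ∃ n, n = {y | y ∈ D ∧ ¬ Commute d y}.ncard := ⟨_, rfl⟩
  rw [← hn] at h1 h2
  obtain rfl : n = 28160 := by omega
  omega

end Below

variable {G : Type*} [Group G] [Finite G] {D : Set G}
variable (hD : Cfsg.IsThreeTranspositionGroup D) (hP : Cfsg.IsPrimitiveUnderConj D)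
variable (h : Cfsg.IsOfTypeM24 G D)
include hD hP h

omit [Finite G] hP h in
theorem cn_nbr {a y e : G} (hay : ¬ Commute a y) (he : e ∈ CN D a y) : e ∈ nbrs D a :=
  ⟨he.1, fun x => hay (x ▸ he.2.2).symm, he.2.1⟩

/-- The common neighbours commuting with one of them. -/
theorem cn_perp {a y e : G} (ha : a ∈ D) (hy : y ∈ D) (hay : ¬ Commute a y) (he : e ∈ CN D a y) :
    {f | f ∈ CN D a y ∧ Commute e f}.ncard = 352 := by
  have hN := nice_m24 hD hP h
  have hPre := pre_of_group hD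
  have na : a ∈ nbrs D e := ⟨ha, fun x => hay (x ▸ he.2.2.symm), he.2.1.symm⟩
  have ny : y ∈ nbrs D e := ⟨hy, fun x => hay (x ▸ he.2.1), he.2.2.symm⟩
  have hs : {f | f ∈ CN D a y ∧ Commute e f} =
      insert e {f | f ∈ nbrs D e ∧ Commute a f ∧ Commute y f} := by
    ext f
    constructor
    · rintro ⟨⟨h1, h2, h3⟩, h4⟩
      by_cases x : f = e
      · exact Or.inl x
      · exact Or.inr ⟨⟨h1, x, h4⟩, h2, h3⟩
    · rintro (rfl | ⟨⟨h1, -, h4⟩, h2, h3⟩)
      exacts [⟨he, Commute.refl f⟩, ⟨⟨h1, h2, h3⟩, h4⟩]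
  rw [hs, Set.ncard_insert_of_notMem (fun x => x.1.2.1 rfl), ncard_CN_bar hN he.1 na ny,
    m23_common_card (hN.group_Db he.1) (m24_prim_below hD hP h he.1) (m24_below hD hP h he.1)
      (bar_mem na) (bar_mem ny) fun x => hay ((commute_bar hPre na ny).1 x)]

/-- The common neighbours commuting with two of them. -/
theorem cn_perp_two {a y u v : G} (ha : a ∈ D) (hy : y ∈ D) (hay : ¬ Commute a y)
    (hu : u ∈ CN D a y) (hv : v ∈ CN D a y) (hne : u ≠ v) (huv : Commute u v) :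
    {f | f ∈ CN D a y ∧ Commute u f ∧ Commute v f}.ncard = 128 := by
  have hN := nice_m24 hD hP h
  have hPre := pre_of_group hD
  have na : a ∈ nbrs D u := ⟨ha, fun x => hay (x ▸ hu.2.2.symm), hu.2.1.symm⟩
  have ny : y ∈ nbrs D u := ⟨hy, fun x => hay (x ▸ hu.2.1), hu.2.2.symm⟩
  have nv : v ∈ nbrs D u := ⟨hv.1, hne.symm, huv⟩
  have hg := hN.group_Db hu.1
  have hN' := nice_m23 hg (m24_below hD hP h hu.1)
  have hPre' := pre_of_group hg
  have na' : bar na ∈ nbrs (Db D u) (bar nv) := ⟨bar_mem na,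
    fun x => hay (hN.bar_inj hu.1 na nv x ▸ hv.2.2.symm), (commute_bar hPre nv na).2 hv.2.1.symm⟩
  have ny' : bar ny ∈ nbrs (Db D u) (bar nv) := ⟨bar_mem ny,
    fun x => hay (hN.bar_inj hu.1 ny nv x ▸ hv.2.1), (commute_bar hPre nv ny).2 hv.2.2.symm⟩
  have hs : {f | f ∈ CN D a y ∧ Commute u f ∧ Commute v f} =
      insert u (insert v {f | f ∈ nbrs D u ∧ f ≠ v ∧ Commute v f ∧ Commute a f ∧ Commute y f}) := by
    ext f
    constructor
    · rintro ⟨⟨h1, h2, h3⟩, h4, h5⟩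
      by_cases x : f = u
      · exact Or.inl x
      by_cases x' : f = v
      · exact Or.inr (Or.inl x')
      exact Or.inr (Or.inr ⟨⟨h1, x, h4⟩, x', h5, h2, h3⟩)
    · rintro (rfl | rfl | ⟨⟨h1, -, h4⟩, -, h5, h2, h3⟩)
      exacts [⟨hu, Commute.refl f, huv.symm⟩, ⟨hv, huv, Commute.refl f⟩, ⟨⟨h1, h2, h3⟩, h4, h5⟩]
  rw [hs, Set.ncard_insert_of_notMem, Set.ncard_insert_of_notMem (fun x => x.2.1 rfl)]
  · rw [ncard_bar_eq hN hu.1 (T := {q | q ∈ nbrs (Db D u) (bar nv) ∧ Commute (bar na) q ∧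
      Commute (bar ny) q}) (fun _ hq => hq.1.1) (fun f hf =>
        ⟨fun hq => ⟨fun x => hq.1.2.1 (by subst x; rfl), (commute_bar hPre nv hf).1 hq.1.2.2,
            (commute_bar hPre na hf).1 hq.2.1, (commute_bar hPre ny hf).1 hq.2.2⟩,
          fun hq => ⟨⟨bar_mem hf, fun x => hq.1 (hN.bar_inj hu.1 hf nv x),
            (commute_bar hPre nv hf).2 hq.2.1⟩, (commute_bar hPre na hf).2 hq.2.2.1,
            (commute_bar hPre ny hf).2 hq.2.2.2⟩⟩),
      ncard_CN_bar hN' (bar_mem nv) na' ny',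
      m22_common_card (hN'.group_Db (bar_mem nv))
        (m23_prim_below hg (m24_below hD hP h hu.1) (m24_prim_below hD hP h hu.1) (bar_mem nv))
        (m23_below hg (m24_below hD hP h hu.1) (bar_mem nv)) (bar_mem na') (bar_mem ny')
        fun x => hay ((commute_bar hPre na ny).1 ((commute_bar hPre' na' ny').1 x))]
  · rintro (x | x)
    exacts [hne x, x.1.2.1 rfl]

/-- A non-commuting pair has 3240 common neighbours. -/
theorem m24_common_card {u v : G} (hu : u ∈ D) (hv : v ∈ D) (huv : ¬ Commute u v) :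
    (CN D u v).ncard = 3240 := by
  classical
  haveI := Fintype.ofFinite G
  have hN := nice_m24 hD hP h
  have hPre := pre_of_group hD
  have hL : ∀ x ∈ D, Lvl (Db D x) := fun _ hx => m24_lvl_below hD hP h hx
  obtain ⟨d, hd, c, hc, hdc, hQ, π₀, hπ₀⟩ := card_Ld24 hD hP h
  rw [ncard_CN_const hD hP (m24_pairc hD hP h) hd hc hdc hu hv huv]
  clear hu hv huv
  have hset : nbrs D d ∩ nbrs D c = CN D d c := Set.ext fun z =>
    ⟨fun ⟨⟨h1, _, h2⟩, _, _, h3⟩ => ⟨h1, h2, h3⟩, fun ⟨h1, h2, h3⟩ =>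
      ⟨⟨h1, fun x => hdc (x ▸ h3).symm, h2⟩, h1, fun x => hdc (x ▸ h2), h3⟩⟩
  obtain ⟨L, eL⟩ : ∃ L : Subgroup G, L = Subgroup.closure (CN D d c) := ⟨_, rfl⟩
  have hLd : Ld D d c = L := by rw [eL, ← hset]
  obtain ⟨π, hπ⟩ : ∃ π : ↥L →* Equiv.Perm (Fin 3), Function.Surjective π :=
    hLd ▸ ⟨π₀, hπ₀⟩
  rw [hLd] at hQ
  obtain ⟨e₀, he₀, e₀d, e₀c⟩ := Up.exists_common hN hP hL hd hc hdc
  have he₀S : e₀ ∈ CN D d c := ⟨he₀, e₀d.symm, e₀c.symm⟩
  have hLc : ∀ x ∈ L, Commute x d ∧ Commute x c := by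
    intro x hx
    rw [eL] at hx
    induction hx using Subgroup.closure_induction with
    | mem w hw => exact ⟨hw.2.1.symm, hw.2.2.symm⟩
    | one => exact ⟨Commute.one_left _, Commute.one_left _⟩
    | mul _ _ _ _ h1 h2 => exact ⟨h1.1.mul_left h2.1, h1.2.mul_left h2.2⟩
    | inv _ _ h1 => exact ⟨h1.1.inv_left, h1.2.inv_left⟩
  have hSL : CN D d c ⊆ L := eL ▸ Subgroup.subset_closure
  have htr : ∀ e ∈ CN D d c, ∀ f ∈ CN D d c, ∃ k ∈ L, k * e * k⁻¹ = f := by
    intro e he f hf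
    obtain ⟨k, hk, hk'⟩ := Up.trans_common hN hP hL hd hc hdc he.1 he.2.1 he.2.2 hf.1 hf.2.1 hf.2.2
    exact ⟨k, eL ▸ hk, hk'⟩
  have horb := card_orbit_mul (H := L) (x := e₀) (O := CN D d c)
    (fun g hg => ⟨hD.2.1 g e₀ he₀, by
      nth_rw 1 [← conj_eq_of_commute (hLc g hg).1]
      exact (commute_conj_iff g d e₀).2 he₀S.2.1, by
      nth_rw 1 [← conj_eq_of_commute (hLc g hg).2]
      exact (commute_conj_iff g c e₀).2 he₀S.2.2⟩)
    (fun o ho => htr e₀ he₀S o ho)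
  -- inside the centraliser of `e₀`
  have na : d ∈ nbrs D e₀ := ⟨hd, fun x => hdc (x ▸ e₀c), e₀d⟩
  have nc : c ∈ nbrs D e₀ := ⟨hc, fun x => hdc (x ▸ e₀d).symm, e₀c⟩
  have hX := m24_below hD hP h he₀
  have hXg := hN.group_Db he₀
  have hXP := m24_prim_below hD hP h he₀
  have hXd : ¬ Commute (bar na) (bar nc) := fun x => hdc ((commute_bar hPre na nc).1 x)
  have hG23 := pairGen_m23 hXg hXP hX
  obtain ⟨M₀, eM⟩ : ∃ M : Subgroup G,
      M = Subgroup.closure {w | w ∈ CN D d c ∧ Commute e₀ w} := ⟨_, rfl⟩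
  have hMH : M₀ ≤ Hd D e₀ := by
    rw [eM, Subgroup.closure_le]
    rintro w ⟨hw, hew⟩
    by_cases x : w = e₀
    · rw [x]; exact m24_mem hD hP h he₀
    · exact Subgroup.subset_closure ⟨hw.1, x, hew⟩
  have heM : e₀ ∈ M₀ := eM ▸ Subgroup.subset_closure ⟨he₀S, Commute.refl e₀⟩
  have hML : M₀ ≤ L := by
    rw [eM, Subgroup.closure_le]
    exact fun w hw => hSL hw.1
  let ψ : ↥M₀ →* Qd D e₀ := (QuotientGroup.mk' _).comp (Subgroup.inclusion hMH)
  have hψker : ∀ m : ↥M₀, ψ m = 1 → (m : G) = 1 ∨ (m : G) = e₀ := fun m hm =>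
    m24_center_mem hD hP h he₀ (x := Subgroup.inclusion hMH m) ((QuotientGroup.eq_one_iff _).1 hm)
  have hψe : ψ ⟨e₀, heM⟩ = 1 := by
    refine (QuotientGroup.eq_one_iff _).2 ?_
    rw [m24_center_Hd hD hP h he₀, Subgroup.mem_subgroupOf]
    exact Subgroup.mem_zpowers e₀
  have hrange : ψ.range = Subgroup.centralizer ({bar na} : Set (Qd D e₀)) ⊓
      Subgroup.centralizer ({bar nc} : Set (Qd D e₀)) := by
    refine le_antisymm ?_ fun q hq => ?_
    · rintro _ ⟨m, rfl⟩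
      have hmc : ∀ {z : G} (hz : z ∈ nbrs D e₀), Commute (m : G) z → Commute (ψ m) (bar hz) :=
        fun hz hx => commute_mk (Subgroup.inclusion hMH m) hz hx
      obtain ⟨m1, m2⟩ := hLc m (hML m.2)
      exact ⟨Subgroup.mem_centralizer_singleton_iff.2 (hmc na m1).eq,
        Subgroup.mem_centralizer_singleton_iff.2 (hmc nc m2).eq⟩
    · have hq' := hG23.gen _ _ q (bar_mem na) (bar_mem nc) hXd
        (Subgroup.mem_centralizer_singleton_iff.1 hq.1) (Subgroup.mem_centralizer_singleton_iff.1 hq.2)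
      clear hq
      induction hq' using Subgroup.closure_induction with
      | mem v hv =>
        obtain ⟨w, hw, rfl⟩ := exists_bar hv.1
        exact ⟨⟨w, eM ▸ Subgroup.subset_closure ⟨⟨hw.1, (commute_bar hPre na hw).1 hv.2.1,
          (commute_bar hPre nc hw).1 hv.2.2⟩, hw.2.2⟩⟩, rfl⟩
      | one => exact one_mem _
      | mul x y _ _ hx hy => exact mul_mem hx hy
      | inv x _ hx => exact inv_mem hx
  have hkercard : Nat.card ψ.ker = 2 := by
    have e1 : ψ.ker = Subgroup.zpowers (⟨e₀, heM⟩ : ↥M₀) := by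
      refine le_antisymm (fun m hm => ?_) (Subgroup.zpowers_le.2 hψe)
      rcases hψker m hm with e | e
      · rw [show m = 1 from Subtype.ext e]; exact one_mem _
      · rw [show m = ⟨e₀, heM⟩ from Subtype.ext e]; exact Subgroup.mem_zpowers _
    rw [e1, Nat.card_zpowers, Subgroup.orderOf_mk, hD.1.1 e₀ he₀]
  have hMcard : Nat.card ↥M₀ = 9170703360 := by
    rw [Subgroup.card_eq_card_quotient_mul_card_subgroup ψ.ker,
      Nat.card_congr (QuotientGroup.quotientKerEquivRange ψ).toEquiv, hrange,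
      m23_pair_card hXg hXP hX (bar_mem na) (bar_mem nc) hXd, hkercard]
  -- the centre of `L`
  obtain ⟨Z, eZ⟩ : ∃ Z : Subgroup G, Z = (Subgroup.center ↥L).map L.subtype := ⟨_, rfl⟩
  have hZ : ∀ z ∈ Z, z ∈ L ∧ ∀ x ∈ L, Commute z x := by
    intro z hz
    rw [eZ] at hz
    obtain ⟨⟨z', hz'L⟩, hzc, rfl⟩ := hz
    exact ⟨hz'L, fun x hx => (congrArg Subtype.val (Subgroup.mem_center_iff.1 hzc ⟨x, hx⟩)).symm⟩
  have heZ : e₀ ∉ Z := by
    intro he
    have hone : CN D d c ⊆ {e₀} := fun f hf => by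
      obtain ⟨k, hk, hk'⟩ := htr e₀ he₀S f hf
      rw [Set.mem_singleton_iff, ← hk', conj_eq_of_commute ((hZ e₀ he).2 k hk).symm]
    have h1 := cn_perp hD hP h hd hc hdc he₀S
    have h2 : {f | f ∈ CN D d c ∧ Commute e₀ f}.ncard ≤ 1 :=
      (Set.ncard_le_ncard (fun f hf => hone hf.1)).trans (Set.ncard_singleton e₀).le
    omega
  have htriv : ∀ m ∈ M₀, m ∈ Z → m = 1 := by
    intro m hm hmZ
    refine (hψker ⟨m, hm⟩ ?_).resolve_right fun e => heZ ((show m = e₀ from e) ▸ hmZ)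
    have hmem : ψ ⟨m, hm⟩ ∈ ψ.range := ⟨_, rfl⟩
    rw [hrange] at hmem
    refine hG23.triv _ _ _ (bar_mem na) (bar_mem nc) hXd
      (Subgroup.mem_centralizer_singleton_iff.1 hmem.1)
      (Subgroup.mem_centralizer_singleton_iff.1 hmem.2) fun q hq => ?_
    obtain ⟨w, hw, rfl⟩ := exists_bar hq.1
    exact commute_mk (Subgroup.inclusion hMH ⟨m, hm⟩) hw ((hZ m hmZ).2 w (hSL ⟨hw.1,
      (commute_bar hPre na hw).1 hq.2.1, (commute_bar hPre nc hw).1 hq.2.2⟩))
  have hdvd : 9170703360 * Nat.card ↥Z ∣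
      Nat.card ↥(L ⊓ Subgroup.centralizer ({e₀} : Set G)) := by
    let φ : ↥M₀ × ↥Z →* G := MonoidHom.noncommCoprod M₀.subtype Z.subtype
      fun m z => ((hZ z z.2).2 m (hML m.2)).symm
    have hφ : Function.Injective φ := by
      rw [injective_iff_map_eq_one]
      rintro ⟨m, z⟩ hmz
      have e : (m : G) * z = 1 := hmz
      have hm1 : (m : G) = 1 := htriv m m.2 (by
        rw [eq_inv_of_mul_eq_one_left e]; exact inv_mem z.2)
      rw [hm1, one_mul] at e
      exact Prod.ext (Subtype.ext hm1) (Subtype.ext e)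
    have hle : φ.range ≤ L ⊓ Subgroup.centralizer ({e₀} : Set G) := by
      rintro _ ⟨⟨m, z⟩, rfl⟩
      refine Subgroup.mem_inf.2 ⟨mul_mem (hML m.2) (hZ z z.2).1,
        Subgroup.mem_centralizer_singleton_iff.2 ?_⟩
      exact ((commute_Hd (hMH m.2)).symm.mul_left ((hZ z z.2).2 e₀ (hSL he₀S))).eq
    have := Subgroup.card_dvd_of_le hle
    rwa [← Nat.card_congr (MonoidHom.ofInjective hφ).toEquiv, Nat.card_prod, hMcard] at this
  have hLcard : Nat.card ↥L = 29713078886400 * Nat.card ↥Z := by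
    rw [eZ, Subgroup.card_eq_card_quotient_mul_card_subgroup (Subgroup.center ↥L), hQ,
      Subgroup.card_map_of_injective L.subtype_injective]
  -- the fibres over the symmetric group
  obtain ⟨S, eS⟩ : ∃ S : Finset G, S = (CN D d c).toFinset := ⟨_, rfl⟩
  have memS : ∀ f, f ∈ S ↔ f ∈ CN D d c := fun f => by rw [eS, Set.mem_toFinset]
  let val : G → Equiv.Perm (Fin 3) := fun f => if hf : f ∈ L then π ⟨f, hf⟩ else 1
  have hval : ∀ {f : G} (hf : f ∈ CN D d c), val f = π ⟨f, hSL hf⟩ := fun {f} hf =>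
    dif_pos (hSL hf)
  have hne1 : ∀ f ∈ CN D d c, val f ≠ 1 := by
    intro f hf hf1
    rw [hval hf] at hf1
    obtain ⟨t, ht⟩ := exists_ne (1 : Equiv.Perm (Fin 3))
    obtain ⟨⟨x, hx⟩, rfl⟩ := hπ t
    apply ht
    have hall : ∀ g (hg : g ∈ CN D d c), π ⟨g, hSL hg⟩ = 1 := by
      intro g hg
      obtain ⟨k, hk, rfl⟩ := htr f hf g hg
      rw [show (⟨k * f * k⁻¹, hSL hg⟩ : ↥L) = ⟨k, hk⟩ * ⟨f, hSL hf⟩ * ⟨k, hk⟩⁻¹ from rfl,
        map_mul, map_mul, hf1, mul_one, map_inv, mul_inv_cancel]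
    have hx' : x ∈ Subgroup.closure (CN D d c) := eL ▸ hx
    have key : ∀ z (hz : z ∈ Subgroup.closure (CN D d c)), π ⟨z, eL ▸ hz⟩ = 1 := by
      intro z hz
      induction hz using Subgroup.closure_induction with
      | mem g hg => exact hall g hg
      | one => exact map_one π
      | mul g g' _ _ h1 h2 => exact (map_mul π ⟨g, _⟩ ⟨g', _⟩).trans (by rw [h1, h2, one_mul])
      | inv g _ h1 => exact (map_inv π ⟨g, _⟩).trans (by rw [h1, inv_one])
    exact key x hx'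
  have hsq : ∀ f ∈ CN D d c, val f * val f = 1 := by
    intro f hf
    rw [hval hf, ← map_mul, show (⟨f, hSL hf⟩ : ↥L) * ⟨f, hSL hf⟩ = 1 from
      Subtype.ext (Trans3.sq_one hD.1 hf.1), map_one]
  obtain ⟨g, hg1, k, hk1, hk2⟩ := perm_three_other _ (hne1 e₀ he₀S) (hsq e₀ he₀S)
  have lift : ∀ t : Equiv.Perm (Fin 3), ∃ f ∈ CN D d c, val f = t * val e₀ * t⁻¹ := by
    intro t
    obtain ⟨⟨x, hx⟩, rfl⟩ := hπ t
    have hf : x * e₀ * x⁻¹ ∈ CN D d c := ⟨hD.2.1 x e₀ he₀, by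
      nth_rw 1 [← conj_eq_of_commute (hLc x hx).1]
      exact (commute_conj_iff x d e₀).2 he₀S.2.1, by
      nth_rw 1 [← conj_eq_of_commute (hLc x hx).2]
      exact (commute_conj_iff x c e₀).2 he₀S.2.2⟩
    refine ⟨_, hf, ?_⟩
    rw [hval hf, hval he₀S, ← map_inv, ← map_mul, ← map_mul]
    rfl
  obtain ⟨f₁, hf₁, v₁⟩ := lift g
  obtain ⟨f₂, hf₂, v₂⟩ := lift k
  have hfib : ∀ f ∈ CN D d c, 576 ≤ (S.filter fun w => val w = val f).card := by
    intro f hf
    refine fibre_bound (fun x y => Commute x y) Commute.refl (fun x y hxy => hxy.symm) val ?_ ?_ ?_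
      ((memS f).2 hf)
    · intro p hp q hq hpq
      rw [memS] at hp hq
      refine perm_three_same _ _ ⟨hne1 p hp, hne1 q hq, hsq p hp, hsq q hq, ?_⟩
      rw [hval hp, hval hq, ← map_mul, ← map_mul]
      exact congrArg π (Subtype.ext hpq.eq)
    · intro p hp
      rw [memS] at hp
      rw [← cn_perp hD hP h hd hc hdc hp, ← Set.ncard_coe_finset]
      congr 1
      ext w
      simp [memS]
    · intro p hp q hq hpq hc'
      rw [memS] at hp hq
      rw [← cn_perp_two hD hP h hd hc hdc hp hq hpq hc', ← Set.ncard_coe_finset]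
      congr 1
      ext w
      simp [memS]
  have hlow : 1728 ≤ (CN D d c).ncard := by
    have hdis : ∀ {p q : Equiv.Perm (Fin 3)}, p ≠ q →
        Disjoint (S.filter fun w => val w = p) (S.filter fun w => val w = q) := by
      intro p q hpq
      rw [Finset.disjoint_left]
      intro w hw hw'
      exact hpq ((Finset.mem_filter.1 hw).2.symm.trans (Finset.mem_filter.1 hw').2)
    have h0 := hfib e₀ he₀S
    have h1 := hfib f₁ hf₁
    have h2 := hfib f₂ hf₂
    rw [v₁] at h1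
    rw [v₂] at h2
    have h3 : ((S.filter fun w => val w = val e₀) ∪ (S.filter fun w => val w = g * val e₀ * g⁻¹) ∪
        (S.filter fun w => val w = k * val e₀ * k⁻¹)).card ≤ S.card :=
      Finset.card_le_card (Finset.union_subset (Finset.union_subset (Finset.filter_subset _ _)
        (Finset.filter_subset _ _)) (Finset.filter_subset _ _))
    rw [Finset.card_union_of_disjoint (Finset.disjoint_union_left.2
        ⟨hdis (Ne.symm hk1), hdis (Ne.symm hk2)⟩),
      Finset.card_union_of_disjoint (hdis (Ne.symm hg1)), eS,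
      ← Set.ncard_eq_toFinset_card'] at h3
    rw [← eS] at h3
    omega
  obtain ⟨m, hm⟩ := hdvd
  rw [hLcard, hm] at horb
  have hZpos : 0 < Nat.card ↥Z := Nat.card_pos
  have h4 : (CN D d c).ncard * m = 3240 :=
    Nat.eq_of_mul_eq_mul_right (show 0 < 9170703360 * Nat.card ↥Z by omega)
      (show (CN D d c).ncard * m * (9170703360 * Nat.card ↥Z) =
        3240 * (9170703360 * Nat.card ↥Z) by
        rw [← mul_assoc 3240, show 3240 * 9170703360 = 29713078886400 by norm_num, horb]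
        ring)
  rcases Nat.lt_or_ge m 2 with hm2 | hm2
  · interval_cases m <;> omega
  · have : (CN D d c).ncard * 2 ≤ (CN D d c).ncard * m := Nat.mul_le_mul_left _ hm2
    omega

/-- A commuting pair and a member not commuting with the first have a common neighbour. -/
theorem m24_commonThree : Up.CommonThree D := by
  classical
  haveI := Fintype.ofFinite G
  intro a b y ha hb hy hay
  have hN := nice_m24 hD hP h
  have hPre := pre_of_group hD
  by_cases hby : Commute b y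
  · exact ⟨b, hb.1, hb.2.2.symm, Commute.refl b, hby⟩
  have hg := hN.group_Db ha
  have h23 := m24_below hD hP h ha
  have hXP := m24_prim_below hD hP h ha
  obtain ⟨V, eV⟩ : ∃ V : Finset G, V = (nbrs D a).toFinset := ⟨_, rfl⟩
  obtain ⟨S, eS⟩ : ∃ S : Finset G, S = (CN D a y).toFinset := ⟨_, rfl⟩
  have memV : ∀ f, f ∈ V ↔ f ∈ nbrs D a := fun f => by rw [eV, Set.mem_toFinset]
  have memS : ∀ f, f ∈ S ↔ f ∈ CN D a y := fun f => by rw [eS, Set.mem_toFinset]
  have hpair : ∀ {u v : G} (hu : u ∈ nbrs D a) (hv : v ∈ nbrs D a),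
      (V.filter fun f => Commute u f ∧ Commute v f).card =
        (CN (Db D a) (bar hu) (bar hv)).ncard := by
    intro u v hu hv
    rw [← ncard_CN_bar hN ha hu hv, ← Set.ncard_coe_finset]
    congr 1
    ext f
    simp [memV]
  obtain ⟨e, he, heb⟩ := exists_linked (fun u v => Commute u v) Commute.refl
    (fun u v huv => huv.symm) (V := V) (S := S)
    (fun f hf => (memV f).2 (cn_nbr hD hay ((memS f).1 hf)))
    (by rw [eV, ← Set.ncard_eq_toFinset_card', card_nbrs24 hD hP h ha])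
    (by rw [eS, ← Set.ncard_eq_toFinset_card', m24_common_card hD hP h ha hy hay])
    (fun u hu => by
      rw [memV] at hu
      refine Eq.trans (congrArg Finset.card
        (Finset.filter_congr fun f _ => (and_self_iff (a := Commute u f)).symm)) ?_
      rw [hpair hu hu, ncard_CN_self (bar_mem hu), card_nbrs23 hg hXP h23 (bar_mem hu)])
    (fun u hu v hv hne huv => by
      rw [memV] at hu hv
      rw [hpair hu hv, ncard_CN_comm (bar_mem hu) (bar_mem hv)
        (fun x => hne (hN.bar_inj ha hu hv x)) ((commute_bar hPre hu hv).2 huv),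
        m23_inter_card hg hXP h23 (bar_mem hu) ⟨bar_mem hv,
          fun x => hne (hN.bar_inj ha hv hu x).symm, (commute_bar hPre hu hv).2 huv⟩])
    (fun u hu v hv huv => by
      rw [memV] at hu hv
      rw [hpair hu hv, m23_common_card hg hXP h23 (bar_mem hu) (bar_mem hv)
        fun x => huv ((commute_bar hPre hu hv).1 x)])
    (fun u hu => by
      rw [memS] at hu
      rw [← cn_perp hD hP h ha hy hay hu, ← Set.ncard_coe_finset]
      congr 1
      ext f
      simp [memS])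
    ((memV b).2 hb) (fun x => hby ((memS b).1 x).2.2.symm)
  rw [memS] at he
  exact ⟨e, he.1, he.2.1.symm, heb, he.2.2.symm⟩

/-- A group of type M(24) is a level. -/
theorem lvl_m24 : Lvl D :=
  Up.lvl (nice_m24 hD hP h) hP (fun _ ha => m24_lvl_below hD hP h ha) (m24_commonThree hD hP h)

end CfsgLib.Trans3.Fi
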