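import Cfsg.Agent.Lib.Trans3.Fi.U6Meet
import Cfsg.Agent.Lib.Trans3.Fi.M24Common
import Cfsg.Agent.Lib.Trans3.Fi.PairK

/-!
In a group of type M(22) no symmetry of the commuting relation on the members maps every member to
another one commuting with it: count the common neighbours of the pairs it swaps.
-/

set_option autoImplicit false
set_option linter.unusedSectionVars false

namespace CfsgLib.Trans3.Fi

variable {G : Type*} [Group G] [Finite G] {D : Set G}
variable (hD : Cfsg.IsThreeTranspositionGroup D) (hP : Cfsg.IsPrimitiveUnderConj D)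
variable (h : Cfsg.IsOfTypeM22 G D)
include hD hP h

omit hP in
/-- Common members of `u` and others, counted in the neighbourhood of `u`. -/
theorem meet_cons {u : G} (hu : u ∈ D) (l : List {x // x ∈ nbrs D u}) :
    (meet D (u :: l.map Subtype.val)).ncard =
      (meet (Db D u) (l.map fun v => bar v.2)).ncard + 1 := by
  have hN := nice_m22 hD h
  have hPre := pre_of_group hD
  have e : meet D (u :: l.map Subtype.val) =
      insert u {y | y ∈ nbrs D u ∧ ∀ v ∈ l, Commute y v.1} := by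
    ext y
    constructor
    · rintro ⟨hy, hc⟩
      by_cases hyu : y = u
      · exact Or.inl hyu
      · exact Or.inr ⟨⟨hy, hyu, (hc u List.mem_cons_self).symm⟩,
          fun v hv => hc _ (List.mem_cons_of_mem _ (List.mem_map_of_mem hv))⟩
    · rintro (rfl | ⟨hy, hc⟩)
      · refine ⟨hu, fun v hv => ?_⟩
        rcases List.mem_cons.1 hv with e | hv
        · rw [e]
        · obtain ⟨w, -, rfl⟩ := List.mem_map.1 hv
          exact w.2.2.2
      · refine ⟨hy.1, fun v hv => ?_⟩
        rcases List.mem_cons.1 hv with e | hv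
        · rw [e]; exact hy.2.2.symm
        · obtain ⟨w, hw, rfl⟩ := List.mem_map.1 hv
          exact hc w hw
  rw [e, Set.ncard_insert_of_notMem fun hm => hm.1.2.1 rfl]
  congr 1
  refine ncard_bar_eq hN hu (fun _ hq => hq.1) fun y hy => ⟨fun hq v hv => ?_, fun hq => ?_⟩
  · exact (commute_bar hPre hy v.2).1 (hq.2 _ (List.mem_map.2 ⟨v, hv, rfl⟩))
  · refine ⟨bar_mem hy, fun q hq' => ?_⟩
    obtain ⟨v, hv, rfl⟩ := List.mem_map.1 hq'
    exact (commute_bar hPre hy v.2).2 (hq v hv)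

omit hP in
theorem m22_meet_three {a b c : G} (ha : a ∈ D) (hb : b ∈ nbrs D a) (hc : c ∈ nbrs D a)
    (hbc : b ≠ c) (hcom : Commute b c) : (meet D [a, b, c]).ncard = 54 := by
  have hN := nice_m22 hD h
  have h1 := meet_cons hD h ha [⟨b, hb⟩, ⟨c, hc⟩]
  simp only [List.map_cons, List.map_nil] at h1
  rw [h1, u6_meet_two (m22_isU6 hD h ha) (hN.group_Db ha) (bar_mem hb) (bar_mem hc)
    (fun e => hbc (hN.bar_inj ha hb hc e)) ((commute_bar (pre_of_group hD) hb hc).2 hcom)]

/-- Two non-commuting common members of a non-commuting pair have 18 common members with it. -/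
theorem m22_meet_four {a d u v : G} (ha : a ∈ D) (hd : d ∈ D) (had : ¬ Commute a d)
    (hu : u ∈ D) (hua : Commute u a) (hud : Commute u d) (hv : v ∈ D) (hva : Commute v a)
    (hvd : Commute v d) (huv : ¬ Commute u v) : (meet D [a, d, u, v]).ncard = 18 := by
  classical
  haveI := Fintype.ofFinite G
  have hN := nice_m22 hD h
  have hPre := pre_of_group hD
  obtain ⟨K, eK⟩ : ∃ K : Finset G, K = (meet D [a, d]).toFinset := ⟨_, rfl⟩
  have hK : ∀ {x}, x ∈ K ↔ x ∈ D ∧ Commute x a ∧ Commute x d := by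
    intro x; simp [eK]
  have hKc : K.card = 126 := by
    rw [eK, ← Set.ncard_eq_toFinset_card', ← m22_common_card hD hP h ha hd had]
    congr 1
    ext y
    simp [meet, CN, Commute.symm_iff]
  have mem_nbrs : ∀ {x y : G}, x ∈ K → y ∈ D → (y = a ∨ y = d) → y ∈ nbrs D x := by
    intro x y hx hy e
    obtain ⟨-, xa, xd⟩ := hK.1 hx
    rcases e with rfl | rfl
    · exact ⟨hy, fun e => had (e ▸ xd), xa⟩
    · exact ⟨hy, fun e => had (e ▸ xa).symm, xd⟩
  have hbar : ∀ {x : G} (hx : x ∈ K), ¬ Commute (bar (mem_nbrs hx ha (Or.inl rfl)))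
      (bar (mem_nbrs hx hd (Or.inr rfl))) := fun hx e => had ((commute_bar hPre _ _).1 e)
  have k46 : ∀ x ∈ K, (K.filter fun y => Commute x y).card = 46 := by
    intro x hx
    have h1 := meet_cons hD h (hK.1 hx).1
      [⟨a, mem_nbrs hx ha (Or.inl rfl)⟩, ⟨d, mem_nbrs hx hd (Or.inr rfl)⟩]
    simp only [List.map_cons, List.map_nil] at h1
    rw [(u6_meet_pair (m22_isU6 hD h (hK.1 hx).1) (hN.group_Db (hK.1 hx).1) (bar_mem _) (bar_mem _)
      (hbar hx)).1] at h1
    refine Eq.trans ?_ h1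
    rw [Set.ncard_eq_toFinset_card']
    congr 1
    ext y
    simp only [Finset.mem_filter, hK, Set.mem_toFinset, meet, Set.mem_ofPred_eq,
      List.mem_cons, List.not_mem_nil, or_false, forall_eq_or_imp, forall_eq]
    exact ⟨fun ⟨⟨p, q, r⟩, s⟩ => ⟨p, s.symm, q, r⟩, fun ⟨p, s, q, r⟩ => ⟨⟨p, q, r⟩, s.symm⟩⟩
  have l14 : ∀ x ∈ K, ∀ y ∈ K, y ≠ x → Commute x y →
      (K.filter fun z => Commute x z ∧ Commute y z).card = 14 := by
    intro x hx y hy hne hxy
    have ny : y ∈ nbrs D x := ⟨(hK.1 hy).1, hne, hxy⟩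
    have h1 := meet_cons hD h (hK.1 hx).1
      [⟨a, mem_nbrs hx ha (Or.inl rfl)⟩, ⟨d, mem_nbrs hx hd (Or.inr rfl)⟩, ⟨y, ny⟩]
    simp only [List.map_cons, List.map_nil] at h1
    rw [(u6_meet_pair (m22_isU6 hD h (hK.1 hx).1) (hN.group_Db (hK.1 hx).1) (bar_mem _) (bar_mem _)
      (hbar hx)).2 _ (bar_mem ny) ((commute_bar hPre ny _).2 (hK.1 hy).2.1)
      ((commute_bar hPre ny _).2 (hK.1 hy).2.2)] at h1
    refine Eq.trans ?_ h1
    rw [Set.ncard_eq_toFinset_card']
    congr 1
    ext z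
    simp only [Finset.mem_filter, hK, Set.mem_toFinset, meet, Set.mem_ofPred_eq,
      List.mem_cons, List.not_mem_nil, or_false, forall_eq_or_imp, forall_eq]
    exact ⟨fun ⟨⟨p, q, r⟩, s, t⟩ => ⟨p, s.symm, q, r, t.symm⟩,
      fun ⟨p, s, q, r, t⟩ => ⟨⟨p, q, r⟩, s.symm, t.symm⟩⟩
  have huK : u ∈ K := hK.2 ⟨hu, hua, hud⟩
  have hvK : v ∈ K := hK.2 ⟨hv, hva, hvd⟩
  obtain ⟨μ, eμ⟩ : ∃ μ, μ = (meet D [a, d, u, v]).ncard := ⟨_, rfl⟩
  rw [← eμ]
  have hμ : ∀ w ∈ K, ¬ Commute u w → (K.filter fun z => Commute u z ∧ Commute w z).card = μ := by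
    intro w hw huw
    obtain ⟨hwD, hwa, hwd⟩ := hK.1 hw
    obtain ⟨g, g1, g2, g3, g4⟩ := m22_pair_rank_three hD hP h ha hd had
      (e := u) ⟨hu, hua.symm, hud.symm⟩ (c := v) ⟨hv, hva.symm, hvd.symm⟩ (c' := w)
      ⟨hwD, hwa.symm, hwd.symm⟩ huv huw
    have h2 := meet_conj hD g [a, d, u, v]
    simp only [List.map_cons, List.map_nil, conj_eq_of_commute g1, conj_eq_of_commute g2,
      conj_eq_of_commute g3, g4] at h2
    rw [eμ, ← h2, Set.ncard_eq_toFinset_card']
    congr 1
    ext z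
    simp only [Finset.mem_filter, hK, Set.mem_toFinset, meet, Set.mem_ofPred_eq,
      List.mem_cons, List.not_mem_nil, or_false, forall_eq_or_imp, forall_eq]
    exact ⟨fun ⟨⟨p, q, r⟩, s, t⟩ => ⟨p, q, r, s.symm, t.symm⟩,
      fun ⟨p, q, r, s, t⟩ => ⟨⟨p, q, r⟩, s.symm, t.symm⟩⟩
  obtain ⟨Ku, eKu⟩ : ∃ Ku, Ku = K.filter fun z => Commute u z := ⟨_, rfl⟩
  have htot : ∑ w ∈ K, (K.filter fun z => Commute u z ∧ Commute w z).card = 46 * 46 := by
    rw [sum_common (R := fun x y : G => Commute x y), Finset.sum_const_nat (m := 46) fun z hz => ?_,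
      k46 u huK]
    rw [Finset.mem_filter] at hz
    rw [← k46 z hz.1]
    congr 1
    exact Finset.filter_congr fun f _ => Commute.symm_iff
  have huKu : u ∈ Ku := eKu ▸ Finset.mem_filter.2 ⟨huK, Commute.refl u⟩
  have hKuc : Ku.card = 46 := eKu ▸ k46 u huK
  rw [← Finset.sum_filter_add_sum_filter_not K (fun z => Commute u z), ← eKu,
    ← Finset.add_sum_erase Ku _ huKu] at htot
  have h1 : (K.filter fun z => Commute u z ∧ Commute u z).card = 46 := by
    rw [← k46 u huK]
    congr 1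
    exact Finset.filter_congr fun z _ => and_self_iff
  have h2 : ∀ w ∈ Ku.erase u, (K.filter fun z => Commute u z ∧ Commute w z).card = 14 := by
    intro w hw
    rw [Finset.mem_erase, eKu, Finset.mem_filter] at hw
    exact l14 u huK w hw.2.1 hw.1 hw.2.2
  have h3 : ∀ w ∈ K.filter (fun z => ¬ Commute u z),
      (K.filter fun z => Commute u z ∧ Commute w z).card = μ := fun w hw =>
    hμ w (Finset.mem_filter.1 hw).1 (Finset.mem_filter.1 hw).2
  rw [h1, Finset.sum_const_nat h2, Finset.sum_const_nat h3, Finset.card_erase_of_mem huKu,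
    hKuc] at htot
  have h4 := Finset.card_filter_add_card_filter_not (s := K) (p := fun z => Commute u z)
  rw [← eKu, hKuc, hKc] at h4
  obtain ⟨n, en⟩ : ∃ n, n = (K.filter fun z => ¬ Commute u z).card := ⟨_, rfl⟩
  rw [← en] at htot h4
  obtain rfl : n = 80 := by omega
  omega

/-- No symmetry of the commuting relation moves every member to one commuting with it. -/
theorem m22_no_swap (σ : G → G) (hmem : ∀ e ∈ D, σ e ∈ D) (hinv : ∀ e ∈ D, σ (σ e) = e)
    (hadj : ∀ e ∈ D, ∀ y ∈ D, Commute e y → Commute (σ e) (σ y))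
    (hne : ∀ e ∈ D, σ e ≠ e) (hc : ∀ e ∈ D, Commute e (σ e)) : False := by
  classical
  haveI := Fintype.ofFinite G
  have hiff : ∀ {e y : G}, e ∈ D → y ∈ D → Commute e (σ y) → Commute (σ e) y := fun he hy hc' => by
    have := hadj _ he _ (hmem _ hy) hc'
    rwa [hinv _ hy] at this
  obtain ⟨a, ha, -⟩ := (nice_m22 hD h).pair
  have ha' := hmem a ha
  have hna : σ a ∈ nbrs D a := ⟨ha', hne a ha, hc a ha⟩
  obtain ⟨B, eB⟩ : ∃ B : Finset G, B = (nbrs D a ∩ nbrs D (σ a)).toFinset := ⟨_, rfl⟩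
  obtain ⟨E, eE⟩ : ∃ E : Finset G, E = {e | e ∈ nbrs D a ∧ ¬ Commute e (σ a)}.toFinset := ⟨_, rfl⟩
  have hB : B.card = 180 := by
    rw [eB, ← Set.ncard_eq_toFinset_card', card_nbrs_two hD h ha hna]
  have hE : E.card = 512 := by
    have hu : nbrs D a = insert (σ a) ((nbrs D a ∩ nbrs D (σ a)) ∪
        {e | e ∈ nbrs D a ∧ ¬ Commute e (σ a)}) := by
      ext y
      simp only [Set.mem_insert_iff, Set.mem_union, Set.mem_inter_iff, Set.mem_ofPred_eq]
      constructor
      · intro hy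
        by_cases h1 : y = σ a
        · exact Or.inl h1
        by_cases h2 : Commute y (σ a)
        · exact Or.inr (Or.inl ⟨hy, hy.1, h1, h2.symm⟩)
        · exact Or.inr (Or.inr ⟨hy, h2⟩)
      · rintro (rfl | ⟨hy, -⟩ | ⟨hy, -⟩)
        exacts [hna, hy, hy]
    have h1 := card_nbrs hD h ha
    rw [hu, Set.ncard_insert_of_notMem, Set.ncard_union_eq, card_nbrs_two hD h ha hna] at h1
    · rw [eE, ← Set.ncard_eq_toFinset_card']; omega
    · rw [Set.disjoint_left]
      rintro y ⟨-, hy⟩ ⟨-, hy'⟩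
      exact hy' hy.2.2.symm
    · rintro (⟨-, hy⟩ | ⟨-, hy⟩)
      · exact hy.2.1 rfl
      · exact hy (Commute.refl _)
  have h18 : ∀ e ∈ E, (B.filter fun y => Commute e y ∧ Commute e (σ y)).card = 18 := by
    intro e he
    rw [eE, Set.mem_toFinset] at he
    obtain ⟨hea, hen⟩ := he
    have haσ : ¬ Commute a (σ e) := fun x => hen (hiff ha hea.1 x).symm
    rw [← m22_meet_four hD hP h (a := a) (d := σ e) (u := σ a) (v := e) ha (hmem e hea.1) haσ ha'
      (hc a ha).symm (hadj a ha e hea.1 hea.2.2) hea.1 hea.2.2.symm (hc e hea.1)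
      (fun x => hen x.symm), Set.ncard_eq_toFinset_card']
    congr 1
    ext y
    simp only [Finset.mem_filter, eB, Set.mem_toFinset, Set.mem_inter_iff, meet,
      Set.mem_ofPred_eq, List.mem_cons, List.not_mem_nil, or_false, forall_eq_or_imp, forall_eq]
    constructor
    · rintro ⟨⟨⟨hy, -, hya⟩, -, -, hya'⟩, hey, hey'⟩
      exact ⟨hy, hya.symm, (hiff hea.1 hy hey').symm, hya'.symm, hey.symm⟩
    · rintro ⟨hy, hya, hye', hya', hye⟩
      refine ⟨⟨⟨hy, fun x => haσ (x ▸ hye'), hya.symm⟩, hy, fun x => hen (x ▸ hye).symm, hya'.symm⟩,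
        hye.symm, ?_⟩
      have := hadj _ (hmem e hea.1) _ hy hye'.symm
      rwa [hinv e hea.1] at this
  have h51 : ∀ y ∈ B, (E.filter fun e => Commute e y ∧ Commute e (σ y)).card ≤ 51 := by
    intro y hy
    rw [eB, Set.mem_toFinset] at hy
    obtain ⟨hya, hya'⟩ := hy
    have hσy : σ y ∈ nbrs D a := by
      refine ⟨hmem y hya.1, fun x => hya'.2.1 ?_, ?_⟩
      · rw [← hinv y hya.1, x]
      · have := hadj _ ha' _ hya.1 hya'.2.2
        rwa [hinv a ha] at this
    have h54 := m22_meet_three hD h ha hya hσy (hne y hya.1).symm (hc y hya.1)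
    rw [Set.ncard_eq_toFinset_card'] at h54
    have hsub : E.filter (fun e => Commute e y ∧ Commute e (σ y)) ⊆
        ((meet D [a, y, σ y]).toFinset.erase a |>.erase y |>.erase (σ y)) := by
      intro e he
      rw [Finset.mem_filter, eE, Set.mem_toFinset] at he
      obtain ⟨⟨hea, hen⟩, h1, h2⟩ := he
      simp only [Finset.mem_erase, Set.mem_toFinset, meet, Set.mem_ofPred_eq, List.mem_cons,
        List.not_mem_nil, or_false, forall_eq_or_imp, forall_eq]
      refine ⟨fun x => hen (x ▸ ?_), fun x => hen (x ▸ hya'.2.2.symm), hea.2.1, hea.1,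
        hea.2.2.symm, h1, h2⟩
      exact (hadj a ha y hya.1 hya.2.2).symm
    refine (Finset.card_le_card hsub).trans ?_
    have m1 : σ y ∈ ((meet D [a, y, σ y]).toFinset.erase a).erase y := by
      simp only [Finset.mem_erase, Set.mem_toFinset, meet, Set.mem_ofPred_eq, List.mem_cons,
        List.not_mem_nil, or_false, forall_eq_or_imp, forall_eq]
      exact ⟨hne y hya.1, hσy.2.1, hσy.1, hσy.2.2.symm, (hc y hya.1).symm, Commute.refl _⟩
    have m2 : y ∈ (meet D [a, y, σ y]).toFinset.erase a := by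
      simp only [Finset.mem_erase, Set.mem_toFinset, meet, Set.mem_ofPred_eq, List.mem_cons,
        List.not_mem_nil, or_false, forall_eq_or_imp, forall_eq]
      exact ⟨hya.2.1, hya.1, hya.2.2.symm, Commute.refl _, hc y hya.1⟩
    have m3 : a ∈ (meet D [a, y, σ y]).toFinset := by
      simp only [Set.mem_toFinset, meet, Set.mem_ofPred_eq, List.mem_cons,
        List.not_mem_nil, or_false, forall_eq_or_imp, forall_eq]
      exact ⟨ha, Commute.refl _, hya.2.2, hσy.2.2⟩
    rw [Finset.card_erase_of_mem m1, Finset.card_erase_of_mem m2, Finset.card_erase_of_mem m3]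
    omega
  have hcount := Finset.sum_card_bipartiteAbove_eq_sum_card_bipartiteBelow
    (fun e y : G => Commute e y ∧ Commute e (σ y)) (s := E) (t := B)
  simp only [Finset.bipartiteAbove, Finset.bipartiteBelow] at hcount
  rw [Finset.sum_const_nat h18, hE] at hcount
  have hle := Finset.sum_le_card_nsmul _ _ _ h51
  rw [← hcount, hB, smul_eq_mul] at hle
  omega

end CfsgLib.Trans3.Fi
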