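import Cfsg.Agent.Lib.Trans3.Fi.SymConf
import Cfsg.Agent.Lib.Trans3.Group

/-!
An automorphism of `Sym(m)` preserving transpositions is inner, and the resulting splitting of the
normaliser of a subgroup whose fixed members form a configuration of symmetric type.
-/

set_option autoImplicit false
set_option linter.unusedSectionVars false

namespace CfsgLib.Trans3.Fi

open Equiv Equiv.Perm

section Perm

variable {m : ℕ}

theorem eq_conj_of_swaps (hm : 3 ≤ m) (θ : Perm (Fin m) →* Perm (Fin m))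
    (hθ : Function.Injective θ) (hsw : ∀ σ : Perm (Fin m), σ.IsSwap → (θ σ).IsSwap) :
    ∃ π : Perm (Fin m), ∀ σ, θ σ = π * σ * π⁻¹ := by
  classical
  obtain ⟨o, eo⟩ : ∃ o : Fin m, o = ⟨0, by omega⟩ := ⟨_, rfl⟩
  obtain ⟨u, v, hou, hov, huv⟩ : ∃ u v : Fin m, o ≠ u ∧ o ≠ v ∧ u ≠ v :=
    ⟨⟨1, by omega⟩, ⟨2, by omega⟩, by simp [eo], by simp [eo], by simp⟩
  obtain ⟨a, b, hab, e1⟩ := hsw _ ⟨o, u, hou, rfl⟩
  have hne : ∀ {x y : Fin m}, o ≠ x → o ≠ y → x ≠ y →
      ¬ Disjoint (θ (swap o x)).support (θ (swap o y)).support ∧ θ (swap o x) ≠ θ (swap o y) := by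
    intro x y hx hy hxy
    have h : ¬ Commute (θ (swap o x)) (θ (swap o y)) := fun h =>
      not_commute_star hx hy hxy (h.of_map hθ)
    exact ⟨fun hd => h ((swap_commute_iff (hsw _ ⟨o, x, hx, rfl⟩) (hsw _ ⟨o, y, hy, rfl⟩)).2
      (Or.inr hd)), fun he => h (by rw [he])⟩
  -- the common letter of the images of the first two transpositions
  obtain ⟨a, hau, hav⟩ : ∃ a, a ∈ (θ (swap o u)).support ∧ a ∈ (θ (swap o v)).support :=
    Finset.not_disjoint_iff.1 (hne hou hov huv).1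
  have hall : ∀ l, o ≠ l → a ∈ (θ (swap o l)).support := by
    intro l hl
    by_contra hal
    have hlu : l ≠ u := fun e => hal (e ▸ hau)
    have hlv : l ≠ v := fun e => hal (e ▸ hav)
    obtain ⟨c, d, hcd, euv⟩ := hsw _ ⟨u, v, huv, rfl⟩
    have hstar := congrArg θ (swap_conj_star hou hov huv)
    rw [map_mul, map_mul] at hstar
    obtain ⟨b₁, hb₁, eb₁⟩ : ∃ b₁, b₁ ≠ a ∧ θ (swap o u) = swap a b₁ := by
      obtain ⟨x, y, hxy, e⟩ := hsw _ ⟨o, u, hou, rfl⟩
      rw [e, support_swap hxy] at hau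
      rcases Finset.mem_insert.1 hau with rfl | h
      · exact ⟨y, hxy.symm, e⟩
      · rw [Finset.mem_singleton] at h
        subst h
        exact ⟨x, hxy, by rw [e, swap_comm]⟩
    obtain ⟨b₂, hb₂, eb₂⟩ : ∃ b₂, b₂ ≠ a ∧ θ (swap o v) = swap a b₂ := by
      obtain ⟨x, y, hxy, e⟩ := hsw _ ⟨o, v, hov, rfl⟩
      rw [e, support_swap hxy] at hav
      rcases Finset.mem_insert.1 hav with rfl | h
      · exact ⟨y, hxy.symm, e⟩
      · rw [Finset.mem_singleton] at h
        subst h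
        exact ⟨x, hxy, by rw [e, swap_comm]⟩
    have hb12 : b₁ ≠ b₂ := fun e => (hne hou hov huv).2 (by rw [eb₁, eb₂, e])
    rw [eb₁, eb₂, swap_conj_star hb₁.symm hb₂.symm hb12] at hstar
    have h1 := (hne hou hl hlu.symm).1
    have h2 := (hne hov hl hlv.symm).1
    rw [eb₁, support_swap hb₁.symm] at h1
    rw [eb₂, support_swap hb₂.symm] at h2
    simp only [Finset.disjoint_insert_left, Finset.disjoint_singleton_left, hal, not_false_eq_true,
      true_and, not_not] at h1 h2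
    have heq : θ (swap o l) = swap b₁ b₂ := by
      refine swap_eq_of_support (hsw _ ⟨o, l, hl, rfl⟩) ⟨b₁, b₂, hb12, rfl⟩
        (Finset.eq_of_subset_of_card_le ?_ ?_).symm
      · rw [support_swap hb12]
        exact Finset.insert_subset h1 (Finset.singleton_subset_iff.2 h2)
      · rw [support_swap hb12, Finset.card_pair hb12,
          card_support_eq_two.2 (hsw _ ⟨o, l, hl, rfl⟩)]
    have h3 : swap o l = swap u v := hθ (heq.trans hstar)
    have h4 := congrArg (fun σ : Perm (Fin m) => σ o) h3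
    simp [swap_apply_of_ne_of_ne hou hov] at h4
    exact hl h4.symm
  obtain ⟨f, ef⟩ : ∃ f : Fin m → Fin m, f = fun l => θ (swap o l) a := ⟨_, rfl⟩
  have fo : f o = a := by rw [ef]; simp [← Equiv.Perm.one_def]
  have himg : ∀ l, o ≠ l → θ (swap o l) = swap a (f l) ∧ a ≠ f l := by
    intro l hl
    obtain ⟨x, y, hxy, e⟩ := hsw _ ⟨o, l, hl, rfl⟩
    have h := hall l hl
    rw [e, support_swap hxy] at h
    rw [ef]
    simp only [e]
    rcases Finset.mem_insert.1 h with rfl | h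
    · rw [swap_apply_left]; exact ⟨rfl, hxy⟩
    · rw [Finset.mem_singleton] at h
      subst h
      rw [swap_apply_right]
      exact ⟨swap_comm _ _, hxy.symm⟩
  have finj : Function.Injective f := by
    intro x y h
    by_cases hx : o = x
    · subst hx
      by_cases hy : o = y
      · exact hy
      · exact absurd (fo.symm.trans h) (himg y hy).2
    · by_cases hy : o = y
      · subst hy
        exact absurd (fo.symm.trans h.symm) (himg x hx).2
      · by_contra hxy
        exact (hne hx hy hxy).2 (by rw [(himg x hx).1, (himg y hy).1, h])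
  obtain ⟨π, hπ⟩ : ∃ π : Perm (Fin m), ∀ l, π l = f l :=
    ⟨Equiv.ofBijective f (Finite.injective_iff_bijective.1 finj), fun l => rfl⟩
  refine ⟨π, fun σ => ?_⟩
  have hmem : σ ∈ Subgroup.closure {σ : Perm (Fin m) | σ.IsSwap} := by rw [closure_isSwap]; trivial
  refine congrFun (congrArg DFunLike.coe (show θ = (MulAut.conj π).toMonoidHom from
    MonoidHom.eq_of_eqOn_dense closure_isSwap ?_)) σ
  have hstar : ∀ l, θ (swap o l) = (MulAut.conj π).toMonoidHom (swap o l) := by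
    intro l
    by_cases hl : o = l
    · subst hl
      simp [← Equiv.Perm.one_def]
    · show _ = π * swap o l * π⁻¹
      rw [(himg l hl).1, Equiv.mul_swap_eq_swap_mul, mul_inv_cancel_right, hπ, hπ, fo]
  rintro _ ⟨x, y, hxy, rfl⟩
  by_cases hx : o = x
  · subst hx; exact hstar y
  by_cases hy : o = y
  · subst hy; rw [swap_comm]; exact hstar x
  rw [← swap_conj_star hx hy hxy, map_mul, map_mul, map_mul, map_mul, hstar, hstar]

theorem eq_one_of_commute_swaps (hm : 3 ≤ m) {z : Perm (Fin m)}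
    (hz : ∀ σ : Perm (Fin m), σ.IsSwap → Commute z σ) : z = 1 := by
  ext i
  obtain ⟨j, hj⟩ : ∃ j : Fin m, j ≠ i := by
    by_contra! h
    have h0 := h ⟨0, by omega⟩
    have h1 := h ⟨1, by omega⟩
    rw [← h1] at h0
    simp at h0
  obtain ⟨l, hli, hlj⟩ : ∃ l : Fin m, l ≠ i ∧ l ≠ j := by
    by_contra! h
    have := Finset.card_le_card (show (Finset.univ : Finset (Fin m)) ⊆ {i, j} from fun l _ => by
      by_cases hl : l = i
      · simp [hl]
      · simp [h l hl])
    rw [Finset.card_univ, Fintype.card_fin, Finset.card_pair hj.symm] at this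
    omega
  have key : ∀ k, k ≠ i → z i = i ∨ z i = k := by
    intro k hk
    have h := (hz (swap i k) ⟨i, k, hk.symm, rfl⟩).eq
    rw [Equiv.mul_swap_eq_swap_mul] at h
    have h1 : swap (z i) (z k) = swap i k := mul_right_cancel h
    have h2 := congrArg (fun σ : Perm (Fin m) => σ (z i)) h1
    simp only [swap_apply_left] at h2
    by_contra! hcon
    rw [swap_apply_of_ne_of_ne hcon.1 hcon.2] at h2
    exact hk (z.injective h2)
  rw [Equiv.Perm.one_apply]
  rcases key j hj with h | h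
  · exact congrArg _ h
  · rcases key l hli with h' | h'
    · exact congrArg _ h'
    · exact absurd (h'.symm.trans h) hlj

end Perm

variable {G : Type*} [Group G] [Finite G]

/-- The order of a subgroup factorised by two subgroups meeting trivially. -/
theorem card_factor {A B H : Subgroup G} (hA : A ≤ H) (hB : B ≤ H) (hd : Disjoint A B)
    (h : ∀ x ∈ H, ∃ a ∈ A, a⁻¹ * x ∈ B) : Nat.card ↥H = Nat.card ↥A * Nat.card ↥B := by
  rw [← Nat.card_prod]
  refine (Nat.card_eq_of_bijective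
    (fun q : ↥A × ↥B => (⟨(q.1 : G) * q.2, mul_mem (hA q.1.2) (hB q.2.2)⟩ : ↥H)) ⟨?_, ?_⟩).symm
  · intro q r e
    exact Subgroup.mul_injective_of_disjoint hd (congrArg Subtype.val e)
  · rintro ⟨x, hx⟩
    obtain ⟨a, ha, hb⟩ := h x hx
    exact ⟨(⟨a, ha⟩, ⟨_, hb⟩), Subtype.ext (by simp)⟩

/-- The normaliser of `X` splits off the group of the members commuting with `X`. -/
theorem normalizer_split {D : Set G} (hD : Cfsg.IsThreeTranspositionGroup D) {p m : ℕ}
    (hm : 3 ≤ m) {X : Subgroup G} (hXc : ∀ x ∈ X, ∀ y ∈ X, x * y = y * x) (hX : Nat.card ↥X = p)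
    (hS : SymConf m (D ∩ (Subgroup.centralizer (X : Set G) : Set G)))
    (hC : Nat.card ↥(Subgroup.centralizer (X : Set G)) = p * m.factorial)
    (hN : Nat.card ↥(Subgroup.normalizer (X : Set G)) = (p - 1) * (p * m.factorial)) :
    ∃ F : Subgroup G, Nat.card ↥F = (p - 1) * p ∧ X ≤ F ∧
      F ⊓ Subgroup.centralizer (X : Set G) = X ∧
      F ⊓ Subgroup.closure (D ∩ (Subgroup.centralizer (X : Set G) : Set G)) = ⊥ ∧
      (∀ x ∈ F, ∀ y ∈ Subgroup.closure (D ∩ (Subgroup.centralizer (X : Set G) : Set G)),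
        x * y = y * x) ∧
      F ⊔ Subgroup.closure (D ∩ (Subgroup.centralizer (X : Set G) : Set G)) =
        Subgroup.normalizer (X : Set G) ∧
      Nonempty (↥(Subgroup.closure (D ∩ (Subgroup.centralizer (X : Set G) : Set G))) ≃*
        Perm (Fin m)) := by
  obtain ⟨S, eS⟩ : ∃ S : Set G, S = D ∩ (Subgroup.centralizer (X : Set G) : Set G) := ⟨_, rfl⟩
  rw [← eS] at hS ⊢
  obtain ⟨φ, hφ, hφS, hr⟩ := hS.closure_eq
  obtain ⟨N, eN⟩ : ∃ N, N = Subgroup.normalizer (X : Set G) := ⟨_, rfl⟩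
  obtain ⟨C, eC⟩ : ∃ C, C = Subgroup.centralizer (X : Set G) := ⟨_, rfl⟩
  rw [← eC] at hC
  rw [← eN] at hN
  rw [← eN, ← eC]
  have hKC : Subgroup.closure S ≤ C := by
    rw [Subgroup.closure_le, eS, eC]; exact Set.inter_subset_right
  have hCN : C ≤ N := by
    rw [eC, eN]; exact Subgroup.centralizer_le_normalizer _
  have hconj : ∀ n ∈ N, ∀ s ∈ S, n * s * n⁻¹ ∈ S := by
    intro n hn s hs
    rw [eS] at hs ⊢
    rw [eN] at hn
    refine ⟨hD.2.1 n s hs.1, ?_⟩
    rw [SetLike.mem_coe, Subgroup.mem_centralizer_iff]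
    intro x hx
    have hs2 := Subgroup.mem_centralizer_iff.1 (SetLike.mem_coe.1 hs.2)
    have h1 : n⁻¹ * x * n ∈ X := (Subgroup.mem_normalizer_iff''.1 hn x).1 hx
    have h2 := hs2 _ h1
    calc x * (n * s * n⁻¹) = n * ((n⁻¹ * x * n) * s) * n⁻¹ := by group
      _ = n * s * n⁻¹ * x := by rw [h2]; group
  obtain ⟨F, eF⟩ : ∃ F, F = N ⊓ Subgroup.centralizer ((Subgroup.closure S : Subgroup G) : Set G) :=
    ⟨_, rfl⟩
  have hFcomm : ∀ x ∈ F, ∀ y ∈ Subgroup.closure S, x * y = y * x := fun x hx y hy => by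
    rw [eF] at hx
    exact (Subgroup.mem_centralizer_iff.1 hx.2 y hy).symm
  have hdec : ∀ n ∈ N, ∃ s ∈ Subgroup.closure S, s⁻¹ * n ∈ F := by
    intro n hn
    have hmem : ∀ σ, n * φ σ * n⁻¹ ∈ φ.range := by
      intro σ
      have hσ : φ σ ∈ Subgroup.closure S := hr ▸ ⟨σ, rfl⟩
      rw [hr]
      suffices h : ∀ y ∈ Subgroup.closure S, n * y * n⁻¹ ∈ Subgroup.closure S from h _ hσ
      intro y hy
      induction hy using Subgroup.closure_induction with
      | mem y hy => exact Subgroup.subset_closure (hconj n hn y hy)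
      | one => simp
      | mul a b _ _ ha hb => simpa [mul_assoc] using mul_mem ha hb
      | inv a _ ha => simpa [mul_assoc] using inv_mem ha
    let θ : Perm (Fin m) →* Perm (Fin m) := (φ.ofInjective hφ).symm.toMonoidHom.comp
      (((MulAut.conj n).toMonoidHom.comp φ).codRestrict φ.range hmem)
    have hθ : ∀ σ, φ (θ σ) = n * φ σ * n⁻¹ := fun σ =>
      congrArg Subtype.val ((φ.ofInjective hφ).apply_symm_apply ⟨_, hmem σ⟩)
    obtain ⟨π, hπ⟩ := eq_conj_of_swaps hm θ
      (fun a b e => hφ ((MulAut.conj n).injective (by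
        show n * φ a * n⁻¹ = n * φ b * n⁻¹
        rw [← hθ, ← hθ, e])))
      (fun σ hσ => by
        obtain ⟨τ, hτ, e⟩ : n * φ σ * n⁻¹ ∈ φ '' {σ | σ.IsSwap} :=
          hφS.symm ▸ hconj n hn _ (hφS ▸ ⟨σ, hσ, rfl⟩)
        rw [← hθ σ] at e
        exact (hφ e) ▸ hτ)
    have hπS : φ π ∈ Subgroup.closure S := hr ▸ ⟨π, rfl⟩
    refine ⟨φ π, hπS, ?_⟩
    rw [eF]
    refine Subgroup.mem_inf.2 ⟨mul_mem (inv_mem (hCN (hKC hπS))) hn, ?_⟩
    rw [Subgroup.mem_centralizer_iff]
    intro y hy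
    rw [SetLike.mem_coe, ← hr] at hy
    obtain ⟨σ, rfl⟩ := hy
    have h1 := hθ σ
    rw [hπ, map_mul, map_mul, map_inv] at h1
    calc φ σ * ((φ π)⁻¹ * n) = (φ π)⁻¹ * (φ π * φ σ * (φ π)⁻¹) * n := by group
      _ = (φ π)⁻¹ * n * φ σ := by rw [h1]; group
  have hdisj : Disjoint (Subgroup.closure S) F := by
    rw [Subgroup.disjoint_def]
    intro x hxS hxF
    have h := hFcomm x hxF
    rw [← hr] at hxS
    obtain ⟨σ, rfl⟩ := hxS
    rw [eq_one_of_commute_swaps hm (z := σ) fun τ hτ => Commute.of_map hφ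
      (h _ (Subgroup.subset_closure (hφS ▸ ⟨τ, hτ, rfl⟩))), map_one]
  have hKN : Subgroup.closure S ≤ N := hKC.trans hCN
  have hFN : F ≤ N := eF ▸ inf_le_left
  have h1 := card_factor hKN hFN hdisj hdec
  rw [hS.card_closure, hN] at h1
  have hFcard : Nat.card ↥F = (p - 1) * p :=
    Nat.eq_of_mul_eq_mul_left (Nat.factorial_pos m) (by rw [← h1]; ring)
  have h2 := card_factor hKC (inf_le_right : F ⊓ C ≤ C) (hdisj.mono_right inf_le_left) fun x hx => by
    obtain ⟨a, ha, hb⟩ := hdec x (hCN hx)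
    exact ⟨a, ha, Subgroup.mem_inf.2 ⟨hb, mul_mem (inv_mem (hKC ha)) hx⟩⟩
  rw [hS.card_closure, hC] at h2
  have hFC : Nat.card ↥(F ⊓ C) = p :=
    Nat.eq_of_mul_eq_mul_left (Nat.factorial_pos m) (by rw [← h2, mul_comm])
  have hXle : X ≤ F ⊓ C := by
    have hXC : X ≤ C := by
      rw [eC]
      exact fun x hx => Subgroup.mem_centralizer_iff.2 fun y hy => hXc y hy x hx
    refine le_inf ?_ hXC
    rw [eF]
    refine le_inf (hXC.trans hCN) fun x hx => ?_
    rw [Subgroup.mem_centralizer_iff]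
    intro y hy
    have hy' := hKC hy
    rw [eC, Subgroup.mem_centralizer_iff] at hy'
    exact (hy' x hx).symm
  refine ⟨F, hFcard, hXle.trans inf_le_left,
    (Subgroup.eq_of_le_of_card_ge hXle (by rw [hFC, hX])).symm, disjoint_iff.1 hdisj.symm, hFcomm,
    ?_, hS.iso⟩
  refine le_antisymm (sup_le hFN hKN) fun x hx => ?_
  obtain ⟨a, ha, hb⟩ := hdec x hx
  have := Subgroup.mul_mem_sup (inv_mem hb) (inv_mem ha)
  have e : x = ((a⁻¹ * x)⁻¹ * a⁻¹)⁻¹ := by group
  rw [e]
  exact inv_mem this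

end CfsgLib.Trans3.Fi
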