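import Cfsg.Agent.Lib.Trans3.Fi.SymStep
import Cfsg.Agent.Lib.Trans3.Fi.SymNormal
import Cfsg.Agent.Lib.Trans3.Fi.M22Count

/-!
Elements of odd prime order `p` in a group of 3-transpositions: what the neighbourhood groups say
about the members commuting with them, their centralisers, and their conjugacy.
-/

set_option autoImplicit false
set_option linter.unusedSectionVars false
set_option linter.style.haveILetI false

namespace CfsgLib.Trans3.Fi

open Equiv Equiv.Perm

variable {G : Type*} [Group G]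

/-- The members commuting with `x`. -/
abbrev Fx (D : Set G) (x : G) : Set G := {d | d ∈ D ∧ Commute d x}

/-- What is known one level below about elements of order `p`. -/
structure Loc (D : Set G) (p n : ℕ) : Prop where
  conf : ∀ x : G, orderOf x = p → SymConf n (Fx D x)
  cent : ∀ x : G, orderOf x = p →
    Nat.card ↥(Subgroup.centralizer ({x} : Set G)) = p * n.factorial
  conj : ∀ x y : G, orderOf x = p → orderOf y = p → IsConj x y

/-- The neighbourhood group of every member is its centraliser, with centre of order two. -/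
structure Gated (D : Set G) : Prop extends Nice D where
  mem : ∀ d ∈ D, d ∈ Hd D d
  gate : ∀ d ∈ D, Hd D d = Subgroup.centralizer ({d} : Set G)
  ctr : ∀ d ∈ D, Subgroup.center ↥(Hd D d) = (Subgroup.zpowers d).subgroupOf (Hd D d)

theorem Fx_eq (D : Set G) {X : Subgroup G} {x : G} (h : X = Subgroup.zpowers x) :
    D ∩ (Subgroup.centralizer (X : Set G) : Set G) = Fx D x := by
  subst h
  ext d
  constructor
  · rintro ⟨hd, hc⟩
    exact ⟨hd, (Subgroup.mem_centralizer_iff.1 (SetLike.mem_coe.1 hc) x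
      (Subgroup.mem_zpowers x)).symm⟩
  · rintro ⟨hd, hc⟩
    refine ⟨hd, SetLike.mem_coe.2 (Subgroup.mem_centralizer_iff.2 ?_)⟩
    rintro y hy
    obtain ⟨k, rfl⟩ := Subgroup.mem_zpowers_iff.1 (SetLike.mem_coe.1 hy)
    exact ((hc.symm).zpow_left k).eq

theorem centralizer_zpowers {X : Subgroup G} {x : G} (h : X = Subgroup.zpowers x) :
    Subgroup.centralizer (X : Set G) = Subgroup.centralizer ({x} : Set G) := by
  rw [h, Subgroup.zpowers_eq_closure, Subgroup.centralizer_closure]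

theorem commute_of_mem_Fx {D : Set G} {x : G} {k : G}
    (hk : k ∈ Subgroup.centralizer ({x} : Set G)) {d : G} (hd : d ∈ Fx D x)
    (hD : Cfsg.IsThreeTranspositionGroup D) : k * d * k⁻¹ ∈ Fx D x := by
  refine ⟨hD.2.1 k d hd.1, ?_⟩
  have hc : Commute k x := Subgroup.mem_centralizer_singleton_iff.1 hk
  exact ((hc.mul_left hd.2).mul_left hc.inv_left)

theorem Fx_closed {D : Set G} (hD : Cfsg.IsThreeTranspositionGroup D) (x : G) :
    ∀ d ∈ Fx D x, ∀ e ∈ Fx D x, d * e * d ∈ Fx D x := fun _ hd _ he =>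
  ⟨self_conj_mem hD hd.1 he.1, (hd.2.mul_left he.2).mul_left hd.2⟩

variable [Finite G]

/-- Fixed members of an element of prime order, counted modulo the prime. -/
theorem ncard_fixed_modEq {x : G} {p : ℕ} [Fact p.Prime] (hx : orderOf x = p) {A : Set G}
    (hA : ∀ a ∈ A, x * a * x⁻¹ ∈ A) :
    {a | a ∈ A ∧ Commute a x}.ncard ≡ A.ncard [MOD p] := by
  classical
  have hmem : ∀ k ∈ Subgroup.zpowers x, ∀ a ∈ A, k * a * k⁻¹ ∈ A := by
    intro k hk a ha
    rw [← mem_powers_iff_mem_zpowers] at hk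
    obtain ⟨i, rfl⟩ := hk
    induction i generalizing a with
    | zero => simpa using ha
    | succ i ih =>
      have := ih _ (hA a ha)
      simpa [pow_succ, mul_assoc] using this
  letI : MulAction ↥(Subgroup.zpowers x) A :=
    { smul := fun k a => ⟨k * a * (k : G)⁻¹, hmem k k.2 a a.2⟩
      one_smul := fun a => Subtype.ext (by show (1 : G) * a * (1 : G)⁻¹ = a; simp)
      mul_smul := fun k l a => Subtype.ext (by
        show ((k * l : ↥(Subgroup.zpowers x)) : G) * a * ((k * l : ↥(Subgroup.zpowers x)) : G)⁻¹ =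
          k * ((l : G) * a * (l : G)⁻¹) * (k : G)⁻¹
        rw [Subgroup.coe_mul]; group) }
  have hP : IsPGroup p ↥(Subgroup.zpowers x) :=
    IsPGroup.of_card (n := 1) (by rw [Nat.card_zpowers, hx, pow_one])
  have h := hP.card_modEq_card_fixedPoints A
  rw [Nat.card_coe_set_eq] at h
  rw [← Nat.card_coe_set_eq {a | a ∈ A ∧ Commute a x}]
  refine Nat.ModEq.trans (congrArg (· % p) (Nat.card_congr
    ({ toFun := fun a => ⟨⟨a.1, a.2.1⟩, fun k => ?_⟩
       invFun := fun a => ⟨a.1.1, a.1.2, ?_⟩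
       left_inv := fun a => rfl
       right_inv := fun a => rfl } :
      ↥{a | a ∈ A ∧ Commute a x} ≃ ↥(MulAction.fixedPoints ↥(Subgroup.zpowers x) A)))) h.symm
  · refine Subtype.ext ?_
    show (k : G) * a.1 * (k : G)⁻¹ = a.1
    obtain ⟨i, hi⟩ := Subgroup.mem_zpowers_iff.1 k.2
    rw [← hi, ((a.2.2.symm).zpow_left i).eq, mul_inv_cancel_right]
  · have h1 : x * a.1.1 * x⁻¹ = a.1.1 :=
      congrArg Subtype.val (a.2 ⟨x, Subgroup.mem_zpowers x⟩)
    exact (mul_inv_eq_iff_eq_mul.1 h1).symm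

section Lift

variable {D : Set G} (hD : Gated D) {d : G} (hd : d ∈ D) {p : ℕ} (hp : p.Prime) (hp2 : p ≠ 2)
include hD hd hp hp2

omit hp hp2 in
theorem mem_Hd_of_commute {x : G} (hx : Commute d x) : x ∈ Hd D d := by
  rw [hD.gate d hd]
  exact Subgroup.mem_centralizer_singleton_iff.2 hx.symm.eq

omit hp hp2 in
theorem mem_center_iff_Hd {z : ↥(Hd D d)} :
    z ∈ Subgroup.center ↥(Hd D d) ↔ (z : G) = 1 ∨ (z : G) = d := by
  classical
  rw [hD.ctr d hd, Subgroup.mem_subgroupOf]
  constructor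
  · intro h
    have h2 := (mem_zpowers_iff_mem_range_orderOf (x := d) (y := (z : G))).1 h
    rw [hD.group.1.1 d hd] at h2
    obtain ⟨a, ha, e⟩ := Finset.mem_image.1 h2
    rw [Finset.mem_range] at ha
    interval_cases a
    · exact Or.inl (e.symm.trans (pow_zero _))
    · exact Or.inr (e.symm.trans (pow_one _))
  · rintro (h | h) <;> rw [h]
    exacts [one_mem _, Subgroup.mem_zpowers d]

/-- Elements of order `p` of `C(d)` with one image are equal. -/
theorem eq_of_bar_eq {x y : ↥(Hd D d)} (hx : orderOf (x : G) = p) (hy : orderOf (y : G) = p)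
    (h : (x : Qd D d) = (y : Qd D d)) : x = y := by
  rcases (mem_center_iff_Hd hD hd).1 (QuotientGroup.eq.1 h) with e | e
  · rw [Subgroup.coe_mul, Subgroup.coe_inv, inv_mul_eq_one] at e
    exact Subtype.ext e
  · exfalso
    have hyd : (y : G) = x * d := by
      rw [Subgroup.coe_mul, Subgroup.coe_inv, inv_mul_eq_iff_eq_mul] at e; exact e
    have hc : Commute (x : G) d := (commute_Hd x.2).symm
    have ho := hc.orderOf_mul_eq_mul_orderOf_of_coprime (by
      rw [hx, hD.group.1.1 d hd]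
      exact (Nat.coprime_primes hp Nat.prime_two).2 hp2)
    rw [← hyd, hy, hx, hD.group.1.1 d hd] at ho
    have := hp.pos
    omega

theorem orderOf_bar {x : ↥(Hd D d)} (hx : orderOf (x : G) = p) : orderOf (x : Qd D d) = p := by
  haveI := Fact.mk hp
  refine orderOf_eq_prime ?_ fun h => ?_
  · rw [← QuotientGroup.mk_pow, show x ^ p = 1 from Subtype.ext (by
      rw [Subgroup.coe_pow, ← hx, pow_orderOf_eq_one]; rfl), QuotientGroup.mk_one]
  · rcases (mem_center_iff_Hd hD hd).1 ((QuotientGroup.eq_one_iff x).1 h) with e | e <;>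
      rw [e] at hx
    · rw [orderOf_one] at hx; exact hp.one_lt.ne hx
    · rw [hD.group.1.1 d hd] at hx; exact hp2 hx.symm

omit hp hp2 in
theorem commute_bar_iff {x : ↥(Hd D d)} {e : G} (he : e ∈ nbrs D d) :
    Commute (bar he) (x : Qd D d) ↔ Commute e (x : G) := by
  refine ⟨fun h => ?_, fun h =>
    (show Commute (⟨e, Subgroup.subset_closure he⟩ : ↥(Hd D d)) x from Subtype.ext h.eq).map
      (QuotientGroup.mk' (Subgroup.center ↥(Hd D d)))⟩
  have hne : (x : G) * e * (x : G)⁻¹ ∈ nbrs D d := by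
    refine ⟨hD.group.2.1 _ e he.1, fun h1 => he.2.1 ?_, ?_⟩
    · have h2 := congrArg (fun w => (x : G)⁻¹ * w * x) h1
      simp only [mul_assoc, inv_mul_cancel_left, inv_mul_cancel, mul_one] at h2
      rw [h2, (commute_Hd x.2).eq, inv_mul_cancel_left]
    · exact ((commute_Hd x.2).mul_right he.2.2).mul_right (commute_Hd x.2).inv_right
  have h1 : bar hne = bar he := by
    have e1 : bar hne = (x : Qd D d) * bar he * (x : Qd D d)⁻¹ := rfl
    rw [e1, h.symm.eq, mul_inv_cancel_right]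
  exact (mul_inv_eq_iff_eq_mul.1 (hD.bar_inj hd hne he h1)).symm

omit hp hp2 in
/-- A configuration below lifts to one among the neighbours. -/
theorem conf_lift {n : ℕ} (hn : 1 ≤ n) {x : ↥(Hd D d)}
    (h : SymConf n (Fx (Db D d) (x : Qd D d))) : SymConf n (nb (Fx D (x : G)) d) := by
  obtain ⟨m, rfl⟩ : ∃ m, n = m + 1 := ⟨n - 1, by omega⟩
  obtain ⟨φ₀, hφ₀, hS⟩ := h
  have hsw : ∀ i : Fin m, (swap i.castSucc i.succ : Perm (Fin (m + 1))).IsSwap := fun i =>
    ⟨_, _, Fin.castSucc_lt_succ.ne, rfl⟩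
  have hsel : ∀ i : Fin m, ∃ e : G, ∃ he : e ∈ nbrs D d, φ₀ (swap i.castSucc i.succ) = bar he :=
    fun i => exists_bar ((hS ▸ ⟨_, hsw i, rfl⟩ :
      φ₀ (swap i.castSucc i.succ) ∈ Fx (Db D d) (x : Qd D d))).1
  choose g hg hgb using hsel
  have hPre := pre_of_group hD.group
  have hcomm : ∀ i j, Commute (g i) (g j) ↔
      Commute (swap i.castSucc i.succ : Perm (Fin (m + 1))) (swap j.castSucc j.succ) := by
    intro i j
    rw [← commute_bar hPre (hg i) (hg j), ← hgb, ← hgb]
    exact ⟨fun h => h.of_map hφ₀, fun h => h.map φ₀⟩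
  obtain ⟨cs, hcs⟩ := CfsgLib.KnownC.exists_coxeterSystem_perm m
  have hrel : ∀ i j, (g i * g j) ^ (CoxeterMatrix.A m i j) = 1 := by
    intro i j
    by_cases hij : i = j
    · subst hij; simp [CoxeterMatrix.A, Trans3.sq_one hD.group.1 (hg i).1]
    by_cases hadj : (j : ℕ) + 1 = i ∨ (i : ℕ) + 1 = j
    · have hA : CoxeterMatrix.A m i j = 3 := by simp [CoxeterMatrix.A, hij, hadj]
      rw [hA]
      refine Trans3.pow_three hD.group.1 (hg i).1 (hg j).1 fun h => ?_
      rcases (swap_commute_iff (hsw i) (hsw j)).1 ((hcomm i j).1 h) with e | e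
      · have h1 := congrArg Equiv.Perm.support e
        rw [support_swap Fin.castSucc_lt_succ.ne, support_swap Fin.castSucc_lt_succ.ne,
          Finset.ext_iff] at h1
        have h2 := (h1 i.castSucc).1 (by simp)
        have h3 := (h1 i.succ).1 (by simp)
        simp [Fin.ext_iff] at h2 h3
        exact hij (Fin.ext (by omega))
      · rw [support_swap Fin.castSucc_lt_succ.ne, support_swap Fin.castSucc_lt_succ.ne] at e
        simp [Fin.ext_iff] at e
        omega
    · have hA : CoxeterMatrix.A m i j = 2 := by simp [CoxeterMatrix.A, hij, hadj]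
      rw [hA]
      refine (commute_iff_pow_two hD.group.1 (hg i).1 (hg j).1).1 ((hcomm i j).2 ?_)
      refine (swap_commute_iff (hsw i) (hsw j)).2 (Or.inr ?_)
      rw [support_swap Fin.castSucc_lt_succ.ne, support_swap Fin.castSucc_lt_succ.ne]
      rw [Fin.ext_iff] at hij
      simp [Fin.ext_iff]
      omega
  obtain ⟨φ, hφ⟩ := exists_hom_perm g hrel
  have hrange : ∀ σ, φ σ ∈ Hd D d := by
    intro σ
    have hmem : σ ∈ Submonoid.closure (Set.range fun i : Fin m => swap i.castSucc i.succ) := by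
      rw [mclosure_swap_castSucc_succ]; trivial
    induction hmem using Submonoid.closure_induction with
    | mem s hs => obtain ⟨i, rfl⟩ := hs; rw [hφ]; exact Subgroup.subset_closure (hg i)
    | one => rw [map_one]; exact one_mem _
    | mul a b _ _ ha hb => rw [map_mul]; exact mul_mem ha hb
  have hcompat : ∀ σ, (QuotientGroup.mk (⟨φ σ, hrange σ⟩ : ↥(Hd D d)) : Qd D d) = φ₀ σ := by
    have h1 : (QuotientGroup.mk' (Subgroup.center ↥(Hd D d))).comp (φ.codRestrict _ hrange) = φ₀ := by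
      refine MonoidHom.eq_of_eqOn_denseM (mclosure_swap_castSucc_succ m) ?_
      rintro _ ⟨i, rfl⟩
      rw [hgb i]
      show QuotientGroup.mk _ = QuotientGroup.mk _
      congr 1
      exact Subtype.ext (hφ i)
    exact fun σ => congrFun (congrArg DFunLike.coe h1) σ
  refine ⟨φ, fun a b e => hφ₀ ?_, ?_⟩
  · rw [← hcompat, ← hcompat]; congr 1; exact Subtype.ext e
  have hnb : ∀ σ : Perm (Fin (m + 1)), σ.IsSwap → ∃ he : φ σ ∈ nbrs D d, bar he = φ₀ σ := by
    intro σ hσ
    obtain ⟨a, b, hab, rfl⟩ := hσ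
    have hm : 1 ≤ m := by
      have ha := a.2
      have hb := b.2
      have : (a : ℕ) ≠ b := fun e => hab (Fin.ext e)
      omega
    obtain ⟨i₀, -⟩ : ∃ i : Fin m, True := ⟨⟨0, hm⟩, trivial⟩
    obtain ⟨π, hπ⟩ := isConj_iff.1 ((isConj_iff_cycleType_eq
      (σ := (swap i₀.castSucc i₀.succ : Perm (Fin (m + 1)))) (τ := swap a b)).2 (by
        rw [isSwap_iff_cycleType.1 (hsw i₀), isSwap_iff_cycleType.1 ⟨a, b, hab, rfl⟩]))
    have e1 : φ (swap a b) = φ π * g i₀ * (φ π)⁻¹ := by
      rw [← hπ, map_mul, map_mul, map_inv, hφ]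
    have hmem : φ (swap a b) ∈ nbrs D d := by
      rw [e1]
      refine ⟨hD.group.2.1 _ _ (hg i₀).1, fun h1 => (hg i₀).2.1 ?_, ?_⟩
      · have h2 := congrArg (fun w => (φ π)⁻¹ * w * φ π) h1
        simp only [mul_assoc, inv_mul_cancel_left, inv_mul_cancel, mul_one] at h2
        rw [h2, (commute_Hd (hrange π)).eq, inv_mul_cancel_left]
      · exact ((commute_Hd (hrange π)).mul_right (hg i₀).2.2).mul_right
          (commute_Hd (hrange π)).inv_right
    exact ⟨hmem, hcompat (swap a b)⟩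
  ext e
  constructor
  · rintro ⟨σ, hσ, rfl⟩
    obtain ⟨he, hb⟩ := hnb σ hσ
    have h1 : φ₀ σ ∈ Fx (Db D d) (x : Qd D d) := hS ▸ ⟨σ, hσ, rfl⟩
    rw [← hb] at h1
    exact ⟨⟨he.1, (commute_bar_iff hD hd he).1 h1.2⟩, he.2.1, he.2.2⟩
  · rintro ⟨⟨he, hex⟩, hed, hde⟩
    have he' : e ∈ nbrs D d := ⟨he, hed, hde⟩
    have h1 : bar he' ∈ Fx (Db D d) (x : Qd D d) := ⟨bar_mem he', (commute_bar_iff hD hd he').2 hex⟩
    rw [← hS] at h1
    obtain ⟨σ, hσ, eσ⟩ := h1
    obtain ⟨he2, hb⟩ := hnb σ hσ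
    exact ⟨σ, hσ, hD.bar_inj hd he2 he' (hb.trans eσ)⟩

theorem card_cent_lift {x : G} (hx : orderOf x = p) (hdx : Commute d x) {c : ℕ}
    (hc : Nat.card ↥(Subgroup.centralizer
      ({((⟨x, mem_Hd_of_commute hD hd hdx⟩ : ↥(Hd D d)) : Qd D d)} : Set (Qd D d))) = c) :
    Nat.card ↥(Subgroup.centralizer ({x} : Set G) ⊓ Subgroup.centralizer ({d} : Set G)) =
      2 * c := by
  obtain ⟨u, eu⟩ : ∃ u : ↥(Hd D d), u = ⟨x, mem_Hd_of_commute hD hd hdx⟩ := ⟨_, rfl⟩
  rw [← eu] at hc
  have hu : orderOf (u : G) = p := by rw [eu]; exact hx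
  obtain ⟨L, eL⟩ : ∃ L, L = Subgroup.centralizer ({u} : Set ↥(Hd D d)) := ⟨_, rfl⟩
  have hmap : L.map (Hd D d).subtype =
      Subgroup.centralizer ({x} : Set G) ⊓ Subgroup.centralizer ({d} : Set G) := by
    ext g
    rw [← hD.gate d hd, Subgroup.mem_inf]
    constructor
    · rintro ⟨k, hk, rfl⟩
      rw [eL, SetLike.mem_coe, Subgroup.mem_centralizer_singleton_iff, eu] at hk
      exact ⟨Subgroup.mem_centralizer_singleton_iff.2 (congrArg Subtype.val hk), k.2⟩
    · rintro ⟨h1, h2⟩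
      refine ⟨⟨g, h2⟩, ?_, rfl⟩
      rw [eL, SetLike.mem_coe, Subgroup.mem_centralizer_singleton_iff, eu]
      exact Subtype.ext (Subgroup.mem_centralizer_singleton_iff.1 h1)
  rw [← hmap, Subgroup.card_subtype]
  obtain ⟨π, eπ⟩ : ∃ π : ↥(Hd D d) →* Qd D d,
      π = QuotientGroup.mk' (Subgroup.center ↥(Hd D d)) := ⟨_, rfl⟩
  have himg : L.map π = Subgroup.centralizer ({(u : Qd D d)} : Set (Qd D d)) := by
    ext q
    constructor
    · rintro ⟨k, hk, rfl⟩
      rw [eL, SetLike.mem_coe, Subgroup.mem_centralizer_singleton_iff] at hk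
      rw [Subgroup.mem_centralizer_singleton_iff, eπ]
      show (k : Qd D d) * u = u * k
      rw [← QuotientGroup.mk_mul, hk, QuotientGroup.mk_mul]
    · intro hq
      obtain ⟨k, rfl⟩ := QuotientGroup.mk_surjective q
      rw [Subgroup.mem_centralizer_singleton_iff] at hq
      refine ⟨k, ?_, by rw [eπ]; rfl⟩
      rw [eL, SetLike.mem_coe, Subgroup.mem_centralizer_singleton_iff]
      have h1 : k * u * k⁻¹ = u := eq_of_bar_eq hD hd hp hp2
        (by rw [Subgroup.coe_mul, Subgroup.coe_mul, Subgroup.coe_inv, Trans3.orderOf_conj, hu]) hu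
        (by rw [QuotientGroup.mk_mul, QuotientGroup.mk_mul, QuotientGroup.mk_inv, hq,
          mul_inv_cancel_right])
      exact mul_inv_eq_iff_eq_mul.1 h1
  have hker : (π.comp L.subtype).ker = (Subgroup.center ↥(Hd D d)).subgroupOf L := by
    rw [eπ, ← MonoidHom.comap_ker, QuotientGroup.ker_mk']; rfl
  have h1 := Subgroup.card_mul_index (π.comp L.subtype).ker
  rw [Subgroup.index_ker, MonoidHom.range_comp, Subgroup.range_subtype, himg, hc, hker,
    Nat.card_congr (Subgroup.subgroupOfEquivOfLe (show Subgroup.center ↥(Hd D d) ≤ L from by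
      rw [eL]; exact Subgroup.center_le_centralizer _)).toEquiv, hD.ctr d hd,
    Nat.card_congr (Subgroup.subgroupOfEquivOfLe
      (Subgroup.zpowers_le.2 (hD.mem d hd))).toEquiv, Nat.card_zpowers, hD.group.1.1 d hd] at h1
  exact h1.symm

theorem conj_lift_elem {x y : G} (hx : orderOf x = p) (hy : orderOf y = p) (hdx : Commute d x)
    (hdy : Commute d y)
    (h : IsConj ((⟨x, mem_Hd_of_commute hD hd hdx⟩ : ↥(Hd D d)) : Qd D d)
      ((⟨y, mem_Hd_of_commute hD hd hdy⟩ : ↥(Hd D d)) : Qd D d)) :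
    ∃ k : G, k * x * k⁻¹ = y := by
  obtain ⟨q, hq⟩ := isConj_iff.1 h
  obtain ⟨k, rfl⟩ := QuotientGroup.mk_surjective q
  refine ⟨k, congrArg Subtype.val (eq_of_bar_eq hD hd hp hp2
    (x := k * ⟨x, mem_Hd_of_commute hD hd hdx⟩ * k⁻¹) (y := ⟨y, mem_Hd_of_commute hD hd hdy⟩)
    ?_ hy ?_)⟩
  · rw [Subgroup.coe_mul, Subgroup.coe_mul, Subgroup.coe_inv, Trans3.orderOf_conj, hx]
  · rw [QuotientGroup.mk_mul, QuotientGroup.mk_mul, QuotientGroup.mk_inv]; exact hq

end Lift

section Up

variable {D : Set G} (hD : Gated D) {p n : ℕ} (hp : p.Prime) (hp2 : p ≠ 2)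
  (hL : ∀ d ∈ D, Loc (Db D d) p n)
include hD hp hp2 hL

/-- The configuration at a fixed member. -/
theorem loc_nb (hn : 1 ≤ n) {x : G} (hx : orderOf x = p) {d : G} (hd : d ∈ Fx D x) :
    SymConf n (nb (Fx D x) d) :=
  conf_lift hD hd.1 hn (x := ⟨x, mem_Hd_of_commute hD hd.1 hd.2⟩)
    ((hL d hd.1).conf _ (orderOf_bar hD hd.1 hp hp2 hx))

theorem card_stab {x : G} (hx : orderOf x = p) {d : G} (hd : d ∈ Fx D x) :
    Nat.card ↥(Subgroup.centralizer ({x} : Set G) ⊓ Subgroup.centralizer ({d} : Set G)) =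
      2 * (p * n.factorial) :=
  card_cent_lift hD hd.1 hp hp2 hx hd.2 ((hL d hd.1).cent _ (orderOf_bar hD hd.1 hp hp2 hx))

/-- The order of the centraliser, the fixed members forming one orbit. -/
theorem card_cent {x : G} (hx : orderOf x = p) (hS : SymConf (n + 2) (Fx D x)) :
    Nat.card ↥(Subgroup.centralizer ({x} : Set G)) = p * (n + 2).factorial := by
  obtain ⟨d, hd⟩ : (Fx D x).Nonempty := Set.nonempty_of_ncard_ne_zero (by
    rw [hS.ncard]; exact (Nat.choose_pos (by omega)).ne')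
  have h := card_orbit_mul (H := Subgroup.centralizer ({x} : Set G)) (x := d) (O := Fx D x)
    (fun g hg => commute_of_mem_Fx hg hd hD.group) (fun o ho => by
      obtain ⟨g, hg, hgd⟩ := hS.trans hd ho
      refine ⟨g, ?_, hgd⟩
      refine (Subgroup.closure_le _).2 (fun y hy => ?_) hg
      exact SetLike.mem_coe.2 (Subgroup.mem_centralizer_singleton_iff.2 hy.2.eq))
  rw [card_stab hD hp hp2 hL hx hd, hS.ncard] at h
  rw [h, Nat.choose_two_right]
  have h2 : ((n + 2) * (n + 2 - 1)) = (n + 2) * (n + 2 - 1) / 2 * 2 :=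
    (Nat.div_mul_cancel (Nat.even_mul_pred_self (n + 2)).two_dvd).symm
  rw [Nat.factorial_succ, Nat.factorial_succ]
  calc (n + 2) * (n + 2 - 1) / 2 * (2 * (p * n.factorial))
      = (n + 2) * (n + 2 - 1) / 2 * 2 * (p * n.factorial) := by ring
    _ = (n + 2) * (n + 2 - 1) * (p * n.factorial) := by rw [← h2]
    _ = p * ((n + 1 + 1) * ((n + 1) * n.factorial)) := by
      rw [show n + 2 - 1 = n + 1 by omega]; ring

/-- Elements of order `p` with fixed members are conjugate. -/
theorem conj_fixed {x y : G} (hx : orderOf x = p) (hy : orderOf y = p)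
    (hfx : (Fx D x).Nonempty) (hfy : (Fx D y).Nonempty) : IsConj x y := by
  obtain ⟨a, ha, hax⟩ := hfx
  obtain ⟨b, hb, hby⟩ := hfy
  obtain ⟨g, hg⟩ := hD.conj a ha b hb
  have hgx : Commute b (g * x * g⁻¹) := hg ▸ (commute_conj_iff g a x).2 hax
  have hox : orderOf (g * x * g⁻¹) = p := by rw [Trans3.orderOf_conj, hx]
  obtain ⟨k, hk⟩ := conj_lift_elem hD hb hp hp2 hox hy hgx hby
    ((hL b hb).conj _ _ (orderOf_bar hD hb hp hp2 hox) (orderOf_bar hD hb hp hp2 hy))
  exact isConj_iff.2 ⟨k * g, by rw [← hk]; group⟩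

end Up

theorem card_normalizer_of_powers {p : ℕ} (hp : p.Prime) {X : Subgroup G} {x : G}
    (hX : X = Subgroup.zpowers x) (hx : orderOf x = p)
    (hconj : ∀ y ∈ X, y ≠ 1 → IsConj x y) :
    Nat.card ↥(Subgroup.normalizer (X : Set G)) =
      (p - 1) * Nat.card ↥(Subgroup.centralizer (X : Set G)) := by
  have hxX : x ∈ X := hX ▸ Subgroup.mem_zpowers x
  have hx1 : x ≠ 1 := fun e => by rw [e, orderOf_one] at hx; exact hp.one_lt.ne hx
  have hcard : Nat.card ↥X = p := by rw [hX, Nat.card_zpowers, hx]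
  have h := card_orbit_mul (H := Subgroup.normalizer (X : Set G)) (x := x)
    (O := (X : Set G) \ {1}) (fun g hg => ⟨(Subgroup.mem_normalizer_iff.1 hg x).1 hxX, fun h =>
      hx1 (conj_eq_one_iff.1 h)⟩) (fun o ho => by
      obtain ⟨g, hg⟩ := isConj_iff.1 (hconj o ho.1 ho.2)
      refine ⟨g, ?_, hg⟩
      have h1 : X.map (MulAut.conj g).toMonoidHom = X := by
        refine Subgroup.eq_of_le_of_card_ge ?_ (le_of_eq ?_)
        · rw [Subgroup.map_le_iff_le_comap, hX, Subgroup.zpowers_le, Subgroup.mem_comap]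
          show g * x * g⁻¹ ∈ Subgroup.zpowers x
          rw [hg, ← hX]; exact ho.1
        · rw [Subgroup.card_map_of_injective (MulAut.conj g).injective]
      rw [Subgroup.mem_normalizer_iff]
      intro y
      constructor
      · intro hy; rw [← h1]; exact ⟨y, hy, rfl⟩
      · intro hy
        rw [← h1] at hy
        obtain ⟨z, hz, e⟩ := hy
        exact (MulAut.conj g).injective e ▸ hz)
  rw [Set.ncard_sdiff_singleton_of_mem (one_mem X), ← Nat.card_coe_set_eq] at h
  rw [SetLike.coe_sort_coe, hcard, ← centralizer_zpowers hX, inf_eq_right.2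
    (Subgroup.centralizer_le_normalizer _)] at h
  exact h

/-- The shape of the statements on normalisers of subgroups of order `p`. -/
theorem final_shape {D : Set G} (hD : Cfsg.IsThreeTranspositionGroup D) {p m : ℕ} (hp : p.Prime)
    (hm : 3 ≤ m) {X : Subgroup G} {x : G} (hXx : X = Subgroup.zpowers x) (hx : orderOf x = p)
    (hS : SymConf m (Fx D x))
    (hC : Nat.card ↥(Subgroup.centralizer ({x} : Set G)) = p * m.factorial)
    (hconj : ∀ y ∈ X, y ≠ 1 → IsConj x y) :
    ∃ F : Subgroup G, Nat.card ↥F = (p - 1) * p ∧ X ≤ F ∧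
      F ⊓ Subgroup.centralizer (X : Set G) = X ∧
      F ⊓ Subgroup.closure (D ∩ (Subgroup.centralizer (X : Set G) : Set G)) = ⊥ ∧
      (∀ a ∈ F, ∀ b ∈ Subgroup.closure (D ∩ (Subgroup.centralizer (X : Set G) : Set G)),
        a * b = b * a) ∧
      F ⊔ Subgroup.closure (D ∩ (Subgroup.centralizer (X : Set G) : Set G)) =
        Subgroup.normalizer (X : Set G) ∧
      Nonempty (↥(Subgroup.closure (D ∩ (Subgroup.centralizer (X : Set G) : Set G))) ≃*
        Perm (Fin m)) := by
  have hC' : Nat.card ↥(Subgroup.centralizer (X : Set G)) = p * m.factorial := by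
    rw [centralizer_zpowers hXx, hC]
  refine normalizer_split hD hm (fun a ha b hb => ?_) (by rw [hXx, Nat.card_zpowers, hx])
    (by rw [Fx_eq D hXx]; exact hS) hC'
    (by rw [card_normalizer_of_powers hp hXx hx hconj, hC'])
  rw [hXx] at ha hb
  obtain ⟨i, rfl⟩ := Subgroup.mem_zpowers_iff.1 ha
  obtain ⟨j, rfl⟩ := Subgroup.mem_zpowers_iff.1 hb
  rw [← zpow_add, ← zpow_add, add_comm]

/-- A subgroup of prime order has a generator of that order. -/
theorem exists_generator {p : ℕ} (hp : p.Prime) {X : Subgroup G} (hX : Nat.card ↥X = p) :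
    ∃ x, orderOf x = p ∧ X = Subgroup.zpowers x := by
  haveI := Fact.mk hp
  obtain ⟨x, hx⟩ := exists_prime_orderOf_dvd_card' (G := ↥X) p (by rw [hX])
  refine ⟨x, (Subgroup.orderOf_coe x).trans hx, (Subgroup.eq_of_le_of_card_ge
    (Subgroup.zpowers_le.2 x.2) ?_).symm⟩
  rw [Nat.card_zpowers, hX, Subgroup.orderOf_coe, hx]

/-- Subgroups of prime order are conjugate when their generators are. -/
theorem subgroup_conj {p : ℕ} (hp : p.Prime)
    (h : ∀ x y : G, orderOf x = p → orderOf y = p → IsConj x y) {X Y : Subgroup G}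
    (hX : Nat.card ↥X = p) (hY : Nat.card ↥Y = p) :
    ∃ g : G, X.map (MulAut.conj g).toMonoidHom = Y := by
  obtain ⟨x, hx, rfl⟩ := exists_generator hp hX
  obtain ⟨y, hy, rfl⟩ := exists_generator hp hY
  obtain ⟨g, hg⟩ := isConj_iff.1 (h x y hx hy)
  exact ⟨g, by rw [MonoidHom.map_zpowers]; exact congrArg Subgroup.zpowers hg⟩

end CfsgLib.Trans3.Fi
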