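import Cfsg.Agent.Lib.Trans3.Fi.InvolBase
import Cfsg.Agent.Lib.Trans3.Fi.U6Invol

/-!
An involution centralising a member `a`, read in the neighbourhood group of `a` modulo its centre.
-/

set_option autoImplicit false
set_option linter.unusedSectionVars false

namespace CfsgLib.Trans3.Fi

variable {G : Type*} [Group G] [Finite G] {D : Set G}
variable (hN : Nice D) {a : G} (ha : a ∈ D)
  (hcm : ∀ x : ↥(Hd D a), x ∈ Subgroup.center ↥(Hd D a) → (x : G) = 1 ∨ (x : G) = a)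
include hN ha hcm

/-- Two elements with the same image differ at most by `a`. -/
theorem bar_split {u v : ↥(Hd D a)} (h : (u : Qd D a) = (v : Qd D a)) :
    (v : G) = u ∨ (v : G) = a * u := by
  rcases hcm _ (QuotientGroup.eq.1 h) with e | e
  · left
    rw [Subgroup.coe_mul, Subgroup.coe_inv, inv_mul_eq_one] at e
    exact e.symm
  · right
    rw [Subgroup.coe_mul, Subgroup.coe_inv, inv_mul_eq_iff_eq_mul] at e
    rw [e]
    exact (commute_Hd u.2).eq.symm

omit hcm in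
theorem fac_cons_nbrs {m : ℕ} {j : G} {l : List G} (hl : Fac D m j l) (hn : ∀ u ∈ l, u ∈ nbrs D a) :
    Fac D (m + 1) (a * j) (a :: l) := by
  obtain ⟨h1, h2, h3, h4, h5⟩ := hl
  refine ⟨List.nodup_cons.2 ⟨fun h => (hn a h).2.1 rfl, h1⟩, by simp [h2], ?_, ?_, by simp [h5]⟩
  · intro u hu
    rcases List.mem_cons.1 hu with rfl | hu
    exacts [ha, h3 u hu]
  · intro u hu v hv
    rcases List.mem_cons.1 hu with e | hu' <;> rcases List.mem_cons.1 hv with e' | hv'
    exacts [by rw [e, e'], e ▸ (hn v hv').2.2, e' ▸ (hn u hu').2.2.symm, h4 u hu' v hv']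

/-- An involution of the neighbourhood group: at most three factors, or `a` times three, the three
having whatever property `R` the classification below provides. -/
theorem classify_lift {R : Qd D a → Qd D a → Qd D a → Prop}
    (hQ : ∀ y : Qd D a, y ≠ 1 → y * y = 1 → y ∈ Db D a ∨
      (∃ p ∈ Db D a, ∃ q ∈ Db D a, p ≠ q ∧ Commute p q ∧ y = p * q) ∨
      ∃ p q r : Qd D a, y = p * q * r ∧ Fac (Db D a) 3 (p * q * r) [p, q, r] ∧ R p q r)
    {x : G} (hx : x ∈ Hd D a) (hx1 : x ≠ 1) (hx2 : x * x = 1) :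
    (∃ m l, 1 ≤ m ∧ m ≤ 3 ∧ Fac D m x l) ∨
      ∃ (b c d : G) (hb : b ∈ nbrs D a) (hc : c ∈ nbrs D a) (hd : d ∈ nbrs D a),
        Fac D 3 (b * c * d) [b, c, d] ∧ x = a * (b * c * d) ∧ R (bar hb) (bar hc) (bar hd) := by
  have hPre := pre_of_group hN.group
  obtain ⟨X, rfl⟩ : ∃ X : ↥(Hd D a), (X : G) = x := ⟨⟨x, hx⟩, rfl⟩
  by_cases h1 : (X : Qd D a) = 1
  · rcases hcm X ((QuotientGroup.eq_one_iff X).1 h1) with e | e
    · exact absurd e hx1
    · exact Or.inl ⟨1, [a], le_rfl, by norm_num, List.nodup_singleton a, rfl, by simpa using ha,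
        by simp, by simp [e]⟩
  have h2 : (X : Qd D a) * (X : Qd D a) = 1 := by
    rw [← QuotientGroup.mk_mul, show X * X = 1 from Subtype.ext hx2, QuotientGroup.mk_one]
  rcases hQ _ h1 h2 with h | ⟨p, hp, q, hq, hpq, hcomm, e⟩ | ⟨p, q, r, e, hfac, hR⟩
  · obtain ⟨b, hb, e⟩ := exists_bar h
    have hf : Fac D 1 b [b] :=
      ⟨List.nodup_singleton b, rfl, by simpa using hb.1, by simp, by simp⟩
    rcases bar_split hN ha hcm (u := ⟨b, Subgroup.subset_closure hb⟩) (v := X) e.symm with e' | e'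
    · exact Or.inl ⟨1, [b], le_rfl, by norm_num, e'.symm ▸ hf⟩
    · exact Or.inl ⟨2, [a, b], by norm_num, by norm_num,
        e'.symm ▸ fac_cons_nbrs hN ha hf (by simpa using hb)⟩
  · obtain ⟨b, hb, rfl⟩ := exists_bar hp
    obtain ⟨c, hc, rfl⟩ := exists_bar hq
    have hbc : b ≠ c := fun h => hpq (by subst h; rfl)
    have hcom := (commute_bar hPre hb hc).1 hcomm
    have hf : Fac D 2 (b * c) [b, c] :=
      ⟨by simp [hbc], rfl, by simp [hb.1, hc.1], by simp [hcom, hcom.symm], by simp⟩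
    rcases bar_split hN ha hcm
      (u := ⟨b, Subgroup.subset_closure hb⟩ * ⟨c, Subgroup.subset_closure hc⟩) (v := X)
      (by rw [QuotientGroup.mk_mul]; exact e.symm) with e' | e'
    · exact Or.inl ⟨2, [b, c], by norm_num, by norm_num, e'.symm ▸ hf⟩
    · exact Or.inl ⟨3, [a, b, c], by norm_num, by norm_num,
        e'.symm ▸ fac_cons_nbrs hN ha hf (by
          simp [hb.1, hb.2.1, hb.2.2, hc.1, hc.2.1, hc.2.2])⟩
  · obtain ⟨hnd, -, hmem, hco, -⟩ := hfac
    obtain ⟨b, hb, rfl⟩ := exists_bar (hmem p (by simp))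
    obtain ⟨c, hc, rfl⟩ := exists_bar (hmem q (by simp))
    obtain ⟨d, hd, rfl⟩ := exists_bar (hmem r (by simp))
    simp only [List.nodup_cons, List.mem_cons, List.not_mem_nil, or_false, not_or] at hnd
    have hbc : b ≠ c := fun h => hnd.1.1 (by subst h; rfl)
    have hbd : b ≠ d := fun h => hnd.1.2 (by subst h; rfl)
    have hcd : c ≠ d := fun h => hnd.2.1 (by subst h; rfl)
    have k1 := (commute_bar hPre hb hc).1 (hco _ (by simp) _ (by simp))
    have k2 := (commute_bar hPre hb hd).1 (hco _ (by simp) _ (by simp))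
    have k3 := (commute_bar hPre hc hd).1 (hco _ (by simp) _ (by simp))
    have hf : Fac D 3 (b * c * d) [b, c, d] :=
      ⟨by simp [hbc, hbd, hcd], rfl, by simp [hb.1, hc.1, hd.1],
        by simp [k1, k2, k3, k1.symm, k2.symm, k3.symm], by simp [mul_assoc]⟩
    rcases bar_split hN ha hcm
      (u := ⟨b, Subgroup.subset_closure hb⟩ * ⟨c, Subgroup.subset_closure hc⟩ *
        ⟨d, Subgroup.subset_closure hd⟩) (v := X)
      (by rw [QuotientGroup.mk_mul, QuotientGroup.mk_mul]; exact e.symm) with e' | e'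
    · exact Or.inl ⟨3, [b, c, d], by norm_num, le_rfl, e'.symm ▸ hf⟩
    · exact Or.inr ⟨b, c, d, hb, hc, hd, hf, e', hR⟩

/-- A six-point relation in the image lifts to a relation, or to one of length seven with `a`. -/
theorem six_lift {b c d : G} (hb : b ∈ nbrs D a) (hc : c ∈ nbrs D a) (hd : d ∈ nbrs D a)
    (hf : Fac D 3 (b * c * d) [b, c, d]) {T₁ T₂ T₃ : Qd D a}
    (hS : Six (Db D a) [bar hb, bar hc, bar hd, T₁, T₂, T₃]) :
    ∃ (t₁ t₂ t₃ : G) (h₁ : t₁ ∈ nbrs D a) (h₂ : t₂ ∈ nbrs D a) (h₃ : t₃ ∈ nbrs D a),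
      bar h₁ = T₁ ∧ bar h₂ = T₂ ∧ bar h₃ = T₃ ∧ (∀ x ∈ [b, c, d], x ∉ [t₁, t₂, t₃]) ∧
      (∀ x ∈ [b, c, d], ∀ y ∈ [t₁, t₂, t₃], Commute x y) ∧
      (Fac D 3 (b * c * d) [t₁, t₂, t₃] ∨ Fac D 3 (a * (b * c * d)) [t₁, t₂, t₃]) := by
  have hPre := pre_of_group hN.group
  obtain ⟨hnd, hmem, hco, hpr⟩ := hS
  obtain ⟨t₁, h₁, rfl⟩ := exists_bar (hmem T₁ (by simp))
  obtain ⟨t₂, h₂, rfl⟩ := exists_bar (hmem T₂ (by simp))
  obtain ⟨t₃, h₃, rfl⟩ := exists_bar (hmem T₃ (by simp))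
  refine ⟨t₁, t₂, t₃, h₁, h₂, h₃, rfl, rfl, rfl, ?_, ?_, ?_⟩
  · simp only [List.nodup_cons, List.mem_cons, List.not_mem_nil, or_false, not_or] at hnd
    obtain ⟨⟨-, -, n1, n2, n3⟩, ⟨-, n4, n5, n6⟩, ⟨n7, n8, n9⟩, -⟩ := hnd
    simp only [List.mem_cons, List.not_mem_nil, or_false, not_or, forall_eq_or_imp, forall_eq]
    exact ⟨⟨fun h => n1 (by subst h; rfl), fun h => n2 (by subst h; rfl), fun h => n3 (by subst h; rfl)⟩,
      ⟨fun h => n4 (by subst h; rfl), fun h => n5 (by subst h; rfl), fun h => n6 (by subst h; rfl)⟩,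
      fun h => n7 (by subst h; rfl), fun h => n8 (by subst h; rfl), fun h => n9 (by subst h; rfl)⟩
  · simp only [List.mem_cons, List.not_mem_nil, or_false, forall_eq_or_imp, forall_eq]
    refine ⟨⟨?_, ?_, ?_⟩, ⟨?_, ?_, ?_⟩, ?_, ?_, ?_⟩ <;>
      exact (commute_bar hPre ‹_› ‹_›).1 (hco _ (by simp) _ (by simp))
  · have hnT : [t₁, t₂, t₃].Nodup := by
      simp only [List.nodup_cons, List.mem_cons, List.not_mem_nil, or_false, not_or] at hnd ⊢
      obtain ⟨-, -, -, ⟨n1, n2⟩, n3, -⟩ := hnd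
      exact ⟨⟨fun h => n1 (by subst h; rfl), fun h => n2 (by subst h; rfl)⟩,
        fun h => n3 (by subst h; rfl), not_false, List.nodup_nil⟩
    have k : ∀ {u v : G} (hu : u ∈ nbrs D a) (hv : v ∈ nbrs D a),
        bar hu ∈ [bar hb, bar hc, bar hd, bar h₁, bar h₂, bar h₃] →
        bar hv ∈ [bar hb, bar hc, bar hd, bar h₁, bar h₂, bar h₃] → Commute u v :=
      fun hu hv m m' => (commute_bar hPre hu hv).1 (hco _ m _ m')
    have k12 := k h₁ h₂ (by simp) (by simp)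
    have k13 := k h₁ h₃ (by simp) (by simp)
    have k23 := k h₂ h₃ (by simp) (by simp)
    have hT : ∀ j, t₁ * t₂ * t₃ = j → Fac D 3 j [t₁, t₂, t₃] := fun j hj =>
      ⟨hnT, rfl, by simp [h₁.1, h₂.1, h₃.1],
        by simp [k12, k13, k23, k12.symm, k13.symm, k23.symm], by simp [← hj, mul_assoc]⟩
    obtain ⟨U, eU⟩ : ∃ U : ↥(Hd D a), U = ⟨b, Subgroup.subset_closure hb⟩ *
        ⟨c, Subgroup.subset_closure hc⟩ * ⟨d, Subgroup.subset_closure hd⟩ := ⟨_, rfl⟩
    obtain ⟨V, eV⟩ : ∃ V : ↥(Hd D a), V = ⟨t₁, Subgroup.subset_closure h₁⟩ *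
        ⟨t₂, Subgroup.subset_closure h₂⟩ * ⟨t₃, Subgroup.subset_closure h₃⟩ := ⟨_, rfl⟩
    have hUV : (U : Qd D a) * (V : Qd D a) = 1 := by
      rw [← hpr, eU, eV]
      simp only [List.prod_cons, List.prod_nil, mul_one, QuotientGroup.mk_mul, mul_assoc]
    have hU2 : (U : Qd D a) * (U : Qd D a) = 1 := by
      rw [← QuotientGroup.mk_mul, show U * U = 1 from Subtype.ext (by
        rw [eU]; exact fac_sq hN.group hf), QuotientGroup.mk_one]
    have hcU : (U : G) = b * c * d := by rw [eU]; rfl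
    have hcV : (V : G) = t₁ * t₂ * t₃ := by rw [eV]; rfl
    rcases bar_split hN ha hcm (u := U) (v := V)
      (mul_left_cancel (hU2.trans hUV.symm)) with e | e
    · exact Or.inl (hT _ (by rw [← hcV, e, hcU]))
    · exact Or.inr (hT _ (by rw [← hcV, e, hcU]))

end CfsgLib.Trans3.Fi
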