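import Cfsg.Agent.Lib.Trans3.Fi.LocalLift

/-!
Subgroups of order 11 in groups of type M(22), M(23), M(24).
-/

set_option autoImplicit false
set_option linter.unusedSectionVars false
set_option linter.style.haveILetI false

namespace CfsgLib.Trans3.Fi.LocalEleven

open Subgroup LocalLift
open scoped Pointwise

variable {G : Type*} [Group G] [Finite G] {D : Set G}

/-- The normaliser data in a group of type M(22), from its description as `F × ⟨d⟩`. -/
theorem m22_data (hD : Cfsg.IsThreeTranspositionGroup D)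
    (H : ∀ X : Subgroup G, Nat.card X = 11 → ∃ (F : Subgroup G) (d : G), d ∈ D ∧ Nat.card ↥F = 55 ∧
      X ≤ F ∧ F ⊓ centralizer (X : Set G) = X ∧ F ⊓ zpowers d = ⊥ ∧
      (∀ x ∈ F, ∀ y ∈ zpowers d, x * y = y * x) ∧
      F ⊔ zpowers d = normalizer (X : Set G)) : LocData D 11 5 1 := by
  have key : ∀ X : Subgroup G, Nat.card X = 11 → ∃ d, fixedD D X = {d} ∧ d ∈ D ∧
      normalizer (X : Set G) ≤ centralizer ({d} : Set G) ∧
      Nat.card ↥(normalizer (X : Set G)) = 110 ∧
      ∀ y ∈ centralizer (X : Set G), orderOf y ≠ 5 := by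
    intro X hX
    obtain ⟨F, d, hdD, hcF, hXF, hFC, hFd, hcomm, hsup⟩ := H X hX
    have hdo : orderOf d = 2 := hD.1.1 d hdD
    have hd2 : d ^ 2 = 1 := by rw [← hdo]; exact pow_orderOf_eq_one d
    have hdX : zpowers d ≤ centralizer (X : Set G) := fun v hv =>
      mem_centralizer_iff.2 fun x hx => hcomm x (hXF hx) v hv
    have hVN : zpowers d ≤ normalizer (F : Set G) := fun v hv =>
      centralizer_le_normalizer _ (mem_centralizer_iff.2 fun x hx => hcomm x hx v hv)
    have hcarr : ((F ⊔ zpowers d : Subgroup G) : Set G) = (F : Set G) * (zpowers d : Set G) :=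
      coe_mul_of_right_le_normalizer_left F _ hVN
    have hmem : ∀ y ∈ normalizer (X : Set G), ∃ f ∈ F, ∃ v ∈ zpowers d, y = f * v := by
      intro y hy
      have hy' : y ∈ ((F ⊔ zpowers d : Subgroup G) : Set G) := by rw [hsup]; exact hy
      rw [hcarr] at hy'
      obtain ⟨f, hf, v, hv, e⟩ := Set.mem_mul.1 hy'
      exact ⟨f, hf, v, hv, e.symm⟩
    have hv2 : ∀ v ∈ zpowers d, v ^ 2 = 1 := by
      rintro v ⟨k, rfl⟩
      show (d ^ k) ^ 2 = 1
      rw [← zpow_natCast, zpow_comm, zpow_natCast, hd2, one_zpow]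
    have hC : ∀ y ∈ centralizer (X : Set G), ∃ f ∈ X, ∃ v ∈ zpowers d, y = f * v := by
      intro y hy
      obtain ⟨f, hf, v, hv, rfl⟩ := hmem y (centralizer_le_normalizer _ hy)
      refine ⟨f, ?_, v, hv, rfl⟩
      rw [← hFC]
      refine ⟨hf, ?_⟩
      have := mul_mem hy (inv_mem (hdX hv))
      rwa [mul_inv_cancel_right] at this
    have hfix : fixedD D X = {d} := by
      ext e
      refine ⟨fun ⟨he, he'⟩ => ?_, ?_⟩
      · obtain ⟨f, hf, v, hv, rfl⟩ := hC e he'
        have hc : Commute f v := hcomm f (hXF hf) v hv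
        have h1 : (f * v) ^ 2 = 1 := by rw [← hD.1.1 _ he]; exact pow_orderOf_eq_one _
        rw [hc.mul_pow, hv2 v hv, mul_one] at h1
        have hf1 := eq_one_of_pow_prime (by norm_num : Nat.Prime 11) (by norm_num)
          (pow_prime_eq_one hX hf) h1
        obtain ⟨k, hk⟩ := hv
        rw [hf1, one_mul] at he ⊢
        rcases Int.even_or_odd' k with ⟨m, rfl | rfl⟩
        · refine absurd ?_ (Trans3.invol_ne_one (hD.1.1 _ he))
          rw [← hk]
          show d ^ (2 * m) = 1
          rw [zpow_mul, show d ^ (2 : ℤ) = 1 by exact_mod_cast hd2, one_zpow]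
        · rw [Set.mem_singleton_iff, ← hk]
          show d ^ (2 * m + 1) = d
          rw [zpow_add, zpow_mul, show d ^ (2 : ℤ) = 1 by exact_mod_cast hd2, one_zpow, one_mul,
            zpow_one]
      · rintro rfl
        exact ⟨hdD, hdX (mem_zpowers _)⟩
    have hNC : normalizer (X : Set G) ≤ centralizer ({d} : Set G) := by
      intro y hy
      obtain ⟨f, hf, v, hv, rfl⟩ := hmem y hy
      refine mem_centralizer_singleton_iff.2 ?_
      obtain ⟨k, rfl⟩ := hv
      exact ((show Commute f d from hcomm f hf d (mem_zpowers d)).mul_left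
        ((Commute.refl d).zpow_left k)).eq
    refine ⟨d, hfix, hdD, hNC, ?_, fun y hy ho => ?_⟩
    · rw [← hsup, show (110 : ℕ) = 55 * 2 by norm_num, ← hcF, ← hdo, ← Nat.card_zpowers,
        ← Nat.card_prod]
      refine (Nat.card_eq_of_bijective (fun w : F × zpowers d => (⟨w.1 * w.2,
        mul_mem (mem_sup_left w.1.2) (mem_sup_right w.2.2)⟩ : ↥(F ⊔ zpowers d))) ⟨?_, ?_⟩).symm
      · intro a b e
        exact mul_injective_of_disjoint (disjoint_iff.2 hFd) (congrArg Subtype.val e)
      · rintro ⟨w, hw⟩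
        have hw' : w ∈ ((F ⊔ zpowers d : Subgroup G) : Set G) := hw
        rw [hcarr] at hw'
        obtain ⟨a, ha, b, hb, rfl⟩ := Set.mem_mul.1 hw'
        exact ⟨(⟨a, ha⟩, ⟨b, hb⟩), rfl⟩
    · obtain ⟨f, hf, v, hv, rfl⟩ := hC y hy
      have hc : Commute f v := hcomm f (hXF hf) v hv
      have h1 : (f * v) ^ 22 = 1 := by
        rw [hc.mul_pow, show (22 : ℕ) = 11 * 2 by norm_num, pow_mul, pow_prime_eq_one hX hf,
          one_pow, one_mul, mul_comm 11, pow_mul, hv2 v hv, one_pow]
      have := orderOf_dvd_of_pow_eq_one h1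
      rw [ho] at this
      norm_num at this
  refine ⟨fun X hX => ?_, fun X hX => ?_, fun X hX => ?_, fun X hX => ?_, fun X hX => ?_⟩
  all_goals obtain ⟨d, hfix, hdD, hNC, hcN, h5⟩ := key X hX
  · rw [hfix, Set.ncard_singleton]
  · rw [hfix]
    rintro a rfl b rfl
    exact Commute.refl _
  · rw [hfix, ← zpowers_eq_closure, Nat.card_zpowers, hD.1.1 d hdD, pow_one]
  · rw [hfix, inf_eq_left.2 hNC, hcN]
    norm_num
  · exact fun y hy _ => h5 y hy

variable (hD : Cfsg.IsThreeTranspositionGroup D) (hP : Cfsg.IsPrimitiveUnderConj D)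
include hD hP

section M23

variable (h : Cfsg.IsOfTypeM23 G D)
include h

theorem m23_pairc : ∃ a ∈ D, ∃ b ∈ D, a ≠ b ∧ Commute a b := (lvl_m23 hD hP h).pairc

theorem m23_pair_order {d e : G} (hd : d ∈ D) (he : e ∈ D) (hde : ¬ Commute d e) (x : G)
    (hxd : Commute x d) (hxe : Commute x e) : orderOf x ≠ 11 := by
  refine pair_order_ne hD hP (m23_pairc hD hP h) (by norm_num) hd he hde ?_ ?_ hxd hxe
  · rw [m23_card_D hD hP h, card_nbrs23 hD hP h hd]; norm_num
  · rw [card_centralizer23 hD hP h hd]; norm_num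

theorem m23_data (hb : ∀ d ∈ D, LocData (Db D d) 11 5 1) : LocData D 11 5 2 :=
  LocData.up (nice_m23 hD h) (fun d hd => m23_gate hD hP h hd) (fun d hd => m23_center_Hd hD hP h hd)
    (by norm_num) (by norm_num) (by norm_num) (by norm_num)
    (by rw [m23_card_D hD hP h]; norm_num)
    (fun d hd e he hde => m23_pair_order hD hP h hd he hde) hb

theorem m23_trans {X : Subgroup G} (hX : Nat.card X = 11) {a b : G} (ha : a ∈ fixedD D X)
    (hb : b ∈ fixedD D X) : ∃ g ∈ normalizer (X : Set G), g * a * g⁻¹ = b :=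
  trans_fixed hD (nice_m23 hD h).conj (by norm_num) hX
    (fun c hc => by rw [card_centralizer23 hD hP h hc]; norm_num) ha hb

theorem m23_conj {X Y : Subgroup G} (hX : Nat.card X = 11) (hY : Nat.card Y = 11) :
    ∃ g : G, X.map (MulAut.conj g).toMonoidHom = Y := by
  obtain ⟨g, -, hg⟩ := exists_conj (by norm_num : Nat.Prime 11) (le_top (a := X)) (le_top (a := Y))
    hX hY (by rw [Subgroup.card_top, m23_card hD hP h]; norm_num)
  exact ⟨g, hg⟩

end M23

section M24

variable (h : Cfsg.IsOfTypeM24 G D)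
include h

theorem m24_centralizer_card {a : G} (ha : a ∈ D) :
    Nat.card ↥(centralizer ({a} : Set G)) = 2 * (2 ^ 18 * 3 ^ 13 * 5 ^ 2 * 7 * 11 * 13 * 17 * 23) := by
  rw [← m24_gate hD hP h ha]; exact card_Hd24 hD hP h ha

theorem m24_pair_order {d e : G} (hd : d ∈ D) (he : e ∈ D) (hde : ¬ Commute d e) (x : G)
    (hxd : Commute x d) (hxe : Commute x e) : orderOf x ≠ 11 := by
  refine pair_order_ne hD hP (m24_pairc hD hP h) (by norm_num) hd he hde ?_ ?_ hxd hxe
  · rw [m24_card_D hD hP h, card_nbrs24 hD hP h hd]; norm_num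
  · rw [m24_centralizer_card hD hP h hd]; norm_num

theorem m24_data (hb : ∀ d ∈ D, LocData (Db D d) 11 5 2) : LocData D 11 5 3 :=
  LocData.up (nice_m24 hD hP h) (fun d hd => m24_gate hD hP h hd)
    (fun d hd => m24_center_Hd hD hP h hd) (by norm_num) (by norm_num) (by norm_num) (by norm_num)
    (by rw [m24_card_D hD hP h]; norm_num)
    (fun d hd e he hde => m24_pair_order hD hP h hd he hde) hb

theorem m24_trans {X : Subgroup G} (hX : Nat.card X = 11) {a b : G} (ha : a ∈ fixedD D X)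
    (hb : b ∈ fixedD D X) : ∃ g ∈ normalizer (X : Set G), g * a * g⁻¹ = b :=
  trans_fixed hD (nice_m24 hD hP h).conj (by norm_num) hX
    (fun c hc => by rw [m24_centralizer_card hD hP h hc]; norm_num) ha hb

theorem m24_trans_two {X : Subgroup G} (hX : Nat.card X = 11) {d a b : G} (hd : d ∈ fixedD D X)
    (ha : a ∈ fixedD D X) (hb : b ∈ fixedD D X) (had : a ≠ d) (hbd : b ≠ d) :
    ∃ g ∈ normalizer (X : Set G), g * d * g⁻¹ = d ∧ g * a * g⁻¹ = b := by
  have hN := nice_m24 hD hP h
  refine trans_fixed_two hN hd.1 (m24_gate hD hP h hd.1) (m24_center_Hd hD hP h hd.1) (by norm_num)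
    (by norm_num : (11 : ℕ) ≠ 2) hX hd.2 (fun e he hde => m24_pair_order hD hP h hd.1 he hde)
    (fun u hu v hv => m23_trans (hN.group_Db hd.1) (m24_prim_below hD hP h hd.1)
      (m24_below hD hP h hd.1) ?_ hu hv) ha hb had hbd
  exact card_img hN hd.1 (m24_gate hD hP h hd.1) (m24_center_Hd hD hP h hd.1) (by norm_num)
    (by norm_num) hX hd.2

theorem m24_conj {X Y : Subgroup G} (hX : Nat.card X = 11) (hY : Nat.card Y = 11) :
    ∃ g : G, X.map (MulAut.conj g).toMonoidHom = Y := by
  obtain ⟨g, -, hg⟩ := exists_conj (by norm_num : Nat.Prime 11) (le_top (a := X)) (le_top (a := Y))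
    hX hY (by rw [Subgroup.card_top, m24_card hD hP h]; norm_num)
  exact ⟨g, hg⟩

end M24

end CfsgLib.Trans3.Fi.LocalEleven
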