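import Cfsg.Agent.Lib.Trans3.Fi.M24Order

/-!
Normalisers of subgroups of prime order commuting with some members, carried one level up the
series M(22), M(23), M(24).
-/

set_option autoImplicit false
set_option linter.unusedSectionVars false
set_option linter.style.haveILetI false

namespace CfsgLib.Trans3.Fi.LocalLift

open Subgroup
open scoped Pointwise

variable {G : Type*} [Group G]

/-- The members commuting with a subgroup. -/
abbrev fixedD (D : Set G) (X : Subgroup G) : Set G := D ∩ (centralizer (X : Set G) : Set G)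

/-- For every subgroup of order `p`: `n` members commute with it, pairwise commuting and
independent; the part of the normaliser fixing them has order `p q 2 ^ n`, and none of its
elements of order `q` centralises the subgroup. -/
structure LocData (D : Set G) (p q n : ℕ) : Prop where
  ncard : ∀ X : Subgroup G, Nat.card X = p → (fixedD D X).ncard = n
  comm : ∀ X : Subgroup G, Nat.card X = p → ∀ a ∈ fixedD D X, ∀ b ∈ fixedD D X, Commute a b
  card_closure : ∀ X : Subgroup G, Nat.card X = p → Nat.card (closure (fixedD D X)) = 2 ^ n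
  card_norm : ∀ X : Subgroup G, Nat.card X = p →
    Nat.card ↥(normalizer (X : Set G) ⊓ centralizer (fixedD D X)) = p * q * 2 ^ n
  no_q : ∀ X : Subgroup G, Nat.card X = p → ∀ y : G, y ∈ centralizer (X : Set G) →
    (∀ a ∈ fixedD D X, Commute y a) → orderOf y ≠ q

theorem pow_prime_eq_one {p : ℕ} {X : Subgroup G} (hX : Nat.card X = p) {x : G} (hx : x ∈ X) :
    x ^ p = 1 := by
  have := pow_card_eq_one' (G := X) (x := ⟨x, hx⟩)
  rw [hX] at this
  exact congrArg Subtype.val this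

theorem eq_one_of_pow_prime {p : ℕ} (hp : p.Prime) (hp2 : p ≠ 2) {x : G} (h1 : x ^ p = 1)
    (h2 : x ^ 2 = 1) : x = 1 := by
  rw [← orderOf_eq_one_iff]
  exact Nat.eq_one_of_dvd_coprimes ((Nat.coprime_primes hp Nat.prime_two).2 hp2)
    (orderOf_dvd_of_pow_eq_one h1) (orderOf_dvd_of_pow_eq_one h2)

variable [Finite G]

/-- Two subgroups of order `p` of `H`, `p ^ 2` not dividing `|H|`, are conjugate in `H`. -/
theorem exists_conj {p : ℕ} (hp : p.Prime) {H X Y : Subgroup G} (hX : X ≤ H) (hY : Y ≤ H)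
    (hcX : Nat.card X = p) (hcY : Nat.card Y = p) (hH : ¬ p ^ 2 ∣ Nat.card H) :
    ∃ h ∈ H, X.map (MulAut.conj h).toMonoidHom = Y := by
  haveI : Fact p.Prime := ⟨hp⟩
  have h1 : (Nat.card H).factorization p = 1 := by
    have hd : p ∣ Nat.card H := hcX ▸ card_dvd_of_le hX
    have := (hp.dvd_iff_one_le_factorization Nat.card_pos.ne').1 hd
    by_contra hne
    exact hH ((hp.pow_dvd_iff_le_factorization Nat.card_pos.ne').2 (by omega))
  have hs : ∀ Z : Subgroup G, Z ≤ H → Nat.card Z = p →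
      ∃ S : Sylow p H, (S : Subgroup H).map H.subtype = Z := by
    intro Z hZ hcZ
    refine ⟨Sylow.ofCard (Z.subgroupOf H) ?_, ?_⟩
    · rw [Nat.card_congr (subgroupOfEquivOfLe hZ).toEquiv, h1, hcZ, pow_one]
    · show (Z.subgroupOf H).map H.subtype = Z
      rw [subgroupOf_map_subtype, inf_eq_left.2 hZ]
  obtain ⟨S, hS⟩ := hs X hX hcX
  obtain ⟨T, hT⟩ := hs Y hY hcY
  obtain ⟨g, hg⟩ := MulAction.exists_smul_eq H S T
  refine ⟨g, g.2, ?_⟩
  rw [← hS, ← hT, ← hg, Sylow.coe_subgroup_smul, Subgroup.map_map]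
  ext w
  constructor
  · rintro ⟨a, ha, rfl⟩
    exact ⟨_, Subgroup.smul_mem_pointwise_smul a (MulAut.conj g) _ ha, rfl⟩
  · rintro ⟨_, hb, rfl⟩
    obtain ⟨a, ha, rfl⟩ := Subgroup.mem_smul_pointwise_iff_exists _ _ _ |>.1 hb
    exact ⟨a, ha, rfl⟩

/-- A `p`-subgroup fixes a member when `p` does not divide the number of members. -/
theorem exists_fixed_member {D : Set G} (hD : Cfsg.IsThreeTranspositionGroup D) {p : ℕ}
    (hp : p.Prime) {X : Subgroup G} (hX : Nat.card X = p) (hn : ¬ p ∣ D.ncard) :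
    ∃ d ∈ D, d ∈ centralizer (X : Set G) := by
  classical
  haveI : Fact p.Prime := ⟨hp⟩
  letI : MulAction X D :=
    { smul := fun x d => ⟨(x : G) * d * (x : G)⁻¹, hD.2.1 x d d.2⟩
      one_smul := fun d => Subtype.ext (by show (1 : G) * d * (1 : G)⁻¹ = d; simp)
      mul_smul := fun x y d => Subtype.ext (by
        show (x : G) * y * d * ((x : G) * y)⁻¹ = x * (y * d * (y : G)⁻¹) * (x : G)⁻¹
        group) }
  have hX' : IsPGroup p X := IsPGroup.of_card (n := 1) (by rw [hX, pow_one])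
  have h1 := hX'.card_modEq_card_fixedPoints D
  rw [Nat.card_coe_set_eq] at h1
  have h2 : Nat.card (MulAction.fixedPoints X D) ≠ 0 := fun e => hn (by
    rw [e] at h1; exact Nat.modEq_zero_iff_dvd.1 h1)
  obtain ⟨⟨d, hd⟩, hfix⟩ := (Nat.card_ne_zero.1 h2).1
  refine ⟨d, hd, mem_centralizer_iff.2 fun x hx => ?_⟩
  have := congrArg Subtype.val (hfix ⟨x, hx⟩)
  exact mul_inv_eq_iff_eq_mul.1 this

/-- A group `M` of order `p q 2 ^ n` with a central subgroup `V` of order `2 ^ n`, normalising `X`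
of order `p` with no element of order `q` centralising `X`: a Frobenius complement of `V`. -/
theorem exists_frob {p q n : ℕ} (hp : p.Prime) (hq : q.Prime) (hp2 : p ≠ 2) (hq2 : q ≠ 2)
    (hpq : p ≠ q) {M X V : Subgroup G} (hM : Nat.card M = p * q * 2 ^ n) (hXM : X ≤ M)
    (hMX : M ≤ normalizer (X : Set G)) (hcX : Nat.card X = p) (hVM : V ≤ M)
    (hcV : Nat.card V = 2 ^ n) (hcomm : ∀ x ∈ M, ∀ v ∈ V, x * v = v * x)
    (hno : ∀ y ∈ M, y ∈ centralizer (X : Set G) → orderOf y ≠ q) :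
    ∃ F : Subgroup G, Nat.card F = p * q ∧ X ≤ F ∧ F ⊓ centralizer (X : Set G) = X ∧
      F ⊓ V = ⊥ ∧ (∀ x ∈ F, ∀ v ∈ V, x * v = v * x) ∧ F ⊔ V = M := by
  classical
  haveI : Fact q.Prime := ⟨hq⟩
  obtain ⟨y₀, hy₀⟩ := exists_prime_orderOf_dvd_card' (G := M) q
    (hM ▸ (dvd_mul_left q p).mul_right _)
  set y : G := (y₀ : G) with hy
  have hyo : orderOf y = q := by rw [hy, Subgroup.orderOf_coe, hy₀]
  obtain ⟨Y, hYdef⟩ : ∃ Y : Subgroup G, Y = zpowers y := ⟨_, rfl⟩
  have hYM : Y ≤ M := hYdef ▸ zpowers_le.2 y₀.2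
  have hcY : Nat.card Y = q := by rw [hYdef, Nat.card_zpowers, hyo]
  have hXab : IsMulCommutative X := by
    haveI : Fact p.Prime := ⟨hp⟩
    haveI := isCyclic_of_prime_card (α := X) hcX
    exact IsCyclic.isMulCommutative
  have hdisj : X ⊓ Y = ⊥ := inf_eq_bot_of_coprime (by
    rw [hcX, hcY]; exact (Nat.coprime_primes hp hq).2 hpq)
  have hcarr : ((X ⊔ Y : Subgroup G) : Set G) = (X : Set G) * (Y : Set G) :=
    coe_mul_of_right_le_normalizer_left X Y (hYM.trans hMX)
  have hcard : Nat.card ↥(X ⊔ Y) = p * q := by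
    rw [← hcX, ← hcY, ← Nat.card_prod]
    refine (Nat.card_eq_of_bijective (fun w : X × Y => (⟨w.1 * w.2,
      mul_mem (mem_sup_left w.1.2) (mem_sup_right w.2.2)⟩ : ↥(X ⊔ Y))) ⟨?_, ?_⟩).symm
    · intro a b e
      exact mul_injective_of_disjoint (disjoint_iff.2 hdisj) (congrArg Subtype.val e)
    · rintro ⟨w, hw⟩
      have hw' : w ∈ ((X ⊔ Y : Subgroup G) : Set G) := hw
      rw [hcarr] at hw'
      obtain ⟨a, ha, b, hb, rfl⟩ := Set.mem_mul.1 hw'
      exact ⟨(⟨a, ha⟩, ⟨b, hb⟩), rfl⟩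
  refine ⟨X ⊔ Y, hcard, le_sup_left, ?_, ?_, ?_, ?_⟩
  · refine le_antisymm (fun w hw => ?_) (le_inf le_sup_left
      (le_centralizer_iff_isMulCommutative.2 hXab))
    obtain ⟨hw1, hw2⟩ := mem_inf.1 hw
    have hw1' : w ∈ ((X ⊔ Y : Subgroup G) : Set G) := hw1
    rw [hcarr] at hw1'
    obtain ⟨a, ha, b, hb, rfl⟩ := Set.mem_mul.1 hw1'
    by_cases hb1 : b = 1
    · rw [hb1, mul_one]; exact ha
    have hbc : b ∈ centralizer (X : Set G) := by
      have := mul_mem (inv_mem ((le_centralizer_iff_isMulCommutative.2 hXab) ha)) hw2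
      rwa [inv_mul_cancel_left] at this
    exfalso
    refine hno b (hYM hb) hbc ?_
    have hd : orderOf b ∣ q := hcY ▸ orderOf_dvd_natCard Y hb
    exact ((Nat.dvd_prime hq).1 hd).resolve_left fun h => hb1 (orderOf_eq_one_iff.1 h)
  · refine inf_eq_bot_of_coprime ?_
    rw [hcard, hcV]
    exact Nat.Coprime.pow_right n (Nat.Coprime.mul_left ((Nat.coprime_primes hp Nat.prime_two).2 hp2)
      ((Nat.coprime_primes hq Nat.prime_two).2 hq2))
  · exact fun x hx v hv => hcomm x ((sup_le hXM hYM : X ⊔ Y ≤ M) hx) v hv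
  · refine Subgroup.eq_of_le_of_card_ge (sup_le (sup_le hXM hYM) hVM) (Nat.le_of_dvd Nat.card_pos ?_)
    rw [hM]
    exact Nat.Coprime.mul_dvd_of_dvd_of_dvd
      (Nat.Coprime.pow_right n (Nat.Coprime.mul_left ((Nat.coprime_primes hp Nat.prime_two).2 hp2)
        ((Nat.coprime_primes hq Nat.prime_two).2 hq2)))
      (hcard ▸ card_dvd_of_le le_sup_left) (hcV ▸ card_dvd_of_le le_sup_right)

section Lift

variable {D : Set G} (hN : Nice D) {d : G} (hd : d ∈ D)
  (hgate : Hd D d = centralizer ({d} : Set G))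
  (hcen : center ↥(Hd D d) = (zpowers d).subgroupOf (Hd D d))
  {p : ℕ} (hp : p.Prime) (hp2 : p ≠ 2) {X : Subgroup G} (hcX : Nat.card X = p)
  (hXd : d ∈ centralizer (X : Set G))


include hgate in
theorem mem_Hd {g : G} (hg : Commute g d) : g ∈ Hd D d := by
  rw [hgate]; exact mem_centralizer_singleton_iff.2 hg.eq

include hgate in
theorem self_mem : d ∈ Hd D d := mem_Hd hgate (Commute.refl d)

include hgate hXd in
theorem le_Hd : X ≤ Hd D d := fun x hx =>
  mem_Hd hgate (mem_centralizer_iff.1 hXd x hx)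

/-- The projection to the neighbourhood quotient. -/
abbrev proj (D : Set G) (d : G) : ↥(Hd D d) →* Qd D d := QuotientGroup.mk' (center ↥(Hd D d))

/-- The image in the neighbourhood quotient. -/
abbrev imgX (D : Set G) (d : G) (X : Subgroup G) : Subgroup (Qd D d) :=
  (X.subgroupOf (Hd D d)).map (proj D d)

include hN hd hgate hcen

theorem center_cases {x : ↥(Hd D d)} : x ∈ center ↥(Hd D d) ↔ (x : G) = 1 ∨ (x : G) = d := by
  rw [hcen, mem_subgroupOf]
  have hd2 : d ^ (2 : ℤ) = 1 := by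
    rw [show (2 : ℤ) = ((2 : ℕ) : ℤ) from rfl, zpow_natCast, ← hN.group.1.1 d hd, pow_orderOf_eq_one]
  refine ⟨?_, ?_⟩
  · rintro ⟨k, hk⟩
    rcases Int.even_or_odd' k with ⟨m, rfl | rfl⟩
    · left; rw [← hk]; show d ^ (2 * m) = 1; rw [zpow_mul, hd2, one_zpow]
    · right; rw [← hk]; show d ^ (2 * m + 1) = d
      rw [zpow_add, zpow_mul, hd2, one_zpow, one_mul, zpow_one]
  rintro (e | e) <;> rw [e]
  exacts [one_mem _, mem_zpowers d]

theorem card_center : Nat.card (center ↥(Hd D d)) = 2 := by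
  rw [hcen, Nat.card_congr (subgroupOfEquivOfLe (zpowers_le.2 (self_mem hgate))).toEquiv,
    Nat.card_zpowers, hN.group.1.1 d hd]

theorem card_comap (P : Subgroup (Qd D d)) : Nat.card ↥(P.comap (proj D d)) = 2 * Nat.card P := by
  have h1 := (P.comap (proj D d)).card_mul_index
  rw [index_comap_of_surjective _ (QuotientGroup.mk'_surjective _),
    card_eq_card_quotient_mul_card_subgroup (center ↥(Hd D d)), ← P.card_mul_index,
    card_center hN hd hgate hcen, mul_right_comm, mul_comm _ 2] at h1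
  exact Nat.eq_of_mul_eq_mul_right (Nat.pos_of_ne_zero P.index_ne_zero_of_finite) h1

omit hgate hcen in
theorem commute_iff {g : ↥(Hd D d)} {y : G} (hy : y ∈ nbrs D d) :
    Commute ((proj D d) g) (bar hy) ↔ Commute (g : G) y := by
  refine ⟨fun h => ?_, fun h => ?_⟩
  · have hk : (g : G) * y * (g : G)⁻¹ ∈ nbrs D d := ⟨hN.group.2.1 _ y hy.1, fun e => hy.2.1 (by
        have : (g : G) * y = g * d := by
          rw [← (commute_Hd g.2).eq]; exact mul_inv_eq_iff_eq_mul.1 e
        exact mul_left_cancel this),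
      ((commute_Hd g.2).mul_right hy.2.2).mul_right (commute_Hd g.2).inv_right⟩
    refine Trans3.commute_of_conj_eq (hN.bar_inj hd hk hy ?_)
    show (proj D d) g * bar hy * ((proj D d) g)⁻¹ = bar hy
    rw [h.eq, mul_inv_cancel_right]
  · exact Commute.map (f := (proj D d)) (x := g) (y := ⟨y, subset_closure hy⟩) (Subtype.ext h.eq)

include hp hp2 hcX hXd

theorem card_img : Nat.card (imgX D d X) = p := by
  have hle := le_Hd hgate hXd
  have hdvd : Nat.card (imgX D d X) ∣ p := by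
    refine (card_map_dvd _ _).trans (dvd_of_eq ?_)
    rw [Nat.card_congr (subgroupOfEquivOfLe hle).toEquiv, hcX]
  refine ((Nat.dvd_prime hp).1 hdvd).resolve_left fun h => ?_
  obtain ⟨x, hx, hx1⟩ := (bot_or_exists_ne_one X).resolve_left fun e => by
    rw [e, card_bot] at hcX; exact hp.one_lt.ne hcX
  have hm : (proj D d) ⟨x, hle hx⟩ ∈ imgX D d X := mem_map_of_mem (proj D d) (show (⟨x, hle hx⟩ : ↥(Hd D d)) ∈
    X.subgroupOf (Hd D d) from hx)
  rw [eq_bot_of_card_eq _ h, mem_bot, QuotientGroup.mk'_apply, QuotientGroup.eq_one_iff,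
    center_cases hN hd hgate hcen] at hm
  refine hx1 (eq_one_of_pow_prime hp hp2 (pow_prime_eq_one hcX hx) ?_)
  rcases hm with e | e <;> rw [show x = _ from e]
  · exact one_pow 2
  · rw [← hN.group.1.1 d hd]; exact pow_orderOf_eq_one d

theorem normalizer_iff {g : ↥(Hd D d)} :
    (proj D d) g ∈ normalizer (imgX D d X : Set (Qd D d)) ↔ (g : G) ∈ normalizer (X : Set G) := by
  have hle := le_Hd hgate hXd
  refine ⟨fun h => ?_, fun h => ?_⟩
  · refine mem_normalizer_iff_map_conj_eq.2 (Subgroup.eq_of_le_of_card_ge ?_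
      (le_of_eq (card_map_of_injective (MulAut.conj (g : G)).injective).symm))
    rintro _ ⟨x, hx, rfl⟩
    show (g : G) * x * (g : G)⁻¹ ∈ X
    obtain ⟨x', hx', e⟩ := (mem_normalizer_iff.1 h ((proj D d) ⟨x, hle hx⟩)).1
      (mem_map_of_mem (proj D d) (show (⟨x, hle hx⟩ : ↥(Hd D d)) ∈ X.subgroupOf (Hd D d) from hx))
    rw [← map_inv, ← map_mul, ← map_mul] at e
    have e' := (center_cases hN hd hgate hcen).1 (QuotientGroup.eq.1 e)
    simp only [coe_mul, coe_inv] at e'
    rcases e' with e' | e'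
    · rw [← inv_mul_eq_one.1 e']; exact hx'
    · exfalso
      have he : (g : G) * x * (g : G)⁻¹ = (x' : G) * d :=
        (inv_mul_eq_iff_eq_mul).1 e'
      have hx'' : (x' : G) ^ p = 1 := pow_prime_eq_one hcX hx'
      have h1 : ((x' : G) * d) ^ p = 1 := by
        rw [← he, conj_pow, pow_prime_eq_one hcX hx, mul_one, mul_inv_cancel]
      rw [(commute_Hd x'.2).symm.mul_pow, hx'', one_mul] at h1
      have hd2 : d ^ 2 = 1 := by rw [← hN.group.1.1 d hd]; exact pow_orderOf_eq_one d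
      exact Trans3.invol_ne_one (hN.group.1.1 d hd) (eq_one_of_pow_prime hp hp2 h1 hd2)
  · refine mem_normalizer_iff_map_conj_eq.2 (Subgroup.eq_of_le_of_card_ge ?_
      (le_of_eq (card_map_of_injective (MulAut.conj ((proj D d) g)).injective).symm))
    rintro _ ⟨_, ⟨x, hx, rfl⟩, rfl⟩
    exact ⟨g * x * g⁻¹, (mem_normalizer_iff.1 h (x : G)).1 hx, by simp⟩

omit hp hp2 hcX in
theorem centralizer_map {g : ↥(Hd D d)} (hg : (g : G) ∈ centralizer (X : Set G)) :
    (proj D d) g ∈ centralizer (imgX D d X : Set (Qd D d)) := by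
  rw [mem_centralizer_iff]
  rintro _ ⟨x, hx, rfl⟩
  rw [← map_mul, ← map_mul]
  exact congrArg (proj D d) (Subtype.ext (mem_centralizer_iff.1 hg x hx))

omit hp hp2 hcX in
theorem fixed_iff {y : G} (hy : y ∈ nbrs D d) :
    bar hy ∈ fixedD (Db D d) (imgX D d X) ↔ y ∈ fixedD D X := by
  refine ⟨fun h => ⟨hy.1, mem_centralizer_iff.2 fun x hx => ?_⟩, fun h => ⟨bar_mem hy,
    centralizer_map hN hd hgate hcen hXd (g := ⟨y, subset_closure hy⟩) h.2⟩⟩
  exact ((commute_iff hN hd (g := ⟨x, le_Hd hgate hXd hx⟩) hy).1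
    (mem_centralizer_iff.1 h.2 _ (mem_map_of_mem (proj D d) (show (⟨x, le_Hd hgate hXd hx⟩ : ↥(Hd D d)) ∈
      X.subgroupOf (Hd D d) from hx)))).eq

variable (hpair : ∀ e ∈ D, ¬ Commute d e → ∀ x : G, Commute x d → Commute x e → orderOf x ≠ p)
include hpair

theorem fixed_cases {y : G} (hy : y ∈ fixedD D X) : y = d ∨ y ∈ nbrs D d := by
  by_cases h1 : y = d
  · exact Or.inl h1
  refine Or.inr ⟨hy.1, h1, ?_⟩
  by_contra hc
  obtain ⟨x, hx, hx1⟩ := (bot_or_exists_ne_one X).resolve_left fun e => by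
    rw [e, card_bot] at hcX; exact hp.one_lt.ne hcX
  refine hpair y hy.1 hc x (mem_centralizer_iff.1 hXd x hx) (mem_centralizer_iff.1 hy.2 x hx) ?_
  exact ((Nat.dvd_prime hp).1 (orderOf_dvd_of_pow_eq_one (pow_prime_eq_one hcX hx))).resolve_left
    fun e => hx1 (orderOf_eq_one_iff.1 e)

theorem fixed_ncard :
    (fixedD D X).ncard = (fixedD (Db D d) (imgX D d X)).ncard + 1 := by
  have e : fixedD D X = insert d (fixedD D X ∩ nbrs D d) := by
    ext y
    simp only [Set.mem_insert_iff, Set.mem_inter_iff]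
    refine ⟨fun hy => ?_, ?_⟩
    · rcases fixed_cases hN hd hgate hcen hp hp2 hcX hXd hpair hy with h | h
      · exact Or.inl h
      · exact Or.inr ⟨hy, h⟩
    · rintro (rfl | ⟨hy, -⟩)
      · exact ⟨hd, hXd⟩
      · exact hy
  rw [e, Set.ncard_insert_of_notMem fun h => h.2.2.1 rfl]
  congr 1
  refine Set.ncard_congr (fun y hy => bar hy.2)
    (fun y hy => (fixed_iff hN hd hgate hcen hXd hy.2).2 hy.1)
    (fun y z hy hz e' => hN.bar_inj hd hy.2 hz.2 e') fun w hw => ?_
  obtain ⟨y, hy, rfl⟩ := exists_bar hw.1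
  exact ⟨y, ⟨(fixed_iff hN hd hgate hcen hXd hy).1 hw, hy⟩, rfl⟩

theorem fixed_commute
    (hc : ∀ a ∈ fixedD (Db D d) (imgX D d X), ∀ b ∈ fixedD (Db D d) (imgX D d X), Commute a b)
    {a b : G} (ha : a ∈ fixedD D X) (hb : b ∈ fixedD D X) : Commute a b := by
  rcases fixed_cases hN hd hgate hcen hp hp2 hcX hXd hpair ha with rfl | ha'
  · rcases fixed_cases hN hd hgate hcen hp hp2 hcX hXd hpair hb with rfl | hb'
    · exact Commute.refl _
    · exact hb'.2.2
  · rcases fixed_cases hN hd hgate hcen hp hp2 hcX hXd hpair hb with rfl | hb'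
    · exact ha'.2.2.symm
    · exact (commute_bar (pre_of_group hN.group) ha' hb').1
        (hc _ ((fixed_iff hN hd hgate hcen hXd ha').2 ha) _
          ((fixed_iff hN hd hgate hcen hXd hb').2 hb))

theorem card_closure_fixed : Nat.card (closure (fixedD D X)) =
    2 * Nat.card (closure (fixedD (Db D d) (imgX D d X))) := by
  have hV : closure (fixedD D X) ≤ Hd D d := (closure_le _).2 fun y hy => by
    rcases fixed_cases hN hd hgate hcen hp hp2 hcX hXd hpair hy with rfl | h
    · exact self_mem hgate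
    · exact subset_closure h
  rw [← Nat.card_congr (subgroupOfEquivOfLe hV).toEquiv, ← card_comap hN hd hgate hcen]
  congr 2
  refine le_antisymm ?_ ?_
  · have hle : closure (fixedD D X) ≤
        ((closure (fixedD (Db D d) (imgX D d X))).comap (proj D d)).map (Hd D d).subtype := by
      refine (closure_le _).2 fun y hy => ?_
      rcases fixed_cases hN hd hgate hcen hp hp2 hcX hXd hpair hy with rfl | h
      · refine ⟨⟨y, self_mem hgate⟩, ?_, rfl⟩
        refine mem_comap.2 ?_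
        rw [show proj D y (⟨y, self_mem hgate⟩ : ↥(Hd D y)) = 1 from (QuotientGroup.eq_one_iff _).2
          ((center_cases hN hd hgate hcen).2 (Or.inr rfl))]
        exact one_mem _
      · exact ⟨⟨y, subset_closure h⟩,
          subset_closure ((fixed_iff hN hd hgate hcen hXd h).2 hy), rfl⟩
    intro g hg
    obtain ⟨g', hg', e⟩ := hle (mem_subgroupOf.1 hg)
    rwa [show g = g' from Subtype.ext e.symm]
  · have hm : closure (fixedD (Db D d) (imgX D d X)) ≤
        ((closure (fixedD D X)).subgroupOf (Hd D d)).map (proj D d) := by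
      refine (closure_le _).2 fun w hw => ?_
      obtain ⟨y, hy, rfl⟩ := exists_bar hw.1
      exact ⟨⟨y, subset_closure hy⟩, subset_closure ((fixed_iff hN hd hgate hcen hXd hy).1 hw), rfl⟩
    refine (comap_mono hm).trans ?_
    rw [comap_map_eq, QuotientGroup.ker_mk']
    refine sup_le le_rfl fun g hg => ?_
    rw [mem_subgroupOf]
    rcases (center_cases hN hd hgate hcen).1 hg with e | e <;> rw [e]
    · exact one_mem _
    · exact subset_closure ⟨hd, hXd⟩

theorem card_norm_fixed :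
    Nat.card ↥(normalizer (X : Set G) ⊓ centralizer (fixedD D X)) =
      2 * Nat.card ↥(normalizer (imgX D d X : Set (Qd D d)) ⊓
        centralizer (fixedD (Db D d) (imgX D d X))) := by
  have hle : normalizer (X : Set G) ⊓ centralizer (fixedD D X) ≤ Hd D d := fun g hg =>
    mem_Hd hgate (mem_centralizer_iff.1 (mem_inf.1 hg).2 d ⟨hd, hXd⟩).symm
  rw [← Nat.card_congr (subgroupOfEquivOfLe hle).toEquiv, ← card_comap hN hd hgate hcen]
  congr 2
  ext g
  rw [mem_subgroupOf, mem_comap, mem_inf, mem_inf,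
    normalizer_iff hN hd hgate hcen hp hp2 hcX hXd]
  refine and_congr_right fun _ => ⟨fun h => mem_centralizer_iff.2 fun w hw => ?_,
    fun h => mem_centralizer_iff.2 fun y hy => ?_⟩
  · obtain ⟨y, hy, rfl⟩ := exists_bar hw.1
    exact ((commute_iff hN hd hy).2 (show Commute (g : G) y from
      (mem_centralizer_iff.1 h y ((fixed_iff hN hd hgate hcen hXd hy).1 hw)).symm)).eq.symm
  · rcases fixed_cases hN hd hgate hcen hp hp2 hcX hXd hpair hy with rfl | hy'
    · exact (commute_Hd g.2).eq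
    · exact ((commute_iff hN hd hy').1
        (mem_centralizer_iff.1 h _ ((fixed_iff hN hd hgate hcen hXd hy').2 hy)).symm).eq.symm

omit hpair in
theorem no_q_up {q : ℕ} (hq : q.Prime) (hq2 : q ≠ 2)
    (hno : ∀ w : Qd D d, w ∈ centralizer (imgX D d X : Set (Qd D d)) →
      (∀ a ∈ fixedD (Db D d) (imgX D d X), Commute w a) → orderOf w ≠ q)
    {y : G} (hy : y ∈ centralizer (X : Set G)) (hyS : ∀ a ∈ fixedD D X, Commute y a) :
    orderOf y ≠ q := by
  intro ho
  have hyd : y ∈ Hd D d := mem_Hd hgate (hyS d ⟨hd, hXd⟩)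
  refine hno ((proj D d) ⟨y, hyd⟩) (centralizer_map hN hd hgate hcen hXd hy) (fun a ha => ?_) ?_
  · obtain ⟨u, hu, rfl⟩ := exists_bar ha.1
    exact (commute_iff hN hd hu).2 (hyS u ((fixed_iff hN hd hgate hcen hXd hu).1 ha))
  · have h1 : orderOf ((proj D d) (⟨y, hyd⟩ : ↥(Hd D d))) ∣ q := by
      refine (orderOf_map_dvd _ _).trans (dvd_of_eq ?_)
      rw [Subgroup.orderOf_mk, ho]
    refine ((Nat.dvd_prime hq).1 h1).resolve_left fun h => ?_
    rw [orderOf_eq_one_iff, QuotientGroup.mk'_apply, QuotientGroup.eq_one_iff,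
      center_cases hN hd hgate hcen] at h
    rcases h with e | e
    · simp only at e
      rw [e, orderOf_one] at ho; exact hq.one_lt.ne ho
    · simp only at e
      rw [e, hN.group.1.1 d hd] at ho; exact hq2 ho.symm

end Lift

/-- The data one level up. -/
theorem LocData.up {D : Set G} (hN : Nice D)
    (hgate : ∀ d ∈ D, Hd D d = centralizer ({d} : Set G))
    (hcen : ∀ d ∈ D, center ↥(Hd D d) = (zpowers d).subgroupOf (Hd D d))
    {p q n : ℕ} (hp : p.Prime) (hp2 : p ≠ 2) (hq : q.Prime) (hq2 : q ≠ 2)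
    (hn : ¬ p ∣ D.ncard)
    (hpair : ∀ d ∈ D, ∀ e ∈ D, ¬ Commute d e → ∀ x : G, Commute x d → Commute x e → orderOf x ≠ p)
    (hbelow : ∀ d ∈ D, LocData (Db D d) p q n) : LocData D p q (n + 1) := by
  refine ⟨fun X hX => ?_, fun X hX => ?_, fun X hX => ?_, fun X hX => ?_, fun X hX => ?_⟩
  all_goals
    obtain ⟨d, hd, hXd⟩ := exists_fixed_member hN.group hp hX hn
    have B := hbelow d hd
    have hi := card_img hN hd (hgate d hd) (hcen d hd) hp hp2 hX hXd
  · rw [fixed_ncard hN hd (hgate d hd) (hcen d hd) hp hp2 hX hXd (hpair d hd), B.ncard _ hi]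
  · exact fun a ha b hb => fixed_commute hN hd (hgate d hd) (hcen d hd) hp hp2 hX hXd (hpair d hd)
      (B.comm _ hi) ha hb
  · rw [card_closure_fixed hN hd (hgate d hd) (hcen d hd) hp hp2 hX hXd (hpair d hd),
      B.card_closure _ hi, pow_succ']
  · rw [card_norm_fixed hN hd (hgate d hd) (hcen d hd) hp hp2 hX hXd (hpair d hd),
      B.card_norm _ hi, pow_succ']
    ring
  · exact fun y hy hS => no_q_up hN hd (hgate d hd) (hcen d hd) hp hp2 hX hXd hq hq2
      (B.no_q _ hi) hy hS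

/-- The normaliser permutes the members commuting with `X` transitively. -/
theorem trans_fixed {D : Set G} (hD : Cfsg.IsThreeTranspositionGroup D)
    (hconj : ∀ a ∈ D, ∀ b ∈ D, ∃ g : G, g * a * g⁻¹ = b) {p : ℕ} (hp : p.Prime) {X : Subgroup G}
    (hX : Nat.card X = p) (hcard : ∀ a ∈ D, ¬ p ^ 2 ∣ Nat.card (centralizer ({a} : Set G)))
    {a b : G} (ha : a ∈ fixedD D X) (hb : b ∈ fixedD D X) :
    ∃ g ∈ normalizer (X : Set G), g * a * g⁻¹ = b := by
  obtain ⟨g, hg⟩ := hconj a ha.1 b hb.1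
  have h1 : X.map (MulAut.conj g).toMonoidHom ≤ centralizer ({b} : Set G) := by
    rintro _ ⟨x, hx, rfl⟩
    refine mem_centralizer_singleton_iff.2 ?_
    rw [← hg]
    exact ((show Commute x a from mem_centralizer_iff.1 ha.2 x hx).map
      (MulAut.conj g).toMonoidHom).eq
  have h2 : X ≤ centralizer ({b} : Set G) := fun x hx =>
    mem_centralizer_singleton_iff.2 (mem_centralizer_iff.1 hb.2 x hx)
  obtain ⟨h, hh, hh'⟩ := exists_conj hp h1 h2
    ((card_map_of_injective (MulAut.conj g).injective).trans hX) hX (hcard b hb.1)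
  refine ⟨h * g, ?_, ?_⟩
  · refine mem_normalizer_iff_map_conj_eq.2 ?_
    conv_rhs => rw [← hh', Subgroup.map_map]
    congr 1
    ext x
    simp
  · rw [show h * g * a * (h * g)⁻¹ = h * (g * a * g⁻¹) * h⁻¹ by group, hg]
    exact Trans3.conj_eq_of_commute (mem_centralizer_singleton_iff.1 hh)

/-- The normaliser fixing one commuting member is transitive on the others. -/
theorem trans_fixed_two {D : Set G} (hN : Nice D) {d : G} (hd : d ∈ D)
    (hgate : Hd D d = centralizer ({d} : Set G))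
    (hcen : center ↥(Hd D d) = (zpowers d).subgroupOf (Hd D d))
    {p : ℕ} (hp : p.Prime) (hp2 : p ≠ 2) {X : Subgroup G} (hX : Nat.card X = p)
    (hXd : d ∈ centralizer (X : Set G))
    (hpair : ∀ e ∈ D, ¬ Commute d e → ∀ x : G, Commute x d → Commute x e → orderOf x ≠ p)
    (hbelow : ∀ a ∈ fixedD (Db D d) (imgX D d X), ∀ b ∈ fixedD (Db D d) (imgX D d X),
      ∃ w ∈ normalizer (imgX D d X : Set (Qd D d)), w * a * w⁻¹ = b)
    {a b : G} (ha : a ∈ fixedD D X) (hb : b ∈ fixedD D X) (had : a ≠ d) (hbd : b ≠ d) :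
    ∃ g ∈ normalizer (X : Set G), g * d * g⁻¹ = d ∧ g * a * g⁻¹ = b := by
  have ha' := (fixed_cases hN hd hgate hcen hp hp2 hX hXd hpair ha).resolve_left had
  have hb' := (fixed_cases hN hd hgate hcen hp hp2 hX hXd hpair hb).resolve_left hbd
  obtain ⟨w, hw, hwe⟩ := hbelow _ ((fixed_iff hN hd hgate hcen hXd ha').2 ha) _
    ((fixed_iff hN hd hgate hcen hXd hb').2 hb)
  obtain ⟨g, rfl⟩ := QuotientGroup.mk'_surjective (center ↥(Hd D d)) w
  have hk : (g : G) * a * (g : G)⁻¹ ∈ nbrs D d := ⟨hN.group.2.1 _ a ha.1, fun e => had (by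
      have : (g : G) * a = g * d := by
        rw [← (commute_Hd g.2).eq]; exact mul_inv_eq_iff_eq_mul.1 e
      exact mul_left_cancel this),
    ((commute_Hd g.2).mul_right ha'.2.2).mul_right (commute_Hd g.2).inv_right⟩
  exact ⟨g, (normalizer_iff hN hd hgate hcen hp hp2 hX hXd).1 hw,
    Trans3.conj_eq_of_commute (commute_Hd g.2).symm, hN.bar_inj hd hk hb' hwe⟩

/-- The order of the joint centraliser of two non-commuting members. -/
theorem pair_order_ne {D : Set G} (hD : Cfsg.IsThreeTranspositionGroup D)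
    (hP : Cfsg.IsPrimitiveUnderConj D) (hw : ∃ a ∈ D, ∃ b ∈ D, a ≠ b ∧ Commute a b) {p : ℕ}
    (hp : p.Prime) {d e : G} (hd : d ∈ D) (he : e ∈ D) (hde : ¬ Commute d e)
    (hfar : p ∣ D.ncard - 1 - (nbrs D d).ncard)
    (hC : ¬ p ^ 2 ∣ Nat.card (centralizer ({d} : Set G))) {x : G} (hxd : Commute x d)
    (hxe : Commute x e) : orderOf x ≠ p := by
  intro ho
  have h1 := card_orbit_mul (H := centralizer ({d} : Set G)) (x := e)
    (O := {y | y ∈ D ∧ ¬ Commute d y})
    (fun g hg => ⟨hD.2.1 g e he, fun h => hde ((commute_conj_iff g d e).1 (by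
      rwa [Trans3.conj_eq_of_commute (mem_centralizer_singleton_iff.1 hg)]))⟩)
    (fun o ho => by
      obtain ⟨g, hg, hg'⟩ := trans_noncomm hD hP hw hd he hde ho.1 ho.2
      exact ⟨g, mem_centralizer_singleton_iff.2 (Trans3.commute_of_conj_eq hg).eq, hg'⟩)
  have hs := card_split (D := D) hd
  rw [show D.ncard - 1 - (nbrs D d).ncard = {y | y ∈ D ∧ ¬ Commute d y}.ncard by omega] at hfar
  refine hC ?_
  rw [h1, pow_two]
  refine mul_dvd_mul hfar ?_
  rw [← ho]
  exact orderOf_dvd_natCard _ (mem_inf.2 ⟨mem_centralizer_singleton_iff.2 hxd.eq,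
    mem_centralizer_singleton_iff.2 hxe.eq⟩)

end CfsgLib.Trans3.Fi.LocalLift
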