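import Cfsg.Agent.Lib.Trans3.Fi.LocalThirteenLin
import Cfsg.Agent.Lib.Trans3.Fi.LocalLift
import Cfsg.Agent.Lib.Trans3.Fi.PairNorm
import Cfsg.Agent.Lib.Trans3.Fi.ReflSeven
import Cfsg.Agent.Lib.Trans3.Fi.InvolM22

/-!
Subgroups of order 13 in groups of type M(23): the centralisers in the centraliser of a member
and in the joint centraliser of two non-commuting members.
-/

set_option autoImplicit false
set_option linter.unusedSectionVars false
set_option linter.style.haveILetI false

namespace CfsgLib.Trans3.Fi.LocalThirteen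

open Subgroup

theorem fact13 : Fact (Nat.Prime 13) := ⟨by norm_num⟩

theorem orderOf_eq13 {G : Type*} [Group G] {y : G} (h : y ^ 13 = 1) (h1 : y ≠ 1) :
    orderOf y = 13 :=
  haveI := fact13
  orderOf_eq_prime h h1

/-- A property of commuting pairs passes to the quotient by a centre of order 2. -/
theorem pow_of_lift {R : Type*} [Group R] (hc : Nat.card (center R) = 2)
    (hR : ∀ r s : R, s ^ 13 = 1 → s ≠ 1 → Commute r s → r ^ 26 = 1) {g x : R ⧸ center R}
    (hx : x ^ 13 = 1) (hx1 : x ≠ 1) (hgx : Commute g x) : g ^ 26 = 1 := by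
  have hz2 : ∀ z ∈ center R, z ^ 2 = 1 := fun z hz => by
    have h1 := pow_card_eq_one' (G := center R) (x := ⟨z, hz⟩)
    rw [hc] at h1
    exact congrArg Subtype.val h1
  obtain ⟨r, rfl⟩ := QuotientGroup.mk_surjective g
  obtain ⟨s₀, rfl⟩ := QuotientGroup.mk_surjective x
  obtain ⟨s, hsdef⟩ : ∃ s, s = s₀ ^ 14 := ⟨_, rfl⟩
  have hsx : (s : R ⧸ center R) = (s₀ : R ⧸ center R) := by
    rw [hsdef, QuotientGroup.mk_pow, pow_succ, hx, one_mul]
  have hs : s ^ 13 = 1 := by
    rw [hsdef, ← pow_mul, show 14 * 13 = 13 * 2 * 7 by norm_num, pow_mul, pow_mul,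
      hz2 _ ((QuotientGroup.eq_one_iff _).1 (by rw [QuotientGroup.mk_pow]; exact hx)), one_pow]
  have hs1 : s ≠ 1 := fun e => hx1 (by rw [← hsx, e]; rfl)
  obtain ⟨z, ez⟩ : ∃ z, z = r * s * r⁻¹ * s⁻¹ := ⟨_, rfl⟩
  have hzc : z ∈ center R := (QuotientGroup.eq_one_iff z).1 (by
    rw [ez, QuotientGroup.mk_mul, QuotientGroup.mk_mul, QuotientGroup.mk_mul,
      QuotientGroup.mk_inv, QuotientGroup.mk_inv, hsx, hgx.eq]
    group)
  have e1 : r * s * r⁻¹ = z * s := by rw [ez]; group
  have hzs : Commute z s := (mem_center_iff.1 hzc s).symm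
  have h13 : z ^ 13 = 1 := by
    have h := congrArg (fun t => t ^ 13) e1
    simp only [conj_pow, hs, mul_one, mul_inv_cancel] at h
    rw [hzs.mul_pow, hs, mul_one] at h
    exact h.symm
  have hz : z = 1 := by
    rw [← h13, show 13 = 2 * 6 + 1 from rfl, pow_succ, pow_mul, hz2 _ hzc, one_pow, one_mul]
  have hrs : Commute r s := Trans3.commute_of_conj_eq (by rw [e1, hz, one_mul])
  rw [← QuotientGroup.mk_pow, hR r s hs hs1 hrs]
  rfl

section Refl

open CfsgLib.Geom CfsgLib.Geom.ReflThree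

local instance : Fact (Nat.Prime 3) := ⟨Nat.prime_three⟩

variable (Q : QuadraticForm (ZMod 3) (Fin 7 → ZMod 3))
  (hQ : (QuadraticMap.polarBilin Q).Nondegenerate)
include hQ

theorem og_pow_twenty_six {r s : Og Q} (hs : s ^ 13 = 1) (hs1 : s ≠ 1) (hrs : Commute r s) :
    r ^ 26 = 1 := by
  obtain ⟨L, hL⟩ : ∃ L : Og Q →* Module.End (ZMod 3) (Fin 7 → ZMod 3),
      ∀ (g : Og Q) x, L g x = ReflThree.act Q g x :=
    ⟨{ toFun := fun g => Matrix.mulVecLin ((g : GL (Fin 7) (ZMod 3)) : Matrix (Fin 7) (Fin 7) (ZMod 3))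
       map_one' := by simp [Module.End.one_eq_id]
       map_mul' := fun g h => by simp [Matrix.mulVecLin_mul, Module.End.mul_eq_comp] },
     fun g x => rfl⟩
  have hinj : Function.Injective L := fun g h e => og_ext Q fun x => by rw [← hL, ← hL, e]
  refine hinj ?_
  have h13 : L s ^ 13 = 1 := by rw [← map_pow, hs, map_one]
  have hne : L s ≠ 1 := fun e => hs1 (hinj (e.trans (map_one L).symm))
  have hB : ∀ (g : Og Q) u v, QuadraticMap.polarBilin Q (L g u) (L g v) =
      QuadraticMap.polarBilin Q u v := fun g u v => by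
    simp only [QuadraticMap.polarBilin_apply_apply, hL, polar_act]
  rw [map_pow, map_one]
  exact ThirteenLin.pow_eq_one (QuadraticMap.polarBilin Q)
    (fun u v => by simp only [QuadraticMap.polarBilin_apply_apply, QuadraticMap.polar_comm])
    hQ (le_of_eq (Module.finrank_fin_fun _)) h13 hne (hB s) (hB r) (hrs.map L)

theorem refl_pow_twenty_six {c : ZMod 3} (hc : c ≠ 0) (hdisc : Cfsg.polarGramDet (⇑Q) = -c)
    {g x : ↥(Cfsg.reflectionSubgroup (⇑Q) c) ⧸ center ↥(Cfsg.reflectionSubgroup (⇑Q) c)}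
    (hx : x ^ 13 = 1) (hx1 : x ≠ 1) (hgx : Commute g x) : g ^ 26 = 1 := by
  exact pow_of_lift (ReflSeven.card_center Q hQ hc hdisc) (fun r t h1 h2 h3 =>
    Subtype.ext (og_pow_twenty_six Q hQ (r := (r : Og Q)) (s := (t : Og Q))
      (congrArg Subtype.val h1) (fun e => h2 (Subtype.ext e)) (congrArg Subtype.val h3.eq)))
    hx hx1 hgx

end Refl

variable {G : Type*} [Group G] [Finite G] {D : Set G}

section M22

variable (hD : Cfsg.IsThreeTranspositionGroup D) (hP : Cfsg.IsPrimitiveUnderConj D)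
variable (h : Cfsg.IsOfTypeM22 G D)
include hD hP h

theorem m22_member_thirteen {a y : G} (ha : a ∈ D) (hy : Commute y a) (hy13 : y ^ 13 = 1) :
    y = 1 := by
  by_contra hy1
  have := Subgroup.orderOf_dvd_natCard (centralizer ({a} : Set G))
    (mem_centralizer_singleton_iff.2 hy.eq)
  rw [card_centralizer hD hP h ha, orderOf_eq13 hy13 hy1] at this
  norm_num at this

/-- No involution commutes with an element of order 13. -/
theorem m22_invol_thirteen {t y : G} (ht1 : t ≠ 1) (ht : t * t = 1) (hty : Commute t y)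
    (hy13 : y ^ 13 = 1) : y = 1 := by
  by_contra hy1
  obtain ⟨m, l, hm1, hm3, hf⟩ := m22_invol hD hP h ht1 ht
  obtain ⟨hn, hlen, hmem, hco, hprod⟩ := id hf
  obtain rfl | rfl | rfl : m = 1 ∨ m = 2 ∨ m = 3 := by omega
  · obtain ⟨a, rfl⟩ := List.length_eq_one_iff.1 hlen
    rw [List.prod_singleton] at hprod
    exact hy1 (m22_member_thirteen hD hP h (hmem a (by simp)) (hprod ▸ hty.symm) hy13)
  · obtain ⟨a, b, rfl⟩ := List.length_eq_two.1 hlen
    have hf' : Fac D 2 t ([a, b].map (MulAut.conj y)) := by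
      refine ⟨hn.map (MulAut.conj y).injective, rfl, ?_, ?_, ?_⟩
      · intro x hx
        obtain ⟨u, hu, rfl⟩ := List.mem_map.1 hx
        exact hD.2.1 y u (hmem u hu)
      · intro x hx w hw
        obtain ⟨u, hu, rfl⟩ := List.mem_map.1 hx
        obtain ⟨v, hv, rfl⟩ := List.mem_map.1 hw
        exact (commute_conj_iff y u v).2 (hco u hu v hv)
      · rw [← map_list_prod, hprod, MulAut.conj_apply, Trans3.conj_eq_of_commute hty.symm]
    have hdet := determined hD (by norm_num) (fun _ => m22_noRel_le hD h (by norm_num) (by norm_num))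
      (fun e => by omega) hf hf'
    have ea : y * a * y⁻¹ = a ∨ y * a * y⁻¹ = b := by
      simpa using (hdet (y * a * y⁻¹)).2 (by simp)
    have eb : y * b * y⁻¹ = a ∨ y * b * y⁻¹ = b := by
      simpa using (hdet (y * b * y⁻¹)).2 (by simp)
    have hab : a ≠ b := by simpa using hn
    have h2 : Commute (y ^ 2) a := by
      refine Trans3.commute_of_conj_eq ?_
      rw [pow_two, show y * y * a * (y * y)⁻¹ = y * (y * a * y⁻¹) * y⁻¹ by group]
      rcases ea with e | e
      · rw [e, e]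
      · rw [e]
        refine eb.resolve_right fun e' => hab ?_
        exact mul_left_cancel (mul_right_cancel (e.trans e'.symm))
    refine hy1 (m22_member_thirteen hD hP h (hmem a (by simp)) ?_ hy13)
    have h7 := h2.pow_left 7
    rwa [← pow_mul, show 2 * 7 = 13 + 1 from rfl, pow_succ, hy13, one_mul] at h7
  · obtain ⟨a, b, c, rfl⟩ := List.length_eq_three.1 hlen
    simp only [List.nodup_cons, List.mem_cons, List.not_mem_nil, or_false, not_or] at hn
    have := Subgroup.orderOf_dvd_natCard (centralizer ({a * b * c} : Set G))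
      (x := y) (mem_centralizer_singleton_iff.2 (by
        rw [show a * b * c = t by rw [← hprod]; simp [mul_assoc]]; exact hty.symm.eq))
    rw [card_centralizer_three hD hP h (hmem a (by simp))
      ⟨hmem b (by simp), Ne.symm hn.1.1, hco a (by simp) b (by simp)⟩
      ⟨hmem c (by simp), Ne.symm hn.1.2, hco a (by simp) c (by simp)⟩
      ⟨hmem c (by simp), Ne.symm hn.2.1, hco b (by simp) c (by simp)⟩, orderOf_eq13 hy13 hy1] at this
    norm_num at this

end M22

variable (hD : Cfsg.IsThreeTranspositionGroup D) (hP : Cfsg.IsPrimitiveUnderConj D)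
variable (h : Cfsg.IsOfTypeM23 G D)
include hD hP h

/-- A 2-element of `C(d)` commuting with an element of order 13 of `C(d)` is `1` or `d`. -/
theorem eq_one_or_self {d x y : G} (hd : d ∈ D) (hxd : Commute x d) (hx13 : x ^ 13 = 1)
    (hx1 : x ≠ 1) (hyd : Commute y d) (hyx : Commute y x) (hy : y * y = 1 ∨ y * y = d) :
    y = 1 ∨ y = d := by
  have hN := nice_m23 hD h
  have hgate := m23_gate hD hP h hd
  have hcen := m23_center_Hd hD hP h hd
  have hxH := LocalLift.mem_Hd hgate hxd
  have hyH := LocalLift.mem_Hd hgate hyd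
  have hcc := fun (z : ↥(Hd D d)) => LocalLift.center_cases hN hd hgate hcen (x := z)
  have hk : ∀ z : ↥(Hd D d), LocalLift.proj D d z = 1 ↔ (z : G) = 1 ∨ (z : G) = d := fun z =>
    (QuotientGroup.eq_one_iff z).trans (hcc z)
  have h22 := m23_below hD h hd
  have hg := hN.group_Db hd
  have hY : LocalLift.proj D d ⟨y, hyH⟩ * LocalLift.proj D d ⟨y, hyH⟩ = 1 := by
    rw [← map_mul, hk]; exact hy
  by_contra hne
  have hX1 := m22_invol_thirteen hg (m23_prim_below hD h hP hd) h22
    (t := LocalLift.proj D d ⟨y, hyH⟩) (y := LocalLift.proj D d ⟨x, hxH⟩)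
    (fun e => hne ((hk _).1 e)) hY ((show Commute (⟨y, hyH⟩ : ↥(Hd D d)) ⟨x, hxH⟩ from
      Subtype.ext hyx.eq).map _)
    (by rw [← map_pow, hk]; exact Or.inl (by simpa using hx13))
  rcases (hk _).1 hX1 with e | e
  · exact hx1 e
  · simp only at e
    rw [e, show 13 = 2 * 6 + 1 from rfl, pow_succ, pow_mul, pow_two, Trans3.sq_one hD.1 hd,
      one_pow, one_mul] at hx13
    exact Trans3.invol_ne_one (hD.1.1 d hd) hx13

/-- Members commuting with an element of order 13 do not commute with each other. -/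
theorem fixed_noncomm {x a b : G} (hx13 : x ^ 13 = 1) (hx1 : x ≠ 1) (ha : a ∈ D) (hb : b ∈ D)
    (hab : a ≠ b) (hxa : Commute x a) (hxb : Commute x b) : ¬ Commute a b := fun hc => by
  rcases eq_one_or_self hD hP h ha hxa hx13 hx1 hc.symm hxb.symm (Or.inl (Trans3.sq_one hD.1 hb))
    with e | e
  · exact Trans3.invol_ne_one (hD.1.1 b hb) e
  · exact hab e.symm

theorem card_pair {a d : G} (ha : a ∈ D) (hd : d ∈ D) (hnc : ¬ Commute a d) :
    Nat.card ↥(centralizer ({a, d} : Set G)) = 4585351680 ∧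
    ∀ g x : G, g ∈ centralizer ({a, d} : Set G) → x ∈ centralizer ({a, d} : Set G) →
      x ^ 13 = 1 → x ≠ 1 → Commute g x → g ^ 26 = 1 := by
  have hL := lvl_m23 hD hP h
  have hG := pairGen_m23 hD hP h
  obtain ⟨-, u, hu, v, hv, huv, -, c₃, hc₃, hR⟩ := id h
  obtain ⟨e⟩ := pair_quot_equiv hL hG ha hd hnc hu hv huv
  obtain ⟨Q, hQ, hdisc, ⟨i⟩⟩ := proj_congr e hR
  rw [← pair_cn_centralizer hL hG ha hd hnc]
  refine ⟨(Nat.card_congr i.toEquiv).trans (ReflSeven.card_quotient Q hQ hc₃ hdisc),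
    fun g x hg hx h13 hx1 hgx => ?_⟩
  have hgx' : Commute (⟨g, hg⟩ : ↥(closure (CN D a d))) ⟨x, hx⟩ := Subtype.ext hgx.eq
  have h' := refl_pow_twenty_six Q hQ hc₃ hdisc (g := i ⟨g, hg⟩) (x := i ⟨x, hx⟩)
    (by rw [← map_pow, show (⟨x, hx⟩ : ↥(closure (CN D a d))) ^ 13 = 1 from Subtype.ext h13,
      map_one])
    (fun e => hx1 (congrArg Subtype.val (i.injective (e.trans (map_one i).symm))))
    (hgx'.map i)
  rw [← map_pow, ← map_one i] at h'
  exact congrArg Subtype.val (i.injective h')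

variable {X : Subgroup G} (hX : Nat.card X = 13)
include hX

/-- The centraliser of `X` in the joint centraliser of two members is `X`. -/
theorem centralizer_pair {a d : G} (ha : a ∈ D) (hd : d ∈ D) (hnc : ¬ Commute a d)
    (hXK : X ≤ centralizer ({a, d} : Set G)) :
    centralizer ({a, d} : Set G) ⊓ centralizer (X : Set G) = X := by
  haveI := fact13
  haveI := isCyclic_of_prime_card (α := X) hX
  obtain ⟨hK, hpow⟩ := card_pair hD hP h ha hd hnc
  obtain ⟨C, eC⟩ : ∃ C, C = centralizer ({a, d} : Set G) ⊓ centralizer (X : Set G) := ⟨_, rfl⟩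
  have hle : X ≤ C := eC ▸ le_inf hXK
    (le_centralizer_iff_isMulCommutative.2 IsCyclic.isMulCommutative)
  obtain ⟨x, hx, hx1⟩ := (bot_or_exists_ne_one X).resolve_left fun e => by
    rw [e, card_bot] at hX; norm_num at hX
  have hx13 := LocalLift.pow_prime_eq_one hX hx
  have hexp : ∀ y ∈ C, y ^ 13 = 1 := by
    intro y hy
    obtain ⟨hyK, hyX⟩ := mem_inf.1 (eC ▸ hy)
    have hyx : Commute y x := (mem_centralizer_iff.1 hyX x hx).symm
    have h26 := hpow y x hyK (hXK hx) hx13 hx1 hyx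
    have hc : ∀ {z}, z ∈ centralizer ({a, d} : Set G) → Commute z a ∧ Commute z d := fun {z} hz =>
      ⟨(mem_centralizer_iff.1 hz a (by simp)).symm, (mem_centralizer_iff.1 hz d (by simp)).symm⟩
    rcases eq_one_or_self hD hP h ha (hc (hXK hx)).1 hx13 hx1 ((hc hyK).1.pow_left 13)
      (hyx.pow_left 13) (Or.inl (by rw [← pow_add]; exact h26)) with e | e
    · exact e
    · exact absurd (e ▸ (hc (pow_mem hyK 13)).2) hnc
  have hp : IsPGroup 13 ↥C := fun y => ⟨1, Subtype.ext (by simpa using hexp y y.2)⟩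
  obtain ⟨n, hn⟩ := IsPGroup.iff_card.1 hp
  rw [← eC]
  refine (Subgroup.eq_of_le_of_card_ge hle ?_).symm
  have hdvd : 13 ^ n ∣ 4585351680 := by
    rw [← hn, ← hK]; exact card_dvd_of_le (eC ▸ inf_le_left)
  have : n ≤ 1 := by
    by_contra hlt
    have h169 := (pow_dvd_pow 13 (show 2 ≤ n by omega)).trans hdvd
    norm_num at h169
  rw [hn, hX]
  exact (Nat.pow_le_pow_right (by norm_num) this).trans (le_of_eq (pow_one 13))

/-- In the centraliser of `X` and `d` the Sylow 2-subgroups have order 2. -/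
theorem two_part {d : G} (hd : d ∈ D) (hXd : d ∈ centralizer (X : Set G)) :
    2 ∣ Nat.card ↥(centralizer (X : Set G) ⊓ centralizer ({d} : Set G)) ∧
    ¬ 4 ∣ Nat.card ↥(centralizer (X : Set G) ⊓ centralizer ({d} : Set G)) := by
  haveI := fact13
  haveI : Fact (Nat.Prime 2) := ⟨Nat.prime_two⟩
  obtain ⟨x, hx, hx1⟩ := (bot_or_exists_ne_one X).resolve_left fun e => by
    rw [e, card_bot] at hX; norm_num at hX
  have hx13 := LocalLift.pow_prime_eq_one hX hx
  have hdm : d ∈ centralizer (X : Set G) ⊓ centralizer ({d} : Set G) :=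
    mem_inf.2 ⟨hXd, mem_centralizer_singleton_iff.2 rfl⟩
  refine ⟨(hD.1.1 d hd).symm.dvd.trans (orderOf_dvd_natCard _ hdm), fun h4 => ?_⟩
  obtain ⟨P, hP4⟩ := Sylow.exists_subgroup_card_pow_prime 2
    (G := ↥(centralizer (X : Set G) ⊓ centralizer ({d} : Set G))) (n := 2) h4
  have hsub : ∀ y ∈ P.map (Subgroup.subtype _), y = 1 ∨ y = d := by
    rintro _ ⟨y, hy, rfl⟩
    obtain ⟨hyX, hyd⟩ := mem_inf.1 y.2
    have hcd : Commute (y : G) d := mem_centralizer_singleton_iff.1 hyd
    have hcx : Commute (y : G) x := (mem_centralizer_iff.1 hyX x hx).symm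
    have hxd : Commute x d := mem_centralizer_iff.1 hXd x hx
    have h4' : (y : G) ^ 4 = 1 := by
      have := pow_card_eq_one' (G := P) (x := ⟨y, hy⟩)
      rw [hP4] at this
      exact congrArg (fun t : P => ((t : _) : G)) this
    simp only [Subgroup.coe_subtype]
    refine eq_one_or_self hD hP h hd hxd hx13 hx1 hcd hcx ?_
    exact eq_one_or_self hD hP h hd hxd hx13 hx1 (hcd.mul_left hcd) (hcx.mul_left hcx)
      (Or.inl (by rw [← h4']; simp only [pow_succ, pow_zero, one_mul, mul_assoc]))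
  have : (P.map (Subgroup.subtype _) : Set G).ncard ≤ ({1, d} : Set G).ncard :=
    Set.ncard_le_ncard (fun y hy => hsub y hy) (Set.toFinite _)
  rw [← Nat.card_coe_set_eq, SetLike.coe_sort_coe,
    card_map_of_injective (Subgroup.subtype_injective _), hP4] at this
  have h2 : ({1, d} : Set G).ncard ≤ 2 := (Set.ncard_insert_le _ _).trans (by simp)
  omega

end CfsgLib.Trans3.Fi.LocalThirteen
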