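import Mathlib

/-!
An element commuting with an isometry of order 13 of an orthogonal space of dimension at most 7
over the field with three elements has order dividing 26.
-/

set_option autoImplicit false
set_option linter.unusedSectionVars false

namespace CfsgLib.Trans3.Fi.ThirteenLin

open Module

local instance : Fact (Nat.Prime 3) := ⟨Nat.prime_three⟩

theorem factor_identity {R : Type*} [CommRing R] (h3 : (3 : R) = 0) (T : R) :
    (T ^ 3 - T - 1) * (T ^ 3 + T ^ 2 - 1) * (T ^ 3 + T ^ 2 + T - 1) * (T ^ 3 - T ^ 2 - T - 1) *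
      (T - 1) = T ^ 13 - 1 := by
  linear_combination (T ^ 2 + 2 * T ^ 3 - T ^ 4 - 4 * T ^ 5 - 3 * T ^ 6 + 3 * T ^ 7 + 4 * T ^ 8 +
    T ^ 9 - 2 * T ^ 10 - T ^ 11) * h3

variable {V : Type*} [AddCommGroup V] [Module (ZMod 3) V] [Finite V]

/-- The cubic `x ^ 3 + a x ^ 2 + b x - 1`. -/
noncomputable def cubic (x : Module.End (ZMod 3) V) (a b : ZMod 3) : Module.End (ZMod 3) V :=
  x ^ 3 + a • x ^ 2 + b • x - 1

theorem cubic_apply (x : Module.End (ZMod 3) V) (a b : ZMod 3) (v : V) :
    cubic x a b v = x (x (x v)) + a • x (x v) + b • x v - v := by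
  simp [cubic, pow_succ]

theorem two_ne : ∀ v : V, v + v = 0 → v = 0 := fun v h => by
  have h2 : (2 : ZMod 3) • v = 0 := by rw [two_smul]; exact h
  exact (smul_eq_zero.1 h2).resolve_left (by decide)

/-- One of four cubics has a kernel. -/
theorem exists_kernel {x : Module.End (ZMod 3) V} (hx : x ^ 13 = 1) (hx1 : x ≠ 1) :
    ∃ a b : ZMod 3, a + b ≠ 0 ∧ ∃ v, v ≠ 0 ∧ cubic x a b v = 0 := by
  by_contra! hno
  have hinj : ∀ a b : ZMod 3, a + b ≠ 0 → Function.Injective (cubic x a b) := fun a b hab =>
    (injective_iff_map_eq_zero _).2 fun v hv => by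
      by_contra hne
      exact hno a b hab v hne hv
  have h3 : (3 : Polynomial (ZMod 3)) = 0 := by
    rw [← map_ofNat Polynomial.C 3, show (3 : ZMod 3) = 0 from rfl, map_zero]
  have h1 := congrArg (Polynomial.aeval x) (factor_identity h3 (Polynomial.X (R := ZMod 3)))
  simp only [map_mul, map_sub, map_add, map_pow, map_one, Polynomial.aeval_X, hx, sub_self] at h1
  have e1 : x ^ 3 - x - 1 = cubic x 0 (-1) := by simp [cubic, sub_eq_add_neg]
  have e2 : x ^ 3 + x ^ 2 - 1 = cubic x 1 0 := by simp [cubic]
  have e3 : x ^ 3 + x ^ 2 + x - 1 = cubic x 1 1 := by simp [cubic]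
  have e4 : x ^ 3 - x ^ 2 - x - 1 = cubic x (-1) (-1) := by simp [cubic, sub_eq_add_neg]
  rw [e1, e2, e3, e4] at h1
  refine hx1 (LinearMap.ext fun v => ?_)
  have h2 := congrArg (fun f : Module.End (ZMod 3) V => f v) h1
  simp only [Module.End.mul_apply, LinearMap.zero_apply] at h2
  have h5 := hinj _ _ (by decide) (h2.trans (map_zero _).symm)
  have h6 := hinj _ _ (by decide) (h5.trans (map_zero _).symm)
  have h7 := hinj _ _ (by decide) (h6.trans (map_zero _).symm)
  have h8 := hinj _ _ (by decide) (h7.trans (map_zero _).symm)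
  simpa [sub_eq_zero] using h8

section Fix

variable {x : Module.End (ZMod 3) V} (hx : x ^ 13 = 1)
include hx

theorem pow_app {v : V} : (x ^ 13) v = v := by rw [hx]; rfl

theorem fix_of_pow {v : V} {j : ℕ} (hj : ¬ 13 ∣ j) (h : (x ^ j) v = v) : x v = v := by
  have hc : Nat.Coprime 13 j := (Nat.Prime.coprime_iff_not_dvd (by norm_num)).2 hj
  have h1 : Function.IsPeriodicPt x j v := by
    rw [Function.IsPeriodicPt, Function.IsFixedPt, ← Module.End.coe_pow]; exact h
  have h2 : Function.IsPeriodicPt x 13 v := by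
    rw [Function.IsPeriodicPt, Function.IsFixedPt, ← Module.End.coe_pow]; exact pow_app hx
  have := h2.gcd h1
  rw [hc.gcd_eq_one] at this
  exact this

theorem eq_zero_of_neg {v : V} (h : x v = -v) : v = 0 := by
  have hj : ∀ j : ℕ, (x ^ j) v = (-1 : ℤ) ^ j • v := by
    intro j
    induction j with
    | zero => simp
    | succ j ih =>
      rw [pow_succ', Module.End.mul_apply, ih, map_zsmul, h, pow_succ, mul_smul]
      simp
  have := hj 13
  rw [pow_app hx] at this
  refine two_ne v ?_
  norm_num at this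
  nth_rw 1 [this]
  exact neg_add_cancel v

theorem eq_zero_of_pow_neg {v : V} {j : ℕ} (h : (x ^ j) v = -v) : v = 0 := by
  have h13 : (x ^ j) ^ 13 = 1 := by rw [← pow_mul, mul_comm, pow_mul, hx, one_pow]
  exact eq_zero_of_neg (x := x ^ j) h13 h

/-- No vector is killed by a cubic and its reciprocal. -/
theorem cubic_disjoint {a b : ZMod 3} (hab : a + b ≠ 0) {v : V} (h1 : cubic x a b v = 0)
    (h2 : cubic x (-b) (-a) v = 0) : v = 0 := by
  rw [cubic_apply] at h1 h2
  have h : (a + b) • x (x v + v) = 0 := by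
    rw [map_add, smul_add]
    linear_combination (norm := module) h1 - h2
  have h' : x (x v + v) = 0 := (smul_eq_zero.1 h).resolve_left hab
  have h13 : x v + v = 0 := by
    have e := pow_app (x := x) hx (v := x v + v)
    rw [pow_succ, Module.End.mul_apply, h', map_zero] at e
    exact e.symm
  exact eq_zero_of_neg hx (eq_neg_of_add_eq_zero_left h13)

end Fix

/-- An element commuting with `x` has order dividing 26. -/
theorem pow_eq_one (B : LinearMap.BilinForm (ZMod 3) V) (hsymm : ∀ u v, B u v = B v u)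
    (hB : B.Nondegenerate) (hdim : finrank (ZMod 3) V ≤ 7) {x g : Module.End (ZMod 3) V}
    (hx : x ^ 13 = 1) (hx1 : x ≠ 1) (hBx : ∀ u v, B (x u) (x v) = B u v)
    (hBg : ∀ u v, B (g u) (g v) = B u v) (hgx : Commute g x) : g ^ 26 = 1 := by
  classical
  have hsep : ∀ v, (∀ u, B v u = 0) → v = 0 := hB.1
  have ginj : Function.Injective g := (injective_iff_map_eq_zero _).2 fun v hv => hsep v fun u => by
    rw [← hBg, hv, map_zero, LinearMap.zero_apply]
  obtain ⟨a, b, hab, v₀, hv₀, hker⟩ := exists_kernel hx hx1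
  obtain ⟨U, eU⟩ : ∃ U : Submodule (ZMod 3) V, U = LinearMap.ker (cubic x a b) := ⟨_, rfl⟩
  have memU : ∀ {v}, v ∈ U ↔ cubic x a b v = 0 := fun {v} => by rw [eU, LinearMap.mem_ker]
  have hcomm : ∀ (h : Module.End (ZMod 3) V), Commute h x → ∀ c d : ZMod 3, ∀ v,
      h (cubic x c d v) = cubic x c d (h v) := by
    intro h hh c d v
    have e : Commute h (cubic x c d) := by
      refine Commute.sub_right ?_ (Commute.one_right h)
      exact ((hh.pow_right 3).add_right ((hh.pow_right 2).smul_right c)).add_right (hh.smul_right d)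
    exact congrArg (fun f : Module.End (ZMod 3) V => f v) e.eq
  have hUinv : ∀ (h : Module.End (ZMod 3) V), Commute h x → ∀ v ∈ U, h v ∈ U := by
    intro h hh v hv
    rw [memU] at hv ⊢
    rw [← hcomm h hh, hv, map_zero]
  have hv₀U : v₀ ∈ U := memU.2 hker
  -- `x` fixes no nonzero vector of `U`
  have hfix : ∀ v ∈ U, x v = v → v = 0 := by
    intro v hv hxv
    have h := memU.1 hv
    rw [cubic_apply, hxv, hxv, hxv] at h
    have : (a + b) • v = 0 := by linear_combination (norm := module) h
    exact (smul_eq_zero.1 this).resolve_left hab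
  -- the orbit of `v₀` under `± x ^ j` has 26 members
  let φ : Bool × Fin 13 → V := fun t => (bif t.1 then (1 : ℤ) else -1) • (x ^ (t.2 : ℕ)) v₀
  have hpow : ∀ j, (x ^ j) v₀ ∈ U := fun j => hUinv _ ((Commute.refl x).pow_left j) _ hv₀U
  have hxz : ∀ j, (x ^ j) v₀ ≠ 0 := by
    intro j h
    have e : (x ^ (13 * j)) v₀ = v₀ := by rw [pow_mul, hx, one_pow]; rfl
    refine hv₀ ?_
    rw [← e, show 13 * j = 12 * j + j by ring, pow_add, Module.End.mul_apply, h, map_zero]
  have hdist : ∀ i j : Fin 13, (x ^ (i : ℕ)) v₀ = (x ^ (j : ℕ)) v₀ → i = j := by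
    intro i j h
    by_contra hne
    have h' : (x ^ ((i : ℕ) + (13 - j))) v₀ = v₀ := by
      rw [add_comm, pow_add, Module.End.mul_apply, h, ← Module.End.mul_apply, ← pow_add,
        Nat.sub_add_cancel j.2.le]
      exact pow_app hx
    refine hv₀ (hfix v₀ hv₀U (fix_of_pow hx ?_ h'))
    intro hd
    exact hne (Fin.ext (by omega))
  have hneg : ∀ i j : ℕ, (x ^ i) v₀ ≠ -(x ^ j) v₀ := by
    intro i j h
    refine hxz j (eq_zero_of_pow_neg hx (j := i + 12 * j) ?_)
    rw [← Module.End.mul_apply, ← pow_add, show i + 12 * j + j = 13 * j + i by ring, pow_add,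
      Module.End.mul_apply, h, map_neg, pow_mul, hx, one_pow]
    rfl
  have φinj : Function.Injective φ := by
    rintro ⟨s, i⟩ ⟨t, j⟩ h
    simp only [φ] at h
    cases s <;> cases t <;> simp only [cond_true, cond_false, one_smul, neg_one_smul] at h
    · rw [hdist i j (neg_inj.1 h)]
    · exact absurd h.symm (hneg j i)
    · exact absurd h (hneg i j)
    · rw [hdist i j h]
  have φU : ∀ t, φ t ∈ U := fun t => zsmul_mem (hpow _) _
  have φ0 : ∀ t, φ t ≠ 0 := by
    rintro ⟨s, i⟩
    cases s <;> simp [φ, hxz]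
  have hVfin : Module.Finite (ZMod 3) V := Module.Finite.of_finite
  have hU27 : 27 ≤ Nat.card U := by
    let ψ : Option (Bool × Fin 13) → U := fun t =>
      match t with
      | none => 0
      | some t => ⟨φ t, φU t⟩
    have : Function.Injective ψ := by
      rintro (_ | s) (_ | t) h
      · rfl
      · exact absurd (congrArg Subtype.val h).symm (φ0 t)
      · exact absurd (congrArg Subtype.val h) (φ0 s)
      · exact congrArg some (φinj (congrArg Subtype.val h))
    simpa using Nat.card_le_card_of_injective ψ this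
  have hcard : Nat.card U = 3 ^ finrank (ZMod 3) U := by
    rw [Module.natCard_eq_pow_finrank (K := ZMod 3), Nat.card_zmod]
  -- `B` against the reciprocal cubic
  have hrec : ∀ v ∈ U, ∀ z, B v (cubic x (-b) (-a) z) = 0 := by
    intro v hv z
    have h : B (cubic x a b v) (x (x (x z))) = 0 := by
      rw [memU.1 hv, map_zero, LinearMap.zero_apply]
    rw [cubic_apply] at h ⊢
    simp only [map_add, map_sub, map_smul, LinearMap.add_apply, LinearMap.sub_apply,
      LinearMap.smul_apply, hBx, smul_eq_mul] at h ⊢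
    linear_combination (-1 : ZMod 3) * h
  have hxx : Commute x x := Commute.refl x
  -- `U` is totally singular
  have hUU : ∀ v ∈ U, ∀ w ∈ U, B v w = 0 := by
    intro v hv w hw
    let f : U → U := fun u => ⟨cubic x (-b) (-a) u, by
      rw [memU, ← hcomm _ ?_ _ _, ← map_zero (cubic x (-b) (-a))]
      · rw [memU.1 u.2]
      · exact (Commute.sub_left ((((hxx.pow_left 3).add_left ((hxx.pow_left 2).smul_left _))).add_left
          (hxx.smul_left _)) (Commute.one_left x))⟩
    have finj : Function.Injective f := by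
      intro p q h
      have h' := congrArg Subtype.val h
      simp only [f] at h'
      have : cubic x (-b) (-a) ((p : V) - q) = 0 := by rw [map_sub, h', sub_self]
      exact Subtype.ext (sub_eq_zero.1 (cubic_disjoint hx hab
        (memU.1 (sub_mem p.2 q.2)) this))
    obtain ⟨u, hu⟩ := (Finite.injective_iff_surjective.1 finj) ⟨w, hw⟩
    have hu' : cubic x (-b) (-a) (u : V) = w := congrArg Subtype.val hu
    rw [← hu']
    exact hrec v hv _
  obtain ⟨P, eP⟩ : ∃ P : Submodule (ZMod 3) V, P = B.orthogonal U := ⟨_, rfl⟩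
  have memP : ∀ {z}, z ∈ P ↔ ∀ u ∈ U, B u z = 0 := fun {z} => by
    rw [eP, LinearMap.BilinForm.mem_orthogonal_iff]
  have hUP : U ≤ P := fun w hw => memP.2 fun v hv => hUU v hv w hw
  have hrP : finrank (ZMod 3) P + finrank (ZMod 3) U ≤ 7 := by
    have := LinearMap.BilinForm.finrank_orthogonal hB U
    rw [← eP] at this
    have h' := U.finrank_le
    omega
  have hdimU : finrank (ZMod 3) U = 3 := by
    have h1 := Submodule.finrank_mono hUP
    have h2 : 3 ≤ finrank (ZMod 3) U := by
      by_contra hlt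
      have : 3 ^ finrank (ZMod 3) U ≤ 3 ^ 2 := Nat.pow_le_pow_right (by norm_num) (by omega)
      omega
    omega
  -- `g` acts on `U` as one of the `± x ^ j`
  have hall : ∀ v ∈ U, v ≠ 0 → ∃ t, φ t = v := by
    intro v hv hv0
    by_contra hno
    push Not at hno
    let ψ : Option (Option (Bool × Fin 13)) → U := fun t =>
      match t with
      | none => 0
      | some none => ⟨v, hv⟩
      | some (some t) => ⟨φ t, φU t⟩
    have hinj : Function.Injective ψ := by
      rintro (_ | _ | s) (_ | _ | t) h <;> have h' := congrArg Subtype.val h <;>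
        simp only [ψ, Submodule.coe_zero] at h'
      · rfl
      · exact absurd h'.symm hv0
      · exact absurd h'.symm (φ0 t)
      · exact absurd h' hv0
      · rfl
      · exact absurd h'.symm (hno t)
      · exact absurd h' (φ0 s)
      · exact absurd h' (hno s)
      · rw [φinj h']
    have := Nat.card_le_card_of_injective ψ hinj
    rw [hcard, hdimU] at this
    simp at this
  obtain ⟨⟨s, j⟩, hsj⟩ := hall (g v₀) (hUinv g hgx v₀ hv₀U) fun e =>
    hv₀ (ginj (e.trans (map_zero g).symm))
  obtain ⟨σ, hσ, hσ2⟩ : ∃ σ : ℤ, φ (s, j) = σ • (x ^ (j : ℕ)) v₀ ∧ σ * σ = 1 := by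
    cases s
    · exact ⟨-1, by simp [φ], by norm_num⟩
    · exact ⟨1, by simp [φ], by norm_num⟩
  rw [hσ] at hsj
  have hgU : ∀ u ∈ U, g u = σ • (x ^ (j : ℕ)) u := by
    intro u hu
    by_cases hu0 : u = 0
    · simp [hu0]
    obtain ⟨⟨t, i⟩, rfl⟩ := hall u hu hu0
    have e : g ((x ^ (i : ℕ)) v₀) = σ • (x ^ (j : ℕ)) ((x ^ (i : ℕ)) v₀) := by
      rw [← Module.End.mul_apply g, (hgx.pow_right _).eq, Module.End.mul_apply, ← hsj, map_zsmul,
        ← Module.End.mul_apply, ← Module.End.mul_apply, ← pow_add, ← pow_add, add_comm]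
    simp only [φ, map_zsmul, e]
    rw [smul_comm]
  have hgUn : ∀ n : ℕ, ∀ u ∈ U, (g ^ n) u = σ ^ n • (x ^ ((j : ℕ) * n)) u := by
    intro n
    induction n with
    | zero => intro u _; simp
    | succ n ih =>
      intro u hu
      rw [pow_succ', Module.End.mul_apply, ih u hu, map_zsmul,
        hgU _ (hUinv _ ((Commute.refl x).pow_left _) u hu), ← Module.End.mul_apply, ← pow_add,
        smul_smul, ← pow_succ, show (j : ℕ) + j * n = j * (n + 1) by ring]
  obtain ⟨h, eh⟩ : ∃ h, h = g ^ 26 := ⟨_, rfl⟩
  have hhx : Commute h x := eh ▸ hgx.pow_left 26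
  have hhU : ∀ u ∈ U, h u = u := by
    intro u hu
    rw [eh, hgUn 26 u hu, show σ ^ 26 = (σ * σ) ^ 13 by ring, hσ2, one_pow, one_smul,
      show (j : ℕ) * 26 = 13 * (2 * j) by ring, pow_mul, hx, one_pow]
    rfl
  have hBh : ∀ u v, B (h u) (h v) = B u v := by
    have : ∀ n : ℕ, ∀ u v, B ((g ^ n) u) ((g ^ n) v) = B u v := by
      intro n
      induction n with
      | zero => intro u v; rfl
      | succ n ih => intro u v; rw [pow_succ', Module.End.mul_apply, Module.End.mul_apply, hBg, ih]
    rw [eh]; exact this 26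
  -- the fixed vectors lie in `P` and outside `U`
  obtain ⟨e, ee⟩ : ∃ e : Module.End (ZMod 3) V, e = ∑ i ∈ Finset.range 13, x ^ i := ⟨_, rfl⟩
  have hex : x * e = e := by
    rw [ee]
    have h1 := mul_geom_sum x 13
    rw [sub_mul, one_mul, hx, sub_self, sub_eq_zero] at h1
    exact h1
  have hefix : ∀ z, x (e z) = e z := fun z => by rw [← Module.End.mul_apply, hex]
  have hfixe : ∀ z, x z = z → e z = z := by
    intro z hz
    have hp : ∀ i : ℕ, (x ^ i) z = z := by
      intro i; induction i with
      | zero => rfl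
      | succ i ih => rw [pow_succ', Module.End.mul_apply, ih, hz]
    rw [ee, LinearMap.sum_apply, Finset.sum_congr rfl fun i _ => hp i, Finset.sum_const,
      Finset.card_range, ← Nat.cast_smul_eq_nsmul (ZMod 3)]
    exact (show ((13 : ℕ) : ZMod 3) = 1 by decide).symm ▸ one_smul _ z
  have hFP : ∀ w, x w = w → w ∈ P := by
    intro w hw
    refine memP.2 fun u hu => ?_
    let f : U → U := fun u => ⟨x u - u, sub_mem (hUinv x hxx u u.2) u.2⟩
    have finj : Function.Injective f := by
      intro p q h
      have h' := congrArg Subtype.val h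
      simp only [f] at h'
      refine Subtype.ext (sub_eq_zero.1 (hfix _ (sub_mem p.2 q.2) ?_))
      rw [map_sub]
      linear_combination (norm := module) h'
    obtain ⟨u', hu'⟩ := (Finite.injective_iff_surjective.1 finj) ⟨u, hu⟩
    have e1 : x (u' : V) - u' = u := congrArg Subtype.val hu'
    rw [← e1, map_sub, LinearMap.sub_apply, sub_eq_zero]
    nth_rw 1 [← hw]
    exact hBx _ _
  have hF1 : ∀ w, x w = w → h w = w := by
    intro w hw
    by_cases hw0 : w = 0
    · simp [hw0]
    have hgw : x (g w) = g w := by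
      rw [← Module.End.mul_apply, ← hgx.eq, Module.End.mul_apply, hw]
    obtain ⟨F, eF⟩ : ∃ F : Submodule (ZMod 3) V, F = LinearMap.ker (x - 1) := ⟨_, rfl⟩
    have memF : ∀ {z}, z ∈ F ↔ x z = z := fun {z} => by
      rw [eF, LinearMap.mem_ker, LinearMap.sub_apply, sub_eq_zero]; rfl
    have hF : finrank (ZMod 3) F ≤ 1 := by
      have h1 : F ⊓ U = ⊥ := (Submodule.eq_bot_iff _).2 fun z hz => hfix z hz.2 (memF.1 hz.1)
      have h2 : F ⊔ U ≤ P := sup_le (fun z hz => hFP z (memF.1 hz)) hUP
      have h3 := Submodule.finrank_sup_add_finrank_inf_eq F U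
      rw [h1, finrank_bot] at h3
      have h4 := Submodule.finrank_mono h2
      omega
    obtain ⟨c, hc⟩ : ∃ c : ZMod 3, c • w = g w := by
      have h1 : F = Submodule.span (ZMod 3) {w} := by
        refine (Submodule.eq_of_le_of_finrank_le ((Submodule.span_singleton_le_iff_mem _ _).2
          (memF.2 hw)) ?_).symm
        rw [finrank_span_singleton hw0]; exact hF
      exact Submodule.mem_span_singleton.1 (h1 ▸ memF.2 hgw)
    have hc0 : c ≠ 0 := fun e0 => by
      rw [e0, zero_smul] at hc
      exact hw0 (ginj (hc.symm.trans (map_zero g).symm))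
    have hn : ∀ n : ℕ, (g ^ n) w = c ^ n • w := by
      intro n; induction n with
      | zero => simp
      | succ n ih => rw [pow_succ', Module.End.mul_apply, ih, map_smul, ← hc, smul_smul, ← pow_succ]
    rw [eh, hn, show 26 = 2 * 13 by norm_num, pow_mul,
      show c ^ 2 = 1 from ZMod.pow_card_sub_one_eq_one hc0, one_pow, one_smul]
  -- on the complement of the fixed vectors
  have hPW : ∀ z ∈ P, e z = 0 → z ∈ U := by
    intro z hz he
    by_contra hzU
    have hxP : x z ∈ P := by
      refine memP.2 fun u hu => ?_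
      have hu' : (x ^ 12) u ∈ U := hUinv _ (hxx.pow_left 12) u hu
      have e1 : x ((x ^ 12) u) = u := by
        rw [← Module.End.mul_apply, ← pow_succ']; exact pow_app hx
      rw [← e1, hBx]
      exact memP.1 hz _ hu'
    have hUz : P = U ⊔ Submodule.span (ZMod 3) {z} := by
      refine (Submodule.eq_of_le_of_finrank_le
        (sup_le hUP ((Submodule.span_singleton_le_iff_mem _ _).2 hz)) ?_).symm
      have h1 : U < U ⊔ Submodule.span (ZMod 3) {z} := lt_of_le_not_ge le_sup_left fun hle =>
        hzU (hle (Submodule.mem_sup_right (Submodule.mem_span_singleton_self z)))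
      have := Submodule.finrank_lt_finrank_of_lt h1
      omega
    obtain ⟨u, hu, y, hy, huy⟩ := Submodule.mem_sup.1 (hUz ▸ hxP)
    obtain ⟨c, rfl⟩ := Submodule.mem_span_singleton.1 hy
    obtain rfl | rfl | rfl :=
      (by decide : ∀ c : ZMod 3, c = 0 ∨ c = 1 ∨ c = -1) c
    · rw [zero_smul, add_zero] at huy
      apply hzU
      have e2 : (x ^ 12) (x z) = z := by rw [← Module.End.mul_apply, ← pow_succ]; exact pow_app hx
      rw [← e2, ← huy]
      exact hUinv _ (hxx.pow_left 12) u hu
    · let f : U → U := fun u => ⟨x u - u, sub_mem (hUinv x hxx u u.2) u.2⟩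
      have finj : Function.Injective f := by
        intro p q h
        have h' := congrArg Subtype.val h
        simp only [f] at h'
        refine Subtype.ext (sub_eq_zero.1 (hfix _ (sub_mem p.2 q.2) ?_))
        rw [map_sub]
        linear_combination (norm := module) h'
      obtain ⟨u', hu'⟩ := (Finite.injective_iff_surjective.1 finj) ⟨u, hu⟩
      have e1 : x (u' : V) - u' = u := congrArg Subtype.val hu'
      have hfz : x (z - u') = z - u' := by
        rw [map_sub, ← huy, ← e1, one_smul]; abel
      have h0 := hfixe _ hfz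
      have heu : e (u' : V) = 0 := by
        refine hfix _ ?_ (hefix _)
        rw [ee, LinearMap.sum_apply]
        exact Submodule.sum_mem _ fun i _ => hUinv _ (hxx.pow_left i) _ u'.2
      rw [map_sub, he, heu, sub_zero] at h0
      exact hzU (sub_eq_zero.1 h0.symm ▸ u'.2)
    · -- eigenvalue `-1` modulo `U`
      have hj : ∀ n : ℕ, (x ^ n) z - (-1 : ZMod 3) ^ n • z ∈ U := by
        intro n; induction n with
        | zero => simp
        | succ n ih =>
          have e2 : (x ^ (n + 1)) z - (-1 : ZMod 3) ^ (n + 1) • z =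
              x ((x ^ n) z - (-1 : ZMod 3) ^ n • z) + (-1 : ZMod 3) ^ n • u := by
            rw [pow_succ', Module.End.mul_apply, map_sub, map_smul, ← huy, pow_succ]
            module
          rw [e2]
          exact add_mem (hUinv x hxx _ ih) (Submodule.smul_mem _ _ hu)
      have h13 := hj 13
      rw [pow_app hx, show (-1 : ZMod 3) ^ 13 = -1 by decide, neg_one_smul, sub_neg_eq_add] at h13
      refine hzU ?_
      have e2 : z = (2 : ZMod 3) • (z + z) := by
        rw [smul_add, ← add_smul, show (2 : ZMod 3) + 2 = 1 by decide, one_smul]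
      rw [e2]; exact Submodule.smul_mem _ _ h13
  refine eh ▸ LinearMap.ext fun z => ?_
  show h z = z
  -- split `z`
  obtain ⟨w, ew⟩ : ∃ w, w = z - e z := ⟨_, rfl⟩
  have hew : e w = 0 := by rw [ew, map_sub, hfixe _ (hefix z), sub_self]
  have hhe : Commute h e := by
    rw [ee]; exact Commute.sum_right _ _ _ fun i _ => hhx.pow_right i
  have hhw : h w = w := by
    have hy : h w - w ∈ U := hPW _ (memP.2 fun u hu => by
      rw [map_sub, sub_eq_zero]
      nth_rw 1 [← hhU u hu]
      exact hBh u w) (by
      rw [map_sub, hew, sub_zero, ← Module.End.mul_apply, ← hhe.eq, Module.End.mul_apply, hew,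
        map_zero])
    have hcw : cubic x (-b) (-a) w ∈ U := hPW _ (memP.2 fun u hu => hrec u hu w) (by
      have hex' : Commute e x := by rw [ee]; exact Commute.sum_left _ _ _ fun i _ => hxx.pow_left i
      rw [hcomm e hex', hew, map_zero])
    refine sub_eq_zero.1 (cubic_disjoint hx hab (memU.1 hy) ?_)
    rw [map_sub, ← hcomm h hhx, hhU _ hcw, sub_self]
  have hz' : z = w + e z := by rw [ew, sub_add_cancel]
  rw [hz', map_add, hhw, hF1 _ (hefix z)]

end CfsgLib.Trans3.Fi.ThirteenLin
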