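import Cfsg.Agent.Lib.Trans3.Fi.TwoPairE
import Cfsg.Agent.Lib.Trans3.Fi.U6Clique

/-!
A group of type M(22): the 22 members of a maximal commuting set form a Steiner system of hexads
(six members with product `1`).
-/

set_option autoImplicit false
set_option linter.unusedSectionVars false

namespace CfsgLib.Trans3.Fi

/-- A commuting set of 22 members. -/
structure Clique22 {G : Type*} [Group G] (D : Set G) (X : Finset G) : Prop where
  sub : ∀ x ∈ X, x ∈ D
  comm : ∀ x ∈ X, ∀ y ∈ X, Commute x y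
  card : X.card = 22

/-- The product of the elements of a finite set, in some order. -/
noncomputable def fprod {G : Type*} [Group G] (s : Finset G) : G := s.toList.prod

/-- Six members of `X` with product `1`. -/
structure CBlock {G : Type*} [Group G] (X B : Finset G) : Prop where
  sub : B ⊆ X
  card : B.card = 6
  prod : fprod B = 1

section General

variable {G : Type*} [Group G] [DecidableEq G]

theorem fprod_list {s : Finset G} (hs : ∀ x ∈ s, ∀ y ∈ s, Commute x y) {l : List G}
    (hn : l.Nodup) (hl : ∀ x, x ∈ l ↔ x ∈ s) : fprod s = l.prod :=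
  perm_prod ((List.perm_ext_iff_of_nodup s.nodup_toList hn).2 fun x => by
      rw [Finset.mem_toList, hl])
    fun a ha b hb => hs a (Finset.mem_toList.1 ha) b (Finset.mem_toList.1 hb)

theorem fprod_union {s t : Finset G} (hd : Disjoint s t)
    (hc : ∀ x ∈ s ∪ t, ∀ y ∈ s ∪ t, Commute x y) : fprod (s ∪ t) = fprod s * fprod t := by
  rw [fprod_list hc (l := s.toList ++ t.toList) ?_ (fun x => by simp), List.prod_append]
  · rfl
  rw [List.nodup_append']
  refine ⟨s.nodup_toList, t.nodup_toList, fun x hx hx' => ?_⟩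
  exact Finset.disjoint_left.1 hd (Finset.mem_toList.1 hx) (Finset.mem_toList.1 hx')

theorem fprod_image {s : Finset G} (hs : ∀ x ∈ s, ∀ y ∈ s, Commute x y) (g : G) :
    fprod (s.image fun x => g * x * g⁻¹) = g * fprod s * g⁻¹ := by
  rw [fprod_list (l := s.toList.map (MulAut.conj g))
    (fun a ha b hb => by
      obtain ⟨a', ha', rfl⟩ := Finset.mem_image.1 ha
      obtain ⟨b', hb', rfl⟩ := Finset.mem_image.1 hb
      exact (commute_conj_iff g a' b').2 (hs a' ha' b' hb'))
    (s.nodup_toList.map (MulAut.conj g).injective) (fun x => by simp)]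
  exact (map_list_prod (MulAut.conj g) _).symm

end General

variable {G : Type*} [Group G] [Finite G] {D : Set G}
variable (hD : Cfsg.IsThreeTranspositionGroup D) (hP : Cfsg.IsPrimitiveUnderConj D)
variable (h : Cfsg.IsOfTypeM22 G D)
include hD hP h

/-- A commuting set has at most 22 members. -/
theorem m22_comm_le {E : Set G} (hE : E ⊆ D) (hc : ∀ a ∈ E, ∀ b ∈ E, Commute a b) :
    E.ncard ≤ 22 := by
  rw [← m22_width hD hP h]
  exact le_csSup ⟨Nat.card G, fun n ⟨E', _, _, _, e⟩ => e ▸ Set.ncard_le_card E'⟩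
    ⟨E, hE, Set.toFinite E, hc, rfl⟩

theorem exists_clique22 : ∃ X : Finset G, Clique22 D X := by
  classical
  obtain ⟨E, hE, hfin, hc, hn⟩ : (22 : ℕ) ∈ {n : ℕ | ∃ E : Set G, E ⊆ D ∧ E.Finite ∧
      (∀ a ∈ E, ∀ b ∈ E, Commute a b) ∧ E.ncard = n} := by
    rw [← m22_width hD hP h]
    refine Nat.sSup_mem ⟨0, ∅, Set.empty_subset D, Set.finite_empty, ?_, Set.ncard_empty G⟩
      ⟨Nat.card G, fun n ⟨E', _, _, _, e⟩ => e ▸ Set.ncard_le_card E'⟩
    exact fun a ha => ha.elim
  refine ⟨hfin.toFinset, fun x hx => hE (hfin.mem_toFinset.1 hx),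
    fun x hx y hy => hc x (hfin.mem_toFinset.1 hx) y (hfin.mem_toFinset.1 hy), ?_⟩
  rw [← Set.ncard_eq_toFinset_card E hfin, hn]

variable {X : Finset G} (hX : Clique22 D X)
include hX

/-- A maximal commuting set contains what commutes with it. -/
theorem clique_mem {z : G} (hz : z ∈ D) (hc : ∀ x ∈ X, Commute z x) : z ∈ X := by
  by_contra hn
  have h1 := m22_comm_le hD hP h (E := insert z (X : Set G))
    (Set.insert_subset hz fun x hx => hX.sub x hx) (by
      rintro a (rfl | ha) b (rfl | hb)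
      exacts [Commute.refl _, hc b hb, (hc a ha).symm, hX.comm a ha b hb])
  rw [Set.ncard_insert_of_notMem hn, Set.ncard_coe_finset, hX.card] at h1
  omega

omit [Finite G] hP h in
theorem clique_fac {s : Finset G} (hs : s ⊆ X) {k : ℕ} (hk : s.card = k) :
    Fac D k (fprod s) s.toList :=
  ⟨s.nodup_toList, by rw [Finset.length_toList, hk], fun x hx => hX.sub x (hs (Finset.mem_toList.1 hx)),
    fun a ha b hb => hX.comm a (hs (Finset.mem_toList.1 ha)) b (hs (Finset.mem_toList.1 hb)), rfl⟩

omit [Finite G] hP h in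
theorem clique_split [DecidableEq G] {s B : Finset G} (hs : s ⊆ B) (hB : B ⊆ X) :
    fprod B = fprod s * fprod (B \ s) := by
  have e : s ∪ B \ s = B := Finset.union_sdiff_of_subset hs
  rw [← fprod_union Finset.disjoint_sdiff, e]
  rw [e]
  exact fun x hx y hy => hX.comm x (hB hx) y (hB hy)

/-- Three members lie in exactly one block. -/
theorem block_data [DecidableEq G] {s : Finset G} (hs : s ⊆ X) (h3 : s.card = 3) :
    ∃ B, CBlock X B ∧ s ⊆ B ∧ ∀ B', CBlock X B' → s ⊆ B' → B' = B := by
  obtain ⟨a, b, c, hab, hac, hbc, rfl⟩ := Finset.card_eq_three.1 h3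
  have ha : a ∈ X := hs (by simp)
  have hb : b ∈ X := hs (by simp)
  have hc : c ∈ X := hs (by simp)
  have nb : b ∈ nbrs D a := ⟨hX.sub b hb, Ne.symm hab, hX.comm a ha b hb⟩
  have nc : c ∈ nbrs D a := ⟨hX.sub c hc, Ne.symm hac, hX.comm a ha c hc⟩
  obtain ⟨t₁, t₂, t₃, hf, hne, hln, huniq⟩ :=
    m22_hexad hD hP h (hX.sub a ha) nb nc hbc (hX.comm b hb c hc)
  have hsp : fprod ({a, b, c} : Finset G) = a * b * c := by
    rw [fprod_list (fun x hx y hy => hX.comm x (hs hx) y (hs hy)) (l := [a, b, c])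
      (by simp [hab, hac, hbc]) (fun x => by simp)]
    simp [mul_assoc]
  have htX : ∀ t ∈ [t₁, t₂, t₃], t ∈ X := fun t ht => clique_mem hD hP h hX (hf.2.2.1 t ht)
    fun z hz => (hln t ht z (hX.sub z hz) (hX.comm z hz a ha) (hX.comm z hz b hb)
      (hX.comm z hz c hc)).symm
  obtain ⟨t, et⟩ : ∃ t : Finset G, t = [t₁, t₂, t₃].toFinset := ⟨_, rfl⟩
  have hdis : Disjoint ({a, b, c} : Finset G) t := by
    rw [Finset.disjoint_left]
    intro x hx hxt
    rw [et, List.mem_toFinset] at hxt
    obtain ⟨n1, n2, n3⟩ := hne x hxt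
    simp only [Finset.mem_insert, Finset.mem_singleton] at hx
    tauto
  have htsub : t ⊆ X := fun x hx => htX x (by rwa [et, List.mem_toFinset] at hx)
  have htp : fprod t = a * b * c := by
    rw [fprod_list (fun x hx y hy => hX.comm x (htsub hx) y (htsub hy)) hf.1
      (fun x => by rw [et, List.mem_toFinset]), hf.2.2.2.2]
  have hfs : Fac D 3 (a * b * c) ({a, b, c} : Finset G).toList := hsp ▸ clique_fac hD hX hs h3
  refine ⟨{a, b, c} ∪ t, ⟨Finset.union_subset hs htsub, ?_, ?_⟩, Finset.subset_union_left, ?_⟩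
  · rw [Finset.card_union_of_disjoint hdis, h3, et, List.toFinset_card_of_nodup hf.1, hf.2.1]
  · rw [fprod_union hdis (fun x hx y hy => hX.comm x (Finset.union_subset hs htsub hx) y
      (Finset.union_subset hs htsub hy)), hsp, htp, fac_sq hD hfs]
  · intro B' hB' hsB'
    have e := clique_split hD hX hsB' hB'.sub
    rw [hB'.prod, hsp] at e
    have e' : fprod (B' \ {a, b, c}) = a * b * c := by
      rw [eq_inv_of_mul_eq_one_right e.symm, inv_eq_of_mul_eq_one_right (fac_sq hD hfs)]
    have hf' : Fac D 3 (a * b * c) (B' \ {a, b, c}).toList := e' ▸ clique_fac hD hX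
      (Finset.sdiff_subset.trans hB'.sub)
      (by rw [Finset.card_sdiff_of_subset hsB', hB'.card, h3])
    have hiff := huniq _ hf' fun x hx hxm =>
      (Finset.mem_sdiff.1 (Finset.mem_toList.1 hxm)).2 (by simpa using hx)
    rw [← Finset.union_sdiff_of_subset hsB']
    refine congrArg _ ?_
    ext x
    rw [et, List.mem_toFinset, ← hiff x, Finset.mem_toList]

/-- Blocks with three members in common are equal. -/
theorem block_unique [DecidableEq G] {s B B' : Finset G} (h3 : s.card = 3) (hB : CBlock X B)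
    (hB' : CBlock X B') (hs : s ⊆ B) (hs' : s ⊆ B') : B = B' := by
  obtain ⟨B₀, -, -, hu⟩ := block_data hD hP h hX (hs.trans hB.sub) h3
  rw [hu B hB hs, hu B' hB' hs']

/-- What fixes three members of a block and one more fixes the block. -/
theorem block_fix_four [DecidableEq G] {B s : Finset G} (hB : CBlock X B) (hs : s ⊆ B)
    (h3 : s.card = 3) {g t : G} (ht : t ∈ B \ s) (gs : ∀ x ∈ s, Commute g x) (gt : Commute g t) :
    ∀ x ∈ B, Commute g x := by
  intro x hx
  by_cases hxs : x ∈ s
  · exact gs x hxs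
  obtain ⟨a, b, c, hab, hac, hbc, rfl⟩ := Finset.card_eq_three.1 h3
  have ha : a ∈ X := hB.sub (hs (by simp))
  have hb : b ∈ X := hB.sub (hs (by simp))
  have hc : c ∈ X := hB.sub (hs (by simp))
  have hsX : ({a, b, c} : Finset G) ⊆ X := hs.trans hB.sub
  have hfs := clique_fac hD hX hsX h3
  have e := clique_split hD hX hs hB.sub
  rw [hB.prod] at e
  have e' : fprod (B \ {a, b, c}) = a * b * c := by
    rw [eq_inv_of_mul_eq_one_right e.symm, inv_eq_of_mul_eq_one_right (fac_sq hD hfs),
      fprod_list (fun x hx y hy => hX.comm x (hsX hx) y (hsX hy)) (l := [a, b, c])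
        (by simp [hab, hac, hbc]) (fun x => by simp)]
    simp [mul_assoc]
  exact m22_hexad_fix hD hP h (hX.sub a ha) ⟨hX.sub b hb, Ne.symm hab, hX.comm a ha b hb⟩
    ⟨hX.sub c hc, Ne.symm hac, hX.comm a ha c hc⟩ hbc (hX.comm b hb c hc)
    (l := (B \ {a, b, c}).toList)
    (e' ▸ clique_fac hD hX (Finset.sdiff_subset.trans hB.sub)
      (by rw [Finset.card_sdiff_of_subset hs, hB.card, h3]))
    (fun y hy hym => (Finset.mem_sdiff.1 (Finset.mem_toList.1 hym)).2 (by simpa using hy))
    (gs a (by simp)) (gs b (by simp)) (gs c (by simp)) (Finset.mem_toList.2 ht) gt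
    (Finset.mem_toList.2 (Finset.mem_sdiff.2 ⟨hx, hxs⟩))

/-- An involution of the set fixing three members fixes their block. -/
theorem block_fix_three [DecidableEq G] {g : G} (hg : g * g = 1)
    (hgX : ∀ x ∈ X, g * x * g⁻¹ ∈ X) {B s : Finset G} (hB : CBlock X B) (hs : s ⊆ B)
    (h3 : s.card = 3) (gs : ∀ x ∈ s, Commute g x) : ∀ x ∈ B, Commute g x := by
  have himg : CBlock X (B.image fun x => g * x * g⁻¹) := by
    refine ⟨fun y hy => ?_, ?_, ?_⟩
    · obtain ⟨x, hx, rfl⟩ := Finset.mem_image.1 hy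
      exact hgX x (hB.sub hx)
    · rw [Finset.card_image_of_injective _ fun a b e => mul_left_cancel (mul_right_cancel e), hB.card]
    · rw [fprod_image (fun x hx y hy => hX.comm x (hB.sub hx) y (hB.sub hy)), hB.prod, mul_one,
        mul_inv_cancel]
  have hBB := block_unique hD hP h hX h3 himg hB
    (fun x hx => Finset.mem_image.2 ⟨x, hs hx, conj_eq_of_commute (gs x hx)⟩) hs
  have hmv : ∀ x ∈ B \ s, g * x * g⁻¹ ∈ B \ s := by
    intro x hx
    rw [Finset.mem_sdiff] at hx ⊢
    refine ⟨hBB ▸ Finset.mem_image.2 ⟨x, hx.1, rfl⟩, fun hm => hx.2 ?_⟩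
    have e := conj_eq_of_commute (gs _ hm)
    rwa [← mul_left_cancel (mul_right_cancel e)]
  have h33 : (B \ s).card = 3 := by rw [Finset.card_sdiff_of_subset hs, hB.card, h3]
  obtain ⟨t, u, v, htu, htv, huv, e⟩ := Finset.card_eq_three.1 h33
  have hinv : ∀ x, g * (g * x * g⁻¹) * g⁻¹ = x := fun x => by
    calc g * (g * x * g⁻¹) * g⁻¹ = (g * g) * x * (g * g)⁻¹ := by group
      _ = x := by rw [hg]; group
  have hinj : ∀ x y, g * x * g⁻¹ = y → g * y * g⁻¹ = x := fun x y e' => e' ▸ hinv x
  have case : ∀ x ∈ B \ s, g * x * g⁻¹ = x → ∀ x ∈ B, Commute g x := fun x hx hfix =>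
    block_fix_four hD hP h hX hB hs h3 hx gs (commute_of_conj_eq hfix)
  have mt := hmv t (by simp [e])
  have mu := hmv u (by simp [e])
  have mv := hmv v (by simp [e])
  simp only [e, Finset.mem_insert, Finset.mem_singleton] at mt mu mv
  rcases mt with ht | ht | ht
  · exact case t (by simp [e]) ht
  · rcases mv with hv | hv | hv
    · exact absurd ((hinj _ _ hv).symm.trans ht) (Ne.symm huv)
    · exact absurd ((hinj _ _ hv).symm.trans (hinj _ _ ht)) (Ne.symm htv)
    · exact case v (by simp [e]) hv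
  · rcases mu with hu | hu | hu
    · exact absurd ((hinj _ _ hu).symm.trans ht) huv
    · exact case u (by simp [e]) hu
    · exact absurd ((hinj _ _ hu).symm.trans (hinj _ _ ht)) (Ne.symm htu)

/-- An involution of the set fixing a block and one more member fixes all 22. -/
theorem clique_fix [DecidableEq G] {g : G} (hg : g * g = 1) (hgX : ∀ x ∈ X, g * x * g⁻¹ ∈ X)
    {B : Finset G} (hB : CBlock X B) (gB : ∀ x ∈ B, Commute g x) {q : G} (hq : q ∈ X) (hqB : q ∉ B)
    (gq : Commute g q) : ∀ x ∈ X, Commute g x := by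
  have hblk : ∀ p ∈ B.powersetCard 2, ∃ C, CBlock X C ∧ insert q p ⊆ C := by
    intro p hp
    rw [Finset.mem_powersetCard] at hp
    obtain ⟨C, hC, hsC, -⟩ := block_data hD hP h hX (s := insert q p)
      (Finset.insert_subset hq (hp.1.trans hB.sub))
      (by rw [Finset.card_insert_of_notMem fun hm => hqB (hp.1 hm), hp.2])
    exact ⟨C, hC, hsC⟩
  choose C hC hsC using hblk
  have hs3 : ∀ p ∈ B.powersetCard 2, (insert q p).card = 3 := fun p hp => by
    rw [Finset.mem_powersetCard] at hp
    rw [Finset.card_insert_of_notMem fun hm => hqB (hp.1 hm), hp.2]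
  obtain ⟨R, eR⟩ : ∃ R : Finset G → Finset G,
      R = fun p => if hp : p ∈ B.powersetCard 2 then C p hp \ insert q p else ∅ := ⟨_, rfl⟩
  have hR : ∀ p (hp : p ∈ B.powersetCard 2), R p = C p hp \ insert q p := fun p hp => by
    rw [eR]; exact dif_pos hp
  obtain ⟨S, eS⟩ : ∃ S : Finset ((_ : Finset G) × G), S = (B.powersetCard 2).sigma R := ⟨_, rfl⟩
  have hS45 : S.card = 45 := by
    rw [eS, Finset.card_sigma, Finset.sum_const_nat fun p hp => by
      rw [hR p hp, Finset.card_sdiff_of_subset (hsC p hp), (hC p hp).card, hs3 p hp],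
      Finset.card_powersetCard, hB.card]
    rfl
  have hout : ∀ p ∈ B.powersetCard 2, ∀ r ∈ R p, r ∈ X ∧ r ∉ insert q B ∧ Commute g r := by
    intro p hp r hr
    have hp' := Finset.mem_powersetCard.1 hp
    rw [hR p hp, Finset.mem_sdiff] at hr
    refine ⟨(hC p hp).sub hr.1, fun hm => ?_, block_fix_three hD hP h hX hg hgX (hC p hp) (hsC p hp)
      (hs3 p hp) (fun x hx => ?_) r hr.1⟩
    · rw [Finset.mem_insert] at hm
      rcases hm with rfl | hrB
      · exact hr.2 (Finset.mem_insert_self _ _)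
      · have hrp : r ∉ p := fun hm => hr.2 (Finset.mem_insert_of_mem hm)
        refine hqB (block_unique hD hP h hX (s := insert r p)
          (by rw [Finset.card_insert_of_notMem hrp, hp'.2]) (hC p hp) hB
          (Finset.insert_subset hr.1 ((Finset.subset_insert q p).trans (hsC p hp)))
          (Finset.insert_subset hrB hp'.1) ▸ hsC p hp (Finset.mem_insert_self _ _))
    · rw [Finset.mem_insert] at hx
      rcases hx with rfl | hx
      exacts [gq, gB x (hp'.1 hx)]
  have hfib : ∀ r ∈ S.image Sigma.snd, (S.filter fun z => z.2 = r).card ≤ 3 := by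
    intro r _
    obtain ⟨P, eP⟩ : ∃ P : Finset (Finset G), P = (B.powersetCard 2).filter fun p => r ∈ R p :=
      ⟨_, rfl⟩
    have h1 : (S.filter fun z => z.2 = r).card ≤ P.card := by
      refine Finset.card_le_card_of_injOn (fun z => z.1) (fun z hz => ?_) ?_
      · simp only [Finset.coe_filter, Set.mem_setOf_eq, eS, Finset.mem_sigma] at hz
        rw [Finset.mem_coe, eP, Finset.mem_filter]
        exact ⟨hz.1.1, hz.2 ▸ hz.1.2⟩
      · rintro ⟨a, b⟩ ha ⟨c, d⟩ hc e
        simp only [Finset.coe_filter, Set.mem_setOf_eq] at ha hc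
        simp only at e ha hc
        rw [e, ha.2, hc.2]
    have hdis : (P : Set (Finset G)).PairwiseDisjoint id := by
      intro p hp p' hp' hne
      rw [Finset.mem_coe, eP, Finset.mem_filter] at hp hp'
      rw [Function.onFun, id, id, Finset.disjoint_left]
      intro i hi hi'
      have hpm := Finset.mem_powersetCard.1 hp.1
      have hpm' := Finset.mem_powersetCard.1 hp'.1
      have ho := hout p hp.1 r hp.2
      have hr1 : r ∈ C p hp.1 := (Finset.mem_sdiff.1 (hR p hp.1 ▸ hp.2)).1
      have hr2 : r ∈ C p' hp'.1 := (Finset.mem_sdiff.1 (hR p' hp'.1 ▸ hp'.2)).1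
      simp only [Finset.mem_insert, not_or] at ho
      have hCC := block_unique hD hP h hX (s := {q, r, i})
        (Finset.card_eq_three.2 ⟨q, r, i, Ne.symm ho.2.1.1, fun e => hqB (e ▸ hpm.1 hi),
          fun e => ho.2.1.2 (e ▸ hpm.1 hi), rfl⟩) (hC p hp.1) (hC p' hp'.1)
        (by
          refine Finset.insert_subset (hsC _ hp.1 (Finset.mem_insert_self _ _)) ?_
          exact Finset.insert_subset hr1 (Finset.singleton_subset_iff.2
            (hsC _ hp.1 (Finset.mem_insert_of_mem hi))))
        (by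
          refine Finset.insert_subset (hsC _ hp'.1 (Finset.mem_insert_self _ _)) ?_
          exact Finset.insert_subset hr2 (Finset.singleton_subset_iff.2
            (hsC _ hp'.1 (Finset.mem_insert_of_mem hi'))))
      obtain ⟨j, hj, hjp⟩ : ∃ j ∈ p', j ∉ p := Finset.not_subset.1 fun hsub =>
        hne (Finset.eq_of_subset_of_card_le hsub (by rw [hpm.2, hpm'.2])).symm
      refine hqB (block_unique hD hP h hX (s := insert j p)
        (by rw [Finset.card_insert_of_notMem hjp, hpm.2]) (hC p hp.1) hB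
        (Finset.insert_subset (hCC ▸ hsC _ hp'.1 (Finset.mem_insert_of_mem hj))
          ((Finset.subset_insert q p).trans (hsC p hp.1)))
        (Finset.insert_subset (hpm'.1 hj) hpm.1) ▸ hsC p hp.1 (Finset.mem_insert_self _ _))
    have h2 := Finset.card_biUnion hdis
    have h3 : (P.biUnion id).card ≤ 6 := hB.card ▸ Finset.card_le_card (Finset.biUnion_subset.2
      fun p hp => by
        rw [eP, Finset.mem_filter] at hp
        exact (Finset.mem_powersetCard.1 hp.1).1)
    rw [h2, Finset.sum_const_nat fun p hp => (Finset.mem_powersetCard.1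
      (Finset.mem_filter.1 (eP ▸ hp)).1).2] at h3
    omega
  have hbig := Finset.card_le_mul_card_image S 3 hfib
  have himg : S.image Sigma.snd ⊆ X \ insert q B := by
    intro r hr
    obtain ⟨⟨p, r'⟩, hz, rfl⟩ := Finset.mem_image.1 hr
    rw [eS, Finset.mem_sigma] at hz
    exact Finset.mem_sdiff.2 ⟨(hout p hz.1 r' hz.2).1, (hout p hz.1 r' hz.2).2.1⟩
  have hall := Finset.eq_of_subset_of_card_le himg (by
    rw [Finset.card_sdiff_of_subset (Finset.insert_subset hq hB.sub),
      Finset.card_insert_of_notMem hqB, hX.card, hB.card]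
    omega)
  intro x hx
  by_cases hm : x ∈ insert q B
  · rw [Finset.mem_insert] at hm
    rcases hm with rfl | hm
    exacts [gq, gB x hm]
  · obtain ⟨⟨p, r'⟩, hz, rfl⟩ := Finset.mem_image.1 (hall ▸ Finset.mem_sdiff.2 ⟨hx, hm⟩)
    rw [eS, Finset.mem_sigma] at hz
    exact (hout p hz.1 r' hz.2).2.2

end CfsgLib.Trans3.Fi
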