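import Cfsg.Agent.Lib.Trans3.Fi.M22Clique

/-!
A group of type M(22): the 22 members of a maximal commuting set generate their own centraliser,
of order `2¹⁰`.
-/

set_option autoImplicit false
set_option linter.unusedSectionVars false

namespace CfsgLib.Trans3.Fi

variable {G : Type*} [Group G] [Finite G] {D : Set G}
variable (hD : Cfsg.IsThreeTranspositionGroup D) (hP : Cfsg.IsPrimitiveUnderConj D)
variable (h : Cfsg.IsOfTypeM22 G D)
variable {X : Finset G} (hX : Clique22 D X)
include hD hP h hX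

omit hP h in
theorem clique_elem {v : G} (hv : v ∈ Subgroup.closure (X : Set G)) :
    v * v = 1 ∧ ∀ w ∈ Subgroup.closure (X : Set G), Commute v w := by
  have hcom : ∀ v ∈ Subgroup.closure (X : Set G), ∀ x ∈ X, Commute v x := by
    intro v hv x hx
    induction hv using Subgroup.closure_induction with
    | mem u hu => exact hX.comm u hu x hx
    | one => exact Commute.one_left x
    | mul a b _ _ ha hb => exact ha.mul_left hb
    | inv a _ ha => exact ha.inv_left
  have hcom2 : ∀ v ∈ Subgroup.closure (X : Set G), ∀ w ∈ Subgroup.closure (X : Set G),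
      Commute v w := by
    intro v hv w hw
    induction hw using Subgroup.closure_induction with
    | mem u hu => exact hcom v hv u hu
    | one => exact Commute.one_right v
    | mul a b _ _ ha hb => exact ha.mul_right hb
    | inv a _ ha => exact ha.inv_right
  refine ⟨?_, hcom2 v hv⟩
  induction hv using Subgroup.closure_induction with
  | mem u hu => exact Trans3.sq_one hD.1 (hX.sub u hu)
  | one => exact mul_one 1
  | mul a b ha hb e1 e2 => rw [(hcom2 b hb a ha).mul_mul_mul_comm, e1, e2, one_mul]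
  | inv a _ e => rw [← mul_inv_rev, e, inv_one]

omit [Finite G] hD hP h hX in
theorem fprod_mem {s : Finset G} (hs : s ⊆ X) : fprod s ∈ Subgroup.closure (X : Set G) :=
  Subgroup.list_prod_mem _ fun x hx => Subgroup.subset_closure (hs (Finset.mem_toList.1 hx))

/-- The 22 members generate at least `2¹⁰` elements. -/
theorem clique_card_ge : 1024 ≤ Nat.card ↥(Subgroup.closure (X : Set G)) := by
  classical
  letI := Fintype.ofFinite G
  obtain ⟨I, eI⟩ : ∃ I : ℕ → Finset G, I = fun k => (X.powersetCard k).image fprod := ⟨_, rfl⟩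
  have hfac : ∀ k, ∀ y ∈ I k, ∃ s, Fac D k y s := by
    intro k y hy
    rw [eI] at hy
    obtain ⟨s, hs, rfl⟩ := Finset.mem_image.1 hy
    obtain ⟨hsX, hk⟩ := Finset.mem_powersetCard.1 hs
    exact ⟨_, clique_fac hD hX hsX hk⟩
  have hdis : ∀ i j, i < j → j ≤ 3 → Disjoint (I i) (I j) := by
    intro i j hij hj
    rw [Finset.disjoint_left]
    intro y hy hy'
    obtain ⟨s, hs⟩ := hfac i y hy
    obtain ⟨t, ht⟩ := hfac j y hy'
    exact fac_ne hD (by omega) hij hs ht fun k hk hk1 _ => m22_noRel_le hD h hk1 (by omega)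
  have hsame : ∀ k, k ≤ 2 → ∀ s ∈ X.powersetCard k, ∀ t ∈ X.powersetCard k,
      fprod s = fprod t → s = t := by
    intro k hk s hs t ht e
    rw [Finset.mem_powersetCard] at hs ht
    rcases Nat.eq_zero_or_pos k with rfl | hk0
    · rw [Finset.card_eq_zero] at hs ht
      rw [hs.2, ht.2]
    have := determined hD (m := k) (by omega) (fun _ => (m22_noRel hD h).2.1)
      (fun h' => absurd h' (by omega)) (clique_fac hD hX hs.1 hs.2)
      (e ▸ clique_fac hD hX ht.1 ht.2)
    ext x
    simpa using this x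
  have hsmall : ∀ k, k ≤ 2 → (I k).card = Nat.choose 22 k := by
    intro k hk
    rw [eI]
    show ((X.powersetCard k).image fprod).card = _
    rw [Finset.card_image_of_injOn fun s hs t ht e => hsame k hk s hs t ht e,
      Finset.card_powersetCard, hX.card]
  have h3 : Nat.choose 22 3 ≤ 2 * (I 3).card := by
    rw [← hX.card, ← Finset.card_powersetCard 3 X, eI]
    refine Finset.card_le_mul_card_image _ 2 fun y hy => ?_
    obtain ⟨s, hs, rfl⟩ := Finset.mem_image.1 hy
    obtain ⟨hsX, hs3⟩ := Finset.mem_powersetCard.1 hs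
    obtain ⟨B, hB, hsB, huB⟩ := block_data hD hP h hX hsX hs3
    refine (Finset.card_le_card (t := {s, B \ s}) fun t ht => ?_).trans Finset.card_le_two
    rw [Finset.mem_filter, Finset.mem_powersetCard] at ht
    rw [Finset.mem_insert, Finset.mem_singleton]
    by_cases hst : Disjoint s t
    · refine Or.inr ?_
      have hu : CBlock X (s ∪ t) := by
        refine ⟨Finset.union_subset hsX ht.1.1, by rw [Finset.card_union_of_disjoint hst, hs3, ht.1.2],
          ?_⟩
        rw [fprod_union hst (fun x hx y hy => hX.comm x (Finset.union_subset hsX ht.1.1 hx) y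
          (Finset.union_subset hsX ht.1.1 hy)), ht.2, fac_sq hD (clique_fac hD hX hsX hs3)]
      rw [← huB _ hu Finset.subset_union_left]
      exact (Finset.union_sdiff_cancel_left hst).symm
    · refine Or.inl ?_
      obtain ⟨x, hxs, hxt⟩ := Finset.not_disjoint_iff.1 hst
      have h1 := clique_split hD hX (Finset.singleton_subset_iff.2 hxs) hsX
      have h2 := clique_split hD hX (Finset.singleton_subset_iff.2 hxt) ht.1.1
      rw [ht.2, h1] at h2
      have e := hsame 2 le_rfl (s \ {x}) (Finset.mem_powersetCard.2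
          ⟨Finset.sdiff_subset.trans hsX, by
            rw [Finset.card_sdiff_of_subset (Finset.singleton_subset_iff.2 hxs), hs3]; simp⟩)
        (t \ {x}) (Finset.mem_powersetCard.2
          ⟨Finset.sdiff_subset.trans ht.1.1, by
            rw [Finset.card_sdiff_of_subset (Finset.singleton_subset_iff.2 hxt), ht.1.2]; simp⟩)
        (mul_left_cancel h2)
      rw [← Finset.union_sdiff_of_subset (Finset.singleton_subset_iff.2 hxs), e,
        Finset.union_sdiff_of_subset (Finset.singleton_subset_iff.2 hxt)]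
  have hU : ((I 0 ∪ I 1) ∪ (I 2 ∪ I 3)).card = (I 0).card + (I 1).card + ((I 2).card + (I 3).card) := by
    rw [Finset.card_union_of_disjoint, Finset.card_union_of_disjoint (hdis 0 1 (by omega) (by omega)),
      Finset.card_union_of_disjoint (hdis 2 3 (by omega) (by omega))]
    simp only [Finset.disjoint_union_left, Finset.disjoint_union_right]
    exact ⟨⟨hdis 0 2 (by omega) (by omega), hdis 1 2 (by omega) (by omega)⟩,
      ⟨hdis 0 3 (by omega) (by omega), hdis 1 3 (by omega) (by omega)⟩⟩
  have hsub : ∀ k, ∀ y ∈ I k, y ∈ Subgroup.closure (X : Set G) := by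
    intro k y hy
    rw [eI] at hy
    obtain ⟨s, hs, rfl⟩ := Finset.mem_image.1 hy
    exact fprod_mem (Finset.mem_powersetCard.1 hs).1
  have hle := Set.ncard_le_ncard (s := ((((I 0 ∪ I 1) ∪ (I 2 ∪ I 3)) : Finset G) : Set G))
    (t := (Subgroup.closure (X : Set G) : Set G)) (fun y hy => by
      simp only [Finset.coe_union, Set.mem_union, Finset.mem_coe] at hy
      rcases hy with (hy | hy) | (hy | hy) <;> exact hsub _ y hy) (Set.toFinite _)
  rw [Set.ncard_coe_finset, hU, hsmall 0 (by omega), hsmall 1 (by omega), hsmall 2 le_rfl,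
    ← Nat.card_coe_set_eq] at hle
  change _ ≤ Nat.card ↥(Subgroup.closure (X : Set G)) at hle
  rw [show Nat.choose 22 0 = 1 from rfl, show Nat.choose 22 1 = 22 from rfl,
    show Nat.choose 22 2 = 231 from rfl] at hle
  rw [show Nat.choose 22 3 = 1540 from rfl] at h3
  omega

/-- The centraliser of the 22 members is what they generate, of order `2¹⁰`. -/
theorem clique_closure : Nat.card ↥(Subgroup.closure (X : Set G)) = 2 ^ 10 ∧
    Subgroup.centralizer (X : Set G) ≤ Subgroup.closure (X : Set G) := by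
  classical
  have hN := nice_m22 hD h
  have hPre := pre_of_group hD
  have hle : Subgroup.closure (X : Set G) ≤ Subgroup.centralizer (X : Set G) := fun v hv =>
    Subgroup.mem_centralizer_iff.2 fun x hx =>
      ((clique_elem hD hX hv).2 x (Subgroup.subset_closure hx)).symm.eq
  obtain ⟨d, hd⟩ := Finset.card_pos.1 (by rw [hX.card]; norm_num : 0 < X.card)
  have hdD := hX.sub d hd
  obtain ⟨C, eC⟩ : ∃ C, C = Subgroup.centralizer (X : Set G) := ⟨_, rfl⟩
  have hCH : C ≤ Hd D d := fun x hx => by
    rw [m22_gate hD hP h hdD, Subgroup.mem_centralizer_singleton_iff]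
    exact (Subgroup.mem_centralizer_iff.1 (eC ▸ hx) d hd).symm
  obtain ⟨E, eE⟩ : ∃ E : Set (Qd D d),
      E = {q | ∃ y, ∃ hy : y ∈ nbrs D d, y ∈ (X : Set G) \ {d} ∧ q = bar hy} := ⟨_, rfl⟩
  have hsub : (X : Set G) \ {d} ⊆ nbrs D d := fun y hy =>
    ⟨hX.sub y hy.1, hy.2, hX.comm d hd y hy.1⟩
  have h21 : E.ncard = 21 := by
    rw [eE, ← card_bar_image hD h hdD hsub]
    have := Set.ncard_diff_singleton_add_one (s := (X : Set G)) hd (Set.toFinite _)
    rw [Set.ncard_coe_finset, hX.card] at this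
    omega
  have hcen := u6_clique_centralizer (m22_isU6 hD h hdD) (hN.group_Db hdD)
    (by rw [eE]; rintro q ⟨y, hy, -, rfl⟩; exact bar_mem hy)
    (by rw [eE]; rintro q ⟨y, hy, hy', rfl⟩ q' ⟨z, hz, hz', rfl⟩
        exact (commute_bar hPre hy hz).2 (hX.comm y hy'.1 z hz'.1)) h21
  let ι : ↥C →* Qd D d := (QuotientGroup.mk' _).comp (Subgroup.inclusion hCH)
  have hr : Nat.card ι.range ≤ 512 := by
    refine (Nat.le_of_dvd Nat.card_pos (Subgroup.card_dvd_of_le ?_)).trans hcen
    rintro _ ⟨x, rfl⟩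
    rw [Subgroup.mem_centralizer_iff, eE]
    rintro q ⟨y, hy, hyX, rfl⟩
    show QuotientGroup.mk _ * QuotientGroup.mk _ = QuotientGroup.mk _ * QuotientGroup.mk _
    rw [← QuotientGroup.mk_mul, ← QuotientGroup.mk_mul]
    exact congrArg QuotientGroup.mk (Subtype.ext
      (Subgroup.mem_centralizer_iff.1 (eC ▸ x.2) y hyX.1))
  have hk : Nat.card ι.ker ≤ 2 := by
    rw [← hD.1.1 d hdD, ← Nat.card_zpowers]
    refine Nat.card_le_card_of_injective
      (fun x => (⟨((x : ↥C) : G), ?_⟩ : ↥(Subgroup.zpowers d))) ?_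
    · have key : ∀ z : ↥(Hd D d), z ∈ Subgroup.center ↥(Hd D d) → (z : G) ∈ Subgroup.zpowers d := by
        intro z hz
        rwa [m22_center_Hd hD hP h hdD, Subgroup.mem_subgroupOf] at hz
      exact key _ ((QuotientGroup.eq_one_iff (Subgroup.inclusion hCH (x : ↥C))).1 x.2)
    · intro a b e
      exact Subtype.ext (Subtype.ext (congrArg (fun z : ↥(Subgroup.zpowers d) => (z : G)) e))
  have h1 := Subgroup.card_eq_card_quotient_mul_card_subgroup ι.ker
  rw [Nat.card_congr (QuotientGroup.quotientKerEquivRange ι).toEquiv] at h1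
  have hC : Nat.card ↥C ≤ 1024 := h1 ▸ (Nat.mul_le_mul hr hk)
  have hge := clique_card_ge hD hP h hX
  have heq : Subgroup.closure (X : Set G) = C :=
    Subgroup.eq_of_le_of_card_ge (eC ▸ hle) (hC.trans hge)
  refine ⟨?_, by rw [← eC, heq]⟩
  rw [heq] at hge ⊢
  omega

omit [Finite G] hP h in
/-- An element moving the members of an invariant set of sixteen centralises at most `2⁶` elements. -/
theorem clique_move [Finite G] [DecidableEq G] {x : G} (hx : x * x = 1)
    (hxX : ∀ r ∈ X, x * r * x⁻¹ ∈ X) {K : Finset G} (hK : K ⊆ X) (hK16 : K.card = 16)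
    (hmove : ∀ r ∈ K, x * r * x⁻¹ ≠ r)
    (hcard : Nat.card ↥(Subgroup.closure (X : Set G)) = 2 ^ 10)
    (hdet : ∀ s ∈ X, ∀ t ∈ X, ∀ s' ∈ X, ∀ t' ∈ X, s ≠ t → s' ≠ t' → s * t = s' * t' →
      s' = s ∨ s' = t) :
    Nat.card ↥(Subgroup.closure (X : Set G) ⊓ Subgroup.centralizer ({x} : Set G)) ≤ 64 := by
  classical
  obtain ⟨W, eW⟩ : ∃ W, W = Subgroup.closure (X : Set G) := ⟨_, rfl⟩
  rw [← eW] at hcard ⊢
  have hel : ∀ v ∈ W, v * v = 1 ∧ ∀ w ∈ W, Commute v w := fun v hv => by
    rw [eW] at hv ⊢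
    exact clique_elem hD hX hv
  have hWx : ∀ v ∈ W, x * v * x⁻¹ ∈ W := by
    intro v hv
    rw [eW] at hv ⊢
    induction hv using Subgroup.closure_induction with
    | mem u hu => exact Subgroup.subset_closure (hxX u hu)
    | one => rw [mul_one, mul_inv_cancel]; exact one_mem _
    | mul a b _ _ ha hb =>
      rw [show x * (a * b) * x⁻¹ = (x * a * x⁻¹) * (x * b * x⁻¹) by group]
      exact mul_mem ha hb
    | inv a _ ha =>
      rw [show x * a⁻¹ * x⁻¹ = (x * a * x⁻¹)⁻¹ by group]
      exact inv_mem ha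
  let φ : ↥W →* ↥W :=
    { toFun := fun v => ⟨(v : G) * (x * v * x⁻¹), mul_mem v.2 (hWx v v.2)⟩
      map_one' := Subtype.ext (by simp)
      map_mul' := fun a b => Subtype.ext (by
        show (a : G) * b * (x * ((a : G) * b) * x⁻¹) =
          (a : G) * (x * a * x⁻¹) * ((b : G) * (x * b * x⁻¹))
        rw [← ((hel _ (hWx a a.2)).2 b b.2).symm.mul_mul_mul_comm]
        group) }
  have hker : φ.ker = (W ⊓ Subgroup.centralizer ({x} : Set G)).subgroupOf W := by
    ext v
    rw [MonoidHom.mem_ker, Subgroup.mem_subgroupOf, Subgroup.mem_inf,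
      Subgroup.mem_centralizer_singleton_iff]
    refine ⟨fun e => ⟨v.2, ?_⟩, fun e => Subtype.ext ?_⟩
    · have e' : (v : G) * (x * v * x⁻¹) = 1 := congrArg Subtype.val e
      have h1 := eq_inv_of_mul_eq_one_right e'
      rw [inv_eq_of_mul_eq_one_right (hel v v.2).1] at h1
      exact (mul_inv_eq_iff_eq_mul.1 h1).symm
    · show (v : G) * (x * v * x⁻¹) = 1
      rw [← e.2, mul_inv_cancel_right, (hel v v.2).1]
  have hKW : ∀ r ∈ K, r ∈ W := fun r hr => eW ▸ Subgroup.subset_closure (hK hr)
  obtain ⟨S, eS⟩ : ∃ S : Finset G, S = K.image fun r => r * (x * r * x⁻¹) := ⟨_, rfl⟩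
  have hS : 16 ≤ 2 * S.card := by
    rw [← hK16, eS]
    refine Finset.card_le_mul_card_image _ 2 fun y hy => ?_
    obtain ⟨r, hr, rfl⟩ := Finset.mem_image.1 hy
    refine (Finset.card_le_card (t := {r, x * r * x⁻¹}) fun s hs => ?_).trans Finset.card_le_two
    rw [Finset.mem_filter] at hs
    have := hdet r (hK hr) _ (hxX r (hK hr)) s (hK hs.1) _ (hxX s (hK hs.1))
      (Ne.symm (hmove r hr)) (Ne.symm (hmove s hs.1)) hs.2.symm
    simpa using this
  have h1 : (1 : G) ∉ S := by
    rw [eS, Finset.mem_image]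
    rintro ⟨r, hr, e⟩
    refine hmove r hr ?_
    rw [eq_inv_of_mul_eq_one_right e, inv_eq hD.1 (hX.sub r (hK hr))]
  have h9 : 9 ≤ Nat.card φ.range := by
    have : (insert 1 S).card ≤ Nat.card φ.range := by
      rw [← Set.ncard_coe_finset]
      refine (Set.ncard_le_ncard (t := ((φ.range.map W.subtype : Subgroup G) : Set G)) ?_
        (Set.toFinite _)).trans_eq ?_
      · intro y hy
        simp only [Finset.coe_insert, Set.mem_insert_iff, Finset.mem_coe, eS, Finset.mem_image] at hy
        rcases hy with rfl | ⟨r, hr, rfl⟩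
        · exact one_mem _
        · exact ⟨φ ⟨r, hKW r hr⟩, ⟨_, rfl⟩, rfl⟩
      · rw [← Nat.card_coe_set_eq]
        exact (Nat.card_congr (φ.range.equivMapOfInjective W.subtype W.subtype_injective).toEquiv).symm
    rw [Finset.card_insert_of_notMem h1] at this
    omega
  have h2 := Subgroup.card_eq_card_quotient_mul_card_subgroup φ.ker
  rw [Nat.card_congr (QuotientGroup.quotientKerEquivRange φ).toEquiv, hcard, hker,
    Nat.card_congr (Subgroup.subgroupOfEquivOfLe (inf_le_left : W ⊓ _ ≤ W)).toEquiv] at h2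
  obtain ⟨k, hk, hk'⟩ := (Nat.dvd_prime_pow Nat.prime_two).1 ⟨_, h2⟩
  rw [hk'] at h2 h9
  have : 4 ≤ k := by
    by_contra hlt
    have := Nat.pow_le_pow_right (by norm_num : 0 < 2) (show k ≤ 3 by omega)
    omega
  have := Nat.mul_le_mul_right (Nat.card ↥(W ⊓ Subgroup.centralizer ({x} : Set G)))
    (Nat.pow_le_pow_right (by norm_num : 0 < 2) this)
  omega

end CfsgLib.Trans3.Fi
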