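import Cfsg.Agent.Lib.Trans3.Fi.M22CliqueSpan
import Mathlib.GroupTheory.GroupAction.Quotient

/-!
Subgroups of exponent two acting by conjugation, and hexads through two members as a partition.
-/

set_option autoImplicit false
set_option linter.unusedSectionVars false

namespace CfsgLib.Trans3.Fi

theorem perm_four_invol : ∀ σ : Equiv.Perm (Fin 4), σ * σ = 1 →
    (∀ k, σ k = k) ∨ (∀ k, σ k ≠ k) ∨ ∃ i j, i ≠ j ∧ σ i = i ∧ σ j = j := by
  decide +kernel

section Exponent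

variable {G : Type*} [Group G] {A : Subgroup G} (hA : ∀ a ∈ A, a * a = 1)
include hA

theorem sqOne_comm {a b : G} (ha : a ∈ A) (hb : b ∈ A) : Commute a b := by
  have h := hA _ (mul_mem ha hb)
  show a * b = b * a
  rw [eq_inv_of_mul_eq_one_left h, mul_inv_rev, inv_eq_of_mul_eq_one_right (hA a ha),
    inv_eq_of_mul_eq_one_right (hA b hb)]

theorem sqOne_pgroup : IsPGroup 2 ↥A := fun a => ⟨1, Subtype.ext (by
  rw [pow_one, pow_two]; exact hA a a.2)⟩

/-- An element commuting with `A` and of square `1` doubles it, keeping exponent two. -/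
theorem sqOne_join {v : G} (hv : v * v = 1) (hc : ∀ a ∈ A, Commute a v) :
    (∀ w ∈ A ⊔ Subgroup.zpowers v, w ∈ A ∨ w * v ∈ A) ∧
      ∀ w ∈ A ⊔ Subgroup.zpowers v, w * w = 1 := by
  have vinv : v⁻¹ = v := inv_eq_of_mul_eq_one_right hv
  have hmem : ∀ w ∈ A ⊔ Subgroup.zpowers v, w ∈ A ∨ w * v ∈ A := by
    intro w hw
    rw [Subgroup.zpowers_eq_closure, ← Subgroup.closure_eq A, ← Subgroup.closure_union] at hw
    induction hw using Subgroup.closure_induction with
    | mem u hu =>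
      rcases hu with hu | hu
      · exact Or.inl hu
      · rw [Set.mem_singleton_iff] at hu
        exact Or.inr (by rw [hu, hv]; exact one_mem _)
    | one => exact Or.inl (one_mem _)
    | mul a b _ _ ha hb =>
      rcases ha with ha | ha <;> rcases hb with hb | hb
      · exact Or.inl (mul_mem ha hb)
      · exact Or.inr (by rw [mul_assoc]; exact mul_mem ha hb)
      · refine Or.inr ?_
        rw [mul_assoc, (hc b hb).eq, ← mul_assoc]
        exact mul_mem ha hb
      · refine Or.inl ?_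
        have h1 := mul_mem ha hb
        rwa [mul_assoc a v, ← (hc _ hb).eq, mul_assoc b v, hv, mul_one] at h1
    | inv a _ ha =>
      rcases ha with ha | ha
      · exact Or.inl (inv_mem ha)
      · refine Or.inr ?_
        have h1 := inv_mem ha
        rw [mul_inv_rev, vinv] at h1
        have e : v * a⁻¹ * v = a⁻¹ := by rw [(hc _ h1).eq, ← mul_assoc, hv, one_mul]
        have e' : a⁻¹ * v = v * a⁻¹ := by
          calc a⁻¹ * v = v * a⁻¹ * v * v := by rw [e]
            _ = v * a⁻¹ := by rw [mul_assoc, hv, mul_one]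
        rwa [e']
  refine ⟨hmem, fun w hw => ?_⟩
  rcases hmem w hw with h | h
  · exact hA w h
  · obtain ⟨u, eu⟩ : ∃ u, u = w * v := ⟨_, rfl⟩
    rw [← eu] at h
    have ew : w = u * v := by rw [eu, mul_assoc, hv, mul_one]
    rw [ew, (hc u h).symm.mul_mul_mul_comm, hA u h, hv, one_mul]

variable [Finite G]

omit hA in
/-- A new element doubles a subgroup. -/
theorem card_double {v : G} (hv : v ∉ A) : 2 * Nat.card A ≤ Nat.card ↥(A ⊔ Subgroup.zpowers v) := by
  obtain ⟨k, hk⟩ := Subgroup.card_dvd_of_le (le_sup_left : A ≤ A ⊔ Subgroup.zpowers v)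
  have h2 : 2 ≤ k := by
    by_contra hlt
    have hA0 := Nat.card_pos (α := ↥A)
    have hS0 := Nat.card_pos (α := ↥(A ⊔ Subgroup.zpowers v))
    interval_cases k
    · omega
    · rw [mul_one] at hk
      exact hv ((Subgroup.eq_of_le_of_card_ge le_sup_left hk.le).ge
        (Subgroup.mem_sup_right (Subgroup.mem_zpowers v)))
  rw [hk, mul_comm]
  exact Nat.mul_le_mul_left _ h2

/-- `A` fixes a point of an invariant set of odd size. -/
theorem sqOne_fixed {α : Type*} {S : Finset α} (act : G → α → α)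
    (h1 : ∀ s ∈ S, act 1 s = s) (hm : ∀ a ∈ A, ∀ b ∈ A, ∀ s ∈ S, act (a * b) s = act a (act b s))
    (hS : ∀ a ∈ A, ∀ s ∈ S, act a s ∈ S) (hodd : ¬ 2 ∣ S.card) :
    ∃ s ∈ S, ∀ a ∈ A, act a s = s := by
  haveI : Fact (Nat.Prime 2) := ⟨Nat.prime_two⟩
  letI : MulAction ↥A {x // x ∈ S} :=
    { smul := fun a s => ⟨act a s, hS a a.2 s s.2⟩
      one_smul := fun s => Subtype.ext (h1 s s.2)
      mul_smul := fun a b s => Subtype.ext (hm a a.2 b b.2 s s.2) }
  have h := (sqOne_pgroup hA).card_modEq_card_fixedPoints {x // x ∈ S}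
  rw [Nat.card_eq_fintype_card, Fintype.card_coe] at h
  have h2 : Nat.card (MulAction.fixedPoints ↥A {x // x ∈ S}) ≠ 0 := fun e => hodd (by
    rw [e] at h; exact Nat.modEq_zero_iff_dvd.1 h)
  obtain ⟨⟨⟨s, hs⟩, hfix⟩⟩ := (Nat.card_ne_zero.1 h2).1
  exact ⟨s, hs, fun a ha => congrArg Subtype.val (hfix ⟨a, ha⟩)⟩

/-- An invariant set of twice odd size has an orbit of at most two points. -/
theorem sqOne_orbit {S : Set G} (hS : ∀ a ∈ A, ∀ s ∈ S, a * s * a⁻¹ ∈ S) {m : ℕ}
    (hcard : S.ncard = 2 * (2 * m + 1)) :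
    ∃ d ∈ S, ∃ d' ∈ S, (∀ a ∈ A, a * d * a⁻¹ = d ∨ a * d * a⁻¹ = d') ∧
      (d' = d ∨ ∃ a ∈ A, a * d * a⁻¹ = d') := by
  classical
  haveI : Fact (Nat.Prime 2) := ⟨Nat.prime_two⟩
  letI : MulAction ↥A ↥S :=
    { smul := fun a s => ⟨(a : G) * s * (a : G)⁻¹, hS a a.2 s s.2⟩
      one_smul := fun s => Subtype.ext (by show (1 : G) * s * (1 : G)⁻¹ = s; group)
      mul_smul := fun a b s => Subtype.ext (by
        show ((a : G) * b) * s * ((a : G) * b)⁻¹ = a * ((b : G) * s * (b : G)⁻¹) * (a : G)⁻¹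
        group) }
  by_contra! hno
  have hbig : ∀ x : ↥S, 4 ∣ Nat.card (MulAction.orbit ↥A x) := by
    intro x
    obtain ⟨k, hk⟩ := (sqOne_pgroup hA).card_orbit x
    rw [hk]
    suffices 2 ≤ k by exact pow_dvd_pow 2 this
    by_contra hlt
    have hmem : ∀ a (ha : a ∈ A), (⟨a, ha⟩ : ↥A) • x ∈ MulAction.orbit ↥A x := fun a ha =>
      MulAction.mem_orbit x _
    rw [Nat.card_coe_set_eq] at hk
    interval_cases k
    · obtain ⟨y, hy⟩ := Set.ncard_eq_one.1 hk
      refine (hno x x.2 x x.2 fun a ha => Or.inl ?_).1 rfl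
      have h1 := hy ▸ hmem a ha
      have h2 : x ∈ ({y} : Set ↥S) := hy ▸ MulAction.mem_orbit_self x
      rw [Set.mem_singleton_iff] at h1 h2
      exact congrArg Subtype.val (h1.trans h2.symm)
    · obtain ⟨y, z, hyz, hyz'⟩ := Set.ncard_eq_two.1 hk
      have hx : x = y ∨ x = z := by
        have := hyz' ▸ MulAction.mem_orbit_self (M := ↥A) x
        simpa using this
      obtain ⟨w, hw⟩ : ∃ w, MulAction.orbit ↥A x = {x, w} := by
        rcases hx with rfl | rfl
        exacts [⟨z, hyz'⟩, ⟨y, by rw [hyz', Set.pair_comm]⟩]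
      have h2 := hno x x.2 w w.2 fun a ha => by
        have := hw ▸ hmem a ha
        simp only [Set.mem_insert_iff, Set.mem_singleton_iff] at this
        rcases this with e | e
        exacts [Or.inl (congrArg Subtype.val e), Or.inr (congrArg Subtype.val e)]
      have hw' : w ∈ MulAction.orbit ↥A x := hw ▸ Or.inr rfl
      obtain ⟨⟨a, ha⟩, hax⟩ := hw'
      exact h2.2 a ha (congrArg Subtype.val hax)
  letI := Fintype.ofFinite (Quotient (MulAction.orbitRel ↥A ↥S))
  have h4 : 4 ∣ Nat.card ↥S := by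
    rw [Nat.card_congr (MulAction.selfEquivSigmaOrbits ↥A ↥S), Nat.card_sigma]
    exact Finset.dvd_sum fun ω _ => hbig _
  rw [Nat.card_coe_set_eq, hcard] at h4
  omega

end Exponent

section Hexad

variable {G : Type*} [Group G] [Finite G] {D : Set G}
variable (hD : Cfsg.IsThreeTranspositionGroup D) (hP : Cfsg.IsPrimitiveUnderConj D)
variable (h : Cfsg.IsOfTypeM22 G D)
variable {d₁ d₂ : G} (h₁ : d₁ ∈ D) (n₂ : d₂ ∈ nbrs D d₁)
variable {T : Fin 4 → G} (hT : Hex D d₁ d₂ T)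
include hD hP h h₁ n₂ hT

omit [Finite G] hD hP h h₁ n₂ in
theorem hex_comp (σ : Equiv.Perm (Fin 4)) : Hex D d₁ d₂ (T ∘ σ) := by
  refine ⟨hT.inj.comp σ.injective, fun i => hT.mem _, fun i j => hT.comm _ _, ?_⟩
  have hp : ∀ U : Fin 4 → G, (List.ofFn U).prod = U 0 * U 1 * U 2 * U 3 := fun U => by
    simp [List.ofFn_succ, mul_assoc]
  rw [← hp, ← hT.prod, ← hp]
  refine perm_prod (Equiv.Perm.ofFn_comp_perm σ T) fun a ha b hb => ?_
  rw [List.mem_ofFn'] at ha hb
  obtain ⟨i, rfl⟩ := ha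
  obtain ⟨j, rfl⟩ := hb
  exact hT.comm _ _

omit [Finite G] hP h in
theorem hex_conj {g : G} (g₁ : Commute g d₁) (g₂ : Commute g d₂) :
    Hex D d₁ d₂ fun i => g * T i * g⁻¹ := by
  refine ⟨fun i j e => hT.inj (mul_left_cancel (mul_right_cancel e)),
    fun i => pair_conj_M hD h₁ n₂ g₁ g₂ (hT.mem i),
    fun i j => (commute_conj_iff g _ _).2 (hT.comm i j), ?_⟩
  calc g * T 0 * g⁻¹ * (g * T 1 * g⁻¹) * (g * T 2 * g⁻¹) * (g * T 3 * g⁻¹)
      = g * (T 0 * T 1 * T 2 * T 3) * g⁻¹ := by group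
    _ = d₁ * d₂ := by rw [hT.prod, conj_eq_of_commute (g₁.mul_right g₂)]

/-- Two hexads with a common member are equal. -/
theorem hex_range {T' : Fin 4 → G} (hT' : Hex D d₁ d₂ T') {i j : Fin 4} (e : T i = T' j)
    (k : Fin 4) : ∃ l, T l = T' k := by
  have ha := hex_comp hT (Equiv.swap 0 i)
  have hb := hex_comp hT' (Equiv.swap 0 j)
  have e0 : (T' ∘ Equiv.swap 0 j) 0 = (T ∘ Equiv.swap 0 i) 0 := by simp [e]
  obtain ⟨l, hl⟩ := hex_max hD hP h h₁ n₂ ha (hT'.mem k) (e0 ▸ hT'.comm k _) fun z hz hz0 => by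
    have := hex_line hD hP h h₁ n₂ hb hz.1.1 hz.1.2.2.symm hz.2.2.2.symm (e0 ▸ hz0)
      ((Equiv.swap 0 j) k)
    simpa using this
  exact ⟨_, hl⟩

/-- An element fixing `d₁`, `d₂` and two members of a hexad fixes all of it. -/
theorem hex_fix_two {g : G} (g₁ : Commute g d₁) (g₂ : Commute g d₂) {i j : Fin 4} (hij : i ≠ j)
    (gi : Commute g (T i)) (gj : Commute g (T j)) (k : Fin 4) : Commute g (T k) := by
  by_cases hki : k = i
  · rw [hki]; exact gi
  have ha := hex_comp hT (Equiv.swap 0 i)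
  have key : ∀ l, l ≠ i → T l ∈ [(T ∘ Equiv.swap 0 i) 1, (T ∘ Equiv.swap 0 i) 2,
      (T ∘ Equiv.swap 0 i) 3] := by
    intro l hl
    obtain ⟨m, hm⟩ : ∃ m, m = (Equiv.swap 0 i) l := ⟨_, rfl⟩
    have hm0 : m ≠ 0 := fun e => hl (by
      have := congrArg (Equiv.swap 0 i) (hm ▸ e); simpa using this)
    have e : T l = (T ∘ Equiv.swap 0 i) m := by rw [hm]; simp
    fin_cases m
    · exact absurd rfl hm0
    all_goals rw [e]; simp
  have e0 : (T ∘ Equiv.swap 0 i) 0 = T i := by simp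
  exact m22_hexad_fix hD hP h h₁ n₂ (ha.mem 0).1 (Ne.symm (ha.mem 0).2.2.1) (ha.mem 0).2.2.2
    (hex_fac hD h h₁ n₂ ha) (hex_avoid hD hP h h₁ n₂ ha) g₁ g₂ (by rw [e0]; exact gi)
    (key j (Ne.symm hij)) gj (key k hki)

end Hexad

end CfsgLib.Trans3.Fi
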