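import Cfsg.Agent.Lib.Trans3.Fi.M22ElemBase
import Cfsg.Agent.Lib.Trans3.Fi.U6Meet

/-!
A group of type M(22): an elementary abelian 2-group fixing a hexad pointwise has order at most
`2¹⁰`, with equality only for the group generated by 22 commuting members.
-/

set_option autoImplicit false
set_option linter.unusedSectionVars false

namespace CfsgLib.Trans3.Fi

/-- The bound on an elementary abelian 2-group, with the case of equality. -/
def M22Bound {G : Type*} [Group G] (D : Set G) (A : Subgroup G) : Prop :=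
  Nat.card A ≤ 2 ^ 10 ∧
    (Nat.card A = 2 ^ 10 → ∃ X : Finset G, Clique22 D X ∧ A = Subgroup.closure (X : Set G))

variable {G : Type*} [Group G] [Finite G] {D : Set G}
variable (hD : Cfsg.IsThreeTranspositionGroup D) (hP : Cfsg.IsPrimitiveUnderConj D)
variable (h : Cfsg.IsOfTypeM22 G D)

theorem m22Bound_le {A B : Subgroup G} (hAB : A ≤ B) (hB : M22Bound D B) : M22Bound D A := by
  have hc : Nat.card A ≤ Nat.card B := Nat.le_of_dvd Nat.card_pos (Subgroup.card_dvd_of_le hAB)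
  refine ⟨hc.trans hB.1, fun e => ?_⟩
  obtain ⟨X, hX, eX⟩ := hB.2 (le_antisymm hB.1 (e ▸ hc))
  exact ⟨X, hX, (Subgroup.eq_of_le_of_card_ge hAB (hB.1.trans e.ge)).trans eX⟩

variable {d₁ d₂ : G} (h₁ : d₁ ∈ D) (n₂ : d₂ ∈ nbrs D d₁)
variable {T : Fin 4 → G} (hT : Hex D d₁ d₂ T)
include hD hP h h₁ n₂ hT

/-- The members commuting with a hexad outside it fall into three commuting classes of sixteen. -/
theorem hex_classes [DecidableEq G] : ∃ (M₀ : Finset G) (K : G → Finset G),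
    (∀ z, z ∈ M₀ ↔ z ∈ nbrs D d₁ ∩ nbrs D d₂ ∧ Commute z (T 0) ∧ ∀ i, T i ≠ z) ∧
      (∀ x ∈ M₀, ∀ z, z ∈ K x ↔ z ∈ M₀ ∧ Commute z x) ∧
      (∀ x ∈ M₀, (K x).card = 16 ∧ ∀ z ∈ K x, ∀ z' ∈ K x, Commute z z') ∧
      (M₀.image K).card = 3 := by
  classical
  have hPre := pre_of_group hD
  have hN := nice_m22 hD h
  have hU := m22_isU6 hD h h₁
  have n0 := (hT.mem 0).1
  have ne0 : d₂ ≠ T 0 := fun e => (hT.mem 0).2.2.1 e.symm
  obtain ⟨M₀, eM⟩ : ∃ M₀ : Finset G, ∀ z, z ∈ M₀ ↔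
      z ∈ nbrs D d₁ ∩ nbrs D d₂ ∧ Commute z (T 0) ∧ ∀ i, T i ≠ z :=
    ⟨(Set.toFinite {z | z ∈ nbrs D d₁ ∩ nbrs D d₂ ∧ Commute z (T 0) ∧ ∀ i, T i ≠ z}).toFinset,
      fun z => Set.Finite.mem_toFinset _⟩
  obtain ⟨K, eK⟩ : ∃ K : G → Finset G, K = fun x => M₀.filter fun z => Commute z x := ⟨_, rfl⟩
  have hK : ∀ x z, z ∈ K x ↔ z ∈ M₀ ∧ Commute z x := fun x z => by rw [eK, Finset.mem_filter]
  -- a neighbour in the set not commuting with a given member
  have hout : ∀ x ∈ M₀, ∃ y ∈ M₀, ¬ Commute x y := by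
    intro x hx
    obtain ⟨x1, x0, xT⟩ := (eM x).1 hx
    by_contra! hno
    obtain ⟨i, hi⟩ := hex_max hD hP h h₁ n₂ hT x1 x0 fun z hz hz0 => by
      by_cases hzT : ∀ i, T i ≠ z
      · exact (hno z ((eM z).2 ⟨hz, hz0, hzT⟩)).symm
      · push Not at hzT
        obtain ⟨i, rfl⟩ := hzT
        exact (hex_line hD hP h h₁ n₂ hT x1.1.1 x1.1.2.2.symm x1.2.2.2.symm x0 i).symm
    exact xT i hi
  -- the classes
  have hclass : ∀ x ∈ M₀, (∀ z ∈ K x, ∀ z' ∈ K x, Commute z z') ∧ 16 ≤ (K x).card := by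
    intro x hx
    obtain ⟨x1, x0, xT⟩ := (eM x).1 hx
    obtain ⟨y, hy, hxy⟩ := hout x hx
    obtain ⟨y1, y0, yT⟩ := (eM y).1 hy
    obtain ⟨hA, hB⟩ := u6_plane_clique hU (hN.group_Db h₁) (bar_mem n₂) (bar_mem n0)
      (bar_mem x1.1) (bar_mem y1.1) (fun e => ne0 (hN.bar_inj h₁ n₂ n0 e))
      ((commute_bar hPre n₂ n0).2 (hT.mem 0).2.2.2) ((commute_bar hPre x1.1 n₂).2 x1.2.2.2.symm)
      ((commute_bar hPre x1.1 n0).2 x0) ((commute_bar hPre y1.1 n₂).2 y1.2.2.2.symm)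
      ((commute_bar hPre y1.1 n0).2 y0) (fun c => hxy ((commute_bar hPre x1.1 y1.1).1 c))
    have hPp : ∀ z (hz : z ∈ K x), ∃ hn : z ∈ nbrs D d₁,
        bar hn ∈ Pp (Db D d₁) {bar n₂, bar n0} (bar x1.1) := by
      intro z hz
      obtain ⟨hzM, hzx⟩ := (hK x z).1 hz
      obtain ⟨z1, z0, -⟩ := (eM z).1 hzM
      refine ⟨z1.1, bar_mem z1.1, ?_, (commute_bar hPre z1.1 x1.1).2 hzx⟩
      rintro q (rfl | rfl)
      exacts [(commute_bar hPre z1.1 n₂).2 z1.2.2.2.symm, (commute_bar hPre z1.1 n0).2 z0]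
    refine ⟨fun z hz z' hz' => ?_, hB.trans ?_⟩
    · obtain ⟨hn, hm⟩ := hPp z hz
      obtain ⟨hn', hm'⟩ := hPp z' hz'
      exact (commute_bar hPre hn hn').1 (hA _ hm _ hm')
    · rw [← Set.ncard_coe_finset]
      have hsubK : (↑(K x) : Set G) ⊆ nbrs D d₁ := fun z hz => (hPp z hz).1
      rw [card_bar_image hD h h₁ hsubK]
      refine Set.ncard_le_ncard ?_ (Set.toFinite _)
      rintro q ⟨⟨hq, hqF, hqx⟩, hqy⟩
      obtain ⟨z, hz, rfl⟩ := exists_bar hq
      have z2 := (commute_bar hPre hz n₂).1 (hqF _ (Or.inl rfl))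
      have z0 := (commute_bar hPre hz n0).1 (hqF _ (Or.inr rfl))
      have zy : ¬ Commute z y := fun c => hqy ((commute_bar hPre hz y1.1).2 c)
      have zne : z ≠ d₂ := fun e => zy (e ▸ y1.2.2.2)
      refine ⟨z, hz, ?_, rfl⟩
      rw [Finset.mem_coe, hK, eM]
      refine ⟨⟨⟨hz, hz.1, zne, z2.symm⟩, z0, fun i e => zy ?_⟩, (commute_bar hPre hz x1.1).1 hqx⟩
      exact e ▸ (hex_line hD hP h h₁ n₂ hT y1.1.1 y1.1.2.2.symm y1.2.2.2.symm y0 i).symm
  -- the five members of the line, and the count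
  obtain ⟨L, eL⟩ : ∃ L : Finset G, L = insert d₂ (Finset.univ.image T) := ⟨_, rfl⟩
  have hmL : ∀ z, z ∈ L ↔ z = d₂ ∨ ∃ i, T i = z := fun z => by simp [eL]
  have hL5 : L.card = 5 := by
    rw [eL, Finset.card_insert_of_notMem, Finset.card_image_of_injective _ hT.inj, Finset.card_univ,
      Fintype.card_fin]
    simp only [Finset.mem_image, Finset.mem_univ, true_and, not_exists]
    exact fun i => (hT.mem i).2.2.1
  have hdisL : Disjoint L M₀ := by
    rw [Finset.disjoint_left]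
    intro z hz hz'
    obtain ⟨z1, -, zT⟩ := (eM z).1 hz'
    rcases (hmL z).1 hz with e | ⟨i, hi⟩
    exacts [z1.2.2.1 e, zT i hi]
  have h48 : M₀.card = 48 := by
    have hset : (↑(L ∪ M₀) : Set G) = {z | z ∈ nbrs D d₁ ∧ Commute z d₂ ∧ Commute z (T 0)} := by
      ext z
      simp only [Finset.coe_union, Set.mem_union, Finset.mem_coe, hmL, eM, Set.mem_setOf_eq]
      constructor
      · rintro ((rfl | ⟨i, rfl⟩) | ⟨z1, z0, -⟩)
        · exact ⟨n₂, Commute.refl z, (hT.mem 0).2.2.2⟩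
        · exact ⟨(hT.mem i).1, (hT.mem i).2.2.2.symm, hT.comm i 0⟩
        · exact ⟨z1.1, z1.2.2.2.symm, z0⟩
      · rintro ⟨z1, z2, z0⟩
        by_cases e : z = d₂
        · exact Or.inl (Or.inl e)
        by_cases e' : ∀ i, T i ≠ z
        · exact Or.inr ⟨⟨z1, z1.1, e, z2.symm⟩, z0, e'⟩
        · push Not at e'
          exact Or.inl (Or.inr e')
    have h53 : (↑(L ∪ M₀) : Set G).ncard = 53 := by
      rw [hset, card_bar_image hD h h₁ (fun z hz => hz.1), ← u6_meet_two hU (hN.group_Db h₁)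
        (bar_mem n₂) (bar_mem n0) (fun e => ne0 (hN.bar_inj h₁ n₂ n0 e))
        ((commute_bar hPre n₂ n0).2 (hT.mem 0).2.2.2)]
      congr 1
      ext q
      constructor
      · rintro ⟨z, hz, ⟨-, z2, z0⟩, rfl⟩
        refine ⟨bar_mem hz, fun v hv => ?_⟩
        simp only [List.mem_cons, List.not_mem_nil, or_false] at hv
        rcases hv with rfl | rfl
        exacts [(commute_bar hPre hz n₂).2 z2, (commute_bar hPre hz n0).2 z0]
      · rintro ⟨hq, hqc⟩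
        obtain ⟨z, hz, rfl⟩ := exists_bar hq
        exact ⟨z, hz, ⟨hz, (commute_bar hPre hz n₂).1 (hqc _ (by simp)),
          (commute_bar hPre hz n0).1 (hqc _ (by simp))⟩, rfl⟩
    rw [Set.ncard_coe_finset, Finset.card_union_of_disjoint hdisL, hL5] at h53
    omega
  have h16 : ∀ x ∈ M₀, (K x).card = 16 := by
    intro x hx
    obtain ⟨hc, hge⟩ := hclass x hx
    have hKM : ∀ z ∈ K x, z ∈ M₀ := fun z hz => ((hK x z).1 hz).1
    obtain ⟨E, eE⟩ : ∃ E : Finset G, E = insert d₁ (L ∪ K x) := ⟨_, rfl⟩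
    have hmem : ∀ z ∈ L ∪ K x, z ∈ nbrs D d₁ := by
      intro z hz
      rcases Finset.mem_union.1 hz with hz | hz
      · rcases (hmL z).1 hz with rfl | ⟨i, rfl⟩
        exacts [n₂, (hT.mem i).1]
      · exact ((eM z).1 (hKM z hz)).1.1
    have hLall : ∀ z ∈ L, ∀ w ∈ L ∪ K x, Commute z w := by
      intro z hz w hw
      rcases (hmL z).1 hz with rfl | ⟨i, rfl⟩
      · rcases Finset.mem_union.1 hw with hw | hw
        · rcases (hmL w).1 hw with rfl | ⟨j, rfl⟩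
          exacts [Commute.refl _, (hT.mem j).2.2.2]
        · exact ((eM w).1 (hKM w hw)).1.2.2.2
      · rcases Finset.mem_union.1 hw with hw | hw
        · rcases (hmL w).1 hw with rfl | ⟨j, rfl⟩
          exacts [(hT.mem i).2.2.2.symm, hT.comm i j]
        · obtain ⟨w1, w0, -⟩ := (eM w).1 (hKM w hw)
          exact (hex_line hD hP h h₁ n₂ hT w1.1.1 w1.1.2.2.symm w1.2.2.2.symm w0 i).symm
    have hle := m22_comm_le hD hP h (E := (E : Set G)) (fun z hz => by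
        rw [eE, Finset.coe_insert, Set.mem_insert_iff] at hz
        rcases hz with rfl | hz
        exacts [h₁, (hmem z hz).1]) (by
        rw [eE, Finset.coe_insert]
        rintro a (rfl | ha) b (rfl | hb)
        · exact Commute.refl _
        · exact (hmem b hb).2.2
        · exact (hmem a ha).2.2.symm
        · rcases Finset.mem_union.1 ha with ha' | ha'
          · exact hLall a ha' b hb
          · rcases Finset.mem_union.1 hb with hb' | hb'
            exacts [(hLall b hb' a ha).symm, hc a ha' b hb'])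
    rw [Set.ncard_coe_finset, eE, Finset.card_insert_of_notMem fun hm => (hmem d₁ hm).2.1 rfl,
      Finset.card_union_of_disjoint (hdisL.mono_right fun z hz => hKM z hz), hL5] at hle
    omega
  refine ⟨M₀, K, eM, fun x _ z => hK x z, fun x hx => ⟨h16 x hx, (hclass x hx).1⟩, ?_⟩
  have hself : ∀ x ∈ M₀, x ∈ K x := fun x hx => (hK x x).2 ⟨hx, Commute.refl x⟩
  have hKK : ∀ x ∈ M₀, ∀ z ∈ K x, K z = K x := by
    intro x hx z hz
    ext w
    obtain ⟨hzM, hzx⟩ := (hK x z).1 hz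
    constructor
    · intro hw
      exact (hK x w).2 ⟨((hK z w).1 hw).1, ((hclass z hzM).1 w hw x ((hK z x).2 ⟨hx, hzx.symm⟩))⟩
    · intro hw
      exact (hK z w).2 ⟨((hK x w).1 hw).1, (hclass x hx).1 w hw z hz⟩
  have hsum := Finset.card_eq_sum_card_image K M₀
  rw [Finset.sum_const_nat (m := 16) fun k hk => ?_, h48] at hsum
  · omega
  · obtain ⟨x, hx, rfl⟩ := Finset.mem_image.1 hk
    rw [← h16 x hx]
    congr 1
    ext z
    rw [Finset.mem_filter]
    exact ⟨fun ⟨hz, e⟩ => e ▸ hself z hz, fun hz => ⟨((hK x z).1 hz).1, hKK x hx z hz⟩⟩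

/-- Elementary abelian groups containing a hexad. -/
theorem m22Bound_hex {A : Subgroup G} (hA : ∀ a ∈ A, a * a = 1) (hA₁ : d₁ ∈ A) (hA₂ : d₂ ∈ A)
    (hAT : ∀ i, T i ∈ A) : M22Bound D A := by
  classical
  obtain ⟨M₀, K, eM, hK, h16, h3⟩ := hex_classes hD hP h h₁ n₂ hT
  have a1 : ∀ a ∈ A, Commute a d₁ := fun a ha => sqOne_comm hA ha hA₁
  have a2 : ∀ a ∈ A, Commute a d₂ := fun a ha => sqOne_comm hA ha hA₂
  have aT : ∀ a ∈ A, ∀ i, Commute a (T i) := fun a ha i => sqOne_comm hA ha (hAT i)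
  have hM : ∀ a ∈ A, ∀ z ∈ M₀, a * z * a⁻¹ ∈ M₀ := by
    intro a ha z hz
    obtain ⟨z1, z0, zT⟩ := (eM z).1 hz
    refine (eM _).2 ⟨pair_conj_M hD h₁ n₂ (a1 a ha) (a2 a ha) z1, ?_, fun i e => zT i ?_⟩
    · rw [← conj_eq_of_commute (aT a ha 0)]
      exact (commute_conj_iff a _ _).2 z0
    · rw [← conj_eq_of_commute (aT a ha i)] at e
      exact mul_left_cancel (mul_right_cancel e)
  have hKimg : ∀ a ∈ A, ∀ x ∈ M₀, (K x).image (fun z => a * z * a⁻¹) = K (a * x * a⁻¹) := by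
    intro a ha x hx
    ext w
    rw [Finset.mem_image, hK _ (hM a ha x hx)]
    constructor
    · rintro ⟨z, hz, rfl⟩
      obtain ⟨hzM, hzx⟩ := (hK x hx z).1 hz
      exact ⟨hM a ha z hzM, (commute_conj_iff a z x).2 hzx⟩
    · rintro ⟨hwM, hwx⟩
      refine ⟨a⁻¹ * w * a, (hK x hx _).2 ⟨?_, ?_⟩, by group⟩
      · simpa using hM a⁻¹ (inv_mem ha) w hwM
      · rw [← commute_conj_iff a, show a * (a⁻¹ * w * a) * a⁻¹ = w by group]
        exact hwx
  obtain ⟨k, hk, hfix⟩ := sqOne_fixed hA (S := M₀.image K)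
    (fun g s => s.image fun z => g * z * g⁻¹)
    (fun s _ => by simp)
    (fun a _ b _ s _ => by rw [Finset.image_image]; congr 1; funext z; simp [mul_assoc])
    (fun a ha s hs => by
      obtain ⟨x, hx, rfl⟩ := Finset.mem_image.1 hs
      exact Finset.mem_image.2 ⟨_, hM a ha x hx, (hKimg a ha x hx).symm⟩)
    (by rw [h3]; omega)
  obtain ⟨x₀, hx₀, rfl⟩ := Finset.mem_image.1 hk
  obtain ⟨hK16, hKc⟩ := h16 x₀ hx₀
  have hKM : ∀ z ∈ K x₀, z ∈ nbrs D d₁ ∩ nbrs D d₂ ∧ (∀ i, Commute z (T i)) ∧ ∀ i, T i ≠ z := by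
    intro z hz
    obtain ⟨z1, z0, zT⟩ := (eM z).1 ((hK x₀ hx₀ z).1 hz).1
    exact ⟨z1, hex_line hD hP h h₁ n₂ hT z1.1.1 z1.1.2.2.symm z1.2.2.2.symm z0, zT⟩
  obtain ⟨B, eB⟩ : ∃ B : Finset G, B = [d₁, d₂, T 0, T 1, T 2, T 3].toFinset := ⟨_, rfl⟩
  have hmB : ∀ z, z ∈ B ↔ z = d₁ ∨ z = d₂ ∨ ∃ i, T i = z := by
    intro z
    rw [eB, List.mem_toFinset]
    simp only [List.mem_cons, List.not_mem_nil, or_false, Fin.exists_fin_succ, IsEmpty.exists_iff,
      eq_comm (a := z)]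
    simp
  have hnd : [d₁, d₂, T 0, T 1, T 2, T 3].Nodup := by
    simp only [List.nodup_cons, List.mem_cons, List.not_mem_nil, or_false, not_or, List.nodup_nil,
      and_true]
    exact ⟨⟨Ne.symm n₂.2.1, Ne.symm (hT.mem 0).1.2.1, Ne.symm (hT.mem 1).1.2.1,
      Ne.symm (hT.mem 2).1.2.1, Ne.symm (hT.mem 3).1.2.1⟩,
      ⟨Ne.symm (hT.mem 0).2.2.1, Ne.symm (hT.mem 1).2.2.1, Ne.symm (hT.mem 2).2.2.1,
        Ne.symm (hT.mem 3).2.2.1⟩,
      ⟨hT.inj.ne (by decide), hT.inj.ne (by decide), hT.inj.ne (by decide)⟩,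
      ⟨hT.inj.ne (by decide), hT.inj.ne (by decide)⟩, hT.inj.ne (by decide), not_false⟩
  have hBc : ∀ z ∈ B, ∀ w ∈ B, Commute z w := by
    intro z hz w hw
    rcases (hmB z).1 hz with e | e | ⟨i, e⟩ <;> rcases (hmB w).1 hw with e' | e' | ⟨j, e'⟩ <;>
      subst e <;> subst e'
    exacts [Commute.refl _, n₂.2.2, (hT.mem j).1.2.2, n₂.2.2.symm, Commute.refl _,
      (hT.mem j).2.2.2, (hT.mem i).1.2.2.symm, (hT.mem i).2.2.2.symm, hT.comm i j]
  obtain ⟨X, eX⟩ : ∃ X : Finset G, X = B ∪ K x₀ := ⟨_, rfl⟩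
  have hdis : Disjoint B (K x₀) := by
    rw [Finset.disjoint_left]
    intro z hz hz'
    obtain ⟨z1, -, zT⟩ := hKM z hz'
    rcases (hmB z).1 hz with rfl | rfl | ⟨i, hi⟩
    exacts [z1.1.2.1 rfl, z1.2.2.1 rfl, zT i hi]
  have hB6 : B.card = 6 := by rw [eB, List.toFinset_card_of_nodup hnd]; rfl
  have hX : Clique22 D X := by
    refine ⟨fun z hz => ?_, fun z hz w hw => ?_, by
      rw [eX, Finset.card_union_of_disjoint hdis, hB6, hK16]⟩
    · rw [eX, Finset.mem_union, hmB] at hz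
      rcases hz with (rfl | rfl | ⟨i, rfl⟩) | hz
      exacts [h₁, n₂.1, (hT.mem i).1.1, (hKM z hz).1.1.1]
    · have hBK : ∀ z ∈ B, ∀ w ∈ K x₀, Commute z w := by
        intro z hz w hw
        rcases (hmB z).1 hz with rfl | rfl | ⟨i, rfl⟩
        exacts [(hKM w hw).1.1.2.2, (hKM w hw).1.2.2.2, ((hKM w hw).2.1 i).symm]
      rw [eX, Finset.mem_union] at hz hw
      rcases hz with hz | hz <;> rcases hw with hw | hw
      exacts [hBc z hz w hw, hBK z hz w hw, (hBK w hw z hz).symm, hKc z hz w hw]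
  have hBlock : CBlock X B := ⟨eX ▸ Finset.subset_union_left, hB6, by
    rw [fprod_list hBc hnd (fun z => by rw [eB, List.mem_toFinset])]
    simp only [List.prod_cons, List.prod_nil, mul_one]
    rw [← mul_assoc (T 1), ← mul_assoc (T 0), ← mul_assoc (T 0), hT.prod, ← mul_assoc,
      n₂.2.2.symm.mul_mul_mul_comm, Trans3.sq_one hD.1 h₁, Trans3.sq_one hD.1 n₂.1, one_mul]⟩
  have hAX : ∀ a ∈ A, ∀ z ∈ X, a * z * a⁻¹ ∈ X := by
    intro a ha z hz
    rw [eX, Finset.mem_union] at hz ⊢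
    rcases hz with hz | hz
    · refine Or.inl ?_
      rcases (hmB z).1 hz with rfl | rfl | ⟨i, rfl⟩
      · rw [conj_eq_of_commute (a1 a ha)]; exact hz
      · rw [conj_eq_of_commute (a2 a ha)]; exact hz
      · rw [conj_eq_of_commute (aT a ha i)]; exact hz
    · exact Or.inr ((Finset.ext_iff.1 (hfix a ha) _).1 (Finset.mem_image.2 ⟨z, hz, rfl⟩))
  obtain ⟨hW, hWc⟩ := clique_closure hD hP h hX
  obtain ⟨W, eW⟩ : ∃ W, W = Subgroup.closure (X : Set G) := ⟨_, rfl⟩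
  rw [← eW] at hW hWc
  have hin : ∀ a ∈ A, ∀ r ∈ K x₀, Commute a r → a ∈ W := fun a ha r hr hc =>
    hWc (Subgroup.mem_centralizer_iff.2 fun z hz =>
      (clique_fix hD hP h hX (hA a ha) (hAX a ha) hBlock (fun w hw => by
        rcases (hmB w).1 hw with rfl | rfl | ⟨i, rfl⟩
        exacts [a1 a ha, a2 a ha, aT a ha i]) (eX ▸ Finset.mem_union_right _ hr)
        (Finset.disjoint_right.1 hdis hr) hc z hz).symm.eq)
  by_cases hle : A ≤ W
  · refine ⟨hW ▸ Nat.le_of_dvd Nat.card_pos (Subgroup.card_dvd_of_le hle), fun e => ⟨X, hX, ?_⟩⟩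
    exact (Subgroup.eq_of_le_of_card_ge hle (by rw [hW, e])).trans eW
  obtain ⟨x, hx, hxW⟩ := SetLike.not_le_iff_exists.1 hle
  have hmove : ∀ a ∈ A, a ∉ W → ∀ r ∈ K x₀, a * r * a⁻¹ ≠ r := fun a ha haW r hr e =>
    haW (hin a ha r hr (commute_of_conj_eq e))
  have hdet : ∀ s ∈ X, ∀ t ∈ X, ∀ s' ∈ X, ∀ t' ∈ X, s ≠ t → s' ≠ t' → s * t = s' * t' →
      s' = s ∨ s' = t := fun s hs t ht s' hs' t' ht' n1 n2 e =>
    pair_determined hD hP h h₁ n₂ (hX.sub s hs) (hX.sub t ht) n1 (hX.comm s hs t ht) (hX.sub s' hs')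
      (hX.sub t' ht') n2 (hX.comm s' hs' t' ht') e
  have h64 : ∀ a ∈ A, a ∉ W →
      Nat.card ↥(W ⊓ Subgroup.centralizer ({a} : Set G)) ≤ 64 := fun a ha haW => eW ▸
    clique_move hD hX (hA a ha) (hAX a ha) (eX ▸ Finset.subset_union_right) hK16
      (hmove a ha haW) (eW ▸ hW) hdet
  have hsubC : ∀ a ∈ A, A ⊓ W ≤ W ⊓ Subgroup.centralizer ({a} : Set G) := fun a ha w hw =>
    ⟨hw.2, Subgroup.mem_centralizer_singleton_iff.2 (sqOne_comm hA hw.1 ha).eq⟩
  have hAW : Nat.card ↥(A ⊓ W) ≤ 64 :=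
    (Nat.le_of_dvd Nat.card_pos (Subgroup.card_dvd_of_le (hsubC x hx))).trans (h64 x hx hxW)
  obtain ⟨q, hq⟩ := Finset.card_pos.1 (by rw [hK16]; norm_num : 0 < (K x₀).card)
  have hqW : A ⊓ Subgroup.centralizer ({q} : Set G) = A ⊓ W := by
    ext a
    rw [Subgroup.mem_inf, Subgroup.mem_inf, Subgroup.mem_centralizer_singleton_iff]
    refine ⟨fun ⟨ha, hc⟩ => ⟨ha, hin a ha q hq hc⟩, fun ⟨ha, hw⟩ => ⟨ha, ?_⟩⟩
    exact ((clique_elem hD hX (eW ▸ hw)).2 q
      (Subgroup.subset_closure (eX ▸ Finset.mem_union_right _ hq))).eq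
  obtain ⟨O, eO⟩ : ∃ O : Finset G,
      O = (K x₀).filter fun o => ∃ a ∈ A, a * q * a⁻¹ = o := ⟨_, rfl⟩
  have hKA : ∀ a ∈ A, a * q * a⁻¹ ∈ K x₀ := fun a ha =>
    (Finset.ext_iff.1 (hfix a ha) _).1 (Finset.mem_image.2 ⟨q, hq, rfl⟩)
  have horb := card_orbit_mul (H := A) (x := q) (O := (O : Set G))
    (fun a ha => by rw [eO, Finset.mem_coe, Finset.mem_filter]; exact ⟨hKA a ha, a, ha, rfl⟩)
    (fun o ho => by rw [eO, Finset.mem_coe, Finset.mem_filter] at ho; exact ho.2)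
  rw [hqW, Set.ncard_coe_finset] at horb
  have hO : O.card ≤ 16 := hK16 ▸ Finset.card_le_card (eO ▸ Finset.filter_subset _ _)
  refine ⟨horb ▸ (Nat.mul_le_mul hO hAW).trans (by norm_num), fun e => False.elim ?_⟩
  have hO16 : O.card = 16 := by
    by_contra hne
    have := Nat.mul_le_mul (show O.card ≤ 15 by omega) hAW
    omega
  have hAW64 : Nat.card ↥(A ⊓ W) = 64 := by
    rw [horb, hO16] at e; omega
  have hOK : O = K x₀ := Finset.eq_of_subset_of_card_le (eO ▸ Finset.filter_subset _ _)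
    (by rw [hK16, hO16])
  have hall : ∀ o ∈ K x₀, ∃ a ∈ A, a * q * a⁻¹ = o := fun o ho => by
    rw [← hOK, eO, Finset.mem_filter] at ho; exact ho.2
  obtain ⟨s, hs, hsq⟩ := Finset.exists_mem_ne (by omega : 1 < (K x₀).card) q
  obtain ⟨s', hs', hs'q⟩ := Finset.exists_mem_ne
    (s := (K x₀).erase s) (by rw [Finset.card_erase_of_mem hs]; omega) q
  rw [Finset.mem_erase] at hs'
  obtain ⟨y, hy, hyq⟩ := hall s hs
  obtain ⟨z, hz, hzq⟩ := hall s' hs'.2
  have qX : q ∈ X := eX ▸ Finset.mem_union_right _ hq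
  have sX : s ∈ X := eX ▸ Finset.mem_union_right _ hs
  have hyW : y ∉ W := fun hw => hsq (by
    rw [← hyq]; exact conj_eq_of_commute ((clique_elem hD hX (eW ▸ hw)).2 q (Subgroup.subset_closure qX)))
  have heq : A ⊓ W = W ⊓ Subgroup.centralizer ({y} : Set G) :=
    Subgroup.eq_of_le_of_card_ge (hsubC y hy) (by rw [hAW64]; exact h64 y hy hyW)
  have hqs : q * s ∈ A ⊓ W := by
    rw [heq]
    refine ⟨eW ▸ mul_mem (Subgroup.subset_closure qX) (Subgroup.subset_closure sX),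
      Subgroup.mem_centralizer_singleton_iff.2 (Commute.symm (commute_of_conj_eq ?_)).eq⟩
    have hyy : y * s * y⁻¹ = q := by
      rw [← hyq]
      calc y * (y * q * y⁻¹) * y⁻¹ = (y * y) * q * (y * y)⁻¹ := by group
        _ = q := by rw [hA y hy]; group
    calc y * (q * s) * y⁻¹ = (y * q * y⁻¹) * (y * s * y⁻¹) := by group
      _ = q * s := by rw [hyq, hyy, (hX.comm s sX q qX).eq]
  have hcz : z * (q * s) * z⁻¹ = q * s := conj_eq_of_commute (sqOne_comm hA hz hqs.1)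
  have e2 : q * s = s' * (z * s * z⁻¹) := by
    rw [← hzq]
    conv_lhs => rw [← hcz]
    group
  have hs'X : s' ∈ X := eX ▸ Finset.mem_union_right _ hs'.2
  have hne : s' ≠ z * s * z⁻¹ := fun c => hsq (by
    rw [← hzq] at c
    exact (mul_left_cancel (mul_right_cancel c)).symm)
  rcases hdet q qX s sX s' hs'X _ (hAX z hz s sX) (Ne.symm hsq) hne e2 with c | c
  · exact hs'q c
  · exact hs'.1 c

end CfsgLib.Trans3.Fi
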