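import Cfsg.Agent.Lib.Trans3.Fi.PLocal
import Cfsg.Agent.Lib.Trans3.Fi.M24Order

/-!
One step of the series PSU₆(2), M(22), M(23), M(24) for elements of a prime order, and the gates.
-/

set_option autoImplicit false
set_option linter.unusedSectionVars false
set_option linter.style.haveILetI false

namespace CfsgLib.Trans3.Fi

variable {G : Type*} [Group G] [Finite G] {D : Set G}

theorem gated_m22 (hD : Cfsg.IsThreeTranspositionGroup D) (hP : Cfsg.IsPrimitiveUnderConj D)
    (h : Cfsg.IsOfTypeM22 G D) : Gated D :=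
  { toNice := nice_m22 hD h
    mem := fun _ hd => m22_mem hD hP h hd
    gate := fun _ hd => m22_gate hD hP h hd
    ctr := fun _ hd => m22_center_Hd hD hP h hd }

theorem gated_m23 (hD : Cfsg.IsThreeTranspositionGroup D) (hP : Cfsg.IsPrimitiveUnderConj D)
    (h : Cfsg.IsOfTypeM23 G D) : Gated D :=
  { toNice := nice_m23 hD h
    mem := fun _ hd => m23_mem hD hP h hd
    gate := fun _ hd => m23_gate hD hP h hd
    ctr := fun _ hd => m23_center_Hd hD hP h hd }

theorem gated_m24 (hD : Cfsg.IsThreeTranspositionGroup D) (hP : Cfsg.IsPrimitiveUnderConj D)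
    (h : Cfsg.IsOfTypeM24 G D) : Gated D :=
  { toNice := nice_m24 hD hP h
    mem := fun _ hd => m24_mem hD hP h hd
    gate := fun _ hd => m24_gate hD hP h hd
    ctr := fun _ hd => m24_center_Hd hD hP h hd }

/-- Counting the fixed common neighbours modulo the prime. -/
theorem common_modEq (hD : Cfsg.IsThreeTranspositionGroup D) {p : ℕ} [Fact p.Prime] {x b y : G}
    (hx : orderOf x = p) (hb : b ∈ Fx D x) (hy : y ∈ Fx D x) :
    {w ∈ Fx D x | Commute b w ∧ Commute y w}.ncard ≡ (CN D b y).ncard [MOD p] := by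
  have h := ncard_fixed_modEq hx (A := CN D b y) (fun a ha => ⟨hD.2.1 x a ha.1, by
    have := (commute_conj_iff x b a).2 ha.2.1
    rwa [conj_eq_of_commute hb.2.symm] at this, by
    have := (commute_conj_iff x y a).2 ha.2.2
    rwa [conj_eq_of_commute hy.2.symm] at this⟩)
  have e : {w ∈ Fx D x | Commute b w ∧ Commute y w} = {a | a ∈ CN D b y ∧ Commute a x} :=
    Set.ext fun w => ⟨fun ⟨⟨h1, h2⟩, h3, h4⟩ => ⟨⟨h1, h3, h4⟩, h2⟩,
      fun ⟨⟨h1, h3, h4⟩, h2⟩ => ⟨⟨h1, h2⟩, h3, h4⟩⟩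
  rw [e]; exact h

section Up

variable (hD : Gated D) {p n : ℕ} (hp : p.Prime) (hp2 : p ≠ 2)
  (hL : ∀ d ∈ D, Loc (Db D d) p n)
include hD hp hp2 hL

/-- All fixed members in one component. -/
theorem conf_up (hn : 3 ≤ n) {x : G} (hx : orderOf x = p) (hne : (Fx D x).Nonempty)
    (hk : ∀ b ∈ Fx D x, ∀ y ∈ Fx D x, ¬ Commute b y →
      {w ∈ Fx D x | Commute b w ∧ Commute y w}.Nonempty → ∀ k, 2 ≤ k → k ≤ n →
      {w ∈ Fx D x | Commute b w ∧ Commute y w}.ncard + (k - 2).choose 2 =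
        (n - 3).choose 2 + k.choose 2 → k = n - 1)
    (hcon : ∀ b ∈ Fx D x, ∀ y ∈ Fx D x, ¬ Commute b y →
      {w ∈ Fx D x | Commute b w ∧ Commute y w}.Nonempty) :
    SymConf (n + 2) (Fx D x) := by
  obtain ⟨b, hb⟩ := hne
  obtain ⟨T, hbT, hT⟩ := step hD.group.1 (fun d hd => hd.1) (Fx_closed hD.group x) hn
    (fun d hd => loc_nb hD hp hp2 hL (by omega) hx hd) hk hb
  have e : T = Fx D x := by
    refine Set.Subset.antisymm hT.sub fun y hy => ?_
    by_cases hby : Commute b y
    · exact hT.closed b hbT y hy hby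
    · obtain ⟨w, hw, hbw, hyw⟩ := hcon b hb y hy hby
      exact hT.closed w (hT.closed b hbT w hw hbw) y hy hyw.symm
  exact e ▸ hT.conf

/-- The next level, when every element of order `p` has a fixed member. -/
theorem loc_up (hfix : ∀ x : G, orderOf x = p → (Fx D x).Nonempty)
    (hconf : ∀ x : G, orderOf x = p → SymConf (n + 2) (Fx D x)) : Loc D p (n + 2) :=
  ⟨hconf, fun x hx => card_cent hD hp hp2 hL hx (hconf x hx),
    fun x y hx hy => conj_fixed hD hp hp2 hL hx hy (hfix x hx) (hfix y hy)⟩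

end Up

/-- A fixed member, from the number of members modulo the prime. -/
theorem exists_fixed_of_mod (hD : Cfsg.IsThreeTranspositionGroup D) {p : ℕ} [Fact p.Prime] {x : G}
    (hx : orderOf x = p) (h : D.ncard % p ≠ 0) : (Fx D x).Nonempty := by
  have h1 : (Fx D x).ncard % p = D.ncard % p :=
    ncard_fixed_modEq hx (A := D) (fun a ha => hD.2.1 x a ha)
  exact Set.nonempty_of_ncard_ne_zero fun e => h (by rw [← h1, e, Nat.zero_mod])

/-- The statement on normalisers of subgroups of order `p`. -/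
theorem Loc.shape {p m : ℕ} (hL : Loc D p m) (hD : Cfsg.IsThreeTranspositionGroup D)
    (hp : p.Prime) (hm : 3 ≤ m) {k : ℕ} (hk : (p - 1) * p = k) :
    (∀ X Y : Subgroup G, Nat.card ↥X = p → Nat.card ↥Y = p →
      ∃ g : G, X.map (MulAut.conj g).toMonoidHom = Y) ∧
    ∀ X : Subgroup G, Nat.card ↥X = p → ∃ F : Subgroup G, Nat.card ↥F = k ∧ X ≤ F ∧
      F ⊓ Subgroup.centralizer (X : Set G) = X ∧
      F ⊓ Subgroup.closure (D ∩ (Subgroup.centralizer (X : Set G) : Set G)) = ⊥ ∧
      (∀ a ∈ F, ∀ b ∈ Subgroup.closure (D ∩ (Subgroup.centralizer (X : Set G) : Set G)),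
        a * b = b * a) ∧
      F ⊔ Subgroup.closure (D ∩ (Subgroup.centralizer (X : Set G) : Set G)) =
        Subgroup.normalizer (X : Set G) ∧
      Nonempty (↥(Subgroup.closure (D ∩ (Subgroup.centralizer (X : Set G) : Set G))) ≃*
        Equiv.Perm (Fin m)) := by
  subst hk
  refine ⟨fun X Y hX hY => subgroup_conj hp hL.conj hX hY, fun X hX => ?_⟩
  obtain ⟨x, hx, hXx⟩ := exists_generator hp hX
  refine final_shape hD hp hm hXx hx (hL.conf x hx) (hL.cent x hx) fun y hy hy1 =>
    hL.conj x y hx ?_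
  haveI := Fact.mk hp
  have h : orderOf y ∣ p := by rw [← hX]; exact Subgroup.orderOf_dvd_natCard _ hy
  exact ((Nat.dvd_prime hp).1 h).resolve_left fun e => hy1 (orderOf_eq_one_iff.1 e)

end CfsgLib.Trans3.Fi
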