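import Cfsg.Agent.Lib.Trans3.Fi.U6Three
import Cfsg.Agent.Lib.Trans3.Fi.M24Common
import Cfsg.Agent.Lib.Trans3.Fi.PLocalUp
import Cfsg.Agent.Lib.Trans3.Fi.LocalThirteen
import Cfsg.Agent.Lib.Perm.InvolPProducts

/-!
In a group of type M(22) an element of order three commuting with an element of order 13 fixes no
transposition: the transpositions it fixes would fall into at least 13 components of a size
excluded by the eigenvalues of the commuting graph.
-/

set_option autoImplicit false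
set_option linter.unusedSectionVars false
set_option linter.style.haveILetI false

namespace CfsgLib.Trans3.Fi

open scoped _root_.Classical

/-- A lower eigenvalue bound for the number of edges inside a subset of a graph with parameters
(3510, 693, 180, 126). -/
theorem srg_bound {α : Type*} {T S : Finset α} {R : α → α → Prop} (hS : S ⊆ T)
    (hsymm : ∀ a b, R a b → R b a) (hirr : ∀ a, ¬ R a a) (hT : T.card = 3510)
    (hk : ∀ a ∈ T, (T.filter fun b => R a b).card = 693)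
    (hl : ∀ a ∈ T, ∀ b ∈ T, R a b → (T.filter fun c => R a c ∧ R b c).card = 180)
    (hm : ∀ a ∈ T, ∀ b ∈ T, a ≠ b → ¬ R a b → (T.filter fun c => R a c ∧ R b c).card = 126) :
    S.card ^ 2 ≤ 5 * ((∑ d ∈ S, (S.filter fun e => R d e).card) + 9 * S.card) := by
  obtain ⟨n, en⟩ : ∃ n : α → ℤ, ∀ w, n w = ∑ d ∈ S, if R d w then 1 else 0 := ⟨_, fun _ => rfl⟩
  obtain ⟨E, eE⟩ : ∃ E : ℤ, E = ∑ d ∈ S, ∑ e ∈ S, if R d e then 1 else 0 := ⟨_, rfl⟩
  obtain ⟨f, ef⟩ : ∃ f : ℤ, f = (S.card : ℤ) := ⟨_, rfl⟩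
  have h1 : ∑ w ∈ T, n w = 693 * f := by
    simp only [en]
    rw [Finset.sum_comm, Finset.sum_congr rfl (g := fun _ => (693 : ℤ)) (fun d hd => ?_),
      Finset.sum_const, ef, nsmul_eq_mul, mul_comm]
    rw [Finset.sum_boole, hk d (hS hd)]; norm_num
  have h2 : ∑ w ∈ T, n w ^ 2 = 567 * f + 54 * E + 126 * f ^ 2 := by
    have hc : ∀ d ∈ S, ∀ e ∈ S, (∑ w ∈ T, (if R d w then (1 : ℤ) else 0) * (if R e w then 1 else 0)) =
        126 + 567 * (if d = e then (1 : ℤ) else 0) + 54 * (if R d e then (1 : ℤ) else 0) := by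
      intro d hd e he
      rw [Finset.sum_congr rfl (g := fun w => if R d w ∧ R e w then (1 : ℤ) else 0) (fun w _ => by
        by_cases h₁ : R d w <;> by_cases h₂ : R e w <;> simp [h₁, h₂]), Finset.sum_boole]
      rcases eq_or_ne d e with rfl | hne
      · rw [Finset.filter_congr (q := fun w => R d w) (fun w _ => and_self_iff), hk d (hS hd),
          if_pos rfl, if_neg (hirr d)]
        norm_num
      · by_cases hR : R d e
        · rw [hl d (hS hd) e (hS he) hR, if_neg hne, if_pos hR]; norm_num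
        · rw [hm d (hS hd) e (hS he) hne hR, if_neg hne, if_neg hR]; norm_num
    calc ∑ w ∈ T, n w ^ 2 = ∑ w ∈ T, ∑ d ∈ S, ∑ e ∈ S,
          (if R d w then (1 : ℤ) else 0) * (if R e w then 1 else 0) :=
        Finset.sum_congr rfl fun w _ => by rw [pow_two, en, Finset.sum_mul_sum]
      _ = ∑ d ∈ S, ∑ e ∈ S, ∑ w ∈ T,
          (if R d w then (1 : ℤ) else 0) * (if R e w then 1 else 0) := by
        rw [Finset.sum_comm]
        exact Finset.sum_congr rfl fun d _ => Finset.sum_comm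
      _ = ∑ d ∈ S, ∑ e ∈ S,
          (126 + 567 * (if d = e then (1 : ℤ) else 0) + 54 * (if R d e then (1 : ℤ) else 0)) :=
        Finset.sum_congr rfl fun d hd => Finset.sum_congr rfl fun e he => hc d hd e he
      _ = _ := by
        simp only [Finset.sum_add_distrib, ← Finset.mul_sum, Finset.sum_const, nsmul_eq_mul,
          Finset.sum_ite_eq]
        rw [← eE, Finset.sum_congr rfl (g := fun _ => (1 : ℤ)) (fun d hd => if_pos hd),
          Finset.sum_const, nsmul_eq_mul, mul_one, ef]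
        ring
  have h3 : ∑ w ∈ T, (if w ∈ S then (1 : ℤ) else 0) = f := by
    rw [Finset.sum_boole, Finset.filter_mem_eq_inter, Finset.inter_eq_right.2 hS, ef]
  have h4 : ∑ w ∈ T, (if w ∈ S then n w else 0) = E := by
    rw [← Finset.sum_filter, Finset.filter_mem_eq_inter, Finset.inter_eq_right.2 hS, eE,
      Finset.sum_comm]
    exact Finset.sum_congr rfl fun w _ => en w
  have hnn : 0 ≤ ∑ w ∈ T, (5 * n w + 45 * (if w ∈ S then (1 : ℤ) else 0) - f) ^ 2 :=
    Finset.sum_nonneg fun w _ => sq_nonneg _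
  have hexp : ∀ w ∈ T, (5 * n w + 45 * (if w ∈ S then (1 : ℤ) else 0) - f) ^ 2 =
      25 * n w ^ 2 + 450 * (if w ∈ S then n w else 0) + (2025 - 90 * f) * (if w ∈ S then 1 else 0)
        - 10 * f * n w + f ^ 2 := fun w _ => by
    by_cases hw : w ∈ S <;> simp [hw] <;> ring
  rw [Finset.sum_congr rfl hexp] at hnn
  simp only [Finset.sum_add_distrib, Finset.sum_sub_distrib, ← Finset.mul_sum, h1, h2, h3, h4,
    Finset.sum_const, nsmul_eq_mul, hT] at hnn
  push_cast at hnn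
  have hE : E = ((∑ d ∈ S, (S.filter fun e => R d e).card : ℕ) : ℤ) := by
    rw [eE, Nat.cast_sum]
    exact Finset.sum_congr rfl fun d _ => Finset.sum_boole _ _
  have hgoal : f ^ 2 ≤ 5 * (E + 9 * f) := by nlinarith
  rw [ef, hE] at hgoal
  exact_mod_cast hgoal

variable {G : Type*} [Group G] [Finite G] {D : Set G}

/-- The fixed neighbours of a fixed member. -/
abbrev Lx (D : Set G) (y d : G) : Set G := {e | e ∈ nbrs D d ∧ Commute e y}

/-- A pattern of classes passes along an injective map respecting commuting. -/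
theorem Multi.of_image {Q : Type*} [Group Q] {L : Set G} {β : G → Q} (hinj : Set.InjOn β L)
    (hcomm : ∀ a ∈ L, ∀ b ∈ L, Commute (β a) (β b) ↔ Commute a b) (h : Multi (β '' L)) :
    Multi L := by
  obtain ⟨s, h0, h1, h2⟩ := h
  refine ⟨s, ?_, fun a ha => ?_, fun a ha b hb c hc hab hbc => ?_⟩
  · rw [hinj.ncard_image] at h0
    rcases h0 with e | e | e
    · exact Or.inl (Set.image_eq_empty.1 e)
    · exact Or.inr (Or.inl e)
    · exact Or.inr (Or.inr e)
  · rw [← h1 _ ⟨a, ha, rfl⟩, ← (hinj.mono (fun b hb => hb.1)).ncard_image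
      (s := {b | b ∈ L ∧ (b = a ∨ ¬ Commute a b)})]
    congr 1
    ext q
    constructor
    · rintro ⟨b, ⟨hb, h'⟩, rfl⟩
      exact ⟨⟨b, hb, rfl⟩, h'.imp (fun e => by rw [e]) (fun h' e => h' ((hcomm a ha b hb).1 e))⟩
    · rintro ⟨⟨b, hb, rfl⟩, h'⟩
      exact ⟨b, ⟨hb, h'.imp (fun e => hinj hb ha e) (fun h' e => h' ((hcomm a ha b hb).2 e))⟩, rfl⟩
  · exact (h2 _ ⟨a, ha, rfl⟩ _ ⟨b, hb, rfl⟩ _ ⟨c, hc, rfl⟩
      (fun e => hab ((hcomm a ha b hb).1 e)) (fun e => hbc ((hcomm b hb c hc).1 e))).imp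
      (hinj ha hc) fun h' e => h' ((hcomm a ha c hc).2 e)

variable (hD : Cfsg.IsThreeTranspositionGroup D) (hP : Cfsg.IsPrimitiveUnderConj D)
variable (h : Cfsg.IsOfTypeM22 G D)
include hD hP h

/-- The edge bound in a group of type M(22). -/
theorem m22_srg_bound {S : Set G} (hS : S ⊆ D) {K : ℕ}
    (hK : ∀ d ∈ S, {e | e ∈ S ∧ e ∈ nbrs D d}.ncard ≤ K) : S.ncard ≤ 5 * (K + 9) := by
  haveI := Fintype.ofFinite G
  have hm : ∀ a b, (a ∈ D ∧ b ≠ a ∧ Commute a b) ↔ a ∈ D ∧ (b ≠ a ∧ Commute a b) :=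
    fun a b => Iff.rfl
  have hb := srg_bound (T := D.toFinset) (S := S.toFinset) (R := fun a b => b ≠ a ∧ Commute a b)
    (Set.toFinset_mono hS) (fun a b hab => ⟨hab.1.symm, hab.2.symm⟩) (fun a ha => ha.1 rfl)
    (by rw [← Set.ncard_eq_toFinset_card', m22_card_D hD hP h])
    (fun a ha => by
      rw [← card_nbrs hD h (Set.mem_toFinset.1 ha), Set.ncard_eq_toFinset_card']
      congr 1
      ext b
      simp [nbrs]
      tauto)
    (fun a ha b hb hab => by
      rw [← card_nbrs_two hD h (Set.mem_toFinset.1 ha) (b := b)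
        ⟨Set.mem_toFinset.1 hb, hab.1, hab.2⟩, Set.ncard_eq_toFinset_card']
      congr 1
      ext c
      simp [nbrs]
      tauto)
    (fun a ha b hb hne hab => by
      have hnc : ¬ Commute a b := fun e => hab ⟨hne.symm, e⟩
      rw [← m22_common_card hD hP h (Set.mem_toFinset.1 ha) (Set.mem_toFinset.1 hb) hnc,
        Set.ncard_eq_toFinset_card']
      congr 1
      ext c
      simp only [Finset.mem_filter, Set.mem_toFinset, CN, Set.mem_ofPred_eq]
      exact ⟨fun ⟨h1, h2, h3⟩ => ⟨h1, h2.2, h3.2⟩, fun ⟨h1, h2, h3⟩ =>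
        ⟨h1, ⟨fun e => hnc (e ▸ h3).symm, h2⟩, fun e => hnc (e ▸ h2), h3⟩⟩)
  rw [← Set.ncard_eq_toFinset_card'] at hb
  have key : ∀ n : ℕ, S.ncard ^ 2 ≤ 5 * (n + 9 * S.ncard) → n ≤ S.ncard * K →
      S.ncard ≤ 5 * (K + 9) := by
    intro n hn hle
    rcases Nat.eq_zero_or_pos S.ncard with h0 | h0
    · omega
    · refine Nat.le_of_mul_le_mul_left ?_ h0
      calc S.ncard * S.ncard = S.ncard ^ 2 := (pow_two _).symm
        _ ≤ 5 * (S.ncard * K + 9 * S.ncard) :=
          hn.trans (Nat.mul_le_mul_left 5 (Nat.add_le_add_right hle _))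
        _ = S.ncard * (5 * (K + 9)) := by ring
  refine key _ hb ?_
  rw [Set.ncard_eq_toFinset_card', ← smul_eq_mul, ← Finset.sum_const]
  refine Finset.sum_le_sum fun d hd => le_trans (le_of_eq ?_) (hK d (Set.mem_toFinset.1 hd))
  rw [Set.ncard_eq_toFinset_card']
  congr 1
  ext e
  simp only [Finset.mem_filter, Set.mem_toFinset, Set.mem_ofPred_eq, nbrs]
  exact ⟨fun ⟨h1, h2⟩ => ⟨h1, hS h1, h2⟩, fun ⟨h1, _, h2⟩ => ⟨h1, h2⟩⟩

/-- The neighbourhood of a fixed member. -/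
theorem local_shape {y d : G} (hy : orderOf y = 3) (hd : d ∈ Fx D y) :
    ((∃ u ∈ nbrs D d, ∃ v ∈ nbrs D d, ¬ Commute u v ∧ y = u * v) ∨ Multi (Lx D y d)) ∧
      (Lx D y d).ncard ≤ 256 := by
  have hG := gated_m22 hD hP h
  have hN := hG.toNice
  have hPre := pre_of_group hD
  have hyH : y ∈ Hd D d := mem_Hd_of_commute hG hd.1 hd.2
  obtain ⟨x, ex⟩ : ∃ x : ↥(Hd D d), x = ⟨y, hyH⟩ := ⟨_, rfl⟩
  have hx : (x : G) = y := by rw [ex]
  have hxb : orderOf (x : Qd D d) = 3 :=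
    orderOf_bar hG hd.1 Nat.prime_three (by norm_num) (by rw [hx, hy])
  obtain ⟨β, hβ⟩ : ∃ β : G → Qd D d, ∀ (e : G) (he : e ∈ nbrs D d), β e = bar he :=
    ⟨fun e => if he : e ∈ nbrs D d then bar he else 1, fun e he => dif_pos he⟩
  have hinj : Set.InjOn β (Lx D y d) := fun a ha b hb e => by
    rw [hβ a ha.1, hβ b hb.1] at e
    exact hN.bar_inj hd.1 ha.1 hb.1 e
  have himg : β '' Lx D y d = Fx (Db D d) (x : Qd D d) := by
    ext q
    constructor
    · rintro ⟨e, ⟨he, hec⟩, rfl⟩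
      rw [hβ e he]
      exact ⟨bar_mem he, (commute_bar_iff hG hd.1 he).2 (hx ▸ hec)⟩
    · rintro ⟨hq, hc⟩
      obtain ⟨e, he, rfl⟩ := exists_bar hq
      exact ⟨e, ⟨he, hx ▸ (commute_bar_iff hG hd.1 he).1 hc⟩, hβ e he⟩
  obtain ⟨hshape, hle⟩ := u6_three (m22_isU6 hD h hd.1) (hN.group_Db hd.1) (y := (x : Qd D d))
    (by rw [← hxb, pow_orderOf_eq_one]) (fun e => by rw [e, orderOf_one] at hxb; norm_num at hxb)
  refine ⟨?_, by rw [← hinj.ncard_image, himg]; exact hle⟩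
  rcases hshape with ⟨p, hp, q, hq, hnc, hpq⟩ | hM
  · left
    obtain ⟨u, hu, rfl⟩ := exists_bar hp
    obtain ⟨v, hv, rfl⟩ := exists_bar hq
    have huv : ¬ Commute u v := fun e => hnc ((commute_bar hPre hu hv).2 e)
    refine ⟨u, hu, v, hv, huv, ?_⟩
    have ho : orderOf (u * v) = 3 := by
      haveI : Fact (Nat.Prime 3) := ⟨Nat.prime_three⟩
      refine orderOf_eq_prime (Trans3.pow_three hD.1 hu.1 hv.1 huv) fun e => huv ?_
      have e' := eq_inv_of_mul_eq_one_left e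
      rw [Trans3.inv_eq hD.1 hv.1] at e'
      rw [e']
    let u' : ↥(Hd D d) := ⟨u, Subgroup.subset_closure hu⟩
    let v' : ↥(Hd D d) := ⟨v, Subgroup.subset_closure hv⟩
    have := eq_of_bar_eq hG hd.1 Nat.prime_three (by norm_num) (x := x) (y := u' * v')
      (by rw [hx, hy]) ho (by rw [hpq]; rfl)
    rw [← hx, this]
    rfl
  · exact Or.inr (Multi.of_image hinj
      (fun a ha b hb => by rw [hβ a ha.1, hβ b hb.1]; exact commute_bar hPre ha.1 hb.1) (himg ▸ hM))

/-- Two pairs with the same product and a common neighbour share their line. -/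
theorem line_unique {d u v u' v' : G} (hd : d ∈ D) (hu : u ∈ nbrs D d) (hv : v ∈ nbrs D d)
    (hu' : u' ∈ nbrs D d) (hv' : v' ∈ nbrs D d) (hn : ¬ Commute u v) (hn' : ¬ Commute u' v')
    (he : u * v = u' * v') : u' = u ∨ u' = v ∨ u' = u * v * u := by
  have hN := nice_m22 hD h
  have hPre := pre_of_group hD
  have hw : u * v * u ∈ nbrs D d := by
    refine ⟨Trans3.self_conj_mem hD hu.1 hv.1, fun e => ?_,
      (hu.2.2.mul_right hv.2.2).mul_right hu.2.2⟩
    have hdu : Commute (u * v * u) u := e ▸ hu.2.2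
    refine hn ?_
    have h1 := hdu.eq
    simp only [mul_assoc, Trans3.sq_one hD.1 hu.1, mul_one] at h1
    rw [← mul_assoc u u, Trans3.sq_one hD.1 hu.1, one_mul] at h1
    exact h1
  rcases u6_prod_unique (m22_isU6 hD h hd) (hN.group_Db hd) (bar_mem hu) (bar_mem hv)
    (bar_mem hu') (bar_mem hv') (fun e => hn ((commute_bar hPre hu hv).1 e))
    (fun e => hn' ((commute_bar hPre hu' hv').1 e))
    (show bar hu * bar hv = bar hu' * bar hv' by
      show ((⟨u, Subgroup.subset_closure hu⟩ * ⟨v, Subgroup.subset_closure hv⟩ : ↥(Hd D d)) :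
        Qd D d) = ((⟨u', Subgroup.subset_closure hu'⟩ * ⟨v', Subgroup.subset_closure hv'⟩ :
        ↥(Hd D d)) : Qd D d)
      exact congrArg _ (Subtype.ext he)) with e | e | e
  · exact Or.inl (hN.bar_inj hd hu' hu e)
  · exact Or.inr (Or.inl (hN.bar_inj hd hu' hv e))
  · exact Or.inr (Or.inr (hN.bar_inj hd hu' hw (e.trans rfl)))

/-- The product of a non-commuting pair does not commute with an element of order 13. -/
theorem no_prod_thirteen {x u v : G} (hu : u ∈ D) (hv : v ∈ D) (hn : ¬ Commute u v)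
    (hx : orderOf x = 13) (hxy : Commute x (u * v)) : False := by
  haveI : Fact (Nat.Prime 13) := ⟨by norm_num⟩
  haveI := Fintype.ofFinite G
  obtain ⟨y, ey⟩ : ∃ y, y = u * v := ⟨_, rfl⟩
  have hy : orderOf y = 3 := by
    haveI : Fact (Nat.Prime 3) := ⟨Nat.prime_three⟩
    rw [ey]
    refine orderOf_eq_prime (Trans3.pow_three hD.1 hu hv hn) fun e => hn ?_
    have e' := eq_inv_of_mul_eq_one_left e
    rw [Trans3.inv_eq hD.1 hv] at e'
    rw [e']
  have huu := Trans3.sq_one hD.1 hu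
  have hvv := Trans3.sq_one hD.1 hv
  obtain ⟨Λ, eΛ⟩ : ∃ Λ : Set G, Λ = {u, v, u * v * u} := ⟨_, rfl⟩
  have hΛy : ∀ t ∈ Λ, t * y ∈ Λ := by
    intro t ht
    rw [eΛ] at ht ⊢
    rcases ht with rfl | rfl | rfl
    · exact Or.inr (Or.inl (by rw [ey, ← mul_assoc, huu, one_mul]))
    · refine Or.inr (Or.inr ?_)
      rw [ey, ← mul_assoc]
      exact (Trans3.braid hD.1 hu hv hn).symm
    · refine Or.inl ?_
      rw [ey, show u * v * u * (u * v) = u * (v * (u * u) * v) by group, huu, mul_one, hvv, mul_one]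
  -- a power of `x` sending `u` into the line fixes the line
  have hline : ∀ g : G, g ^ 13 = 1 → Commute g y → g * u * g⁻¹ ∈ Λ → g = 1 := by
    intro g hg hgy hgu
    by_contra hg1
    have hg13 := orderOf_eq_prime hg hg1
    have hgy' : g * y * g⁻¹ = y := conj_eq_of_commute hgy
    have hinv : ∀ t ∈ Λ, g * t * g⁻¹ ∈ Λ := by
      have hv' : g * v * g⁻¹ = g * u * g⁻¹ * y := by
        calc g * v * g⁻¹ = g * u * g⁻¹ * (g * (u * v) * g⁻¹) := by
              rw [show g * u * g⁻¹ * (g * (u * v) * g⁻¹) = g * (u * u * v) * g⁻¹ by group, huu, one_mul]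
          _ = _ := by rw [← ey, hgy']
      intro t ht
      rw [eΛ] at ht
      rcases ht with rfl | rfl | rfl
      · exact hgu
      · rw [hv']; exact hΛy _ hgu
      · rw [Trans3.braid hD.1 hu hv hn]
        have e : g * (v * u * v) * g⁻¹ = g * v * g⁻¹ * (g * (u * v) * g⁻¹) := by group
        rw [e, ← ey, hgy', hv']
        exact hΛy _ (hΛy _ hgu)
    have hΛD : Λ ⊆ D := by
      rw [eΛ]
      rintro t (rfl | rfl | rfl)
      exacts [hu, hv, Trans3.self_conj_mem hD hu hv]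
    have hmod := ncard_fixed_modEq hg13 hinv
    have h0 : {a | a ∈ Λ ∧ Commute a g} = ∅ := by
      refine Set.eq_empty_of_forall_notMem fun a ha => hg1 ?_
      exact LocalThirteen.m22_member_thirteen hD hP h (hΛD ha.1) ha.2.symm hg
    rw [h0, Set.ncard_empty, Nat.ModEq] at hmod
    have hpos : 0 < Λ.ncard := (Set.ncard_pos (Set.toFinite _)).2 ⟨u, by rw [eΛ]; simp⟩
    have h3 : Λ.ncard ≤ 3 := by
      rw [eΛ]
      exact (Set.ncard_insert_le _ _).trans (by
        have := Set.ncard_insert_le v ({u * v * u} : Set G)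
        rw [Set.ncard_singleton] at this
        omega)
    omega
  -- thirteen disjoint sets of common neighbours
  obtain ⟨U, eU⟩ : ∃ U : ℕ → Set G,
      ∀ k, U k = CN D (x ^ k * u * (x ^ k)⁻¹) (x ^ k * v * (x ^ k)⁻¹) := ⟨_, fun _ => rfl⟩
  have hsub : ∀ k, U k ⊆ Fx D y := fun k e he => by
    rw [eU] at he
    have hc : Commute e (x ^ k * (u * v) * (x ^ k)⁻¹) := by
      rw [show x ^ k * (u * v) * (x ^ k)⁻¹ = x ^ k * u * (x ^ k)⁻¹ * (x ^ k * v * (x ^ k)⁻¹) by group]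
      exact he.2.1.symm.mul_right he.2.2.symm
    refine ⟨he.1, ?_⟩
    rwa [conj_eq_of_commute (hxy.pow_left k), ← ey] at hc
  have hcard : ∀ k, (U k).ncard = 126 := fun k => by
    rw [eU]
    exact m22_common_card hD hP h (hD.2.1 _ u hu) (hD.2.1 _ v hv)
      fun e => hn ((commute_conj_iff _ u v).1 e)
  have hdisj : ∀ i j, i < 13 → j < 13 → i ≠ j → Disjoint (U i) (U j) := by
    intro i j hi hj hij
    refine Set.disjoint_left.2 fun e hei hej => ?_
    wlog hlt : i < j generalizing i j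
    · exact this j i hj hi hij.symm hej hei (by omega)
    rw [eU] at hei hej
    obtain ⟨g, eg⟩ : ∃ g, g = x ^ i := ⟨_, rfl⟩
    obtain ⟨e₀, ee⟩ : ∃ e₀, e₀ = g⁻¹ * e * g := ⟨_, rfl⟩
    obtain ⟨k, rfl⟩ : ∃ k, j = i + k := ⟨j - i, by omega⟩
    have hxk : x ^ (i + k) = g * x ^ k := by rw [pow_add, eg]
    have he₀ : e₀ ∈ D := by rw [ee]; simpa using hD.2.1 g⁻¹ e hei.1
    have hmv : ∀ t, Commute (g * t * g⁻¹) e → Commute t e₀ := fun t ht => by
      rw [← commute_conj_iff g, ee, show g * (g⁻¹ * e * g) * g⁻¹ = e by group]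
      exact ht
    have c1 : Commute u e₀ := hmv u (eg ▸ hei.2.1)
    have c2 : Commute v e₀ := hmv v (eg ▸ hei.2.2)
    have c3 : Commute (x ^ k * u * (x ^ k)⁻¹) e₀ := hmv _ (by
      have := hej.2.1
      rw [hxk] at this
      simpa [mul_assoc] using this)
    have c4 : Commute (x ^ k * v * (x ^ k)⁻¹) e₀ := hmv _ (by
      have := hej.2.2
      rw [hxk] at this
      simpa [mul_assoc] using this)
    have hn2 : ¬ Commute (x ^ k * u * (x ^ k)⁻¹) (x ^ k * v * (x ^ k)⁻¹) := fun e' =>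
      hn ((commute_conj_iff _ u v).1 e')
    have hne : ∀ {s t : G}, Commute t e₀ → ¬ Commute s t → s ≠ e₀ := fun ht hst e' =>
      hst (e' ▸ ht.symm)
    have hk' := line_unique hD hP h he₀
      (u := u) (v := v) (u' := x ^ k * u * (x ^ k)⁻¹) (v' := x ^ k * v * (x ^ k)⁻¹)
      ⟨hu, hne c2 hn, c1.symm⟩ ⟨hv, hne c1 (fun e' => hn e'.symm), c2.symm⟩
      ⟨hD.2.1 _ u hu, hne c4 hn2, c3.symm⟩ ⟨hD.2.1 _ v hv, hne c3 (fun e' => hn2 e'.symm), c4.symm⟩
      hn hn2 (by
        rw [show x ^ k * u * (x ^ k)⁻¹ * (x ^ k * v * (x ^ k)⁻¹) = x ^ k * (u * v) * (x ^ k)⁻¹ by group,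
          conj_eq_of_commute (hxy.pow_left k)])
    have hk1 := hline (x ^ k)
      (by rw [← pow_mul, mul_comm, pow_mul, ← hx, pow_orderOf_eq_one, one_pow])
      (ey ▸ hxy.pow_left k) (by rw [eΛ]; simpa using hk')
    have hdvd := orderOf_dvd_of_pow_eq_one hk1
    rw [hx] at hdvd
    have := Nat.le_of_dvd (by omega) hdvd
    omega
  have hf : 13 * 126 ≤ (Fx D y).ncard := by
    have h1 : ((Finset.range 13).biUnion fun k => (U k).toFinset).card = 13 * 126 := by
      rw [Finset.card_biUnion, Finset.sum_congr rfl (g := fun _ => 126) (fun k _ => by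
        rw [← Set.ncard_eq_toFinset_card', hcard])]
      · simp
      · intro i hi j hj hij
        rw [Function.onFun, Set.disjoint_toFinset]
        exact hdisj i j (Finset.mem_range.1 hi) (Finset.mem_range.1 hj) hij
    rw [← h1, Set.ncard_eq_toFinset_card']
    refine Finset.card_le_card fun e he => ?_
    obtain ⟨k, -, hk⟩ := Finset.mem_biUnion.1 he
    rw [Set.mem_toFinset] at hk ⊢
    exact hsub k hk
  have hb := m22_srg_bound hD hP h (S := Fx D y) (fun e he => he.1) (K := 256) fun d hd => by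
    refine le_trans (Set.ncard_le_ncard ?_) (local_shape hD hP h hy hd).2
    exact fun e he => ⟨he.2, he.1.2⟩
  omega

/-- An element of order three commuting with an element of order 13 fixes no member. -/
theorem m22_three_free {x y : G} (hx : orderOf x = 13) (hy : orderOf y = 3) (hxy : Commute x y) :
    ∀ d ∈ D, ¬ Commute d y := by
  haveI : Fact (Nat.Prime 13) := ⟨by norm_num⟩
  haveI : Fact (Nat.Prime 3) := ⟨Nat.prime_three⟩
  haveI := Fintype.ofFinite G
  have hM : ∀ d ∈ Fx D y, Multi (Lx D y d) := fun d hd => by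
    rcases (local_shape hD hP h hy hd).1 with ⟨u, hu, v, hv, hn, e⟩ | hM
    · exact (no_prod_thirteen hD hP h hu.1 hv.1 hn hx (e ▸ hxy)).elim
    · exact hM
  have hL : ∀ d e, e ∈ Lx D y d ↔ e ∈ Fx D y ∧ e ≠ d ∧ Commute d e := fun d e =>
    ⟨fun ⟨⟨h1, h2, h3⟩, h4⟩ => ⟨⟨h1, h4⟩, h2, h3⟩, fun ⟨⟨h1, h4⟩, h2, h3⟩ => ⟨⟨h1, h2, h3⟩, h4⟩⟩
  have hsym : ∀ {d e}, d ∈ Fx D y → e ∈ Lx D y d → d ∈ Lx D y e := fun hd he =>
    (hL _ _).2 ⟨hd, ((hL _ _).1 he).2.1.symm, ((hL _ _).1 he).2.2.symm⟩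
  choose s h0 h1 h2 using hM
  obtain ⟨cl, ecl⟩ : ∃ cl : G → G → Set G, ∀ d e,
      cl d e = {b | b ∈ Lx D y d ∧ (b = e ∨ ¬ Commute e b)} := ⟨_, fun _ _ => rfl⟩
  have hsize : ∀ d (hd : d ∈ Fx D y), (Lx D y d).Nonempty →
      (s d hd = 9 ∧ (Lx D y d).ncard = 18) ∨ (s d hd = 3 ∧ (Lx D y d).ncard = 9) := fun d hd hne =>
    (h0 d hd).resolve_left hne.ne_empty
  -- adjacent members have the same type
  have htype : ∀ d (hd : d ∈ Fx D y) e (he : e ∈ Lx D y d),
      s d hd = s e ((hL d e).1 he).1 ∧ (Lx D y d).ncard = (Lx D y e).ncard := by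
    intro d hd e he
    have he' := ((hL d e).1 he).1
    have key : ∀ a b (ha : a ∈ Fx D y), b ∈ Lx D y a →
        {c | c ∈ Lx D y a ∧ c ∈ Lx D y b}.ncard + s a ha = (Lx D y a).ncard := by
      intro a b ha hb
      rw [← h1 a ha b hb, ← Set.ncard_union_eq ?_ (Set.toFinite _) (Set.toFinite _)]
      · congr 1
        ext c
        refine ⟨fun hc => hc.elim (fun p => p.1) (fun p => p.1), fun hc => ?_⟩
        by_cases hcb : c = b ∨ ¬ Commute b c
        · exact Or.inr ⟨hc, hcb⟩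
        · simp only [not_or, not_not] at hcb
          exact Or.inl ⟨hc, (hL b c).2 ⟨((hL a c).1 hc).1, hcb.1, hcb.2⟩⟩
      · refine Set.disjoint_left.2 fun c hc hc' => ?_
        obtain ⟨-, h3, h4⟩ := (hL b c).1 hc.2
        exact hc'.2.elim h3 (fun p => p h4)
    have k1 := key d e hd he
    have k2 := key e d he' (hsym hd he)
    have hswap : {c | c ∈ Lx D y e ∧ c ∈ Lx D y d} = {c | c ∈ Lx D y d ∧ c ∈ Lx D y e} := by
      ext c; exact ⟨And.symm, And.symm⟩
    rw [hswap] at k2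
    rcases hsize d hd ⟨e, he⟩ with ⟨a1, a2⟩ | ⟨a1, a2⟩ <;>
      rcases hsize e he' ⟨d, hsym hd he⟩ with ⟨b1, b2⟩ | ⟨b1, b2⟩ <;> omega
  obtain ⟨P, eP⟩ : ∃ P : G → Set G, ∀ d, P d =
      {c | c ∈ Fx D y ∧ (c = d ∨ (¬ Commute d c ∧ ∃ e ∈ Lx D y d, Commute e c))} := ⟨_, fun _ => rfl⟩
  -- the members opposite to `d`
  have hopp : ∀ d (hd : d ∈ Fx D y) e, e ∈ Lx D y d → P d = cl e d := by
    intro d hd e he
    have he' := ((hL d e).1 he).1
    have hde := ((hL d e).1 he).2.2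
    have step : ∀ e₁ e₂, e₁ ∈ Lx D y d → e₂ ∈ Lx D y d → Commute e₁ e₂ → ∀ c ∈ Fx D y,
        ¬ Commute d c → Commute e₁ c → Commute e₂ c := by
      intro e₁ e₂ he₁ he₂ h12 c hc hdc h1c
      by_contra h2c
      rcases eq_or_ne e₂ e₁ with rfl | hne
      · exact h2c h1c
      have f1 := ((hL d e₁).1 he₁).1
      have hc1 : c ∈ Lx D y e₁ :=
        (hL e₁ c).2 ⟨hc, fun e' => hdc (e' ▸ ((hL d e₁).1 he₁).2.2), h1c⟩
      have he21 : e₂ ∈ Lx D y e₁ := (hL e₁ e₂).2 ⟨((hL d e₂).1 he₂).1, hne, h12⟩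
      rcases h2 e₁ f1 e₂ he21 c hc1 d (hsym hd he₁) h2c (fun e' => hdc e'.symm) with e' | e'
      · exact ((hL d e₂).1 he₂).2.1 e'
      · exact e' ((hL d e₂).1 he₂).2.2.symm
    rw [eP, ecl]
    ext c
    constructor
    · rintro ⟨hc, rfl | ⟨hdc, e₁, he₁, h1c⟩⟩
      · exact ⟨hsym hd he, Or.inl rfl⟩
      · have hec : Commute e c := by
          by_cases h12 : Commute e₁ e
          · exact step e₁ e he₁ he h12 c hc hdc h1c
          · obtain ⟨e₂, he₂, he₂'⟩ : ∃ e₂, e₂ ∈ Lx D y d ∧ e₂ ∉ {b | b ∈ Lx D y d ∧ (b = e₁ ∨ ¬ Commute e₁ b)} := by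
              refine Set.exists_mem_notMem_of_ncard_lt_ncard ?_ (Set.toFinite _)
              rw [h1 d hd e₁ he₁]
              rcases hsize d hd ⟨e, he⟩ with ⟨a1, a2⟩ | ⟨a1, a2⟩ <;> omega
            have hcc : e₂ ≠ e₁ ∧ Commute e₁ e₂ := by
              by_contra hcon
              exact he₂' ⟨he₂, by tauto⟩
            refine step e₂ e he₂ he ?_ c hc hdc (step e₁ e₂ he₁ he₂ hcc.2 c hc hdc h1c)
            by_contra h2e
            rcases h2 d hd e₂ he₂ e he e₁ he₁ h2e (fun e' => h12 e'.symm) with e' | e'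
            · exact hcc.1 e'
            · exact e' hcc.2.symm
        refine ⟨(hL e c).2 ⟨hc, fun e' => hdc (e' ▸ hde), hec⟩, Or.inr hdc⟩
    · rintro ⟨hc, e' | hdc⟩
      · exact ⟨((hL e c).1 hc).1, Or.inl e'⟩
      · exact ⟨((hL e c).1 hc).1, Or.inr ⟨hdc, e, he, ((hL e c).1 hc).2.2⟩⟩
  obtain ⟨C, eC⟩ : ∃ C : G → Set G, ∀ d, C d = Lx D y d ∪ P d := ⟨_, fun _ => rfl⟩
  have hCcard : ∀ d (hd : d ∈ Fx D y), (Lx D y d).Nonempty →
      (C d).ncard = (Lx D y d).ncard + s d hd := by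
    intro d hd hne
    obtain ⟨e, he⟩ := hne
    rw [eC, hopp d hd e he, Set.ncard_union_eq ?_ (Set.toFinite _) (Set.toFinite _), ecl,
      h1 e ((hL d e).1 he).1 d (hsym hd he), (htype d hd e he).1]
    refine Set.disjoint_left.2 fun c hc hc' => ?_
    rw [ecl] at hc'
    exact hc'.2.elim ((hL d c).1 hc).2.1 fun p => p ((hL d c).1 hc).2.2
  -- components are closed
  have hclosed : ∀ d, d ∈ Fx D y → (Lx D y d).Nonempty → ∀ c ∈ C d,
      c ∈ Fx D y ∧ (Lx D y c).Nonempty ∧ Lx D y c ⊆ C d ∧ (C c).ncard = (C d).ncard := by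
    intro d hd hne c hc
    rw [eC] at hc
    have ne2 : ∀ e, e ∈ Lx D y d → (Lx D y e).Nonempty := fun e he => ⟨d, hsym hd he⟩
    rcases hc with hc | hc
    · have hc' := ((hL d c).1 hc).1
      refine ⟨hc', ne2 c hc, fun z hz => ?_, ?_⟩
      · rw [eC]
        obtain ⟨hz', hzc, hcz⟩ := (hL c z).1 hz
        by_cases hdz : Commute d z
        · rcases eq_or_ne z d with e | hne'
          · exact Or.inr (by rw [eP]; exact ⟨hz', Or.inl e⟩)
          · exact Or.inl ((hL d z).2 ⟨hz', hne', hdz⟩)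
        · exact Or.inr (by rw [eP]; exact ⟨hz', Or.inr ⟨hdz, c, hc, hcz⟩⟩)
      · rw [hCcard c hc' (ne2 c hc), hCcard d hd hne, (htype d hd c hc).1, (htype d hd c hc).2]
    · obtain ⟨e, he⟩ := id hne
      have he' := ((hL d e).1 he).1
      have hcF : c ∈ Fx D y := by rw [eP] at hc; exact hc.1
      have hce : ∀ e₁ ∈ Lx D y d, c ∈ Lx D y e₁ := fun e₁ he₁ => by
        rw [hopp d hd e₁ he₁, ecl] at hc; exact hc.1
      have hec : e ∈ Lx D y c := hsym he' (hce e he)
      have ht := htype c hcF e hec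
      have hlc : Lx D y d ⊆ Lx D y c := fun e₁ he₁ => hsym ((hL d e₁).1 he₁).1 (hce e₁ he₁)
      have heq : Lx D y d = Lx D y c :=
        Set.eq_of_subset_of_ncard_le hlc (by rw [ht.2, (htype d hd e he).2]) (Set.toFinite _)
      refine ⟨hcF, ⟨e, hec⟩, fun z hz => ?_, ?_⟩
      · rw [eC]; exact Or.inl (heq ▸ hz)
      · rw [hCcard c hcF ⟨e, hec⟩, hCcard d hd hne, ht.1, (htype d hd e he).1,
          congrArg Set.ncard heq.symm]
  have hsame : ∀ d, d ∈ Fx D y → (Lx D y d).Nonempty → ∀ c ∈ C d, C c = C d := by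
    intro d hd hne c hc
    obtain ⟨hcF, hcne, hcL, hcard⟩ := hclosed d hd hne c hc
    refine Set.eq_of_subset_of_ncard_le ?_ hcard.ge (Set.toFinite _)
    rw [eC c]
    refine Set.union_subset hcL fun z hz => ?_
    rw [eP] at hz
    obtain ⟨hzF, rfl | ⟨hcz, e, he, hez⟩⟩ := hz
    · exact hc
    · exact (hclosed d hd hne e (hcL he)).2.2.1
        ((hL e z).2 ⟨hzF, fun e' => hcz (e' ▸ ((hL c e).1 he).2.2), hez⟩)
  -- all fixed members are isolated
  have hiso : ∀ d ∈ Fx D y, Lx D y d = ∅ := by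
    by_contra! hcon
    obtain ⟨d, hd, hne⟩ := hcon
    have hconjF : ∀ g, Commute g y → ∀ a ∈ Fx D y, g * a * g⁻¹ ∈ Fx D y := fun g hg a ha =>
      ⟨hD.2.1 g a ha.1, (hg.mul_left ha.2).mul_left hg.inv_left⟩
    have hconjL : ∀ g, Commute g y → ∀ a b, b ∈ Lx D y a → g * b * g⁻¹ ∈ Lx D y (g * a * g⁻¹) := by
      intro g hg a b hb
      obtain ⟨h3, h4, h5⟩ := (hL a b).1 hb
      exact (hL _ _).2 ⟨hconjF g hg b h3, fun e => h4 (mul_left_cancel (mul_right_cancel e)),
        (commute_conj_iff g a b).2 h5⟩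
    have hconjC : ∀ g, Commute g y → ∀ a, ∀ c ∈ C a, g * c * g⁻¹ ∈ C (g * a * g⁻¹) := by
      intro g hg a c hc
      rw [eC, eP] at hc ⊢
      rcases hc with hc | ⟨hcF, rfl | ⟨hac, e, he, hec⟩⟩
      · exact Or.inl (hconjL g hg a c hc)
      · exact Or.inr ⟨hconjF g hg c hcF, Or.inl rfl⟩
      · exact Or.inr ⟨hconjF g hg c hcF, Or.inr ⟨fun e' => hac ((commute_conj_iff g a c).1 e'),
          _, hconjL g hg a e he, (commute_conj_iff g e c).2 hec⟩⟩
    obtain ⟨W, eW⟩ : ∃ W : ℕ → Set G, ∀ k, W k = C (x ^ k * d * (x ^ k)⁻¹) := ⟨_, fun _ => rfl⟩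
    have hWne : ∀ k, x ^ k * d * (x ^ k)⁻¹ ∈ Fx D y ∧ (Lx D y (x ^ k * d * (x ^ k)⁻¹)).Nonempty := by
      intro k
      obtain ⟨e, he⟩ := hne
      exact ⟨hconjF _ (hxy.pow_left k) d hd, ⟨_, hconjL _ (hxy.pow_left k) d e he⟩⟩
    have hsz : ∀ a (ha : a ∈ Fx D y), (Lx D y a).Nonempty → (C a).ncard = 27 ∨ (C a).ncard = 12 := by
      intro a ha hane
      rw [hCcard a ha hane]
      rcases hsize a ha hane with ⟨a1, a2⟩ | ⟨a1, a2⟩ <;> omega
    have hselfC : ∀ a, a ∈ Fx D y → a ∈ C a := fun a ha => by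
      rw [eC, eP]; exact Or.inr ⟨ha, Or.inl rfl⟩
    have hsubF : ∀ a, a ∈ Fx D y → (Lx D y a).Nonempty → C a ⊆ Fx D y := fun a ha hane c hc =>
      (hclosed a ha hane c hc).1
    have hdisj : ∀ i j, i < 13 → j < 13 → i ≠ j → Disjoint (W i) (W j) := by
      intro i j hi hj hij
      refine Set.disjoint_left.2 fun c hci hcj => ?_
      wlog hlt : i < j generalizing i j
      · exact this j i hj hi hij.symm hcj hci (by omega)
      rw [eW] at hci hcj
      have e1 := hsame _ (hWne i).1 (hWne i).2 c hci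
      rw [hsame _ (hWne j).1 (hWne j).2 c hcj] at e1
      obtain ⟨k, rfl⟩ : ∃ k, j = i + k := ⟨j - i, by omega⟩
      obtain ⟨a, ea⟩ : ∃ a, a = x ^ i * d * (x ^ i)⁻¹ := ⟨_, rfl⟩
      obtain ⟨g, eg⟩ : ∃ g, g = x ^ k := ⟨_, rfl⟩
      have eag : g * a * g⁻¹ = x ^ (i + k) * d * (x ^ (i + k))⁻¹ := by
        rw [eg, ea, Nat.add_comm, pow_add]; group
      rw [← eag, ← ea] at e1
      have hg13 : orderOf g = 13 := by
        refine orderOf_eq_prime (by rw [eg, ← pow_mul, mul_comm, pow_mul, ← hx, pow_orderOf_eq_one,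
          one_pow]) fun e => ?_
        have := orderOf_dvd_of_pow_eq_one (eg ▸ e)
        rw [hx] at this
        have := Nat.le_of_dvd (by omega) this
        omega
      have hg1 : g ≠ 1 := fun e => by rw [e, orderOf_one] at hg13; norm_num at hg13
      have hinvC : ∀ z ∈ C a, g * z * g⁻¹ ∈ C a := fun z hz => by
        have := hconjC g (eg ▸ hxy.pow_left k) a z hz
        rwa [e1] at this
      have haF : a ∈ Fx D y := ea ▸ (hWne i).1
      have hane : (Lx D y a).Nonempty := ea ▸ (hWne i).2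
      have hmod := ncard_fixed_modEq hg13 hinvC
      have h0' : {z | z ∈ C a ∧ Commute z g} = ∅ := by
        refine Set.eq_empty_of_forall_notMem fun z hz => hg1 ?_
        exact LocalThirteen.m22_member_thirteen hD hP h (hsubF a haF hane hz.1).1 hz.2.symm
          (by rw [← hg13, pow_orderOf_eq_one])
      rw [h0', Set.ncard_empty, Nat.ModEq] at hmod
      rcases hsz a haF hane with e | e <;> omega
    have hf : 13 * 12 ≤ (Fx D y).ncard := by
      have h3 : 13 * 12 ≤ ((Finset.range 13).biUnion fun k => (W k).toFinset).card := by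
        rw [Finset.card_biUnion]
        · refine le_trans (le_of_eq ?_) (Finset.card_nsmul_le_sum _ _ 12 fun k _ => ?_)
          · simp
          · rw [← Set.ncard_eq_toFinset_card', eW]
            rcases hsz _ (hWne k).1 (hWne k).2 with e | e <;> omega
        · intro i hi j hj hij
          rw [Function.onFun, Set.disjoint_toFinset]
          exact hdisj i j (Finset.mem_range.1 hi) (Finset.mem_range.1 hj) hij
      refine h3.trans (le_of_le_of_eq (Finset.card_le_card fun c hc => ?_)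
        (Set.ncard_eq_toFinset_card' _).symm)
      obtain ⟨k, -, hk⟩ := Finset.mem_biUnion.1 hc
      rw [Set.mem_toFinset, eW] at hk
      rw [Set.mem_toFinset]
      exact hsubF _ (hWne k).1 (hWne k).2 hk
    have hb := m22_srg_bound hD hP h (S := Fx D y) (fun e he => he.1) (K := 18) fun a ha => by
      have hsub : {e | e ∈ Fx D y ∧ e ∈ nbrs D a} ⊆ Lx D y a := fun e he => ⟨he.2, he.1.2⟩
      refine (Set.ncard_le_ncard hsub).trans ?_
      rcases (Lx D y a).eq_empty_or_nonempty with e | e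
      · rw [e, Set.ncard_empty]; omega
      · rcases hsize a ha e with ⟨a1, a2⟩ | ⟨a1, a2⟩ <;> omega
    omega
  -- pairwise non-commuting: the number is a power of three
  intro d hdD hdy
  have hd : d ∈ Fx D y := ⟨hdD, hdy⟩
  have hnc : ∀ a ∈ Fx D y, ∀ b ∈ Fx D y, a ≠ b → ¬ Commute a b := fun a ha b hb hne hc => by
    have : b ∈ Lx D y a := (hL a b).2 ⟨hb, hne.symm, hc⟩
    rw [hiso a ha] at this
    exact this
  have hb45 : (Fx D y).ncard ≤ 45 := m22_srg_bound hD hP h (S := Fx D y) (fun e he => he.1) (K := 0)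
    fun a ha => by
      rw [Nat.le_zero, Set.ncard_eq_zero (Set.toFinite _)]
      exact Set.eq_empty_of_forall_notMem fun e he => by
        have : e ∈ Lx D y a := ⟨he.2, he.1.2⟩
        rw [hiso a ha] at this
        exact this
  have hx13 : 13 ∣ (Fx D y).ncard := by
    have hinv : ∀ a ∈ Fx D y, x * a * x⁻¹ ∈ Fx D y := fun a ha =>
      ⟨hD.2.1 x a ha.1, (hxy.mul_left ha.2).mul_left hxy.inv_left⟩
    have hmod := ncard_fixed_modEq hx hinv
    have h0' : {z | z ∈ Fx D y ∧ Commute z x} = ∅ := by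
      refine Set.eq_empty_of_forall_notMem fun z hz => ?_
      have hx1 := LocalThirteen.m22_member_thirteen hD hP h hz.1.1 hz.2.symm
        (by rw [← hx, pow_orderOf_eq_one])
      rw [hx1, orderOf_one] at hx
      norm_num at hx
    rw [h0', Set.ncard_empty] at hmod
    exact Nat.modEq_zero_iff_dvd.1 hmod.symm
  obtain ⟨H, eH⟩ : ∃ H : Subgroup G, H = Subgroup.closure (Fx D y) := ⟨_, rfl⟩
  have hFH : Fx D y ⊆ H := eH ▸ Subgroup.subset_closure
  have hHF : ∀ g ∈ H, ∀ a ∈ Fx D y, g * a * g⁻¹ ∈ Fx D y := by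
    intro g hg a ha
    refine ⟨hD.2.1 g a ha.1, ?_⟩
    have hgy : Commute g y := by
      rw [eH] at hg
      refine (Subgroup.mem_centralizer_singleton_iff.1 ((Subgroup.closure_le _).2 ?_ hg))
      exact fun b hb => Subgroup.mem_centralizer_singleton_iff.2 hb.2.eq
    exact (hgy.mul_left ha.2).mul_left hgy.inv_left
  obtain ⟨d', ed'⟩ : ∃ d' : ↥H, (d' : G) = d := ⟨⟨d, hFH hd⟩, rfl⟩
  have hprods : ∀ g : ↥H, d' * (g * d' * g⁻¹) ∈ Cfsg.pCore 3 ↥H := by
    refine fun g => CfsgLib.Perm.InvolProd.products_mem_pCore Nat.prime_three (by norm_num) d' ?_ ?_ g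
    · rw [← Subgroup.orderOf_coe, ed', hD.1.1 d hdD]
    · intro k
      have hb : ((k * d' * k⁻¹ : ↥H) : G) ∈ Fx D y := by
        simpa [ed'] using hHF (k : G) k.2 d hd
      rw [show orderOf (d' * (k * d' * k⁻¹)) = orderOf (d * ((k * d' * k⁻¹ : ↥H) : G)) by
        rw [← Subgroup.orderOf_coe, Subgroup.coe_mul, ed']]
      rcases eq_or_ne ((k * d' * k⁻¹ : ↥H) : G) d with e | hne
      · exact ⟨0, by rw [e, Trans3.sq_one hD.1 hdD, orderOf_one, pow_zero]⟩
      · refine ⟨1, orderOf_eq_prime (Trans3.pow_three hD.1 hdD hb.1 (hnc d hd _ hb hne.symm)) fun e => ?_⟩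
        have e' := eq_inv_of_mul_eq_one_left e
        rw [Trans3.inv_eq hD.1 hb.1] at e'
        exact hne e'.symm
  obtain ⟨O, eO⟩ : ∃ O : Subgroup G, O = (Cfsg.pCore 3 ↥H).map H.subtype := ⟨_, rfl⟩
  have horb := card_orbit_mul (H := O) (x := d) (O := Fx D y)
    (fun g hg => by
      rw [eO] at hg
      obtain ⟨g', -, rfl⟩ := hg
      exact hHF _ g'.2 d hd)
    (fun e he => by
      rcases eq_or_ne e d with rfl | hne
      · exact ⟨1, one_mem _, by group⟩
      refine ⟨d * e, ?_, ?_⟩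
      · have hde := Trans3.braid hD.1 hdD he.1 (hnc d hd e he hne.symm)
        let g : ↥H := d' * ⟨e, hFH he⟩
        have hg' : ((g * d' * g⁻¹ : ↥H) : G) = e := by
          show (d' : G) * e * (d' : G) * ((d' : G) * e)⁻¹ = e
          rw [ed', mul_inv_rev, Trans3.inv_eq hD.1 hdD, Trans3.inv_eq hD.1 he.1, hde]
          rw [show e * d * e * (e * d) = e * (d * (e * e) * d) by group, Trans3.sq_one hD.1 he.1,
            mul_one, Trans3.sq_one hD.1 hdD, mul_one]
        rw [eO]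
        refine ⟨_, hprods g, ?_⟩
        rw [Subgroup.coe_subtype, Subgroup.coe_mul, hg', ed']
      · rw [mul_inv_rev, Trans3.inv_eq hD.1 hdD, Trans3.inv_eq hD.1 he.1,
          Trans3.braid hD.1 hdD he.1 (hnc d hd e he hne.symm)]
        rw [show e * d * e * (e * d) = e * (d * (e * e) * d) by group, Trans3.sq_one hD.1 he.1,
          mul_one, Trans3.sq_one hD.1 hdD, mul_one])
  have hp : IsPGroup 3 O := eO ▸ (CfsgLib.Solvable.pCore_isPGroup 3).map _
  obtain ⟨n, hn⟩ := IsPGroup.iff_card.1 hp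
  rw [hn] at horb
  have h13 : 13 ∣ 3 ^ n := horb ▸ dvd_mul_of_dvd_left hx13 _
  have := Nat.Prime.dvd_of_dvd_pow (by norm_num : Nat.Prime 13) h13
  norm_num at this

end CfsgLib.Trans3.Fi
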