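import Cfsg.Agent.Lib.Trans3.Fi.U6ThreeClass
import Cfsg.Agent.Lib.Trans3.Fi.M22Three

/-!
Elements of order three of a group of type M(22) commuting with a transposition: the number of
its neighbours they commute with (45, 18 or 9) is the same for all such transpositions, determines
the class, and gives the largest number of commuting transpositions they centralise (6, 3, 4).
-/

set_option autoImplicit false
set_option linter.unusedSectionVars false
set_option linter.style.haveILetI false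

namespace CfsgLib.Trans3.Fi

open scoped _root_.Classical

/-- A product of two non-commuting members. -/
def PairProd {G : Type*} [Group G] (D : Set G) (y : G) : Prop :=
  ∃ u ∈ D, ∃ v ∈ D, ¬ Commute u v ∧ y = u * v

variable {G : Type*} [Group G] [Finite G] {D : Set G}
variable (hD : Cfsg.IsThreeTranspositionGroup D) (hP : Cfsg.IsPrimitiveUnderConj D)
variable (h : Cfsg.IsOfTypeM22 G D)

omit [Finite G] in
theorem pair_move_three (hD : Cfsg.IsThreeTranspositionGroup D) {d e : G} (hd : d ∈ D) (he : e ∈ D)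
    (hn : ¬ Commute d e) : d * e * d * (d * e)⁻¹ = e := by
  rw [mul_inv_rev, Trans3.inv_eq hD.1 hd, Trans3.inv_eq hD.1 he, Trans3.braid hD.1 hd he hn,
    show e * d * e * (e * d) = e * d * (e * e) * d by group, Trans3.sq_one hD.1 he, mul_one,
    mul_assoc, Trans3.sq_one hD.1 hd, mul_one]

include hD hP h

/-- The image of a fixed neighbourhood in the neighbourhood group. -/
theorem lx_image {y d : G} (hy : orderOf y = 3) (hd : d ∈ Fx D y) :
    ∃ (yb : Qd D d), yb ^ 3 = 1 ∧ yb ≠ 1 ∧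
      (∃ x : ↥(Hd D d), (x : G) = y ∧ (x : Qd D d) = yb) ∧
      (Lx D y d).ncard = (Fx (Db D d) yb).ncard := by
  have hG := gated_m22 hD hP h
  have hN := hG.toNice
  have hyH : y ∈ Hd D d := mem_Hd_of_commute hG hd.1 hd.2
  obtain ⟨x, hx⟩ : ∃ x : ↥(Hd D d), (x : G) = y := ⟨⟨y, hyH⟩, rfl⟩
  have hxb : orderOf (x : Qd D d) = 3 :=
    orderOf_bar hG hd.1 Nat.prime_three (by norm_num) (by rw [hx, hy])
  obtain ⟨β, hβ⟩ : ∃ β : G → Qd D d, ∀ (e : G) (he : e ∈ nbrs D d), β e = bar he :=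
    ⟨fun e => if he : e ∈ nbrs D d then bar he else 1, fun e he => dif_pos he⟩
  have hinj : Set.InjOn β (Lx D y d) := fun a ha b hb e => by
    rw [hβ a ha.1, hβ b hb.1] at e
    exact hN.bar_inj hd.1 ha.1 hb.1 e
  have himg : β '' Lx D y d = Fx (Db D d) (x : Qd D d) := by
    ext q
    constructor
    · rintro ⟨e, ⟨he, hec⟩, rfl⟩
      rw [hβ e he]
      exact ⟨bar_mem he, (commute_bar_iff hG hd.1 he).2 (hx ▸ hec)⟩
    · rintro ⟨hq, hc⟩
      obtain ⟨e, he, rfl⟩ := exists_bar hq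
      exact ⟨e, ⟨he, hx ▸ (commute_bar_iff hG hd.1 he).1 hc⟩, hβ e he⟩
  refine ⟨(x : Qd D d), ?_, fun e => ?_, ⟨x, hx, rfl⟩, by rw [← himg, hinj.ncard_image]⟩
  · rw [← hxb, pow_orderOf_eq_one]
  · rw [e, orderOf_one] at hxb
    norm_num at hxb

/-- The number of fixed neighbours; 45 is a product of two non-commuting members. -/
theorem lx_values {y d : G} (hy : orderOf y = 3) (hd : d ∈ Fx D y) :
    ((Lx D y d).ncard = 45 ∨ (Lx D y d).ncard = 18 ∨ (Lx D y d).ncard = 9) ∧
      ((Lx D y d).ncard = 45 ↔ PairProd D y) := by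
  have hG := gated_m22 hD hP h
  have hN := hG.toNice
  have hPre := pre_of_group hD
  obtain ⟨yb, hyb, hne, ⟨x, hx, hxb⟩, hcard⟩ := lx_image hD hP h hy hd
  obtain ⟨hv, h45⟩ := u6_three_values (m22_isU6 hD h hd.1) (hN.group_Db hd.1) hyb hne
  rw [← hcard] at hv h45
  refine ⟨hv, h45.trans ?_⟩
  constructor
  · rintro ⟨p, hp, q, hq, hn, hpq⟩
    obtain ⟨u, hu, rfl⟩ := exists_bar hp
    obtain ⟨v, hv', rfl⟩ := exists_bar hq
    have huv : ¬ Commute u v := fun e => hn ((commute_bar hPre hu hv').2 e)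
    refine ⟨u, hu.1, v, hv'.1, huv, ?_⟩
    have ho : orderOf (u * v) = 3 := by
      haveI : Fact (Nat.Prime 3) := ⟨Nat.prime_three⟩
      refine orderOf_eq_prime (Trans3.pow_three hD.1 hu.1 hv'.1 huv) fun e => huv ?_
      have e' := eq_inv_of_mul_eq_one_left e
      rw [Trans3.inv_eq hD.1 hv'.1] at e'
      rw [e']
    let u' : ↥(Hd D d) := ⟨u, Subgroup.subset_closure hu⟩
    let v' : ↥(Hd D d) := ⟨v, Subgroup.subset_closure hv'⟩
    have := eq_of_bar_eq hG hd.1 Nat.prime_three (by norm_num) (x := x) (y := u' * v')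
      (by rw [hx, hy]) ho (by rw [hxb, hpq]; rfl)
    rw [← hx, this]
    rfl
  · rintro ⟨u, hu, v, hv', huv, rfl⟩
    obtain ⟨du, dv⟩ := (commute_prod_iff hD hu hv' huv hd.1).1 hd.2
    have nu : u ∈ nbrs D d := ⟨hu, fun e => huv (e ▸ dv.symm), du.symm⟩
    have nv : v ∈ nbrs D d := ⟨hv', fun e => huv (e ▸ du), dv.symm⟩
    refine ⟨bar nu, bar_mem nu, bar nv, bar_mem nv, fun e => huv ((commute_bar hPre nu nv).1 e), ?_⟩
    rw [← hxb]
    show (x : Qd D d) = QuotientGroup.mk _ * QuotientGroup.mk _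
    rw [← QuotientGroup.mk_mul]
    exact congrArg QuotientGroup.mk (Subtype.ext hx)

/-- Apart from the products the fixed neighbours fall into classes. -/
theorem lx_multi {y d : G} (hy : orderOf y = 3) (hd : d ∈ Fx D y) (hne : ¬ PairProd D y) :
    ∃ s, ((s = 9 ∧ (Lx D y d).ncard = 18) ∨ (s = 3 ∧ (Lx D y d).ncard = 9)) ∧
      (∀ a ∈ Lx D y d, {b | b ∈ Lx D y d ∧ (b = a ∨ ¬ Commute a b)}.ncard = s) ∧
      ∀ a ∈ Lx D y d, ∀ b ∈ Lx D y d, ∀ c ∈ Lx D y d, ¬ Commute a b → ¬ Commute b c →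
        a = c ∨ ¬ Commute a c := by
  obtain ⟨hv, -⟩ := lx_values hD hP h hy hd
  rcases (local_shape hD hP h hy hd).1 with ⟨u, hu, v, hv', hn, e⟩ | ⟨s, h0, h1, h2⟩
  · exact absurd ⟨u, hu.1, v, hv'.1, hn, e⟩ hne
  · refine ⟨s, ?_, h1, h2⟩
    rcases h0 with e | e | e
    · rw [e, Set.ncard_empty] at hv; omega
    · exact Or.inl e
    · exact Or.inr e

omit [Finite G] hP h in
theorem lx_conj {y d g : G} (hg : Commute g y) :
    (Lx D y (g * d * g⁻¹)).ncard = (Lx D y d).ncard := by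
  have he : Lx D y (g * d * g⁻¹) = MulAut.conj g '' Lx D y d := by
    have hy : g * y * g⁻¹ = y := conj_eq_of_commute hg
    ext e
    constructor
    · rintro ⟨he, hey⟩
      refine ⟨g⁻¹ * e * g, ⟨⟨by simpa using hD.2.1 g⁻¹ e he.1, fun h' => he.2.1 (by rw [← h']; group),
        ?_⟩, ?_⟩, by simp [mul_assoc]⟩
      · rw [← commute_conj_iff g, show g * (g⁻¹ * e * g) * g⁻¹ = e by group]; exact he.2.2
      · rw [← commute_conj_iff g, show g * (g⁻¹ * e * g) * g⁻¹ = e by group, hy]; exact hey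
    · rintro ⟨e, ⟨he, hey⟩, rfl⟩
      refine ⟨⟨hD.2.1 g e he.1, fun h' => he.2.1 ?_, (commute_conj_iff g d e).2 he.2.2⟩, ?_⟩
      · rw [MulAut.conj_apply] at h'
        exact mul_left_cancel (mul_right_cancel h')
      · rw [MulAut.conj_apply]
        conv_rhs => rw [← hy]
        exact (commute_conj_iff g e y).2 hey
  rw [he, Set.ncard_image_of_injective _ (MulAut.conj g).injective]

/-- The number of fixed neighbours is the same for all fixed members. -/
theorem lx_const {y d e : G} (hy : orderOf y = 3) (hd : d ∈ Fx D y) (he : e ∈ Fx D y) :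
    (Lx D y d).ncard = (Lx D y e).ncard := by
  by_cases hp : PairProd D y
  · rw [(lx_values hD hP h hy hd).2.2 hp, (lx_values hD hP h hy he).2.2 hp]
  by_cases hc : Commute d e
  · rcases eq_or_ne d e with rfl | hne
    · rfl
    have ne : e ∈ Lx D y d := ⟨⟨he.1, hne.symm, hc⟩, he.2⟩
    have nd : d ∈ Lx D y e := ⟨⟨hd.1, hne, hc.symm⟩, hd.2⟩
    obtain ⟨s, hs, hcl, -⟩ := lx_multi hD hP h hy hd hp
    obtain ⟨t, ht, hct, -⟩ := lx_multi hD hP h hy he hp
    have key : ∀ (a b : G) (u : ℕ), b ∈ Lx D y a →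
        {c | c ∈ Lx D y a ∧ (c = b ∨ ¬ Commute b c)}.ncard = u →
        (Lx D y a).ncard = u + {c | c ∈ Lx D y a ∧ c ∈ nbrs D b}.ncard := by
      intro a b u hb hu
      rw [← hu, ← Set.ncard_union_eq ?_ (Set.toFinite _) (Set.toFinite _)]
      · congr 1
        ext c
        constructor
        · intro hc'
          by_cases h' : c = b ∨ ¬ Commute b c
          · exact Or.inl ⟨hc', h'⟩
          · push Not at h'
            exact Or.inr ⟨hc', hc'.1.1, h'.1, h'.2⟩
        · rintro (h' | h') <;> exact h'.1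
      · refine Set.disjoint_left.2 fun c h1 h2 => ?_
        rcases h1.2 with e' | e'
        exacts [h2.2.2.1 e', e' h2.2.2.2]
    have k1 := key d e s ne (hcl e ne)
    have k2 := key e d t nd (hct d nd)
    have hsame : {c | c ∈ Lx D y d ∧ c ∈ nbrs D e} = {c | c ∈ Lx D y e ∧ c ∈ nbrs D d} := by
      ext c
      exact ⟨fun ⟨⟨h1, h2⟩, h3⟩ => ⟨⟨h3, h2⟩, h1⟩, fun ⟨⟨h1, h2⟩, h3⟩ => ⟨⟨h3, h2⟩, h1⟩⟩
    rw [hsame] at k1
    omega
  · rw [← lx_conj hD (d := d) (g := d * e) (hd.2.mul_left he.2), pair_move_three hD hd.1 he.1 hc]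

/-- Elements with as many fixed neighbours are conjugate. -/
theorem three_conj {y y' d d' : G} (hy : orderOf y = 3) (hy' : orderOf y' = 3) (hd : d ∈ Fx D y)
    (hd' : d' ∈ Fx D y') (hk : (Lx D y d).ncard = (Lx D y' d').ncard) :
    ∃ g, g * y * g⁻¹ = y' := by
  have hG := gated_m22 hD hP h
  have hN := hG.toNice
  obtain ⟨g₁, hg₁⟩ := hP.1 d hd.1 d' hd'.1
  have hy1 : orderOf (g₁ * y * g₁⁻¹) = 3 := by
    rw [← MulAut.conj_apply, MulEquiv.orderOf_eq, hy]
  have hd1 : d' ∈ Fx D (g₁ * y * g₁⁻¹) := ⟨hd'.1, hg₁ ▸ (commute_conj_iff g₁ d y).2 hd.2⟩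
  have hk1 : (Lx D (g₁ * y * g₁⁻¹) d').ncard = (Lx D y d).ncard := by
    have he : Lx D (g₁ * y * g₁⁻¹) d' = MulAut.conj g₁ '' Lx D y d := by
      rw [← hg₁]
      ext e
      constructor
      · rintro ⟨he, hey⟩
        refine ⟨g₁⁻¹ * e * g₁, ⟨⟨by simpa using hD.2.1 g₁⁻¹ e he.1,
          fun h' => he.2.1 (by rw [← h']; group), ?_⟩, ?_⟩, by simp [mul_assoc]⟩
        · rw [← commute_conj_iff g₁, show g₁ * (g₁⁻¹ * e * g₁) * g₁⁻¹ = e by group]; exact he.2.2
        · rw [← commute_conj_iff g₁, show g₁ * (g₁⁻¹ * e * g₁) * g₁⁻¹ = e by group]; exact hey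
      · rintro ⟨e, ⟨he, hey⟩, rfl⟩
        exact ⟨⟨hD.2.1 g₁ e he.1, fun h' => he.2.1 (mul_left_cancel (mul_right_cancel h')),
          (commute_conj_iff g₁ d e).2 he.2.2⟩, (commute_conj_iff g₁ e y).2 hey⟩
    rw [he, Set.ncard_image_of_injective _ (MulAut.conj g₁).injective]
  obtain ⟨a, ha, ha1, ⟨x, hx, hxa⟩, hca⟩ := lx_image hD hP h hy1 hd1
  obtain ⟨b, hb, hb1, ⟨x', hx', hxb⟩, hcb⟩ := lx_image hD hP h hy' hd'
  obtain ⟨q, hq⟩ := u6_three_conj (m22_isU6 hD h hd'.1) (hN.group_Db hd'.1) ha ha1 hb hb1 (by omega)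
  obtain ⟨k, rfl⟩ := QuotientGroup.mk_surjective q
  have hkx : k * x * k⁻¹ = x' := by
    refine eq_of_bar_eq hG hd'.1 Nat.prime_three (by norm_num) ?_ (by rw [hx', hy']) ?_
    · rw [Subgroup.coe_mul, Subgroup.coe_mul, Subgroup.coe_inv, ← MulAut.conj_apply,
        MulEquiv.orderOf_eq, hx, hy1]
    · rw [QuotientGroup.mk_mul, QuotientGroup.mk_mul, QuotientGroup.mk_inv, hxa, hxb, hq]
  refine ⟨(k : G) * g₁, ?_⟩
  rw [← hx', ← hkx, Subgroup.coe_mul, Subgroup.coe_mul, Subgroup.coe_inv, hx]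
  group

/-- Every number occurs at every member. -/
theorem three_exists {d : G} (hd : d ∈ D) {n : ℕ} (hn : n ∈ [45, 18, 9]) :
    ∃ y, orderOf y = 3 ∧ d ∈ Fx D y ∧ (Lx D y d).ncard = n := by
  have hG := gated_m22 hD hP h
  have hN := hG.toNice
  obtain ⟨q, hq3, hq1, hqn⟩ := u6_three_exists (m22_isU6 hD h hd) (hN.group_Db hd) hn
  obtain ⟨x, rfl⟩ := QuotientGroup.mk_surjective q
  have hsq : ∀ z : ↥(Hd D d), z ∈ Subgroup.center ↥(Hd D d) → z ^ 2 = 1 := by
    intro z hz
    refine Subtype.ext ?_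
    rcases (mem_center_iff_Hd hG hd).1 hz with e | e
    · rw [Subgroup.coe_pow, e, one_pow, Subgroup.coe_one]
    · rw [Subgroup.coe_pow, e, pow_two, Trans3.sq_one hD.1 hd, Subgroup.coe_one]
  obtain ⟨z, ez⟩ : ∃ z, z = x ^ 4 := ⟨_, rfl⟩
  have hzq : (z : Qd D d) = (x : Qd D d) := by
    rw [ez, QuotientGroup.mk_pow, pow_succ, hq3, one_mul]
  have hz3 : z ^ 3 = 1 := by
    have h1 := hsq _ ((QuotientGroup.eq_one_iff (x ^ 3)).1 (by rw [QuotientGroup.mk_pow, hq3]))
    rw [ez, ← pow_mul, show 4 * 3 = 3 * 2 * 2 by norm_num, pow_mul, pow_mul, h1, one_pow]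
  haveI : Fact (Nat.Prime 3) := ⟨Nat.prime_three⟩
  have hord : orderOf (z : G) = 3 := by
    refine orderOf_eq_prime (by rw [← Subgroup.coe_pow, hz3, Subgroup.coe_one]) fun e => hq1 ?_
    rw [← hzq, show z = 1 from Subtype.ext e, QuotientGroup.mk_one]
  have hdz : d ∈ Fx D (z : G) := ⟨hd, commute_Hd z.2⟩
  refine ⟨z, hord, hdz, ?_⟩
  obtain ⟨zb, -, -, ⟨x', hx', hxb⟩, hc⟩ := lx_image hD hP h hord hdz
  rw [hc, ← hxb, show x' = z from Subtype.ext hx', hzq, hqn]

/-- The largest number of pairwise commuting fixed members. -/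
theorem three_width {y d : G} (hy : orderOf y = 3) (hd : d ∈ Fx D y) :
    ((Lx D y d).ncard = 45 → Cfsg.commutingWidth (Fx D y) = 6) ∧
      ((Lx D y d).ncard = 18 → Cfsg.commutingWidth (Fx D y) = 3) ∧
      ((Lx D y d).ncard = 9 → Cfsg.commutingWidth (Fx D y) = 4) := by
  have hv := lx_values hD hP h hy hd
  refine ⟨fun h45 => ?_, ?_⟩
  · obtain ⟨u, hu, v, hv', huv, rfl⟩ := hv.2.1 h45
    have he : Fx D (u * v) = CN D u v := by
      ext e
      exact ⟨fun he => ⟨he.1, (commute_prod_iff hD hu hv' huv he.1).1 he.2⟩,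
        fun he => ⟨he.1, (commute_prod_iff hD hu hv' huv he.1).2 he.2⟩⟩
    rw [he]
    exact m22_pair_width hD hP h hu hv' huv
  have main : ∀ k s, (Lx D y d).ncard = k → ((s = 9 ∧ k = 18) ∨ (s = 3 ∧ k = 9)) →
      Cfsg.commutingWidth (Fx D y) = 1 + k / s := by
    intro k s hk hks
    have hp : ¬ PairProd D y := fun e => by have := hv.2.2 e; omega
    refine le_antisymm ?_ ?_
    · obtain ⟨E, hE, hcomm, hn⟩ := exists_commutingWidth (Fx D y)
      rw [← hn]
      rcases E.eq_empty_or_nonempty with e | ⟨e, he⟩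
      · rw [e, Set.ncard_empty]; exact Nat.zero_le _
      obtain ⟨t, ht, hct, htr⟩ := lx_multi hD hP h hy (hE he) hp
      rw [lx_const hD hP h hy (hE he) hd, hk] at ht
      have hts : t = s := by omega
      subst hts
      obtain ⟨E', eE'⟩ : ∃ E' : Finset G, ∀ z, z ∈ E' ↔ z ∈ E ∧ z ≠ e :=
        ⟨(Set.toFinite {z | z ∈ E ∧ z ≠ e}).toFinset, fun z => Set.Finite.mem_toFinset _⟩
      have hsub : ∀ z ∈ E', z ∈ Lx D y e := fun z hz =>
        ⟨⟨(hE ((eE' z).1 hz).1).1, ((eE' z).1 hz).2, hcomm e he z ((eE' z).1 hz).1⟩,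
          (hE ((eE' z).1 hz).1).2⟩
      obtain ⟨K, eK⟩ : ∃ K : G → Finset G, ∀ a b, b ∈ K a ↔
          b ∈ Lx D y e ∧ (b = a ∨ ¬ Commute a b) :=
        ⟨fun a => (Set.toFinite {b | b ∈ Lx D y e ∧ (b = a ∨ ¬ Commute a b)}).toFinset,
          fun a b => Set.Finite.mem_toFinset _⟩
      have hKc : ∀ a ∈ E', (K a).card = t := by
        intro a ha
        rw [← hct a (hsub a ha), ← Set.ncard_coe_finset]
        congr 1
        ext b
        exact eK a b
      have hdisj : ∀ a ∈ E', ∀ b ∈ E', a ≠ b → Disjoint (K a) (K b) := by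
        intro a ha b hb hab
        refine Finset.disjoint_left.2 fun c hca hcb => ?_
        obtain ⟨hc, hca'⟩ := (eK a c).1 hca
        obtain ⟨-, hcb'⟩ := (eK b c).1 hcb
        have cab : Commute a b := hcomm a ((eE' a).1 ha).1 b ((eE' b).1 hb).1
        rcases hca' with rfl | hca' <;> rcases hcb' with e' | hcb'
        · exact hab e'
        · exact hcb' cab.symm
        · exact hca' (e' ▸ cab)
        · exact (htr a (hsub a ha) c hc b (hsub b hb) hca' fun e' => hcb' e'.symm).elim hab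
            fun h' => h' cab
      have hbi := Finset.card_biUnion (s := E') (t := K) hdisj
      rw [Finset.sum_congr rfl hKc, Finset.sum_const, smul_eq_mul] at hbi
      have hle : (E'.biUnion K).card ≤ k := by
        rw [← hk, lx_const hD hP h hy hd (hE he), ← Set.ncard_coe_finset]
        refine Set.ncard_le_ncard (fun b hb => ?_) (Set.toFinite _)
        obtain ⟨a, -, hb'⟩ := Finset.mem_biUnion.1 (Finset.mem_coe.1 hb)
        exact ((eK a b).1 hb').1
      have hEc : E.ncard = E'.card + 1 := by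
        rw [← Set.ncard_diff_singleton_add_one he (Set.toFinite E), ← Set.ncard_coe_finset]
        congr 2
        ext z
        rw [Finset.mem_coe, eE']
        rfl
      have : E'.card ≤ k / t := by
        rw [Nat.le_div_iff_mul_le (by omega)]
        omega
      omega
    · obtain ⟨t, ht, hct, htr⟩ := lx_multi hD hP h hy hd hp
      rw [hk] at ht
      have hts : t = s := by omega
      subst hts
      obtain ⟨C, eC⟩ : ∃ C : G → Set G, ∀ a, C a =
          {b | b ∈ Lx D y d ∧ (b = a ∨ ¬ Commute a b)} := ⟨_, fun _ => rfl⟩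
      have hC : ∀ a ∈ Lx D y d, (C a).ncard = t := fun a ha => by rw [eC]; exact hct a ha
      obtain ⟨a, ha⟩ : (Lx D y d).Nonempty := by
        rw [← Set.ncard_pos]; omega
      obtain ⟨b, hb, hab⟩ : ∃ b ∈ Lx D y d, b ∉ C a := by
        by_contra! hall
        have := Set.ncard_le_ncard (fun b hb => hall b hb) (Set.toFinite (C a))
        rw [hC a ha] at this
        omega
      have cab : a ≠ b ∧ Commute a b := by
        rw [eC] at hab
        simp only [Set.mem_ofPred_eq, not_and, not_or, not_not] at hab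
        exact ⟨Ne.symm (hab hb).1, (hab hb).2⟩
      rcases hks with ⟨rfl, rfl⟩ | ⟨rfl, rfl⟩
      · have := le_commutingWidth (D := Fx D y) (E := {d, a, b}) (by
            rintro z (rfl | rfl | rfl)
            exacts [hd, ⟨ha.1.1, ha.2⟩, ⟨hb.1.1, hb.2⟩]) (by
            rintro z (rfl | rfl | rfl) w (rfl | rfl | rfl)
            exacts [Commute.refl _, ha.1.2.2, hb.1.2.2, ha.1.2.2.symm, Commute.refl _, cab.2,
              hb.1.2.2.symm, cab.2.symm, Commute.refl _])
        rw [Set.ncard_insert_of_notMem (by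
          rintro (e | e)
          exacts [ha.1.2.1 e.symm, hb.1.2.1 e.symm]), Set.ncard_pair cab.1] at this
        norm_num
        exact this
      · obtain ⟨c, hc, hca, hcb⟩ : ∃ c ∈ Lx D y d, c ∉ C a ∧ c ∉ C b := by
          by_contra! hall
          have hsub : Lx D y d ⊆ C a ∪ C b := fun c hc => by
            by_cases hca : c ∈ C a
            exacts [Or.inl hca, Or.inr (hall c hc hca)]
          have := (Set.ncard_le_ncard hsub).trans (Set.ncard_union_le _ _)
          rw [hC a ha, hC b hb] at this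
          omega
        have cac : a ≠ c ∧ Commute a c := by
          rw [eC] at hca
          simp only [Set.mem_ofPred_eq, not_and, not_or, not_not] at hca
          exact ⟨Ne.symm (hca hc).1, (hca hc).2⟩
        have cbc : b ≠ c ∧ Commute b c := by
          rw [eC] at hcb
          simp only [Set.mem_ofPred_eq, not_and, not_or, not_not] at hcb
          exact ⟨Ne.symm (hcb hc).1, (hcb hc).2⟩
        have := le_commutingWidth (D := Fx D y) (E := {d, a, b, c}) (by
            rintro z (rfl | rfl | rfl | rfl)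
            exacts [hd, ⟨ha.1.1, ha.2⟩, ⟨hb.1.1, hb.2⟩, ⟨hc.1.1, hc.2⟩]) (by
            rintro z (rfl | rfl | rfl | rfl) w (rfl | rfl | rfl | rfl)
            exacts [Commute.refl _, ha.1.2.2, hb.1.2.2, hc.1.2.2,
              ha.1.2.2.symm, Commute.refl _, cab.2, cac.2,
              hb.1.2.2.symm, cab.2.symm, Commute.refl _, cbc.2,
              hc.1.2.2.symm, cac.2.symm, cbc.2.symm, Commute.refl _])
        rw [Set.ncard_insert_of_notMem (by
          rintro (e | e | e)
          exacts [ha.1.2.1 e.symm, hb.1.2.1 e.symm, hc.1.2.1 e.symm]),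
          Set.ncard_insert_of_notMem (by
          rintro (e | e)
          exacts [cab.1 e, cac.1 e]), Set.ncard_pair cbc.1] at this
        norm_num
        exact this
  exact ⟨fun h18 => main 18 9 h18 (Or.inl ⟨rfl, rfl⟩), fun h9 => main 9 3 h9 (Or.inr ⟨rfl, rfl⟩)⟩

end CfsgLib.Trans3.Fi
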