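import Cfsg.Agent.Lib.Trans3.Fi.U6Seven
import Cfsg.Agent.Lib.Trans3.Fi.PLocalUp
import Cfsg.Agent.Lib.Trans3.Sym

/-!
Elements of order seven in PSU₆(2), M(22) and M(23).
-/

set_option autoImplicit false
set_option linter.unusedSectionVars false
set_option linter.style.haveILetI false

namespace CfsgLib.Trans3.Fi

variable {G : Type*} [Group G] [Finite G] {D : Set G}

theorem loc_u6_seven (hU : IsU6 G) (hD : Cfsg.IsThreeTranspositionGroup D) : Loc D 7 1 := by
  obtain ⟨F, _, _, f, hF, hf, hk⟩ := exists_model hU hD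
  refine ⟨fun x hx => ?_, fun x hx => ?_, fun x y hx hy => ?_⟩
  · have hempty : Fx D x = ∅ := Set.eq_empty_of_forall_notMem fun d hd =>
      seven_no_fixed hF f hf hk hD hx hd.1 hd.2
    refine ⟨1, fun a b _ => Subsingleton.elim a b, ?_⟩
    rw [hempty, Set.image_eq_empty]
    refine Set.eq_empty_of_forall_notMem fun σ hσ => ?_
    obtain ⟨a, b, hab, -⟩ := hσ
    exact hab (Subsingleton.elim a b)
  · rw [seven_centralizer hF f hf hk hD hx]; rfl
  · refine conj_of_sylow (p := 7) (c := 7) (by norm_num) ?_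
      (fun z hz => seven_centralizer hF f hf hk hD hz) ?_ x y hx hy
    · rw [u6_card hU]; norm_num
    · rw [u6_card hU]
      intro e h1 h2 _ h4
      interval_cases e <;> omega

section M22

variable (hD : Cfsg.IsThreeTranspositionGroup D) (hP : Cfsg.IsPrimitiveUnderConj D)
variable (h : Cfsg.IsOfTypeM22 G D)
include hD hP h

theorem loc_below22_seven {d : G} (hd : d ∈ D) : Loc (Db D d) 7 1 :=
  loc_u6_seven (m22_isU6 hD h hd) ((nice_m22 hD h).group_Db hd)

/-- Three members commute with an element of order seven. -/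
theorem m22_seven_conf {x : G} (hx : orderOf x = 7) : SymConf 3 (Fx D x) := by
  classical
  haveI := Fact.mk (show Nat.Prime 7 by norm_num)
  haveI := Fact.mk Nat.prime_three
  have hmod : (Fx D x).ncard % 7 = 3 := by
    have h1 : (Fx D x).ncard % 7 = D.ncard % 7 :=
      ncard_fixed_modEq hx (A := D) (fun a ha => hD.2.1 x a ha)
    rw [h1, m22_card_D hD hP h]
  have hind : ∀ d ∈ Fx D x, ∀ e ∈ Fx D x, Commute d e → d = e := by
    intro d hd e he hde
    by_contra hne
    have h0 := (loc_nb (gated_m22 hD hP h) (p := 7) (n := 1) (by norm_num) (by norm_num)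
      (fun d hd => loc_below22_seven hD hP h hd) le_rfl hx hd).ncard
    have hmem : e ∈ nb (Fx D x) d := ⟨he, Ne.symm hne, hde⟩
    rw [Set.eq_empty_of_forall_notMem (s := nb (Fx D x) d) fun w hw => by
      have := (Set.ncard_pos (Set.toFinite _)).2 ⟨w, hw⟩
      rw [h0] at this
      exact absurd this (by norm_num [Nat.choose])] at hmem
    exact hmem
  -- the number of fixed members is a power of three
  obtain ⟨P, eP⟩ : ∃ P, P = Subgroup.closure {z : G | ∃ a ∈ Fx D x, ∃ b ∈ Fx D x, z = a * b} :=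
    ⟨_, rfl⟩
  have hP3 : IsPGroup 3 ↥P := eP ▸ isPGroup_products (fun a ha => Trans3.sq_one hD.1 ha.1)
    (fun a ha b hb => by
      by_cases hc : Commute a b
      · rw [hind a ha b hb hc, Trans3.sq_one hD.1 hb.1, one_pow]
      · exact Trans3.pow_three hD.1 ha.1 hb.1 hc)
    (Fx_closed hD x)
  obtain ⟨d, hd⟩ : (Fx D x).Nonempty := Set.nonempty_of_ncard_ne_zero (by omega)
  have hPc : P ≤ Subgroup.centralizer ({x} : Set G) := by
    rw [eP, Subgroup.closure_le]
    rintro _ ⟨a, ha, b, hb, rfl⟩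
    exact SetLike.mem_coe.2 (Subgroup.mem_centralizer_singleton_iff.2 (ha.2.mul_left hb.2).eq)
  have horb := card_orbit_mul (H := P) (x := d) (O := Fx D x)
    (fun g hg => commute_of_mem_Fx (hPc hg) hd hD) (fun o ho => by
      by_cases hc : Commute d o
      · exact ⟨1, one_mem _, by simp [hind d hd o ho hc]⟩
      · refine ⟨d * o, eP ▸ Subgroup.subset_closure ⟨d, hd, o, ho, rfl⟩, ?_⟩
        exact conj_of_noncomm hD.1 hd.1 ho.1 hc)
  obtain ⟨j, hj⟩ := IsPGroup.iff_card.1 hP3
  obtain ⟨i, -, hi⟩ := (Nat.dvd_prime_pow Nat.prime_three).1 (hj ▸ Dvd.intro _ horb.symm :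
    (Fx D x).ncard ∣ 3 ^ j)
  -- it is at most half of all members
  have hle : 693 * (Fx D x).ncard ≤ 693 * (D \ Fx D x).ncard := by
    obtain ⟨A, eA⟩ : ∃ A : Finset G, A = (Fx D x).toFinite.toFinset := ⟨_, rfl⟩
    obtain ⟨B, eB⟩ : ∃ B : Finset G, B = (D \ Fx D x).toFinite.toFinset := ⟨_, rfl⟩
    have h1 : ∀ a ∈ A, 693 ≤ (B.filter fun e => e ∈ nbrs D a).card := by
      intro a ha
      rw [eA, Set.Finite.mem_toFinset] at ha
      rw [← card_nbrs hD h ha.1, ← Set.ncard_coe_finset]
      refine Set.ncard_le_ncard (fun e he => ?_) (Set.toFinite _)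
      simp only [eB, Finset.coe_filter, Set.Finite.mem_toFinset, Set.mem_ofPred_eq]
      exact ⟨⟨he.1, fun hf => he.2.1 (hind a ha e hf he.2.2).symm⟩, he⟩
    have h2 : ∀ e ∈ B, (A.filter fun a => e ∈ nbrs D a).card ≤ 693 := by
      intro e he
      rw [eB, Set.Finite.mem_toFinset] at he
      rw [← card_nbrs hD h he.1, ← Set.ncard_coe_finset]
      refine Set.ncard_le_ncard (fun a ha => ?_) (Set.toFinite _)
      simp only [eA, Finset.coe_filter, Set.Finite.mem_toFinset, Set.mem_ofPred_eq] at ha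
      exact ⟨ha.1.1, Ne.symm ha.2.2.1, ha.2.2.2.symm⟩
    have h3 := Finset.card_mul_le_card_mul (fun a e => e ∈ nbrs D a) h1 h2
    rw [eA, eB, ← Set.ncard_eq_toFinset_card, ← Set.ncard_eq_toFinset_card] at h3
    linarith
  have hsum : (Fx D x).ncard + (D \ Fx D x).ncard = 3510 := by
    rw [← m22_card_D hD hP h, add_comm]
    exact Set.ncard_sdiff_add_ncard_of_subset (fun e he => he.1) (Set.toFinite _)
  have h3 : (Fx D x).ncard = 3 := by
    have hb : (Fx D x).ncard ≤ 1755 := by omega
    rw [hi] at hb hmod ⊢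
    have : i < 7 := by
      by_contra! hi7
      have := Nat.pow_le_pow_right (show 0 < 3 by norm_num) hi7
      omega
    interval_cases i <;> simp_all
  -- the three form a triangle
  obtain ⟨e, he, hde⟩ := Set.exists_ne_of_one_lt_ncard (a := d) (s := Fx D x) (by omega)
  have hnc : ¬ Commute d e := fun hc => hde (hind d hd e he hc).symm
  obtain ⟨φ, hφ, f1, f2⟩ := exists_hom_perm_three (Trans3.sq_one hD.1 hd.1)
    (Trans3.sq_one hD.1 he.1) (braid hD.1 hd.1 he.1 hnc) (Ne.symm hde)
    (invol_ne_one (hD.1.1 d hd.1))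
  refine ⟨φ, hφ, Set.eq_of_subset_of_ncard_le ?_ ?_⟩
  · rintro _ ⟨σ, ⟨a, b, hab, rfl⟩, rfl⟩
    have hsw : ∀ a b : Fin 3, a ≠ b → Equiv.swap a b = Equiv.swap 0 1 ∨
        Equiv.swap a b = Equiv.swap 1 2 ∨
        Equiv.swap a b = Equiv.swap 0 1 * Equiv.swap 1 2 * Equiv.swap 0 1 := by decide +kernel
    rcases hsw a b hab with e' | e' | e' <;> rw [e']
    · rw [f1]; exact hd
    · rw [f2]; exact he
    · rw [map_mul, map_mul, f1, f2]; exact Fx_closed hD x d hd e he
  · rw [Set.ncard_image_of_injective _ hφ, ncard_swaps, h3, Fintype.card_fin]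
    norm_num [Nat.choose]

theorem loc_m22_seven : Loc D 7 3 := by
  refine loc_up (n := 1) (gated_m22 hD hP h) (by norm_num) (by norm_num)
    (fun d hd => loc_below22_seven hD hP h hd) (fun x hx => ?_)
    (fun x hx => m22_seven_conf hD hP h hx)
  haveI := Fact.mk (show Nat.Prime 7 by norm_num)
  exact exists_fixed_of_mod hD hx (by rw [m22_card_D hD hP h]; norm_num)

end M22

section M23

variable (hD : Cfsg.IsThreeTranspositionGroup D) (hP : Cfsg.IsPrimitiveUnderConj D)
variable (h : Cfsg.IsOfTypeM23 G D)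
include hD hP h

theorem loc_m23_seven : Loc D 7 5 := by
  haveI := Fact.mk (show Nat.Prime 7 by norm_num)
  have hfix : ∀ x : G, orderOf x = 7 → (Fx D x).Nonempty := fun x hx =>
    exists_fixed_of_mod hD hx (by rw [m23_card_D hD hP h]; norm_num)
  have hL : ∀ d ∈ D, Loc (Db D d) 7 3 := fun d hd =>
    loc_m22_seven ((nice_m23 hD h).group_Db hd) (m23_prim_below hD h hP hd) (m23_below hD h hd)
  have hW : ∀ {x b y : G}, orderOf x = 7 → b ∈ Fx D x → y ∈ Fx D x → ¬ Commute b y →
      {w ∈ Fx D x | Commute b w ∧ Commute y w}.ncard % 7 = 1 := by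
    intro x b y hx hb hy hby
    have h1 := common_modEq hD (p := 7) hx hb hy
    rw [m23_common_card hD hP h hb.1 hy.1 hby] at h1
    exact h1
  refine loc_up (n := 3) (gated_m23 hD hP h) (by norm_num) (by norm_num) hL hfix fun x hx =>
    conf_up (gated_m23 hD hP h) (by norm_num) (by norm_num) hL le_rfl hx (hfix x hx) ?_ ?_
  · intro b hb y hy hby _ k hk2 hk3 heq
    have := hW hx hb hy hby
    generalize {w ∈ Fx D x | Commute b w ∧ Commute y w}.ncard = N at this heq
    interval_cases k <;> norm_num [Nat.choose] at heq ⊢ <;> omega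
  · intro b hb y hy hby
    exact Set.nonempty_of_ncard_ne_zero fun e => by
      have := hW hx hb hy hby
      rw [e] at this
      norm_num at this

end M23

end CfsgLib.Trans3.Fi
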