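import Cfsg.Agent.Lib.Trans3.Fi.M23Order

/-!
The joint centraliser of two commuting members of a group of type M(23): a central extension of
`PSU₆(2)` by the four group they generate, of index two in the centraliser of their product.
-/

set_option autoImplicit false
set_option linter.unusedSectionVars false
set_option linter.style.haveILetI false

namespace CfsgLib.Trans3.Fi

open scoped commutatorElement

set_option maxHeartbeats 800000

variable {G : Type*} [Group G] [Finite G] {D : Set G}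
variable (hD : Cfsg.IsThreeTranspositionGroup D) (hP : Cfsg.IsPrimitiveUnderConj D)
variable (h : Cfsg.IsOfTypeM23 G D) {d₁ d₂ : G} (h₁ : d₁ ∈ D) (n₂ : d₂ ∈ nbrs D d₁)
include hD hP h h₁ n₂

theorem m23_pair_cases {x : G} (hx : Commute x (d₁ * d₂)) :
    (x * d₁ * x⁻¹ = d₁ ∧ x * d₂ * x⁻¹ = d₂) ∨ (x * d₁ * x⁻¹ = d₂ ∧ x * d₂ * x⁻¹ = d₁) := by
  have hne : x * d₁ * x⁻¹ ≠ x * d₂ * x⁻¹ := fun e =>
    n₂.2.1 (mul_left_cancel (mul_right_cancel e)).symm
  have f1 : Fac D 2 (d₁ * d₂) [d₁, d₂] := ⟨by simp [Ne.symm n₂.2.1], rfl, by simp [h₁, n₂.1],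
    by simp [n₂.2.2, n₂.2.2.symm], by simp⟩
  have hc : Commute (x * d₁ * x⁻¹) (x * d₂ * x⁻¹) := (commute_conj_iff x d₁ d₂).2 n₂.2.2
  have f2 : Fac D 2 (d₁ * d₂) [x * d₁ * x⁻¹, x * d₂ * x⁻¹] := ⟨by simpa using hne, rfl, by
    simp [hD.2.1 x d₁ h₁, hD.2.1 x d₂ n₂.1], by simp [hc, hc.symm], by
      calc [x * d₁ * x⁻¹, x * d₂ * x⁻¹].prod = x * (d₁ * d₂) * x⁻¹ := by simp [mul_assoc]
        _ = d₁ * d₂ := conj_eq_of_commute hx⟩
  have hiff := determined hD (by norm_num) (fun _ => (m23_noRel hD h).2.1)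
    (fun h' => absurd h' (by norm_num)) f2 f1
  have a1 := (hiff (x * d₁ * x⁻¹)).1 (by simp)
  have a2 := (hiff (x * d₂ * x⁻¹)).1 (by simp)
  simp only [List.mem_cons, List.not_mem_nil, or_false] at a1 a2
  rcases a1 with a1 | a1 <;> rcases a2 with a2 | a2
  · exact absurd (a1.trans a2.symm) hne
  · exact Or.inl ⟨a1, a2⟩
  · exact Or.inr ⟨a1, a2⟩
  · exact absurd (a1.trans a2.symm) hne

theorem m23_pair_index {K C : Subgroup G} (hK : ∀ x, x ∈ K ↔ Commute x d₁ ∧ Commute x d₂)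
    (hC : ∀ x, x ∈ C ↔ Commute x (d₁ * d₂)) : K ≤ C ∧ (K.subgroupOf C).index = 2 := by
  have hle : K ≤ C := fun x hx => (hC x).2 (((hK x).1 hx).1.mul_right ((hK x).1 hx).2)
  have hw : ∃ u ∈ D, ∃ v ∈ D, u ≠ v ∧ Commute u v := ⟨d₁, h₁, d₂, n₂.1, Ne.symm n₂.2.1, n₂.2.2⟩
  obtain ⟨g, hg⟩ := hP.1 d₁ h₁ d₂ n₂.1
  obtain ⟨k, hk, hk'⟩ := trans_comm hD hP hw n₂.1 (hD.2.1 g d₂ n₂.1)
    (fun e => n₂.2.1 (mul_left_cancel (mul_right_cancel (e.trans hg.symm))))
    (hg ▸ (commute_conj_iff g d₁ d₂).2 n₂.2.2) h₁ (Ne.symm n₂.2.1) n₂.2.2.symm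
  have s1 : k * g * d₁ * (k * g)⁻¹ = d₂ := by
    calc k * g * d₁ * (k * g)⁻¹ = k * (g * d₁ * g⁻¹) * k⁻¹ := by group
      _ = d₂ := by rw [hg, hk]
  have s2 : k * g * d₂ * (k * g)⁻¹ = d₁ := by rw [← hk']; group
  have hsC : k * g ∈ C := (hC _).2 (commute_of_conj_eq (by
    calc k * g * (d₁ * d₂) * (k * g)⁻¹ = (k * g * d₁ * (k * g)⁻¹) * (k * g * d₂ * (k * g)⁻¹) := by
          group
      _ = d₁ * d₂ := by rw [s1, s2]; exact n₂.2.2.symm.eq))
  refine ⟨hle, Subgroup.index_eq_two_iff.2 ⟨⟨k * g, hsC⟩, ?_⟩⟩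
  rintro ⟨x, hx⟩
  simp only [Subgroup.mem_subgroupOf, Subgroup.coe_mul]
  have hcases := m23_pair_cases hD hP h h₁ n₂ ((hC x).1 hx)
  have fixK : ∀ y, y * d₁ * y⁻¹ = d₁ → y * d₂ * y⁻¹ = d₂ → y ∈ K := fun y a b =>
    (hK y).2 ⟨commute_of_conj_eq a, commute_of_conj_eq b⟩
  rcases hcases with ⟨a, b⟩ | ⟨a, b⟩
  · refine Or.inr ⟨fixK x a b, fun hm => ?_⟩
    have e := conj_eq_of_commute ((hK _).1 hm).1
    refine n₂.2.1 ?_
    calc d₂ = x * d₂ * x⁻¹ := b.symm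
      _ = x * (k * g * d₁ * (k * g)⁻¹) * x⁻¹ := by rw [s1]
      _ = x * (k * g) * d₁ * (x * (k * g))⁻¹ := by group
      _ = d₁ := e
  · refine Or.inl ⟨fixK _ ?_ ?_, fun hm => n₂.2.1 ?_⟩
    · calc x * (k * g) * d₁ * (x * (k * g))⁻¹ = x * (k * g * d₁ * (k * g)⁻¹) * x⁻¹ := by group
        _ = d₁ := by rw [s1, b]
    · calc x * (k * g) * d₂ * (x * (k * g))⁻¹ = x * (k * g * d₂ * (k * g)⁻¹) * x⁻¹ := by group
        _ = d₂ := by rw [s2, a]
    · rw [← a]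
      exact conj_eq_of_commute ((hK _).1 hm).1

theorem m23_pair_structure {K V : Subgroup G} (hK : ∀ x, x ∈ K ↔ Commute x d₁ ∧ Commute x d₂)
    (hV : V = Subgroup.closure ({d₁, d₂} : Set G)) :
    (Subgroup.center ↥K).map K.subtype = V ∧ Cfsg.IsQuasisimple ↥K ∧
      (∃ (F : Type) (_ : Field F) (_ : Fintype F), Fintype.card F = 4 ∧
        Nonempty (↥K ⧸ Subgroup.center ↥K ≃* Cfsg.PSU 6 F 2)) ∧
      ∀ x, Commute x (d₁ * d₂) → (∀ c, Commute c (d₁ * d₂) → x * c * x⁻¹ * c⁻¹ ∈ V) → x ∈ V := by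
  have hN := nice_m23 hD h
  have hPre := pre_of_group hD
  have hL : ∀ a ∈ D, Lvl (Db D a) := fun _ ha => m23_lvl_below hD h hP ha
  have hXg := hN.group_Db h₁
  have hX22 := m23_below hD h h₁
  have hXP := m23_prim_below hD h hP h₁
  have hXN := nice_m22 hXg hX22
  have hU := m22_isU6 hXg hX22 (bar_mem n₂)
  have hYg := hXN.group_Db (bar_mem n₂)
  have hd₂sq : d₂ * d₂ = 1 := Trans3.sq_one hD.1 n₂.1
  have hd₁sq : d₁ * d₁ = 1 := Trans3.sq_one hD.1 h₁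
  have hV4 : ∀ x ∈ V, x = 1 ∨ x = d₁ ∨ x = d₂ ∨ x = d₁ * d₂ := by
    intro x hx
    rw [hV] at hx
    induction hx using Subgroup.closure_induction with
    | mem u hu => rcases hu with rfl | rfl <;> simp
    | one => simp
    | mul u v _ _ hu hv =>
      have l1 : ∀ y, d₁ * (d₁ * y) = y := fun y => by rw [← mul_assoc, hd₁sq, one_mul]
      have l2 : ∀ y, d₂ * (d₂ * y) = y := fun y => by rw [← mul_assoc, hd₂sq, one_mul]
      have l21 : ∀ y, d₂ * (d₁ * y) = d₁ * (d₂ * y) := fun y => by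
        rw [← mul_assoc, n₂.2.2.symm.eq, mul_assoc]
      rcases hu with e | e | e | e <;> rcases hv with e' | e' | e' | e' <;> rw [e, e'] <;>
        simp [hd₁sq, hd₂sq, n₂.2.2.symm.eq, mul_assoc, l1, l2, l21]
    | inv u _ hu =>
      rcases hu with rfl | rfl | rfl | rfl
      · simp
      · simp [inv_eq hD.1 h₁]
      · simp [inv_eq hD.1 n₂.1]
      · refine Or.inr (Or.inr (Or.inr ?_))
        rw [mul_inv_rev, inv_eq hD.1 h₁, inv_eq hD.1 n₂.1, n₂.2.2.symm.eq]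
  have v1 : d₁ ∈ V := hV ▸ Subgroup.subset_closure (by simp)
  have v2 : d₂ ∈ V := hV ▸ Subgroup.subset_closure (by simp)
  have hVK : V ≤ K := by
    rw [hV, Subgroup.closure_le]
    rintro u (rfl | rfl)
    · exact (hK u).2 ⟨Commute.refl u, n₂.2.2⟩
    · exact (hK u).2 ⟨n₂.2.2.symm, Commute.refl u⟩
  -- the map onto the simple section
  have hKd : ∀ k : ↥K, (k : G) ∈ Hd D d₁ := fun k => by
    rw [m23_gate hD hP h h₁]; exact Subgroup.mem_centralizer_singleton_iff.2 ((hK k).1 k.2).1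
  let ι : ↥K →* Qd D d₁ :=
    (QuotientGroup.mk' _).comp (Subgroup.inclusion (show K ≤ Hd D d₁ from fun x hx => hKd ⟨x, hx⟩))
  have hι : ∀ k : ↥K, ι k ∈ Hd (Db D d₁) (bar n₂) := fun k => by
    rw [m22_gate hXg hXP hX22 (bar_mem n₂), Subgroup.mem_centralizer_singleton_iff]
    show (QuotientGroup.mk _ : Qd D d₁) * QuotientGroup.mk _ = QuotientGroup.mk _ * QuotientGroup.mk _
    rw [← QuotientGroup.mk_mul, ← QuotientGroup.mk_mul]
    exact congrArg QuotientGroup.mk (Subtype.ext ((hK k).1 k.2).2.eq)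
  let φ : ↥K →* Qd (Db D d₁) (bar n₂) := (QuotientGroup.mk' _).comp (ι.codRestrict _ hι)
  have hker : ∀ k : ↥K, φ k = 1 ↔ (k : G) ∈ V := by
    intro k
    constructor
    · intro hk
      have h1 := (QuotientGroup.eq_one_iff _).1 hk
      rw [m22_center_Hd hXg hXP hX22 (bar_mem n₂), Subgroup.mem_subgroupOf] at h1
      obtain ⟨n, hn⟩ := h1
      change bar n₂ ^ n = ι k at hn
      have hpar : ι k = 1 ∨ ι k = bar n₂ := by
        rcases Int.even_or_odd' n with ⟨j, rfl | rfl⟩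
        · left; rw [← hn, zpow_mul, zpow_two, Trans3.sq_one hXg.1 (bar_mem n₂), one_zpow]
        · right
          rw [← hn, zpow_add, zpow_mul, zpow_two, Trans3.sq_one hXg.1 (bar_mem n₂), one_zpow,
            one_mul, zpow_one]
      rcases hpar with e | e
      · rcases m23_center_mem hD hP h h₁ ((QuotientGroup.eq_one_iff _).1 e) with e' | e'
        · rw [show (k : G) = 1 from e']; exact one_mem V
        · rw [show (k : G) = d₁ from e']; exact v1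
      · have hm := m23_center_mem hD hP h h₁ (QuotientGroup.eq.1 e)
        rw [Subgroup.coe_mul, Subgroup.coe_inv, Subgroup.coe_inclusion] at hm
        rcases hm with e' | e'
        · rw [inv_mul_eq_one.1 e']; exact v2
        · have := mul_mem v2 (inv_mem v1)
          rwa [← e', mul_inv_rev, inv_inv, mul_inv_cancel_left] at this
    · intro hk
      have c1 : ∀ hm : d₁ ∈ K, ι ⟨d₁, hm⟩ = 1 := fun hm => by
        refine (QuotientGroup.eq_one_iff _).2 (central_Hd fun y hy => ?_)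
        exact hy.2.2
      have c2 : ∀ hm : d₂ ∈ K, φ ⟨d₂, hm⟩ = 1 := fun hm => by
        refine (QuotientGroup.eq_one_iff _).2 (central_Hd fun y hy => ?_)
        exact hy.2.2
      have c1' : ∀ hm : d₁ ∈ K, φ ⟨d₁, hm⟩ = 1 := fun hm => by
        refine (QuotientGroup.eq_one_iff _).2 ?_
        rw [show ι.codRestrict _ hι ⟨d₁, hm⟩ = 1 from Subtype.ext (c1 hm)]
        exact one_mem _
      obtain ⟨k, hkK⟩ := k
      rcases hV4 k hk with e | e | e | e <;> subst e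
      · exact map_one φ
      · exact c1' hkK
      · exact c2 hkK
      · rw [show (⟨d₁ * d₂, hkK⟩ : ↥K) = ⟨d₁, hVK v1⟩ * ⟨d₂, hVK v2⟩ from rfl, map_mul, c1', c2,
          one_mul]
  have hsurj : Function.Surjective φ := by
    intro q
    obtain ⟨⟨z, hz⟩, rfl⟩ := QuotientGroup.mk_surjective q
    obtain ⟨k₀, rfl⟩ := QuotientGroup.mk_surjective z
    have hc : Commute (k₀ : Qd D d₁) (bar n₂) := (commute_Hd hz).symm
    have e := Up.conj_bar hN hP hL h₁ k₀ n₂ n₂ (conj_eq_of_commute hc)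
    exact ⟨⟨k₀, (hK _).2 ⟨(commute_Hd k₀.2).symm, commute_of_conj_eq e⟩⟩, rfl⟩
  -- the members of `K` outside `V`
  obtain ⟨W, eW⟩ : ∃ W : Set G, W = {w | w ∈ nbrs D d₁ ∧ w ≠ d₂ ∧ Commute d₂ w} := ⟨_, rfl⟩
  have hWn : ∀ {w : G}, w ∈ W → w ∈ nbrs D d₁ ∧ w ≠ d₂ ∧ Commute d₂ w := fun hw => by
    rw [eW] at hw; exact hw
  have hWK : ∀ {w : G}, w ∈ W → w ∈ K := fun hw =>
    (hK _).2 ⟨(hWn hw).1.2.2.symm, (hWn hw).2.2.symm⟩
  have hWb : ∀ {w : G} (hw : w ∈ W), bar (hWn hw).1 ∈ nbrs (Db D d₁) (bar n₂) := fun hw =>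
    ⟨bar_mem _, fun e => (hWn hw).2.1 (hN.bar_inj h₁ (hWn hw).1 n₂ e),
      (commute_bar hPre n₂ (hWn hw).1).2 (hWn hw).2.2⟩
  have hWinj : ∀ {v w : G} (hv : v ∈ W) (hw : w ∈ W),
      φ ⟨v, hWK hv⟩ = φ ⟨w, hWK hw⟩ → v = w := fun hv hw e =>
    hN.bar_inj h₁ (hWn hv).1 (hWn hw).1 (hXN.bar_inj (bar_mem n₂) (hWb hv) (hWb hw) e)
  have hWcomm : ∀ {v w : G} (hv : v ∈ W) (hw : w ∈ W),
      Commute (φ ⟨v, hWK hv⟩) (φ ⟨w, hWK hw⟩) → Commute v w := fun hv hw e =>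
    (commute_bar hPre (hWn hv).1 (hWn hw).1).1
      ((commute_bar (pre_of_group hXg) (hWb hv) (hWb hw)).1 e)
  have hget : ∀ q ∈ Db (Db D d₁) (bar n₂), ∃ w, ∃ hw : w ∈ W, q = φ ⟨w, hWK hw⟩ := by
    intro q hq
    obtain ⟨p, hp, rfl⟩ := exists_bar hq
    obtain ⟨w, hw, rfl⟩ := exists_bar hp.1
    exact ⟨w, eW ▸ ⟨hw, fun e => hp.2.1 (by subst e; rfl), (commute_bar hPre n₂ hw).1 hp.2.2⟩, rfl⟩
  obtain ⟨N, eN⟩ : ∃ N : Subgroup ↥K, N = commutator ↥K := ⟨_, rfl⟩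
  haveI : N.Normal := eN ▸ inferInstance
  have hab : ∀ p q : ↥K, (QuotientGroup.mk' N p) * QuotientGroup.mk' N q =
      QuotientGroup.mk' N q * QuotientGroup.mk' N p := by
    intro p q
    rw [← map_mul, ← map_mul]
    refine (QuotientGroup.eq).2 ?_
    rw [eN, show (p * q)⁻¹ * (q * p) = ⁅q⁻¹, p⁻¹⁆ by rw [commutatorElement_def]; group]
    exact Subgroup.commutator_mem_commutator (Subgroup.mem_top _) (Subgroup.mem_top _)
  have hconjW : ∀ (k : ↥K) {w : G}, w ∈ W → (k : G) * w * (k : G)⁻¹ ∈ W := by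
    intro k w hw
    obtain ⟨⟨w1, w2, w3⟩, w4, w5⟩ := hWn hw
    have k1 : (k : G) * d₁ * (k : G)⁻¹ = d₁ := conj_eq_of_commute ((hK k).1 k.2).1
    have k2 : (k : G) * d₂ * (k : G)⁻¹ = d₂ := conj_eq_of_commute ((hK k).1 k.2).2
    rw [eW]
    exact ⟨⟨hD.2.1 _ w w1, fun e => w2 (mul_left_cancel (mul_right_cancel (e.trans k1.symm))),
      k1 ▸ (commute_conj_iff (k : G) d₁ w).2 w3⟩,
      fun e => w4 (mul_left_cancel (mul_right_cancel (e.trans k2.symm))),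
      k2 ▸ (commute_conj_iff (k : G) d₂ w).2 w5⟩
  -- two sextuples whose products differ
  obtain ⟨S, eS⟩ : ∃ S : Subgroup G, S = Subgroup.closure W := ⟨_, rfl⟩
  have htwo : ∃ s t : G, s ≠ t ∧ s ≠ 1 ∧ t ≠ 1 ∧ s ∈ V ∧ t ∈ V ∧ s ∈ S ∧ t ∈ S ∧
      (∀ hs : s ∈ K, (⟨s, hs⟩ : ↥K) ∈ N) ∧ ∀ ht : t ∈ K, (⟨t, ht⟩ : ↥K) ∈ N := by
    obtain ⟨P, Q, R, X, Y, Z, X', Y', Z', ⟨n1, m1, c1, e1⟩, ⟨n2, m2, c2, e2⟩, hx⟩ :=
      u6_planes hU hYg
    obtain ⟨b, hb, rfl⟩ := hget _ (m1 P (by simp))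
    obtain ⟨c, hc, rfl⟩ := hget _ (m1 Q (by simp))
    obtain ⟨e, he, rfl⟩ := hget _ (m1 R (by simp))
    obtain ⟨u, hu, rfl⟩ := hget _ (m1 X (by simp))
    obtain ⟨v, hv, rfl⟩ := hget _ (m1 Y (by simp))
    obtain ⟨w, hw, rfl⟩ := hget _ (m1 Z (by simp))
    obtain ⟨u', hu', rfl⟩ := hget _ (m2 X' (by simp))
    obtain ⟨v', hv', rfl⟩ := hget _ (m2 Y' (by simp))
    obtain ⟨w', hw', rfl⟩ := hget _ (m2 Z' (by simp))
    obtain ⟨β, eβ⟩ : ∃ β, β = QuotientGroup.mk' N ⟨b, hWK hb⟩ := ⟨_, rfl⟩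
    have hβ : ∀ y (hy : y ∈ W), QuotientGroup.mk' N ⟨y, hWK hy⟩ = β := by
      intro y hy
      obtain ⟨q, hq⟩ := (u6Facts hU hYg).conj (φ ⟨b, hWK hb⟩) (bar_mem (hWb hb))
        (φ ⟨y, hWK hy⟩) (bar_mem (hWb hy))
      obtain ⟨k, rfl⟩ := hsurj q
      rw [← map_inv, ← map_mul, ← map_mul] at hq
      have hk := hWinj (hconjW k hb) hy hq
      rw [show (⟨y, hWK hy⟩ : ↥K) = k * ⟨b, hWK hb⟩ * k⁻¹ from Subtype.ext hk.symm,
        map_mul, map_mul, hab k _, mul_assoc, ← map_mul, mul_inv_cancel, map_one, mul_one, eβ]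
    have hβ2 : β * β = 1 := by
      rw [eβ, ← map_mul, show (⟨b, hWK hb⟩ : ↥K) * ⟨b, hWK hb⟩ = 1 from
        Subtype.ext (Trans3.sq_one hD.1 (hWn hb).1.1), map_one]
    have six : ∀ (L : List {y // y ∈ W}), L.length = 6 →
        (L.map fun y => φ ⟨y.1, hWK y.2⟩).Nodup →
        (∀ p ∈ L.map fun y => φ ⟨y.1, hWK y.2⟩, ∀ p' ∈ L.map fun y => φ ⟨y.1, hWK y.2⟩,
          Commute p p') →
        (L.map fun y => φ ⟨y.1, hWK y.2⟩).prod = 1 →
        Fac D 6 (L.map Subtype.val).prod (L.map Subtype.val) ∧ (L.map Subtype.val).prod ∈ V ∧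
          (L.map Subtype.val).prod ∈ S ∧ (L.map Subtype.val).prod ≠ 1 ∧
          ∀ hm : (L.map Subtype.val).prod ∈ K, (⟨_, hm⟩ : ↥K) ∈ N := by
      intro L hlen hnd hco hprod
      have hmem : ∀ y ∈ L.map Subtype.val, y ∈ W := fun y hy => by
        obtain ⟨z, -, rfl⟩ := List.mem_map.1 hy
        exact z.2
      have hfac : Fac D 6 (L.map Subtype.val).prod (L.map Subtype.val) := by
        refine ⟨(List.Nodup.of_map _ hnd).map Subtype.val_injective, by simpa using hlen,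
          fun y hy => (hWn (hmem y hy)).1.1, fun y hy y' hy' => ?_, rfl⟩
        obtain ⟨z, hz, rfl⟩ := List.mem_map.1 hy
        obtain ⟨z', hz', rfl⟩ := List.mem_map.1 hy'
        exact hWcomm z.2 z'.2 (hco _ (List.mem_map_of_mem hz) _ (List.mem_map_of_mem hz'))
      obtain ⟨p, ep⟩ : ∃ p : ↥K, p = (L.map fun y => (⟨y.1, hWK y.2⟩ : ↥K)).prod := ⟨_, rfl⟩
      have hp : (p : G) = (L.map Subtype.val).prod := by
        rw [ep, Subgroup.val_list_prod, List.map_map]; rfl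
      have hφ : φ p = 1 := by rw [ep, map_list_prod, List.map_map]; exact hprod
      refine ⟨hfac, hp ▸ (hker p).1 hφ, ?_, fun e' => ?_, fun hm => ?_⟩
      · exact Subgroup.list_prod_mem S fun y hy => eS ▸ Subgroup.subset_closure (hmem y hy)
      · exact (m23_noRel hD h).2.2.2 _ hfac.1 hfac.2.1 hfac.2.2.1 hfac.2.2.2.1 e'
      · rw [show (⟨_, hm⟩ : ↥K) = p from Subtype.ext hp.symm, ← QuotientGroup.eq_one_iff]
        show QuotientGroup.mk' N p = 1
        rw [ep, map_list_prod, List.map_map, List.map_congr_left (g := fun _ => β) fun y _ => hβ y.1 y.2,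
          List.map_const', List.prod_replicate, hlen, show (6 : ℕ) = 2 * 3 from rfl, pow_mul, pow_two,
          hβ2, one_pow]
    obtain ⟨L₁, eL₁⟩ : ∃ L : List {y // y ∈ W},
        L = [⟨b, hb⟩, ⟨c, hc⟩, ⟨e, he⟩, ⟨u, hu⟩, ⟨v, hv⟩, ⟨w, hw⟩] := ⟨_, rfl⟩
    obtain ⟨L₂, eL₂⟩ : ∃ L : List {y // y ∈ W},
        L = [⟨b, hb⟩, ⟨c, hc⟩, ⟨e, he⟩, ⟨u', hu'⟩, ⟨v', hv'⟩, ⟨w', hw'⟩] := ⟨_, rfl⟩
    obtain ⟨f1, sV, sS, s1, sN⟩ := six L₁ (by rw [eL₁]; rfl) (by rw [eL₁]; exact n1)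
      (by rw [eL₁]; exact c1) (by rw [eL₁]; exact e1)
    obtain ⟨f2, tV, tS, t1, tN⟩ := six L₂ (by rw [eL₂]; rfl) (by rw [eL₂]; exact n2)
      (by rw [eL₂]; exact c2) (by rw [eL₂]; exact e2)
    refine ⟨_, _, fun est => ?_, s1, t1, sV, tV, sS, tS, sN, tN⟩
    have v1' : L₁.map Subtype.val = [b, c, e, u, v, w] := by rw [eL₁]; rfl
    have v2' : L₂.map Subtype.val = [b, c, e, u', v', w'] := by rw [eL₂]; rfl
    rw [v1', v2'] at est
    rw [v1'] at f1
    rw [v2'] at f2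
    have tail : ∀ {p q r : G}, Fac D 6 [b, c, e, p, q, r].prod [b, c, e, p, q, r] →
        Fac D 3 ((b * c * e)⁻¹ * [b, c, e, p, q, r].prod) [p, q, r] := by
      intro p q r f
      refine ⟨(List.nodup_cons.1 (List.nodup_cons.1 (List.nodup_cons.1 f.1).2).2).2, rfl,
        fun x hx => f.2.2.1 x (List.mem_append_right [b, c, e] hx),
        fun x hx y hy => f.2.2.2.1 x (List.mem_append_right [b, c, e] hx) y
          (List.mem_append_right [b, c, e] hy), ?_⟩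
      simp [mul_assoc]
    obtain ⟨n3, n4, -, n6⟩ := m23_noRel hD h
    have hsame := (determined hD le_rfl (fun _ => n4) (fun _ => n6) (est ▸ tail f1) (tail f2) u).1
      (by simp)
    simp only [List.mem_cons, List.not_mem_nil, or_false, not_or] at hsame hx
    rcases hsame with e' | e' | e'
    exacts [hx.1 (by subst e'; rfl), hx.2.1 (by subst e'; rfl), hx.2.2 (by subst e'; rfl)]
  obtain ⟨s, t, hst, hs1, ht1, sV, tV, sS, tS, sN, tN⟩ := htwo
  -- both generators come from the two products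
  have gens : ∀ T : Subgroup G, s ∈ T → t ∈ T → d₁ ∈ T ∧ d₂ ∈ T := by
    intro T hs ht
    have hsq1 : d₁ * (d₁ * d₂) = d₂ := by rw [← mul_assoc, hd₁sq, one_mul]
    have hsq2 : d₁ * d₂ * d₂ = d₁ := by rw [mul_assoc, hd₂sq, mul_one]
    have hst' := mul_mem hs ht
    have hts' := mul_mem ht hs
    rcases hV4 s sV with e | e | e | e <;> rcases hV4 t tV with e' | e' | e' | e' <;>
      rw [e] at hs hst' hts' hs1 hst <;> rw [e'] at ht hst' hts' ht1 hst <;>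
      first
      | exact absurd rfl hs1 | exact absurd rfl ht1 | exact absurd rfl hst
      | exact ⟨hs, ht⟩ | exact ⟨ht, hs⟩
      | exact ⟨hs, hsq1 ▸ hst'⟩ | exact ⟨ht, hsq1 ▸ hts'⟩
      | exact ⟨hsq2 ▸ hst', ht⟩ | exact ⟨hsq2 ▸ hts', hs⟩
  have hVS : d₁ ∈ S := (gens S sS tS).1
  have hVN : ∀ (k : ↥K), (k : G) ∈ V → k ∈ N := by
    obtain ⟨g1, g2⟩ := gens (N.map K.subtype) ⟨⟨s, hVK sV⟩, sN _, rfl⟩ ⟨⟨t, hVK tV⟩, tN _, rfl⟩
    intro k hk
    have : (k : G) ∈ N.map K.subtype := by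
      rw [hV] at hk
      exact (Subgroup.closure_le _).2 (by rintro u (rfl | rfl); exacts [g1, g2]) hk
    obtain ⟨m, hm, e⟩ := this
    exact (Subtype.ext e : m = k) ▸ hm
  have hcen : Subgroup.center ↥K = φ.ker := by
    ext k
    rw [MonoidHom.mem_ker]
    constructor
    · intro hk
      have : φ k ∈ Subgroup.center (Qd (Db D d₁) (bar n₂)) := by
        rw [Subgroup.mem_center_iff]
        intro q
        obtain ⟨m, rfl⟩ := hsurj q
        rw [← map_mul, ← map_mul, Subgroup.mem_center_iff.1 hk m]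
      rwa [(u6Facts hU hYg).center, Subgroup.mem_bot] at this
    · intro hk
      rw [Subgroup.mem_center_iff]
      intro m
      refine Subtype.ext ?_
      show Commute (m : G) k
      obtain ⟨m1, m2⟩ := (hK m).1 m.2
      rcases hV4 _ ((hker k).1 hk) with e | e | e | e <;> rw [e]
      exacts [Commute.one_right _, m1, m2, m1.mul_right m2]
  let iso : ↥K ⧸ Subgroup.center ↥K ≃* Qd (Db D d₁) (bar n₂) :=
    (QuotientGroup.quotientMulEquivOfEq hcen).trans (QuotientGroup.quotientKerEquivOfSurjective φ hsurj)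
  obtain ⟨F, i₁, i₂, hF, ⟨eU⟩⟩ := id hU
  have hF' : Fintype.card F = 2 ^ 2 := hF
  haveI := CfsgLib.Classical.isSimpleGroup_psu hF' (n := 6) (by norm_num) (by norm_num)
  haveI : IsSimpleGroup (Qd (Db D d₁) (bar n₂)) := eU.isSimpleGroup
  refine ⟨?_, ⟨?_, iso.isSimpleGroup⟩, ⟨F, i₁, i₂, hF, ⟨iso.trans eU⟩⟩, ?_⟩
  · ext x
    rw [hcen]
    constructor
    · rintro ⟨k, hk, rfl⟩; exact (hker k).1 hk
    · intro hx; exact ⟨⟨x, hVK hx⟩, (hker _).2 hx, rfl⟩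
  · rw [Group.isPerfect_def, ← eN]
    have hperf : commutator (Qd (Db D d₁) (bar n₂)) = ⊤ := by
      refine ((inferInstance : (commutator (Qd (Db D d₁) (bar n₂))).Normal).eq_bot_or_eq_top).resolve_left
        fun e => ?_
      obtain ⟨p, hp, q, hq, hpq⟩ := (u6Facts hU hYg).pair
      have hm : ⁅p, q⁆ ∈ (⊥ : Subgroup (Qd (Db D d₁) (bar n₂))) :=
        e ▸ Subgroup.commutator_mem_commutator (Subgroup.mem_top _) (Subgroup.mem_top _)
      exact hpq (commutatorElement_eq_one_iff_commute.1 (Subgroup.mem_bot.1 hm))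
    have hmap : N.map φ = ⊤ := by
      rw [eN, commutator_def, Subgroup.map_commutator, Subgroup.map_top_of_surjective _ hsurj,
        ← commutator_def, hperf]
    have := congrArg (Subgroup.comap φ) hmap
    rwa [Subgroup.comap_map_eq, Subgroup.comap_top,
      sup_eq_left.2 (show φ.ker ≤ N from fun k hk => hVN k ((hker k).1 hk))] at this
  · intro x hx hcomm
    have hin : ∀ k : ↥K, Commute (k : G) (d₁ * d₂) := fun k =>
      ((hK k).1 k.2).1.mul_right ((hK k).1 k.2).2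
    rcases m23_pair_cases hD hP h h₁ n₂ hx with ⟨a, b⟩ | ⟨a, b⟩
    · have hxK : x ∈ K := (hK x).2 ⟨commute_of_conj_eq a, commute_of_conj_eq b⟩
      have : φ ⟨x, hxK⟩ ∈ Subgroup.center (Qd (Db D d₁) (bar n₂)) := by
        rw [Subgroup.mem_center_iff]
        intro q
        obtain ⟨m, rfl⟩ := hsurj q
        have h1 := (hker (⟨x, hxK⟩ * m * (⟨x, hxK⟩ : ↥K)⁻¹ * m⁻¹)).2 (hcomm m (hin m))
        rw [map_mul, map_mul, map_mul, map_inv, map_inv] at h1
        exact (mul_inv_eq_iff_eq_mul.1 (mul_inv_eq_one.1 h1)).symm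
      rw [(u6Facts hU hYg).center, Subgroup.mem_bot] at this
      exact (hker _).1 this
    · exfalso
      have hxW : ∀ w ∈ W, Commute x w := by
        intro w hw
        obtain ⟨⟨w1, w2, w3⟩, w4, w5⟩ := hWn hw
        have hxw : x * w * x⁻¹ ∈ W := by
          rw [eW]
          exact ⟨⟨hD.2.1 x w w1, fun e => w4 (mul_left_cancel (mul_right_cancel (e.trans b.symm))),
            b ▸ (commute_conj_iff x d₂ w).2 w5⟩,
            fun e => w2 (mul_left_cancel (mul_right_cancel (e.trans a.symm))),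
            a ▸ (commute_conj_iff x d₁ w).2 w3⟩
        have h1 := (hker (⟨x * w * x⁻¹, hWK hxw⟩ * (⟨w, hWK hw⟩ : ↥K)⁻¹)).2
          (hcomm w (hin ⟨w, hWK hw⟩))
        rw [map_mul, map_inv, mul_inv_eq_one] at h1
        exact commute_of_conj_eq (hWinj hxw hw h1)
      have hxd : Commute x d₁ := by
        have hle : S ≤ Subgroup.centralizer ({x} : Set G) := by
          rw [eS, Subgroup.closure_le]
          exact fun w hw => Subgroup.mem_centralizer_singleton_iff.2 (hxW w hw).symm.eq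
        exact (Subgroup.mem_centralizer_singleton_iff.1 (hle hVS) : Commute d₁ x).symm
      exact n₂.2.1 (a.symm.trans (conj_eq_of_commute hxd))

end CfsgLib.Trans3.Fi
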