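import Cfsg.Agent.Lib.Trans3.Fi.M23Order
import Cfsg.Agent.Lib.Classical.OrthOmega

/-!
Groups of type M(24): the type below at every member, the primitivity one level down, and a member
as a product of seven of its neighbours.
-/

set_option autoImplicit false
set_option linter.unusedSectionVars false

namespace CfsgLib.Trans3.Fi

section Below

variable {G : Type*} [Group G] [Finite G] {D : Set G}

/-- A set of 3-transpositions without twins in which non-commuting members have common neighbours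
but never the same neighbours is primitive. -/
theorem prim_of_common (hN : Nice D)
    (hcom : ∀ p ∈ D, ∀ q ∈ D, ¬ Commute p q → ∃ r ∈ D, Commute p r ∧ Commute q r)
    (hwr : ∀ p ∈ D, ∀ w ∈ D, ¬ Commute p w → ∃ e ∈ nbrs D p, ¬ Commute w e) :
    Cfsg.IsPrimitiveUnderConj D := by
  have hg := hN.group
  obtain ⟨p₀, hp₀, q₀, hq₀, hpq₀⟩ := hN.pair
  have hD2 : ∃ x ∈ D, ∃ y ∈ D, x ≠ y := ⟨p₀, hp₀, q₀, hq₀, ne_of_not_commute hpq₀⟩
  have hC : Cfsg.IsThreeTranspositionClass D := by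
    refine ⟨hg.1, ⟨p₀, hp₀, Set.ext fun x => ⟨fun hx => ?_, fun hx => ?_⟩⟩, hg.2.2⟩
    · exact isConj_iff.2 (hN.conj p₀ hp₀ x hx)
    · obtain ⟨g, rfl⟩ := isConj_iff.1 hx; exact hg.2.1 g p₀ hp₀
  have h2 : Cfsg.pCore 2 G ≤ Subgroup.center G := by
    by_contra hn
    obtain ⟨v, hv, hne⟩ := exists_vRel_ne hC hn hp₀
    exact hne (hN.twins p₀ hp₀ v hv.2.1 hv.2.2).symm
  have h3 : Cfsg.pCore 3 G ≤ Subgroup.center G := by
    by_contra hn
    obtain ⟨w, hw, hne⟩ := exists_wRel_ne hC hn hp₀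
    obtain ⟨e, he, hwe⟩ := hwr p₀ hp₀ w hw.2.1 (hw.not_commute hne)
    exact hwe (hw.commute_of_commute he.1 he.2.1 he.2.2).2
  obtain ⟨L, hLn, hLq, hLF⟩ := exists_quasisimple hC hD2 h2 h3
  haveI := hLn
  have hconn : (Cfsg.commutingGraph D).Connected := by
    haveI : Nonempty D := ⟨⟨p₀, hp₀⟩⟩
    refine ⟨fun x y => ?_⟩
    have adj : ∀ u v : D, Commute (u : G) v → (Cfsg.commutingGraph D).Reachable u v := by
      intro u v huv
      by_cases e : u = v
      · exact e ▸ SimpleGraph.Reachable.refl _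
      · exact SimpleGraph.Adj.reachable ⟨e, Or.inl huv⟩
    by_cases hxy : Commute (x : G) y
    · exact adj x y hxy
    · obtain ⟨r, hr, hxr, hyr⟩ := hcom x x.2 y y.2 hxy
      exact (adj x ⟨r, hr⟩ hxr).trans (adj ⟨r, hr⟩ y hyr.symm)
  exact primitive_of_normal hC hD2 h2 L (index_le_two_of_connected hC L hLq hconn).1
    (quasisimple_minimal hg h2 h3 L hLq hLF)

/-- In type M(22) a member not commuting with `p` misses a neighbour of `p`. -/
theorem m22_separated (hD : Cfsg.IsThreeTranspositionGroup D) (h : Cfsg.IsOfTypeM22 G D) {p w : G}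
    (hp : p ∈ D) (hw : w ∈ D) (hpw : ¬ Commute p w) : ∃ e ∈ nbrs D p, ¬ Commute w e := by
  by_contra! hall
  have hPre := pre_of_group hD
  obtain ⟨b, hb, c, hc, hbc, hbc'⟩ := m22_pair hD h hp
  have np : p ∈ nbrs D b := ⟨hp, Ne.symm hb.2.1, hb.2.2.symm⟩
  have nc : c ∈ nbrs D b := ⟨hc.1, Ne.symm hbc, hbc'⟩
  have hwb := hall b hb
  have nw : w ∈ nbrs D b := ⟨hw, fun x => hpw (x ▸ hb.2.2), hwb.symm⟩
  have hN := nice_m22 hD h
  obtain ⟨t₁, t₂, t₃, ⟨hnd, hmem, hco, hpr⟩, -⟩ := (m22_u6 hD h hb.1).line (bar np) (bar nc)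
    (bar_mem np) (bar_mem nc) (fun e => hc.2.1 (hN.bar_inj hb.1 np nc e).symm)
    ((commute_bar hPre np nc).2 hc.2.2)
  simp only [List.prod_cons, List.prod_nil, mul_one] at hpr
  have hwt : ∀ t ∈ [bar nc, t₁, t₂, t₃], Commute (bar nw) t := by
    intro t ht
    obtain ⟨y, hy, rfl⟩ := exists_bar (hmem t (List.mem_cons_of_mem _ ht))
    refine (commute_bar hPre nw hy).2 (hall y ⟨hy.1, ?_, ?_⟩)
    · rintro rfl
      exact (List.nodup_cons.1 hnd).1 ht
    · exact (commute_bar hPre np hy).1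
        (hco _ List.mem_cons_self _ (List.mem_cons_of_mem _ ht))
  refine hpw ((commute_bar hPre np nw).1 (Commute.symm ?_))
  rw [eq_inv_of_mul_eq_one_left hpr]
  exact ((hwt _ (by simp)).mul_right ((hwt t₁ (by simp)).mul_right
    ((hwt t₂ (by simp)).mul_right (hwt t₃ (by simp))))).inv_right

/-- In type M(23) a member not commuting with `p` misses a neighbour of `p`. -/
theorem m23_separated (hD : Cfsg.IsThreeTranspositionGroup D) (h : Cfsg.IsOfTypeM23 G D) {p w : G}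
    (hp : p ∈ D) (hw : w ∈ D) (hpw : ¬ Commute p w) : ∃ e ∈ nbrs D p, ¬ Commute w e := by
  by_contra! hall
  have hPre := pre_of_group hD
  obtain ⟨b, hb⟩ := m23_nbr hD h hp
  have np : p ∈ nbrs D b := ⟨hp, Ne.symm hb.2.1, hb.2.2.symm⟩
  have nw : w ∈ nbrs D b := ⟨hw, fun x => hpw (x ▸ hb.2.2), (hall b hb).symm⟩
  obtain ⟨q, ⟨hq, hqp, hpq⟩, hwq⟩ := m22_separated ((nice_m23 hD h).group_Db hb.1)
    (m23_below hD h hb.1) (bar_mem np) (bar_mem nw) fun x => hpw ((commute_bar hPre np nw).1 x)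
  obtain ⟨y, hy, rfl⟩ := exists_bar hq
  refine hwq ((commute_bar hPre nw hy).2 (hall y ⟨hy.1, ?_, (commute_bar hPre np hy).1 hpq⟩))
  rintro rfl
  exact hqp rfl

end Below

variable {G : Type*} [Group G] [Finite G] {D : Set G}
variable (hD : Cfsg.IsThreeTranspositionGroup D) (hP : Cfsg.IsPrimitiveUnderConj D)
variable (h : Cfsg.IsOfTypeM24 G D)
include hD hP h

theorem m24_below {a : G} (ha : a ∈ D) : Cfsg.IsOfTypeM23 (Qd D a) (Db D a) := by
  obtain ⟨-, d, hd, c, hc, hdc, h23, -⟩ := h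
  obtain ⟨g, rfl⟩ := hP.1 d hd a ha
  obtain ⟨ψ, hψ⟩ := sub_congr (MulAut.conj g) (Nice.nbrs_conj hD g d).symm
  exact m23_congr ψ hψ h23

theorem m24_nbr {a : G} (ha : a ∈ D) : ∃ b, b ∈ nbrs D a := by
  obtain ⟨-, q, hq, -⟩ := m24_below hD hP h ha
  obtain ⟨b, hb, -⟩ := exists_bar hq
  exact ⟨b, hb⟩

theorem m24_pairc : ∃ u ∈ D, ∃ v ∈ D, u ≠ v ∧ Commute u v := by
  obtain ⟨a, ha, -⟩ := (nice_m24 hD hP h).pair
  obtain ⟨b, hb⟩ := m24_nbr hD hP h ha
  exact ⟨a, ha, b, hb.1, Ne.symm hb.2.1, hb.2.2⟩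

omit [Finite G] hD hP h in
theorem card_omega_eight :
    Nat.card (Cfsg.POmega (ZMod 3) (Cfsg.quadFormPlus 4 (ZMod 3))) = 4952179814400 := by
  haveI : Fact (Nat.Prime 3) := ⟨Nat.prime_three⟩
  have h1 := CfsgLib.Classical.card_pOmega_plus (F := ZMod 3) (ZMod.card 3) 3 (by norm_num)
  simp only [Finset.prod_range_succ, Finset.prod_range_zero, one_mul] at h1
  norm_num at h1
  exact Nat.eq_of_mul_eq_mul_left (show 0 < 4 by norm_num) (h1.trans (by norm_num))

/-- The order of the joint neighbourhood group modulo its centre. -/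
theorem card_Ld24 : ∃ d ∈ D, ∃ c ∈ D, ¬ Commute d c ∧
    Nat.card (↥(Ld D d c) ⧸ Subgroup.center ↥(Ld D d c)) = 29713078886400 ∧
    ∃ π : ↥(Ld D d c) →* Equiv.Perm (Fin 3), Function.Surjective π := by
  obtain ⟨-, d, hd, c, hc, hdc, -, N, hN, ⟨e₁⟩, ⟨e₂⟩⟩ := h
  refine ⟨d, hd, c, hc, hdc, ?_,
    e₂.toMonoidHom.comp ((QuotientGroup.mk' N).comp (QuotientGroup.mk' _)),
    e₂.surjective.comp ((QuotientGroup.mk'_surjective N).comp (QuotientGroup.mk'_surjective _))⟩
  rw [Subgroup.card_eq_card_quotient_mul_card_subgroup N, Nat.card_congr e₂.toEquiv,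
    Nat.card_congr e₁.toEquiv, card_omega_eight, Nat.card_eq_fintype_card, Fintype.card_perm,
    Fintype.card_fin]
  rfl

theorem m24_partner {u v e : G} (hu : u ∈ D) (hv : v ∈ D) (huv : ¬ Commute u v)
    (he : e ∈ D) (hue : Commute u e) (hve : Commute v e) :
    ∃ f ∈ D, f ≠ e ∧ Commute e f ∧ Commute u f ∧ Commute v f := by
  obtain ⟨d, hd, c, hc, hdc, hcard, -⟩ := card_Ld24 hD hP h
  refine partner_of_five hD hP (m24_pairc hD hP h) hd hc hdc ?_ hu hv huv he hue hve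
  refine Dvd.dvd.trans ?_ (Subgroup.card_quotient_dvd_card (Subgroup.center ↥(Ld D d c)))
  rw [hcard]
  norm_num

theorem m24_prim_below {a : G} (ha : a ∈ D) : Cfsg.IsPrimitiveUnderConj (Db D a) := by
  have hN := nice_m24 hD hP h
  have h23 := m24_below hD hP h ha
  have hg := hN.group_Db ha
  have hPre := pre_of_group hD
  refine prim_of_common (nice_m23 hg h23) (fun p hp q hq hpq => ?_)
    fun p hp w hw hpw => m23_separated hg h23 hp hw hpw
  obtain ⟨u, hu, rfl⟩ := exists_bar hp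
  obtain ⟨v, hv, rfl⟩ := exists_bar hq
  obtain ⟨f, hf, hne, hc, huf, hvf⟩ := m24_partner hD hP h hu.1 hv.1
    (fun x => hpq ((commute_bar hPre hu hv).2 x)) ha hu.2.2.symm hv.2.2.symm
  have hf' : f ∈ nbrs D a := ⟨hf, hne, hc⟩
  exact ⟨bar hf', bar_mem hf', (commute_bar hPre hu hf').2 huf, (commute_bar hPre hv hf').2 hvf⟩

/-- Every neighbourhood of a member is a level. -/
theorem m24_lvl_below {a : G} (ha : a ∈ D) : Lvl (Db D a) :=
  lvl_m23 ((nice_m24 hD hP h).group_Db ha) (m24_prim_below hD hP h ha) (m24_below hD hP h ha)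

theorem m24_center_mem {a : G} (ha : a ∈ D) {x : ↥(Hd D a)}
    (hx : x ∈ Subgroup.center ↥(Hd D a)) : (x : G) = 1 ∨ (x : G) = a :=
  Up.center_mem (nice_m24 hD hP h) hP (fun _ hb => m24_lvl_below hD hP h hb) ha hx

theorem m24_noRel_seven : NoRel D 7 := by
  have hN := nice_m24 hD hP h
  obtain ⟨a, ha, -⟩ := hN.pair
  exact hN.noRel_succ ha (m23_noRel (hN.group_Db ha) (m24_below hD hP h ha)).2.2.2

/-- A member is a product of seven of its neighbours. -/
theorem m24_seven {a : G} (ha : a ∈ D) :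
    ∃ l : List G, l.length = 7 ∧ (∀ x ∈ l, x ∈ nbrs D a) ∧ l.prod = a := by
  have hN := nice_m24 hD hP h
  have hPre := pre_of_group hD
  have hg := hN.group_Db ha
  obtain ⟨p, hp, -⟩ := (nice_m23 hg (m24_below hD hP h ha)).pair
  obtain ⟨l, hlen, hmem, hprod, hnd, hco⟩ :=
    m23_six_clique hg (m24_prim_below hD hP h ha) (m24_below hD hP h ha) hp
  have hnd' : (p :: l).Nodup := List.nodup_cons.2 ⟨fun hm => (hmem p hm).2.1 rfl, hnd⟩
  have hmem' : ∀ q ∈ p :: l, q ∈ Db D a := by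
    intro q hq
    rcases List.mem_cons.1 hq with rfl | hq
    exacts [hp, (hmem q hq).1]
  obtain ⟨m, hm⟩ : ∃ m : List {x // x ∈ nbrs D a}, m.map (fun x => bar x.2) = p :: l := by
    have hex : ∀ q ∈ p :: l, ∃ y : {x // x ∈ nbrs D a}, bar y.2 = q := fun q hq => by
      obtain ⟨y, hy, rfl⟩ := exists_bar (hmem' q hq)
      exact ⟨⟨y, hy⟩, rfl⟩
    choose f hf using hex
    refine ⟨(p :: l).pmap f fun q hq => hq, ?_⟩
    rw [List.map_pmap]
    exact (List.pmap_eq_map_attach ..).trans (by simp [hf])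
  have hmn : (m.map Subtype.val).Nodup :=
    (List.Nodup.of_map _ (hm ▸ hnd')).map Subtype.val_injective
  have hml : (m.map Subtype.val).length = 7 := by
    have := congrArg List.length hm
    simp only [List.length_map, List.length_cons, hlen] at this ⊢
    exact this
  have hmD : ∀ x ∈ m.map Subtype.val, x ∈ nbrs D a := by
    intro x hx
    obtain ⟨y, -, rfl⟩ := List.mem_map.1 hx
    exact y.2
  refine ⟨m.map Subtype.val, hml, hmD, ?_⟩
  obtain ⟨z, ez⟩ : ∃ z : ↥(Hd D a), z = (m.map fun x : {x // x ∈ nbrs D a} =>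
      (⟨x.1, Subgroup.subset_closure x.2⟩ : ↥(Hd D a))).prod := ⟨_, rfl⟩
  have hzv : (z : G) = (m.map Subtype.val).prod := by
    rw [ez, Subgroup.val_list_prod, List.map_map]; rfl
  have hz : z ∈ Subgroup.center ↥(Hd D a) := by
    rw [← QuotientGroup.eq_one_iff, ez]
    show QuotientGroup.mk' _ _ = 1
    rw [map_list_prod, List.map_map]
    refine Eq.trans (congrArg List.prod (hm : m.map _ = p :: l)) ?_
    rw [List.prod_cons, hprod, Trans3.sq_one hg.1 hp]
  rcases m24_center_mem hD hP h ha hz with e | e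
  · exfalso
    refine m24_noRel_seven hD hP h _ hmn hml (fun x hx => (hmD x hx).1) (fun x hx y hy => ?_)
      (hzv.symm.trans e)
    obtain ⟨u, hu, rfl⟩ := List.mem_map.1 hx
    obtain ⟨v, hv, rfl⟩ := List.mem_map.1 hy
    refine (commute_bar hPre u.2 v.2).1 ?_
    have hu' : bar u.2 ∈ p :: l := hm ▸ List.mem_map_of_mem hu
    have hv' : bar v.2 ∈ p :: l := hm ▸ List.mem_map_of_mem hv
    rcases List.mem_cons.1 hu' with e1 | e1 <;> rcases List.mem_cons.1 hv' with e2 | e2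
    · rw [e1, e2]
    · rw [e1]; exact (hmem _ e2).2.2
    · rw [e2]; exact (hmem _ e1).2.2.symm
    · exact hco _ e1 _ e2
  · exact hzv.symm.trans e

theorem m24_mem {a : G} (ha : a ∈ D) : a ∈ Hd D a := by
  obtain ⟨l, -, hl, hp⟩ := m24_seven hD hP h ha
  have := Subgroup.list_prod_mem (Hd D a) (l := l) fun x hx => Subgroup.subset_closure (hl x hx)
  rwa [hp] at this

theorem m24_center_Hd {a : G} (ha : a ∈ D) :
    Subgroup.center ↥(Hd D a) = (Subgroup.zpowers a).subgroupOf (Hd D a) := by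
  ext x
  rw [Subgroup.mem_subgroupOf]
  refine ⟨fun hx => ?_, fun hx => central_Hd fun y hy => ?_⟩
  · rcases m24_center_mem hD hP h ha hx with e | e <;> rw [e]
    exacts [one_mem _, Subgroup.mem_zpowers a]
  · obtain ⟨n, hn⟩ := hx
    rw [← hn]
    exact hy.2.2.zpow_left n

theorem card_Hd24 {a : G} (ha : a ∈ D) :
    Nat.card ↥(Hd D a) = 2 * (2 ^ 18 * 3 ^ 13 * 5 ^ 2 * 7 * 11 * 13 * 17 * 23) := by
  rw [Subgroup.card_eq_card_quotient_mul_card_subgroup (Subgroup.center ↥(Hd D a)),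
    show Nat.card (↥(Hd D a) ⧸ Subgroup.center ↥(Hd D a)) = _ from
      m23_card ((nice_m24 hD hP h).group_Db ha) (m24_prim_below hD hP h ha) (m24_below hD hP h ha),
    m24_center_Hd hD hP h ha, Nat.card_congr (Subgroup.subgroupOfEquivOfLe
      (Subgroup.zpowers_le.2 (m24_mem hD hP h ha))).toEquiv, Nat.card_zpowers, hD.1.1 a ha,
    mul_comm]

theorem card_nbrs24 {a : G} (ha : a ∈ D) : (nbrs D a).ncard = 31671 := by
  rw [ncard_Db (nice_m24 hD hP h) ha]
  exact m23_card_D ((nice_m24 hD hP h).group_Db ha) (m24_prim_below hD hP h ha)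
    (m24_below hD hP h ha)

end CfsgLib.Trans3.Fi
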