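import Mathlib

/-!
Configurations of symmetric type: sets that are the image of the transpositions of `Sym(n)` under
an embedding, and closed sets of transpositions.
-/

set_option autoImplicit false
set_option linter.unusedSectionVars false

namespace CfsgLib.Trans3.Fi

open Equiv Equiv.Perm

section Perm

variable {α : Type*} [Fintype α] [DecidableEq α]

/-- The transpositions with both letters in `A`. -/
abbrev Sw (A : Finset α) : Set (Perm α) := {σ | σ.IsSwap ∧ σ.support ⊆ A}

theorem swap_eq_of_support {σ τ : Perm α} (hσ : σ.IsSwap) (hτ : τ.IsSwap)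
    (h : σ.support = τ.support) : σ = τ := by
  obtain ⟨a, b, hab, rfl⟩ := hσ
  obtain ⟨c, d, hcd, rfl⟩ := hτ
  rw [support_swap hab, support_swap hcd] at h
  have hc : c ∈ ({a, b} : Finset α) := h ▸ by simp
  have hd : d ∈ ({a, b} : Finset α) := h ▸ by simp
  simp only [Finset.mem_insert, Finset.mem_singleton] at hc hd
  rcases hc with rfl | rfl <;> rcases hd with rfl | rfl
  · exact absurd rfl hcd
  · rfl
  · exact swap_comm _ _
  · exact absurd rfl hcd

theorem ncard_Sw (A : Finset α) : (Sw A).ncard = A.card.choose 2 := by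
  rw [← Finset.card_powersetCard, ← Set.ncard_coe_finset]
  refine Set.ncard_congr (fun σ _ => σ.support) (fun σ hσ => ?_)
    (fun σ τ hσ hτ h => swap_eq_of_support hσ.1 hτ.1 h) fun s hs => ?_
  · rw [Finset.mem_coe, Finset.mem_powersetCard]
    exact ⟨hσ.2, card_support_eq_two.2 hσ.1⟩
  · rw [Finset.mem_coe, Finset.mem_powersetCard] at hs
    obtain ⟨a, b, hab, rfl⟩ := Finset.card_eq_two.1 hs.2
    exact ⟨swap a b, ⟨⟨a, b, hab, rfl⟩, by rw [support_swap hab]; exact hs.1⟩, support_swap hab⟩

theorem ncard_swaps : ({σ : Perm α | σ.IsSwap}).ncard = (Fintype.card α).choose 2 := by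
  rw [← Finset.card_univ, ← ncard_Sw]
  congr 1
  ext σ
  simp [Finset.subset_univ]

theorem isSwap_conj {σ : Perm α} (h : σ.IsSwap) (g : Perm α) : (g * σ * g⁻¹).IsSwap := by
  rw [← card_support_eq_two, support_conj, Finset.card_map, card_support_eq_two]
  exact h

theorem swap_mul_self' {σ : Perm α} (h : σ.IsSwap) : σ * σ = 1 := by
  obtain ⟨a, b, -, rfl⟩ := h
  exact Equiv.swap_mul_self a b

theorem swap_commute_iff {σ τ : Perm α} (hσ : σ.IsSwap) (hτ : τ.IsSwap) :
    Commute σ τ ↔ σ = τ ∨ Disjoint σ.support τ.support := by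
  constructor
  · intro h
    rw [or_iff_not_imp_right]
    intro hnd
    have h1 : τ.support.map σ.toEmbedding = τ.support := by
      rw [← support_conj, h.eq, mul_inv_cancel_right]
    obtain ⟨a, b, hab, rfl⟩ := hσ
    obtain ⟨c, d, hcd, rfl⟩ := hτ
    rw [support_swap hab, support_swap hcd] at hnd
    rw [support_swap hcd, Finset.map_insert, Finset.map_singleton] at h1
    obtain ⟨x, hx, hx'⟩ := Finset.not_disjoint_iff.1 hnd
    have hc' : swap a b c ∈ ({c, d} : Finset α) := by rw [← h1]; simp
    have hd' : swap a b d ∈ ({c, d} : Finset α) := by rw [← h1]; simp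
    refine swap_eq_of_support ⟨a, b, hab, rfl⟩ ⟨c, d, hcd, rfl⟩ ?_
    rw [support_swap hab, support_swap hcd]
    simp only [Finset.mem_insert, Finset.mem_singleton] at hx hx' hc' hd'
    rcases hx with rfl | rfl <;> rcases hx' with rfl | rfl <;>
      simp only [swap_apply_left, swap_apply_right] at hc' hd' <;>
      first
        | (rcases hc' with e | e
           · first | exact absurd e hab | exact absurd e.symm hab
           · subst e; first | rfl | exact Finset.pair_comm _ _)
        | (rcases hd' with e | e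
           · subst e; first | rfl | exact Finset.pair_comm _ _
           · first | exact absurd e hab | exact absurd e.symm hab)
  · rintro (rfl | h)
    · exact Commute.refl _
    · exact (disjoint_iff_disjoint_support.2 h).commute

theorem swap_conj_star {i l m : α} (hil : i ≠ l) (him : i ≠ m) (hlm : l ≠ m) :
    swap i l * swap i m * swap i l = swap l m := by
  rw [Equiv.mul_swap_eq_swap_mul (swap i l) i m, swap_apply_left,
    swap_apply_of_ne_of_ne him.symm hlm.symm,
    mul_assoc, Equiv.swap_mul_self, mul_one]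

theorem not_commute_star {i l m : α} (hil : i ≠ l) (him : i ≠ m) (hlm : l ≠ m) :
    ¬ Commute (swap i l) (swap i m) := by
  intro h
  have h1 := swap_conj_star hil him hlm
  rw [h.eq, mul_assoc, Equiv.swap_mul_self, mul_one] at h1
  have h2 : i = swap l m m := by
    conv_rhs => rw [← h1]
    rw [swap_apply_right]
  rw [swap_apply_right] at h2
  exact hil h2

/-- A set of transpositions closed under conjugating non-commuting members contains all the
transpositions of a block around each member, and only those fail to commute with it. -/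
theorem block {W : Set (Perm α)} (hW : ∀ σ ∈ W, σ.IsSwap)
    (hcl : ∀ σ ∈ W, ∀ τ ∈ W, ¬ Commute σ τ → σ * τ * σ ∈ W) {e : Perm α} (he : e ∈ W) :
    ∃ B : Finset α, 2 ≤ B.card ∧ Sw B ⊆ W ∧
      W.ncard + (B.card - 2).choose 2 =
        {τ ∈ W | τ ≠ e ∧ Commute e τ}.ncard + B.card.choose 2 := by
  classical
  obtain ⟨i, j, hij, eij⟩ := hW e he
  subst eij
  obtain ⟨B, eB⟩ : ∃ B : Finset α, B = Finset.univ.filter (fun l => l = i ∨ swap i l ∈ W) :=
    ⟨_, rfl⟩
  have mB : ∀ l, l ∈ B ↔ l = i ∨ swap i l ∈ W := fun l => by simp [eB]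
  have hiB : i ∈ B := (mB i).2 (Or.inl rfl)
  have hjB : j ∈ B := (mB j).2 (Or.inr he)
  have hsub : Sw B ⊆ W := by
    rintro _ ⟨⟨l, m, hlm, rfl⟩, hs⟩
    rw [support_swap hlm] at hs
    rcases (mB l).1 (hs (by simp)) with rfl | hl <;> rcases (mB m).1 (hs (by simp)) with e' | hm
    · exact absurd e'.symm hlm
    · exact hm
    · subst e'; rw [swap_comm]; exact hl
    · by_cases hil : i = l
      · subst hil; exact hm
      by_cases him : i = m
      · subst him; rw [swap_comm]; exact hl
      rw [← swap_conj_star hil him hlm]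
      exact hcl _ hl _ hm (not_commute_star hil him hlm)
  have htwo : ({i, j} : Finset α) ⊆ B := by
    intro l hl
    simp only [Finset.mem_insert, Finset.mem_singleton] at hl
    rcases hl with rfl | rfl <;> assumption
  obtain ⟨B', eB'⟩ : ∃ B' : Finset α, B' = B \ {i, j} := ⟨_, rfl⟩
  have hB' : B'.card = B.card - 2 := by
    rw [eB', Finset.card_sdiff_of_subset htwo, Finset.card_pair hij]
  refine ⟨B, ?_, hsub, ?_⟩
  · have := Finset.card_le_card htwo
    rwa [Finset.card_pair hij] at this
  obtain ⟨N, eN⟩ : ∃ N : Set (Perm α), N = {τ ∈ W | ¬ Commute (swap i j) τ} := ⟨_, rfl⟩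
  have hesw : (swap i j).IsSwap := ⟨i, j, hij, rfl⟩
  have heB : swap i j ∈ Sw B := ⟨hesw, by rw [support_swap hij]; exact htwo⟩
  -- the partners of `e` lie in the block
  have hN : N ∪ insert (swap i j) (Sw B') = Sw B := by
    ext τ
    constructor
    · rintro (hτ | rfl | hτ)
      · rw [eN] at hτ
        obtain ⟨hτW, hnc⟩ := hτ
        have hs := hW τ hτW
        have hnd : ¬ Disjoint (swap i j).support τ.support := fun h =>
          hnc ((swap_commute_iff hesw hs).2 (Or.inr h))
        have hne : swap i j ≠ τ := fun h => hnc ((swap_commute_iff hesw hs).2 (Or.inl h))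
        obtain ⟨a, b, hab, rfl⟩ := hs
        refine ⟨⟨a, b, hab, rfl⟩, ?_⟩
        rw [support_swap hab]
        rw [support_swap hij, support_swap hab, Finset.not_disjoint_iff] at hnd
        obtain ⟨x, hx, hx'⟩ := hnd
        simp only [Finset.mem_insert, Finset.mem_singleton] at hx hx'
        -- the other letter is in the block
        have key : ∀ c, c ≠ x → swap x c ∈ W → ({x, c} : Finset α) ⊆ B := by
          intro c hc hmem
          rcases hx with rfl | rfl
          · exact Finset.insert_subset hiB (Finset.singleton_subset_iff.2 ((mB c).2 (Or.inr hmem)))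
          · refine Finset.insert_subset hjB (Finset.singleton_subset_iff.2 ?_)
            by_cases hci : c = i
            · exact hci ▸ hiB
            refine (mB c).2 (Or.inr ?_)
            have h1 : swap x c * swap x i * swap x c = swap c i :=
              swap_conj_star hc.symm hij.symm hci
            rw [swap_comm x i, swap_comm c i] at h1
            rw [← h1]
            refine hcl _ hmem _ he fun h => ?_
            rw [swap_comm i x] at h
            exact not_commute_star hc.symm hij.symm hci h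
        rcases hx' with rfl | rfl
        · exact key b hab.symm hτW
        · rw [Finset.pair_comm]
          exact key a hab (by rw [swap_comm]; exact hτW)
      · exact heB
      · exact ⟨hτ.1, hτ.2.trans (by rw [eB']; exact Finset.sdiff_subset)⟩
    · intro hτ
      by_cases hc : Commute (swap i j) τ
      · right
        rcases (swap_commute_iff hesw hτ.1).1 hc with h | h
        · exact Or.inl h.symm
        · refine Or.inr ⟨hτ.1, fun x hx => ?_⟩
          rw [eB', Finset.mem_sdiff]
          refine ⟨hτ.2 hx, fun hx' => ?_⟩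
          rw [support_swap hij] at h
          exact Finset.disjoint_left.1 h hx' hx
      · left; rw [eN]; exact ⟨hsub hτ, hc⟩
  have hnot : swap i j ∉ Sw B' := fun h => by
    have h2 := h.2
    rw [support_swap hij, eB'] at h2
    simpa using h2 (show i ∈ ({i, j} : Finset α) by simp)
  have hdisj : Disjoint N (insert (swap i j) (Sw B')) := by
    rw [Set.disjoint_left]
    intro τ hτ hτ'
    rw [eN] at hτ
    refine hτ.2 ?_
    rcases hτ' with rfl | h
    · exact Commute.refl _
    · refine (swap_commute_iff hesw h.1).2 (Or.inr ?_)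
      rw [support_swap hij, Finset.disjoint_left]
      intro x hx hx'
      have := h.2 hx'
      rw [eB', Finset.mem_sdiff] at this
      exact this.2 hx
  have h1 := Set.ncard_union_eq hdisj
  rw [hN, Set.ncard_insert_of_notMem hnot, ncard_Sw, ncard_Sw, hB'] at h1
  have h2 : W = N ∪ insert (swap i j) {τ ∈ W | τ ≠ swap i j ∧ Commute (swap i j) τ} := by
    ext τ
    constructor
    · intro hτ
      by_cases hc : Commute (swap i j) τ
      · by_cases hτe : τ = swap i j
        · exact Or.inr (Or.inl hτe)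
        · exact Or.inr (Or.inr ⟨hτ, hτe, hc⟩)
      · exact Or.inl (by rw [eN]; exact ⟨hτ, hc⟩)
    · rintro (h | rfl | h)
      · rw [eN] at h; exact h.1
      · exact he
      · exact h.1
  have h3 : W.ncard = N.ncard + ({τ ∈ W | τ ≠ swap i j ∧ Commute (swap i j) τ}.ncard + 1) := by
    conv_lhs => rw [h2]
    rw [Set.ncard_union_eq, Set.ncard_insert_of_notMem (fun h => h.2.1 rfl)]
    rw [Set.disjoint_left]
    intro τ hτ hτ'
    rw [eN] at hτ
    rcases hτ' with rfl | h
    · exact hτ.2 (Commute.refl _)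
    · exact hτ.2 h.2.2
  omega

end Perm

/-- `S` is the image of the transpositions of `Sym(n)` under an embedding. -/
def SymConf {G : Type*} [Group G] (n : ℕ) (S : Set G) : Prop :=
  ∃ φ : Perm (Fin n) →* G, Function.Injective φ ∧ φ '' {σ | σ.IsSwap} = S

namespace SymConf

variable {G : Type*} [Group G] {n : ℕ} {S : Set G} (h : SymConf n S)
include h

theorem ncard : S.ncard = n.choose 2 := by
  obtain ⟨φ, hφ, rfl⟩ := h
  rw [Set.ncard_image_of_injective _ hφ, ncard_swaps, Fintype.card_fin]

theorem sq {d : G} (hd : d ∈ S) : d * d = 1 := by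
  obtain ⟨φ, -, rfl⟩ := h
  obtain ⟨σ, hσ, rfl⟩ := hd
  rw [← map_mul, swap_mul_self' hσ, map_one]

theorem conj_mem {d e : G} (hd : d ∈ S) (he : e ∈ S) : d * e * d ∈ S := by
  obtain ⟨φ, -, rfl⟩ := h
  obtain ⟨σ, hσ, rfl⟩ := hd
  obtain ⟨τ, hτ, rfl⟩ := he
  refine ⟨σ * τ * σ⁻¹, isSwap_conj hτ σ, ?_⟩
  rw [inv_eq_of_mul_eq_one_right (swap_mul_self' hσ), map_mul, map_mul]

theorem exists_noncomm (hn : 3 ≤ n) {b : G} (hb : b ∈ S) : ∃ x ∈ S, ¬ Commute b x := by
  obtain ⟨φ, hφ, rfl⟩ := h
  obtain ⟨σ, hσ, rfl⟩ := hb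
  obtain ⟨i, j, hij, rfl⟩ := hσ
  obtain ⟨l, hl⟩ : ∃ l : Fin n, l ∉ ({i, j} : Finset (Fin n)) := by
    by_contra! hall
    have := Finset.card_le_card (fun l (_ : l ∈ Finset.univ) => hall l)
    rw [Finset.card_univ, Fintype.card_fin, Finset.card_pair hij] at this
    omega
  simp only [Finset.mem_insert, Finset.mem_singleton, not_or] at hl
  exact ⟨φ (swap i l), ⟨_, ⟨i, l, Ne.symm hl.1, rfl⟩, rfl⟩, fun hc =>
    not_commute_star hij (Ne.symm hl.1) (Ne.symm hl.2) (hc.of_map hφ)⟩

theorem ncard_common {b x : G} (hb : b ∈ S) (hx : x ∈ S) (hbx : ¬ Commute b x) :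
    {w ∈ S | Commute b w ∧ Commute x w}.ncard = (n - 3).choose 2 := by
  obtain ⟨φ, hφ, rfl⟩ := h
  obtain ⟨σ, hσ, rfl⟩ := hb
  obtain ⟨τ, hτ, rfl⟩ := hx
  have hne : ¬ Commute σ τ := fun h => hbx (h.map φ)
  have hnd : ¬ Disjoint σ.support τ.support := fun h => hne ((swap_commute_iff hσ hτ).2 (Or.inr h))
  have hst : σ ≠ τ := fun h => hne ((swap_commute_iff hσ hτ).2 (Or.inl h))
  have hcard : (σ.support ∪ τ.support)ᶜ.card = n - 3 := by
    rw [Finset.card_compl, Fintype.card_fin]
    congr 1
    have h1 := Finset.card_union_add_card_inter σ.support τ.support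
    rw [card_support_eq_two.2 hσ, card_support_eq_two.2 hτ] at h1
    have h2 : 1 ≤ (σ.support ∩ τ.support).card :=
      Finset.card_pos.2 (Finset.not_disjoint_iff_nonempty_inter.1 hnd)
    have h3 : (σ.support ∩ τ.support).card ≠ 2 := fun h3 => by
      have e1 := Finset.eq_of_subset_of_card_le (Finset.inter_subset_left (s₁ := σ.support)
        (s₂ := τ.support)) (by rw [h3, card_support_eq_two.2 hσ])
      have e2 := Finset.eq_of_subset_of_card_le (Finset.inter_subset_right (s₁ := σ.support)
        (s₂ := τ.support)) (by rw [h3, card_support_eq_two.2 hτ])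
      exact hst (swap_eq_of_support hσ hτ (e1.symm.trans e2))
    have h4 : (σ.support ∩ τ.support).card ≤ 2 :=
      le_of_le_of_eq (Finset.card_le_card Finset.inter_subset_left) (card_support_eq_two.2 hσ)
    omega
  rw [← hcard, ← ncard_Sw, ← Set.ncard_image_of_injective _ hφ]
  congr 1
  ext w
  constructor
  · rintro ⟨⟨ρ, hρ, rfl⟩, h1, h2⟩
    refine ⟨ρ, ⟨hρ, fun z hz => ?_⟩, rfl⟩
    rw [Finset.mem_compl, Finset.mem_union]
    rcases (swap_commute_iff hσ hρ).1 (h1.of_map hφ) with e | hd1
    · subst e; exact absurd ((h2.of_map hφ).symm) hne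
    rcases (swap_commute_iff hτ hρ).1 (h2.of_map hφ) with e | hd2
    · subst e; exact absurd (h1.of_map hφ) hne
    rintro (hz' | hz')
    · exact Finset.disjoint_left.1 hd1 hz' hz
    · exact Finset.disjoint_left.1 hd2 hz' hz
  · rintro ⟨ρ, ⟨hρ, hs⟩, rfl⟩
    refine ⟨⟨ρ, hρ, rfl⟩, Commute.map ?_ φ, Commute.map ?_ φ⟩ <;>
      refine (swap_commute_iff (by assumption) hρ).2 (Or.inr (Finset.disjoint_left.2 fun z hz hz' => ?_))
    · exact (Finset.mem_compl.1 (hs hz')) (Finset.mem_union_left _ hz)
    · exact (Finset.mem_compl.1 (hs hz')) (Finset.mem_union_right _ hz)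

theorem closure_eq : ∃ φ : Perm (Fin n) →* G, Function.Injective φ ∧
    φ '' {σ | σ.IsSwap} = S ∧ φ.range = Subgroup.closure S := by
  obtain ⟨φ, hφ, rfl⟩ := h
  refine ⟨φ, hφ, rfl, ?_⟩
  rw [MonoidHom.range_eq_map, ← closure_isSwap, MonoidHom.map_closure]

theorem iso : Nonempty (↥(Subgroup.closure S) ≃* Perm (Fin n)) := by
  obtain ⟨φ, hφ, -, hr⟩ := h.closure_eq
  exact ⟨(MulEquiv.subgroupCongr hr.symm).trans (φ.ofInjective hφ).symm⟩

theorem card_closure : Nat.card ↥(Subgroup.closure S) = n.factorial := by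
  obtain ⟨e⟩ := h.iso
  rw [Nat.card_congr e.toEquiv, Nat.card_perm, Nat.card_fin]

theorem trans {d e : G} (hd : d ∈ S) (he : e ∈ S) :
    ∃ g ∈ Subgroup.closure S, g * d * g⁻¹ = e := by
  obtain ⟨φ, -, hS, hr⟩ := h.closure_eq
  rw [← hS] at hd he
  obtain ⟨σ, hσ, rfl⟩ := hd
  obtain ⟨τ, hτ, rfl⟩ := he
  obtain ⟨g, hg⟩ := isConj_iff.1 ((isConj_iff_cycleType_eq (σ := σ) (τ := τ)).2 (by
    rw [isSwap_iff_cycleType.1 hσ, isSwap_iff_cycleType.1 hτ]))
  exact ⟨φ g, hr ▸ ⟨g, rfl⟩, by rw [← map_inv, ← map_mul, ← map_mul, hg]⟩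

end SymConf

end CfsgLib.Trans3.Fi
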