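import Cfsg.Agent.Lib.Trans3.Fi.Products

/-!
The centraliser of a product of three commuting 3-transpositions of a group of type M(23)
permutes the three factors as the symmetric group of degree three.
-/

set_option autoImplicit false

namespace CfsgLib.Trans3.Fi

variable {G : Type*} [Group G] [Finite G] {D : Set G}
variable (hD : Cfsg.IsThreeTranspositionGroup D)
include hD

omit [Finite G] in
/-- In a single class two commuting members have a common non-commuting neighbour. -/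
theorem exists_common_noncomm (hconj : ∀ a ∈ D, ∀ b ∈ D, ∃ g : G, g * a * g⁻¹ = b) {a b : G}
    (ha : a ∈ D) (hb : b ∈ D) (hne : a ≠ b) (hab : Commute a b) :
    ∃ c ∈ D, ¬ Commute a c ∧ ¬ Commute b c := by
  obtain ⟨S, eS⟩ : ∃ S : Set G,
      S = {x | x = a ∨ ¬ Commute a x ∨ ∃ c ∈ D, ¬ Commute a c ∧ ¬ Commute x c} := ⟨_, rfl⟩
  have step : ∀ x ∈ D, ∀ y ∈ D, ¬ Commute x y → x ∈ S → y ∈ S := by
    intro x hx y hy hxy hxS
    rw [eS] at hxS ⊢
    by_cases hay : Commute a y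
    swap
    · exact Or.inr (Or.inl hay)
    rcases hxS with rfl | hax | ⟨c, hc, hac, hxc⟩
    · exact absurd hay hxy
    · exact Or.inr (Or.inr ⟨x, hx, hax, fun h => hxy h.symm⟩)
    · by_cases hax : Commute a x
      swap
      · exact Or.inr (Or.inr ⟨x, hx, hax, fun h => hxy h.symm⟩)
      by_cases hcy : Commute c y
      swap
      · exact Or.inr (Or.inr ⟨c, hc, hac, fun h => hcy h.symm⟩)
      refine Or.inr (Or.inr ⟨c * x * c, self_conj_mem hD hc hx, fun h => hac ?_, fun h => hxy ?_⟩)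
      · rw [← braid hD.1 hx hc hxc] at h
        have := (hax.mul_right h).mul_right hax
        rwa [show x * (x * c * x) * x = (x * x) * c * (x * x) by group, Trans3.sq_one hD.1 hx,
          one_mul, mul_one] at this
      · have := (hcy.symm.mul_right h).mul_right hcy.symm
        rw [show c * (c * x * c) * c = (c * c) * x * (c * c) by group, Trans3.sq_one hD.1 hc,
          one_mul, mul_one] at this
        exact this.symm
  -- the non-commuting graph is connected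
  have key : ∀ g ∈ Subgroup.closure D, ∀ x ∈ D, (x ∈ S ↔ g * x * g⁻¹ ∈ S) := by
    intro g hg
    induction hg using Subgroup.closure_induction with
    | mem e he =>
      intro x hx
      by_cases hc : Commute e x
      · rw [conj_eq_of_commute hc]
      have hm : e * x * e ∈ D := self_conj_mem hD he hx
      rw [self_conj_eq hD.1 he]
      have n1 : ¬ Commute x (e * x * e) := fun h => hc (commute_of_commute_mid hD.1 hx he
        (fun h' => hc h'.symm) (Commute.refl x) h).symm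
      exact ⟨step x hx _ hm n1, step _ hm x hx fun h => n1 h.symm⟩
    | one => intro x _; simp
    | mul u v _ _ h1 h2 =>
      intro x hx
      rw [h2 x hx, h1 _ (hD.2.1 v x hx),
        show u * (v * x * v⁻¹) * u⁻¹ = u * v * x * (u * v)⁻¹ by group]
    | inv u _ h1 =>
      intro x hx
      rw [h1 (u⁻¹ * x * u⁻¹⁻¹) (hD.2.1 u⁻¹ x hx), show u * (u⁻¹ * x * u⁻¹⁻¹) * u⁻¹ = x by group]
  obtain ⟨g, rfl⟩ := hconj a ha b hb
  have := (key g (hD.2.2 ▸ Subgroup.mem_top g) a ha).1 (eS ▸ Or.inl rfl)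
  rw [eS] at this
  rcases this with h | h | h
  · exact absurd h.symm hne
  · exact absurd hab h
  · exact h

/-- Some element exchanges `y`, `z` and fixes `x`. -/
theorem exists_swap (h : Cfsg.IsOfTypeM23 G D) {x y z : G} (hx : x ∈ D) (hy : y ∈ D) (hz : z ∈ D)
    (hxy : x ≠ y) (hxz : x ≠ z) (hyz : y ≠ z) (cxy : Commute x y) (cxz : Commute x z)
    (cyz : Commute y z) :
    ∃ g : G, g * x * g⁻¹ = x ∧ g * y * g⁻¹ = z ∧ g * z * g⁻¹ = y := by
  have hN := nice_m23 hD h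
  have hPre := pre_of_group hD
  obtain ⟨-, d, hd, c₀, hc₀, hdc, h22, -⟩ := h
  -- the neighbourhood of every member is one class
  have hcl : ∀ q ∈ Db D d, ∀ q' ∈ Db D d, ∃ g : Qd D d, g * q * g⁻¹ = q' :=
    (nice_m22 (hN.group_Db hd) h22).conj
  obtain ⟨k, hk⟩ := hN.conj x hx d hd
  have hn : ∀ w, w ∈ D → w ≠ x → Commute x w → k * w * k⁻¹ ∈ nbrs D d := fun w hw hne hc =>
    ⟨hD.2.1 k w hw, fun e => hne (mul_left_cancel (mul_right_cancel (e.trans hk.symm))),
      hk ▸ (commute_conj_iff k x w).2 hc⟩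
  have hy' := hn y hy hxy.symm cxy
  have hz' := hn z hz hxz.symm cxz
  obtain ⟨q, hq, n1, n2⟩ := exists_common_noncomm (hN.group_Db hd) hcl (bar_mem hy') (bar_mem hz')
    (fun e => hyz (mul_left_cancel (mul_right_cancel (hN.bar_inj hd hy' hz' e))))
    ((commute_bar hPre hy' hz').2 ((commute_conj_iff k y z).2 cyz))
  obtain ⟨c', hc', rfl⟩ := exists_bar hq
  rw [commute_bar hPre] at n1 n2
  obtain ⟨c, ec⟩ : ∃ c, c = k⁻¹ * c' * k := ⟨_, rfl⟩
  have hc : c ∈ D := ec ▸ by simpa using hD.2.1 k⁻¹ c' hc'.1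
  have hck : k * c * k⁻¹ = c' := by rw [ec]; group
  rw [← hck, commute_conj_iff] at n1 n2
  have cxc : Commute x c := (commute_conj_iff k x c).1 (by rw [hk, hck]; exact hc'.2.2)
  have fx : Commute (c * (y * z) * c) x :=
    ((cxc.mul_right (cxy.mul_right cxz)).mul_right cxc).symm
  have inv : (c * (y * z) * c)⁻¹ = c * (y * z) * c := by
    rw [mul_inv_rev, mul_inv_rev, mul_inv_rev, inv_eq hD.1 hc, inv_eq hD.1 hy, inv_eq hD.1 hz,
      ← cyz.eq, ← mul_assoc]
  refine ⟨c * (y * z) * c, conj_eq_of_commute fx, ?_, ?_⟩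
  · rw [inv]
    calc c * (y * z) * c * y * (c * (y * z) * c)
        = c * (y * z) * (c * y * c) * (y * z) * c := by group
      _ = c * (z * y) * (y * c * y) * (y * z) * c := by
          rw [cyz.eq, braid hD.1 hc hy fun h' => n1 h'.symm]
      _ = c * z * (y * y) * c * (y * y) * z * c := by group
      _ = c * (z * c * z) * c := by rw [Trans3.sq_one hD.1 hy]; group
      _ = c * (c * z * c) * c := by rw [braid hD.1 hz hc n2]
      _ = (c * c) * z * (c * c) := by group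
      _ = z := by rw [Trans3.sq_one hD.1 hc, one_mul, mul_one]
  · rw [inv]
    calc c * (y * z) * c * z * (c * (y * z) * c)
        = c * (y * z) * (c * z * c) * (y * z) * c := by group
      _ = c * (y * z) * (z * c * z) * (z * y) * c := by
          rw [cyz.eq, braid hD.1 hc hz fun h' => n2 h'.symm]
      _ = c * y * (z * z) * c * (z * z) * y * c := by group
      _ = c * (y * c * y) * c := by rw [Trans3.sq_one hD.1 hz]; group
      _ = c * (c * y * c) * c := by rw [braid hD.1 hy hc n1]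
      _ = (c * c) * y * (c * c) := by group
      _ = y := by rw [Trans3.sq_one hD.1 hc, one_mul, mul_one]

theorem quotient_perm_three (h : Cfsg.IsOfTypeM23 G D) {d₁ d₂ d₃ : G} (h₁ : d₁ ∈ D) (h₂ : d₂ ∈ D)
    (h₃ : d₃ ∈ D) (h12 : d₁ ≠ d₂) (h13 : d₁ ≠ d₃) (h23 : d₂ ≠ d₃) (c12 : Commute d₁ d₂)
    (c13 : Commute d₁ d₃) (c23 : Commute d₂ d₃) (K C : Subgroup G)
    (hK : K = Subgroup.centralizer ({d₁, d₂, d₃} : Set G))
    (hC : C = Subgroup.centralizer ({d₁ * d₂ * d₃} : Set G)) :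
    K ≤ C ∧ ∃ _ : (K.subgroupOf C).Normal,
      Nonempty (↥C ⧸ K.subgroupOf C ≃* Equiv.Perm (Fin 3)) := by
  have hmemC : ∀ g, g ∈ C ↔ Commute g (d₁ * d₂ * d₃) := fun g => by
    rw [hC, Subgroup.mem_centralizer_singleton_iff]; exact ⟨fun e => e, fun e => e⟩
  have hmemK : ∀ g, g ∈ K ↔ Commute g d₁ ∧ Commute g d₂ ∧ Commute g d₃ := fun g => by
    rw [hK, Subgroup.mem_centralizer_iff]
    simp only [Set.mem_insert_iff, Set.mem_singleton_iff, forall_eq_or_imp, forall_eq]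
    exact ⟨fun ⟨a, b, c⟩ => ⟨a.symm, b.symm, c.symm⟩, fun ⟨a, b, c⟩ => ⟨a.symm, b.symm, c.symm⟩⟩
  obtain ⟨-, h4, -, h6⟩ := m23_noRel hD h
  obtain ⟨l, el⟩ : ∃ l : List G, l = [d₁, d₂, d₃] := ⟨_, rfl⟩
  have hfac : Fac D 3 (d₁ * d₂ * d₃) l := by
    subst el
    exact ⟨by simp [h12, h13, h23], rfl, by simp [h₁, h₂, h₃],
      by simp [c12, c12.symm, c13, c13.symm, c23, c23.symm], by simp [mul_assoc]⟩
  have hperm : ∀ g ∈ C, ∀ x, x ∈ l ↔ g * x * g⁻¹ ∈ l := by
    intro g hg x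
    have hmap : Fac D 3 (d₁ * d₂ * d₃) (l.map (MulAut.conj g)) := by
      refine ⟨hfac.1.map (MulAut.conj g).injective, by rw [List.length_map, hfac.2.1], ?_, ?_, ?_⟩
      · intro a ha
        obtain ⟨u, hu, rfl⟩ := List.mem_map.1 ha
        exact hD.2.1 g u (hfac.2.2.1 u hu)
      · intro a ha b hb
        obtain ⟨u, hu, rfl⟩ := List.mem_map.1 ha
        obtain ⟨v, hv, rfl⟩ := List.mem_map.1 hb
        exact (commute_conj_iff g u v).2 (hfac.2.2.2.1 u hu v hv)
      · rw [← map_list_prod, hfac.2.2.2.2, MulAut.conj_apply,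
          conj_eq_of_commute ((hmemC g).1 hg)]
    rw [determined hD le_rfl (fun _ => h4) (fun _ => h6) hfac hmap (g * x * g⁻¹)]
    exact (List.mem_map_of_injective (MulAut.conj g).injective).symm
  let e : Fin 3 ≃ {x // x ∈ l} :=
    Equiv.ofBijective ![⟨d₁, by simp [el]⟩, ⟨d₂, by simp [el]⟩, ⟨d₃, by simp [el]⟩] ⟨by
      intro i j hij
      fin_cases i <;> fin_cases j <;>
        simp [Subtype.ext_iff, h12, h13, h23, Ne.symm h12, Ne.symm h13, Ne.symm h23] at hij ⊢, by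
      rintro ⟨x, hx⟩
      subst el
      simp only [List.mem_cons, List.not_mem_nil, or_false] at hx
      rcases hx with rfl | rfl | rfl
      exacts [⟨0, rfl⟩, ⟨1, rfl⟩, ⟨2, rfl⟩]⟩
  let φ : ↥C →* Equiv.Perm {x // x ∈ l} :=
    { toFun := fun g => (MulAut.conj (g : G)).toEquiv.subtypeEquiv fun x => hperm g g.2 x
      map_one' := Equiv.ext fun x => Subtype.ext (by simp)
      map_mul' := fun a b => Equiv.ext fun x => Subtype.ext (by simp [mul_assoc]) }
  let ψ : ↥C →* Equiv.Perm (Fin 3) := (e.symm.permCongrHom.toMonoidHom).comp φ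
  have hψ : ∀ (g : ↥C) (i j : Fin 3), ψ g i = j ↔ (g : G) * (e i : G) * (g : G)⁻¹ = (e j : G) := by
    intro g i j
    show e.symm (φ g (e i)) = j ↔ _
    rw [Equiv.symm_apply_eq, Subtype.ext_iff]
    rfl
  have e0 : (e 0 : G) = d₁ := rfl
  have e1 : (e 1 : G) = d₂ := rfl
  have e2 : (e 2 : G) = d₃ := rfl
  have hker : ψ.ker = K.subgroupOf C := by
    ext g
    rw [MonoidHom.mem_ker, Subgroup.mem_subgroupOf, hmemK, Equiv.ext_iff]
    simp only [Fin.forall_fin_succ, IsEmpty.forall_iff, and_true, Equiv.Perm.coe_one, id_eq]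
    change ψ g 0 = 0 ∧ ψ g 1 = 1 ∧ ψ g 2 = 2 ↔ _
    rw [hψ, hψ, hψ, e0, e1, e2]
    simp only [mul_inv_eq_iff_eq_mul]
    exact ⟨fun ⟨a, b, c⟩ => ⟨a, b, c⟩, fun ⟨a, b, c⟩ => ⟨a, b, c⟩⟩
  have hmem : ∀ g : G, (g * d₁ * g⁻¹) * (g * d₂ * g⁻¹) * (g * d₃ * g⁻¹) = d₁ * d₂ * d₃ → g ∈ C := by
    intro g hg
    refine (hmemC g).2 (mul_inv_eq_iff_eq_mul.1 (Eq.trans ?_ hg))
    group
  obtain ⟨g₁, a1, a2, a3⟩ := exists_swap hD h h₁ h₂ h₃ h12 h13 h23 c12 c13 c23
  obtain ⟨g₃, b3, b1, b2⟩ := exists_swap hD h h₃ h₁ h₂ h13.symm h23.symm h12 c13.symm c23.symm c12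
  have hg₁ : g₁ ∈ C := hmem g₁ (by rw [a1, a2, a3, mul_assoc, mul_assoc, c23.eq])
  have hg₃ : g₃ ∈ C := hmem g₃ (by rw [b1, b2, b3, c12.eq])
  have hs1 : ψ ⟨g₁, hg₁⟩ = Equiv.swap 1 2 := Equiv.ext fun i => by
    fin_cases i
    · exact (hψ _ 0 0).2 (by rw [e0]; exact a1)
    · exact (hψ _ 1 2).2 (by rw [e1, e2]; exact a2)
    · exact (hψ _ 2 1).2 (by rw [e1, e2]; exact a3)
  have hs3 : ψ ⟨g₃, hg₃⟩ = Equiv.swap 0 1 := Equiv.ext fun i => by
    fin_cases i
    · exact (hψ _ 0 1).2 (by rw [e0, e1]; exact b1)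
    · exact (hψ _ 1 0).2 (by rw [e0, e1]; exact b2)
    · exact (hψ _ 2 2).2 (by rw [e2]; exact b3)
  have hsurj : Function.Surjective ψ := by
    rw [← MonoidHom.range_eq_top, eq_top_iff]
    intro σ _
    have hall : ∀ τ : Equiv.Perm (Fin 3), τ = 1 ∨ τ = Equiv.swap 1 2 ∨ τ = Equiv.swap 0 1 ∨
        τ = Equiv.swap 1 2 * Equiv.swap 0 1 ∨ τ = Equiv.swap 0 1 * Equiv.swap 1 2 ∨
        τ = Equiv.swap 0 1 * Equiv.swap 1 2 * Equiv.swap 0 1 := by decide +kernel
    have m1 : Equiv.swap (1 : Fin 3) 2 ∈ ψ.range := ⟨_, hs1⟩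
    have m3 : Equiv.swap (0 : Fin 3) 1 ∈ ψ.range := ⟨_, hs3⟩
    rcases hall σ with rfl | rfl | rfl | rfl | rfl | rfl
    exacts [one_mem _, m1, m3, mul_mem m1 m3, mul_mem m3 m1, mul_mem (mul_mem m3 m1) m3]
  haveI hn : (K.subgroupOf C).Normal := hker ▸ ψ.normal_ker
  refine ⟨fun g hg => ?_, hn, ?_⟩
  · obtain ⟨a, b, c⟩ := (hmemK g).1 hg
    exact (hmemC g).2 ((a.mul_right b).mul_right c)
  · exact ⟨(QuotientGroup.quotientMulEquivOfEq hker.symm).trans
      (QuotientGroup.quotientKerEquivOfSurjective ψ hsurj)⟩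

end CfsgLib.Trans3.Fi
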