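import Cfsg.Agent.Lib.Trans3.Fi.SymConf
import Cfsg.Agent.Lib.Trans3.Group
import Cfsg.Agent.Lib.KnownC.PermCoxeter

/-!
From the neighbourhoods of its members being of type `Sym(n)`, a set of 3-transpositions has
components of type `Sym(n+2)`.
-/

set_option autoImplicit false
set_option linter.unusedSectionVars false

namespace CfsgLib.Trans3.Fi

open Equiv Equiv.Perm

variable {G : Type*} [Group G]

/-- The members of `S` commuting with `d`, other than `d`. -/
abbrev nb (S : Set G) (d : G) : Set G := {e | e ∈ S ∧ e ≠ d ∧ Commute d e}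

/-- A component: of type `Sym(m)` and closed under commuting. -/
structure Comp (S : Set G) (m : ℕ) (T : Set G) : Prop where
  sub : T ⊆ S
  conf : SymConf m T
  closed : ∀ t ∈ T, ∀ e ∈ S, Commute t e → e ∈ T

/-- A homomorphism out of `Sym(k+1)` from Coxeter relations. -/
theorem exists_hom_perm {k : ℕ} (g : Fin k → G)
    (h : ∀ i j, (g i * g j) ^ (CoxeterMatrix.A k i j) = 1) :
    ∃ ψ : Perm (Fin (k + 1)) →* G, ∀ i : Fin k, ψ (swap i.castSucc i.succ) = g i := by
  obtain ⟨cs, hcs⟩ := CfsgLib.KnownC.exists_coxeterSystem_perm k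
  refine ⟨cs.lift ⟨g, h⟩, fun i => ?_⟩
  rw [← hcs i]; exact CoxeterSystem.lift_apply_simple cs h i

theorem step {E S : Set G} (hE : Cfsg.IsThreeTranspositionSet E) (hSE : S ⊆ E)
    (hcl : ∀ d ∈ S, ∀ e ∈ S, d * e * d ∈ S) {n : ℕ} (hn : 3 ≤ n)
    (hS : ∀ d ∈ S, SymConf n (nb S d))
    (hk : ∀ b ∈ S, ∀ x ∈ S, ¬ Commute b x → ({w ∈ S | Commute b w ∧ Commute x w}).Nonempty →
      ∀ k, 2 ≤ k → k ≤ n → {w ∈ S | Commute b w ∧ Commute x w}.ncard + (k - 2).choose 2 =
        (n - 3).choose 2 + k.choose 2 → k = n - 1)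
    {b : G} (hb : b ∈ S) : ∃ T, b ∈ T ∧ Comp S (n + 2) T := by
  classical
  obtain ⟨m, rfl⟩ : ∃ m, n = m + 1 := ⟨n - 1, by omega⟩
  obtain ⟨φ, hφ, hφS⟩ := hS b hb
  have mem_nb : ∀ {σ : Perm (Fin (m + 1))}, σ.IsSwap → φ σ ∈ nb S b := fun hσ =>
    hφS ▸ ⟨_, hσ, rfl⟩
  have h01 : (⟨0, by omega⟩ : Fin (m + 1)) ≠ ⟨1, by omega⟩ := by simp [Fin.ext_iff]
  obtain ⟨e₀, he₀⟩ : ∃ e₀, e₀ ∈ nb S b := ⟨_, mem_nb ⟨_, _, h01, rfl⟩⟩
  obtain ⟨x, ⟨hx, hxe, hex⟩, hbx⟩ := (hS e₀ he₀.1).exists_noncomm hn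
    (show b ∈ nb S e₀ from ⟨hb, Ne.symm he₀.2.1, he₀.2.2.symm⟩)
  -- the common neighbours, pulled back
  obtain ⟨W, eW⟩ : ∃ W : Set (Perm (Fin (m + 1))), W = {σ | σ.IsSwap ∧ Commute x (φ σ)} :=
    ⟨_, rfl⟩
  have himg : φ '' W = {w ∈ S | Commute b w ∧ Commute x w} := by
    ext w
    constructor
    · rintro ⟨σ, hσ, rfl⟩
      rw [eW] at hσ
      exact ⟨(mem_nb hσ.1).1, (mem_nb hσ.1).2.2, hσ.2⟩
    · rintro ⟨hw, hbw, hxw⟩
      have hwb : w ∈ nb S b := ⟨hw, fun e => hbx (e ▸ hxw).symm, hbw⟩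
      rw [← hφS] at hwb
      obtain ⟨σ, hσ, rfl⟩ := hwb
      exact ⟨σ, by rw [eW]; exact ⟨hσ, hxw⟩, rfl⟩
  obtain ⟨σ₀, hσ₀, eσ₀⟩ : e₀ ∈ φ '' W := himg ▸ ⟨he₀.1, he₀.2.2, hex.symm⟩
  have hWswap : ∀ σ ∈ W, σ.IsSwap := fun σ hσ => by rw [eW] at hσ; exact hσ.1
  have hWcl : ∀ σ ∈ W, ∀ τ ∈ W, ¬ Commute σ τ → σ * τ * σ ∈ W := by
    intro σ hσ τ hτ _
    rw [eW] at hσ hτ ⊢
    refine ⟨?_, ?_⟩
    · have := isSwap_conj hτ.1 σ
      rwa [inv_eq_of_mul_eq_one_right (swap_mul_self' hσ.1)] at this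
    · rw [map_mul, map_mul]
      exact (hσ.2.mul_right hτ.2).mul_right hσ.2
  obtain ⟨B, hB2, hBW, hcount⟩ := block hWswap hWcl hσ₀
  have hWn : W.ncard = {w ∈ S | Commute b w ∧ Commute x w}.ncard := by
    rw [← himg, Set.ncard_image_of_injective _ hφ]
  have hc0 : {τ ∈ W | τ ≠ σ₀ ∧ Commute σ₀ τ}.ncard = (m + 1 - 3).choose 2 := by
    have he : φ '' {τ ∈ W | τ ≠ σ₀ ∧ Commute σ₀ τ} =
        {w ∈ nb S e₀ | Commute b w ∧ Commute x w} := by
      ext w
      constructor
      · rintro ⟨τ, ⟨hτ, hne, hc⟩, rfl⟩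
        obtain ⟨h1, h2, h3⟩ : φ τ ∈ S ∧ Commute b (φ τ) ∧ Commute x (φ τ) :=
          (Set.ext_iff.1 himg (φ τ)).1 ⟨τ, hτ, rfl⟩
        exact ⟨⟨h1, fun e => hne (hφ (e.trans eσ₀.symm)), eσ₀ ▸ hc.map φ⟩, h2, h3⟩
      · rintro ⟨⟨h1, hne, hc⟩, h2, h3⟩
        obtain ⟨τ, hτ, rfl⟩ : w ∈ φ '' W := himg ▸ ⟨h1, h2, h3⟩
        exact ⟨τ, ⟨hτ, fun e => hne (by rw [e, eσ₀]), (eσ₀ ▸ hc : Commute (φ σ₀) (φ τ)).of_map hφ⟩, rfl⟩
    rw [← Set.ncard_image_of_injective _ hφ, he]
    exact (hS e₀ he₀.1).ncard_common ⟨hb, Ne.symm he₀.2.1, he₀.2.2.symm⟩ ⟨hx, hxe, hex⟩ hbx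
  rw [hc0] at hcount
  have hBle : B.card ≤ m + 1 := le_of_le_of_eq (Finset.card_le_univ B) (Fintype.card_fin _)
  have hkk : B.card = m + 1 - 1 :=
    hk b hb x hx hbx ⟨e₀, he₀.1, he₀.2.2, hex.symm⟩ _ hB2 hBle (hWn ▸ hcount)
  have hWB : Sw B = W := by
    refine Set.eq_of_subset_of_ncard_le hBW (le_of_eq ?_)
    rw [ncard_Sw]
    rw [show B.card - 2 = m + 1 - 3 by omega] at hcount
    omega
  obtain ⟨v, hv⟩ : ∃ v, v ∉ B := by
    by_contra! hall
    have := Finset.card_le_card (fun l (_ : l ∈ Finset.univ) => hall l)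
    rw [Finset.card_univ, Fintype.card_fin] at this
    omega
  have hBv : B = Finset.univ.erase v := Finset.eq_of_subset_of_card_le
    (fun l hl => Finset.mem_erase.2 ⟨fun e => hv (e ▸ hl), Finset.mem_univ _⟩)
    (by rw [Finset.card_erase_of_mem (Finset.mem_univ v), Finset.card_univ, Fintype.card_fin, hkk])
  -- relabel so that the exceptional letter is `0`
  obtain ⟨φ', eφ'⟩ : ∃ φ' : Perm (Fin (m + 1)) →* G,
      φ' = φ.comp (MulAut.conj (swap 0 v)).toMonoidHom := ⟨_, rfl⟩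
  have hφ' : ∀ σ, φ' σ = φ (swap 0 v * σ * (swap 0 v)⁻¹) := fun σ => by rw [eφ']; rfl
  have hnb' : ∀ {σ : Perm (Fin (m + 1))}, σ.IsSwap → φ' σ ∈ nb S b := fun hσ =>
    (hφ' _).symm ▸ mem_nb (isSwap_conj hσ _)
  have hx' : ∀ {σ : Perm (Fin (m + 1))}, σ.IsSwap → (Commute x (φ' σ) ↔ (0 : Fin (m + 1)) ∉ σ.support) := by
    intro σ hσ
    rw [hφ']
    have h1 : Commute x (φ (swap 0 v * σ * (swap 0 v)⁻¹)) ↔ swap 0 v * σ * (swap 0 v)⁻¹ ∈ W := by
      rw [eW]
      exact ⟨fun h => ⟨isSwap_conj hσ _, h⟩, fun h => h.2⟩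
    rw [h1, ← hWB]
    simp only [Sw, Set.mem_ofPred_eq, isSwap_conj hσ, true_and, hBv, Finset.subset_erase,
      Finset.subset_univ]
    rw [support_conj, Finset.mem_map]
    constructor
    · intro h h0
      exact h ⟨0, h0, by simp⟩
    · rintro h ⟨a, ha, hav⟩
      refine h ?_
      have : a = 0 := (swap 0 v).injective (by simpa using hav)
      exact this ▸ ha
  -- the path
  obtain ⟨g, eg⟩ : ∃ g : Fin (m + 2) → G,
      g = Fin.cons b (Fin.cons x fun i : Fin m => φ' (swap i.castSucc i.succ)) := ⟨_, rfl⟩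
  have g0 : g 0 = b := by rw [eg]; rfl
  have g1 : g (Fin.succ 0) = x := by rw [eg]; rfl
  have g2 : ∀ i : Fin m, g i.succ.succ = φ' (swap i.castSucc i.succ) := fun i => by rw [eg]; rfl
  have hadj : ∀ i : Fin m, (swap i.castSucc i.succ : Perm (Fin (m + 1))).IsSwap := fun i =>
    ⟨_, _, Fin.castSucc_lt_succ.ne, rfl⟩
  have sqE : ∀ {u : G}, u ∈ S → u * u = 1 := fun hu => Trans3.sq_one hE (hSE hu)
  have pc : ∀ {u w : G}, u ∈ S → w ∈ S → Commute u w → (u * w) ^ 2 = 1 := fun hu hw h =>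
    (commute_iff_pow_two hE (hSE hu) (hSE hw)).1 h
  have pn : ∀ {u w : G}, u ∈ S → w ∈ S → ¬ Commute u w → (u * w) ^ 3 = 1 := fun hu hw h =>
    Trans3.pow_three hE (hSE hu) (hSE hw) h
  obtain ⟨cs, hcs⟩ := CfsgLib.KnownC.exists_coxeterSystem_perm m
  have hrel : ∀ i j, (g i * g j) ^ (CoxeterMatrix.A (m + 2) i j) = 1 := by
    intro i j
    induction i using Fin.cases with
    | zero =>
      induction j using Fin.cases with
      | zero => simp [CoxeterMatrix.A, g0, sqE hb]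
      | succ j =>
        induction j using Fin.cases with
        | zero =>
          rw [g0, g1]
          simpa [CoxeterMatrix.A] using pn hb hx hbx
        | succ j =>
          rw [g0, g2]
          simpa [CoxeterMatrix.A, Fin.ext_iff] using pc hb (hnb' (hadj j)).1 (hnb' (hadj j)).2.2
    | succ i =>
      induction i using Fin.cases with
      | zero =>
        induction j using Fin.cases with
        | zero =>
          rw [g0, g1]
          simpa [CoxeterMatrix.A] using pn hx hb fun h => hbx h.symm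
        | succ j =>
          induction j using Fin.cases with
          | zero => rw [g1]; simp [CoxeterMatrix.A, sqE hx]
          | succ j =>
            rw [g1, g2]
            by_cases hj : (j : ℕ) = 0
            · have : ¬ Commute x (φ' (swap j.castSucc j.succ)) := fun h => (hx' (hadj j)).1 h (by
                rw [support_swap Fin.castSucc_lt_succ.ne]
                simp [Fin.ext_iff, hj])
              simpa [CoxeterMatrix.A, Fin.ext_iff, hj] using pn hx (hnb' (hadj j)).1 this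
            · have : Commute x (φ' (swap j.castSucc j.succ)) := (hx' (hadj j)).2 (by
                rw [support_swap Fin.castSucc_lt_succ.ne]
                simp [Fin.ext_iff, Ne.symm hj])
              simpa [CoxeterMatrix.A, Fin.ext_iff, hj, Ne.symm hj] using
                pc hx (hnb' (hadj j)).1 this
      | succ i =>
        induction j using Fin.cases with
        | zero =>
          rw [g0, g2]
          simpa [CoxeterMatrix.A, Fin.ext_iff] using
            pc (hnb' (hadj i)).1 hb (hnb' (hadj i)).2.2.symm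
        | succ j =>
          induction j using Fin.cases with
          | zero =>
            rw [g1, g2]
            by_cases hi : (i : ℕ) = 0
            · have : ¬ Commute x (φ' (swap i.castSucc i.succ)) := fun h => (hx' (hadj i)).1 h (by
                rw [support_swap Fin.castSucc_lt_succ.ne]
                simp [Fin.ext_iff, hi])
              simpa [CoxeterMatrix.A, Fin.ext_iff, hi] using
                pn (hnb' (hadj i)).1 hx fun h => this h.symm
            · have : Commute x (φ' (swap i.castSucc i.succ)) := (hx' (hadj i)).2 (by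
                rw [support_swap Fin.castSucc_lt_succ.ne]
                simp [Fin.ext_iff, Ne.symm hi])
              simpa [CoxeterMatrix.A, Fin.ext_iff, hi, Ne.symm hi] using
                pc (hnb' (hadj i)).1 hx this.symm
          | succ j =>
            rw [g2, g2, show CoxeterMatrix.A (m + 2) i.succ.succ j.succ.succ =
              CoxeterMatrix.A m i j by simp [CoxeterMatrix.A, Fin.ext_iff],
              ← map_mul, ← map_pow, ← hcs i, ← hcs j, cs.simple_mul_simple_pow, map_one]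
  obtain ⟨ψ, hψ⟩ := exists_hom_perm g hrel
  have hS' : ∀ i, g i ∈ S := by
    intro i
    induction i using Fin.cases with
    | zero => rw [g0]; exact hb
    | succ i =>
      induction i using Fin.cases with
      | zero => rw [g1]; exact hx
      | succ i => rw [g2]; exact (hnb' (hadj i)).1
  have hinj : Function.Injective ψ := by
    rw [← MonoidHom.ker_eq_bot_iff]
    by_contra hne
    haveI : Nontrivial ↥ψ.ker := (Subgroup.nontrivial_iff_ne_bot _).2 hne
    have hle := Equiv.Perm.alternatingGroup_le_of_normal (α := Fin (m + 2 + 1))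
      (by rw [Nat.card_fin]; omega) (N := ψ.ker) inferInstance
    have hsw : ∀ i : Fin (m + 2), (swap i.castSucc i.succ : Perm (Fin (m + 2 + 1))).IsSwap :=
      fun i => ⟨_, _, Fin.castSucc_lt_succ.ne, rfl⟩
    have h1 : ψ (swap (0 : Fin (m + 2)).castSucc (0 : Fin (m + 2)).succ *
        swap (Fin.succ (0 : Fin (m + 1))).castSucc (Fin.succ (0 : Fin (m + 1))).succ) = 1 :=
      MonoidHom.mem_ker.1 (hle (mul_mem_alternatingGroup_of_isSwap (hsw _) (hsw _)))
    rw [map_mul, hψ, hψ, g0, g1] at h1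
    have h2 : b = x := by
      calc b = b * (x * x) := by rw [sqE hx, mul_one]
        _ = x := by rw [← mul_assoc, h1, one_mul]
    exact hbx (h2 ▸ Commute.refl b)
  obtain ⟨T, eT⟩ : ∃ T, T = ψ '' {σ | σ.IsSwap} := ⟨_, rfl⟩
  have hTS : T ⊆ S := by
    rw [eT]
    rintro _ ⟨σ, hσ, rfl⟩
    obtain ⟨π, hπ⟩ := isConj_iff.1 ((isConj_iff_cycleType_eq
      (σ := (swap (0 : Fin (m + 2)).castSucc (0 : Fin (m + 2)).succ : Perm (Fin (m + 2 + 1))))
      (τ := σ)).2 (by
        rw [isSwap_iff_cycleType.1 hσ, isSwap_iff_cycleType.1 ⟨_, _, Fin.castSucc_lt_succ.ne, rfl⟩]))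
    rw [← hπ]
    have key : ∀ u ∈ S, ψ π * u * (ψ π)⁻¹ ∈ S := by
      clear hπ
      have hπc : π ∈ Submonoid.closure
          (Set.range fun i : Fin (m + 2) => swap i.castSucc i.succ) := by
        rw [mclosure_swap_castSucc_succ]; trivial
      induction hπc using Submonoid.closure_induction with
      | mem s hs =>
        obtain ⟨i, rfl⟩ := hs
        intro u hu
        rw [hψ, Trans3.inv_eq hE (hSE (hS' i))]
        exact hcl _ (hS' i) u hu
      | one => intro u hu; simpa using hu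
      | mul a c _ _ ha hc =>
        intro u hu
        simpa [mul_assoc] using ha _ (hc u hu)
    rw [map_mul, map_mul, map_inv, hψ, g0]
    exact key b hb
  refine ⟨T, ?_, hTS, ⟨ψ, hinj, eT.symm⟩, ?_⟩
  · rw [eT]
    exact ⟨_, ⟨_, _, Fin.castSucc_lt_succ.ne, rfl⟩, (hψ 0).trans g0⟩
  intro t ht e he hte
  by_cases het : e = t
  · exact het ▸ ht
  have hsub : nb T t ⊆ nb S t := fun u hu => ⟨hTS hu.1, hu.2⟩
  have hcard : (nb T t).ncard = (m + 1).choose 2 := by
    rw [eT] at ht ⊢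
    obtain ⟨σ, hσ, rfl⟩ := ht
    have h1 : ψ '' Sw σ.supportᶜ = nb (ψ '' {σ | σ.IsSwap}) (ψ σ) := by
      ext w
      constructor
      · rintro ⟨τ, ⟨hτ, hs⟩, rfl⟩
        refine ⟨⟨τ, hτ, rfl⟩, fun e => ?_, Commute.map ((swap_commute_iff hσ hτ).2 (Or.inr
          (Finset.disjoint_left.2 fun z hz hz' => Finset.mem_compl.1 (hs hz') hz))) ψ⟩
        have e' := hinj e
        subst e'
        obtain ⟨z, hz⟩ : τ.support.Nonempty :=
          Finset.card_pos.1 (by rw [card_support_eq_two.2 hτ]; norm_num)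
        exact Finset.mem_compl.1 (hs hz) hz
      · rintro ⟨⟨τ, hτ, rfl⟩, hne, hc⟩
        refine ⟨τ, ⟨hτ, fun z hz => Finset.mem_compl.2 fun hz' => ?_⟩, rfl⟩
        rcases (swap_commute_iff hσ hτ).1 (hc.of_map hinj) with e | hd
        · exact hne (by rw [e])
        · exact Finset.disjoint_left.1 hd hz' hz
    rw [← h1, Set.ncard_image_of_injective _ hinj, ncard_Sw, Finset.card_compl,
      card_support_eq_two.2 hσ, Fintype.card_fin]
    congr 1
  have hfin : (nb S t).Finite := by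
    obtain ⟨χ, -, hχ⟩ := hS t (hTS ht)
    rw [← hχ]
    exact Set.toFinite _
  have heq := Set.eq_of_subset_of_ncard_le hsub (by rw [hcard, (hS t (hTS ht)).ncard]) hfin
  have : e ∈ nb T t := heq ▸ (show e ∈ nb S t from ⟨he, het, hte⟩)
  exact this.1

end CfsgLib.Trans3.Fi
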