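import Cfsg.Agent.Lib.Trans3.Fi.M23Pair
import Cfsg.Agent.Lib.Trans3.Fi.M22Count
import Cfsg.Agent.Lib.Trans3.Fi.InvolFour
import Cfsg.Agent.Lib.Trans3.Fi.M24Triple

/-!
A group of type M(24): an upper bound for the centraliser, in the commutator subgroup, of a product of
four commuting members.
-/

set_option autoImplicit false
set_option linter.unusedSectionVars false

namespace CfsgLib.Trans3.Fi

open Subgroup

variable {G : Type*} [Group G] [Finite G] {D : Set G}

/-- A subgroup fixing `d` modulo the centre of its neighbourhood group. -/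
theorem card_le_two_image {d : G} (hd : orderOf d = 2)
    (hcm : ∀ x : ↥(Hd D d), x ∈ center ↥(Hd D d) → (x : G) = 1 ∨ (x : G) = d)
    {S : Subgroup G} (hS : S ≤ Hd D d) {T : Subgroup (Qd D d)}
    (hT : ∀ x : ↥(Hd D d), (x : G) ∈ S → (x : Qd D d) ∈ T) :
    Nat.card ↥S ≤ 2 * Nat.card ↥T := by
  let f : ↥S →* ↥T := ((QuotientGroup.mk' (center ↥(Hd D d))).comp (inclusion hS)).codRestrict T
    fun x => hT (inclusion hS x) x.2
  have hk : Nat.card f.ker ≤ 2 := by
    rw [← hd, ← Nat.card_zpowers]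
    refine Nat.card_le_card_of_injective
      (fun x : f.ker => (⟨((x : ↥S) : G), ?_⟩ : ↥(zpowers d))) ?_
    · have h1 : (inclusion hS (x : ↥S) : Qd D d) = 1 := congrArg Subtype.val x.2
      rcases hcm _ ((QuotientGroup.eq_one_iff _).1 h1) with e | e
      · rw [show ((x : ↥S) : G) = 1 from e]; exact one_mem _
      · rw [show ((x : ↥S) : G) = d from e]; exact mem_zpowers _
    · intro x y e
      exact Subtype.ext (Subtype.ext (congrArg Subtype.val e :))
  have hr : Nat.card f.range ≤ Nat.card ↥T := Nat.card_le_card_of_injective _ Subtype.val_injective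
  rw [← f.ker.card_mul_index, Subgroup.index_ker]
  exact Nat.mul_le_mul hk hr

/-- Conjugation by a subgroup inside a finite set. -/
theorem card_le_orbit_mul {H : Subgroup G} {x : G} {O : Set G} (h₁ : ∀ g ∈ H, g * x * g⁻¹ ∈ O) :
    Nat.card ↥H ≤ O.ncard * Nat.card ↥(H ⊓ centralizer ({x} : Set G)) := by
  obtain ⟨O', eO'⟩ : ∃ O' : Set G, O' = (fun g => g * x * g⁻¹) '' (H : Set G) := ⟨_, rfl⟩
  rw [card_orbit_mul (H := H) (x := x) (O := O') (fun g hg => eO' ▸ ⟨g, hg, rfl⟩)
    (fun o ho => by rw [eO'] at ho; exact ho)]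
  refine Nat.mul_le_mul_right _ (Set.ncard_le_ncard ?_)
  rw [eO']; rintro _ ⟨g, hg, rfl⟩; exact h₁ g hg

theorem m23_triple_bound (hD : Cfsg.IsThreeTranspositionGroup D) (hP : Cfsg.IsPrimitiveUnderConj D)
    (h : Cfsg.IsOfTypeM23 G D) {b c e : G} (hb : b ∈ D) (hc : c ∈ nbrs D b) (he : e ∈ nbrs D b)
    (hce : e ∈ nbrs D c) :
    Nat.card ↥(centralizer ({b * c * e} : Set G)) ≤ 318504960 := by
  have hN := nice_m23 hD h
  have hPre := pre_of_group hD
  have h22 := m23_below hD h hb
  have hX := hN.group_Db hb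
  have hXP := m23_prim_below hD h hP hb
  have nq : bar he ∈ nbrs (Db D b) (bar hc) := ⟨bar_mem he,
    fun e' => hce.2.1 (hN.bar_inj hb he hc e'), (commute_bar hPre hc he).2 hce.2.2⟩
  obtain ⟨S, eS⟩ : ∃ S : Subgroup G, S = centralizer ({b} : Set G) ⊓ centralizer ({c} : Set G) ⊓
      centralizer ({e} : Set G) := ⟨_, rfl⟩
  have hmemS : ∀ g, g ∈ S ↔ Commute g b ∧ Commute g c ∧ Commute g e := fun g => by
    rw [eS, mem_inf, mem_inf, mem_centralizer_singleton_iff, mem_centralizer_singleton_iff,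
      mem_centralizer_singleton_iff, and_assoc]
    rfl
  have hSb : Nat.card ↥S ≤ 53084160 := by
    have hle : S ≤ Hd D b := fun g hg => by
      rw [m23_gate hD hP h hb, mem_centralizer_singleton_iff]; exact ((hmemS g).1 hg).1.eq
    have h1 := card_le_two_image (hD.1.1 b hb)
      (fun x hx => m23_center_mem hD hP h hb hx) hle
      (T := centralizer ({bar hc} : Set (Qd D b)) ⊓ centralizer ({bar he} : Set (Qd D b)))
      (fun x hx => mem_inf.2 ⟨mem_centralizer_singleton_iff.2
        (commute_mk x hc ((hmemS _).1 hx).2.1).eq, mem_centralizer_singleton_iff.2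
        (commute_mk x he ((hmemS _).1 hx).2.2).eq⟩)
    rw [card_two hX hXP h22 (bar_mem hc) nq] at h1
    exact h1
  obtain ⟨C, eC⟩ : ∃ C : Subgroup G, C = centralizer ({b * c * e} : Set G) := ⟨_, rfl⟩
  rw [← eC]
  have f0 : Fac D 3 (b * c * e) [b, c, e] := ⟨by simp [Ne.symm hc.2.1, Ne.symm he.2.1, Ne.symm hce.2.1],
    rfl, by simp [hb, hc.1, he.1],
    by simp [hc.2.2, hc.2.2.symm, he.2.2, he.2.2.symm, hce.2.2, hce.2.2.symm], by simp [mul_assoc]⟩
  obtain ⟨v, ev⟩ : ∃ v : Fin 3 → G, v = ![b, c, e] := ⟨_, rfl⟩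
  have hv : Function.Injective v := by
    intro i j hij
    fin_cases i <;> fin_cases j <;>
      simp [ev, hc.2.1, he.2.1, hce.2.1, Ne.symm hc.2.1, Ne.symm he.2.1, Ne.symm hce.2.1] at hij ⊢
  have hperm : ∀ g : ↥C, ∀ i, ∃ j, (g : G) * v i * (g : G)⁻¹ = v j := by
    intro g i
    have hg : Commute (g : G) (b * c * e) := by
      have h2 : (g : G) ∈ centralizer ({b * c * e} : Set G) := eC ▸ g.2
      exact mem_centralizer_singleton_iff.1 h2
    have f1 : Fac D 3 (b * c * e) ([b, c, e].map (MulAut.conj (g : G))) := by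
      refine ⟨f0.1.map (MulAut.conj (g : G)).injective, rfl, ?_, ?_, ?_⟩
      · intro x hx
        obtain ⟨u, hu, rfl⟩ := List.mem_map.1 hx
        exact hD.2.1 g u (f0.2.2.1 u hu)
      · intro x hx y hy
        obtain ⟨u, hu, rfl⟩ := List.mem_map.1 hx
        obtain ⟨w, hw, rfl⟩ := List.mem_map.1 hy
        exact (commute_conj_iff (g : G) u w).2 (f0.2.2.2.1 u hu w hw)
      · rw [← map_list_prod, f0.2.2.2.2, MulAut.conj_apply, conj_eq_of_commute hg]
    obtain ⟨-, n4, -, n6⟩ := m23_noRel hD h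
    have hvi : v i ∈ [b, c, e] := by fin_cases i <;> simp [ev]
    have h2 := (determined hD le_rfl (fun _ => n4) (fun _ => n6) f1 f0 ((g : G) * v i * (g : G)⁻¹)).1
      (List.mem_map.2 ⟨v i, hvi, rfl⟩)
    simp only [List.mem_cons, List.not_mem_nil, or_false] at h2
    rcases h2 with h2 | h2 | h2
    exacts [⟨0, by rw [h2, ev]; rfl⟩, ⟨1, by rw [h2, ev]; rfl⟩, ⟨2, by rw [h2, ev]; rfl⟩]
  choose π hπ using hperm
  have hπi : ∀ g, Function.Injective (π g) := fun g i j e' => hv (by
    have h2 := (hπ g i).trans ((congrArg v e').trans (hπ g j).symm)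
    exact mul_left_cancel (mul_right_cancel h2))
  have hkey : ∀ g k : ↥C, π g = π k → (g : G)⁻¹ * k ∈ S := by
    intro g k e'
    have h2 : ∀ i, Commute ((g : G)⁻¹ * k) (v i) := fun i => commute_of_conj_eq (by
      calc (g : G)⁻¹ * k * v i * ((g : G)⁻¹ * k)⁻¹
          = (g : G)⁻¹ * ((k : G) * v i * (k : G)⁻¹) * g := by group
        _ = (g : G)⁻¹ * ((g : G) * v i * (g : G)⁻¹) * g := by rw [hπ k, ← e', ← hπ g]
        _ = v i := by group)
    exact (hmemS _).2 ⟨by simpa [ev] using h2 0, by simpa [ev] using h2 1, by simpa [ev] using h2 2⟩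
  have hidx : (S.subgroupOf C).index ≤ 6 := by
    let f : ↥C ⧸ S.subgroupOf C → (Fin 3 ↪ Fin 3) := fun q => ⟨π q.out, hπi _⟩
    have hf : Function.Injective f := fun q r e' => by
      rw [← q.out_eq', ← r.out_eq']
      refine QuotientGroup.eq.2 (mem_subgroupOf.2 ?_)
      exact hkey _ _ (congrArg (fun t : Fin 3 ↪ Fin 3 => (t : Fin 3 → Fin 3)) e')
    refine (Nat.card_le_card_of_injective f hf).trans ?_
    rw [Nat.card_eq_fintype_card, Fintype.card_embedding_eq, Fintype.card_fin]
    decide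
  have hSC : S ≤ C := fun g hg => by
    obtain ⟨g1, g2, g3⟩ := (hmemS g).1 hg
    exact eC ▸ mem_centralizer_singleton_iff.2 ((g1.mul_right g2).mul_right g3).eq
  rw [← (S.subgroupOf C).card_mul_index, Nat.card_congr (subgroupOfEquivOfLe hSC).toEquiv]
  exact (Nat.mul_le_mul hSb hidx).trans (by norm_num)

variable (hD : Cfsg.IsThreeTranspositionGroup D) (hP : Cfsg.IsPrimitiveUnderConj D)
variable (h : Cfsg.IsOfTypeM24 G D)
include hD hP h

/-- The bound. -/
theorem m24_tetrad_bound {t : G} {l : List G} (hl : Fac D 4 t l) :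
    Nat.card ↥(commutator G ⊓ centralizer ({t} : Set G)) ≤ 160526499840 := by
  have hN := nice_m24 hD hP h
  have hPre := pre_of_group hD
  match l, hl.2.1 with
  | [d, b, c, e], _ =>
  obtain ⟨hn, -, hm, hco, hpr⟩ := id hl
  simp only [List.nodup_cons, List.mem_cons, List.not_mem_nil, or_false, not_or] at hn
  obtain ⟨⟨hdb, hdc, hde⟩, ⟨hbc, hbe⟩, hce, -⟩ := hn
  have hd := hm d (by simp)
  have nb : b ∈ nbrs D d := ⟨hm b (by simp), Ne.symm hdb, hco d (by simp) b (by simp)⟩
  have nc : c ∈ nbrs D d := ⟨hm c (by simp), Ne.symm hdc, hco d (by simp) c (by simp)⟩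
  have ne : e ∈ nbrs D d := ⟨hm e (by simp), Ne.symm hde, hco d (by simp) e (by simp)⟩
  have et : t = d * (b * c * e) := by rw [← hpr]; simp [mul_assoc]
  obtain ⟨H, eH⟩ : ∃ H : Subgroup G, H = centralizer ({t} : Set G) := ⟨_, rfl⟩
  have hX := hN.group_Db hd
  have h23 := m24_below hD hP h hd
  have qc : bar nc ∈ nbrs (Db D d) (bar nb) := ⟨bar_mem nc, fun e' => hbc (hN.bar_inj hd nc nb e').symm,
    (commute_bar hPre nb nc).2 (hco b (by simp) c (by simp))⟩
  have qe : bar ne ∈ nbrs (Db D d) (bar nb) := ⟨bar_mem ne, fun e' => hbe (hN.bar_inj hd ne nb e').symm,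
    (commute_bar hPre nb ne).2 (hco b (by simp) e (by simp))⟩
  have qce : bar ne ∈ nbrs (Db D d) (bar nc) := ⟨bar_mem ne, fun e' => hce (hN.bar_inj hd ne nc e').symm,
    (commute_bar hPre nc ne).2 (hco c (by simp) e (by simp))⟩
  have hHd : Nat.card ↥(H ⊓ centralizer ({d} : Set G)) ≤ 637009920 := by
    have hle : H ⊓ centralizer ({d} : Set G) ≤ Hd D d := fun g hg => by
      rw [m24_gate hD hP h hd]; exact (mem_inf.1 hg).2
    have h1 := card_le_two_image (hD.1.1 d hd)
      (fun x hx => m24_center_mem hD hP h hd hx) hle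
      (T := centralizer ({bar nb * bar nc * bar ne} : Set (Qd D d))) (fun x hx => by
        obtain ⟨g1, g2⟩ := mem_inf.1 hx
        have c1 : Commute (x : G) d := mem_centralizer_singleton_iff.1 g2
        have c2 : Commute (x : G) t := by
          rw [eH] at g1; exact mem_centralizer_singleton_iff.1 g1
        have c3 : Commute (x : G) (b * c * e) := by
          have := c1.inv_right.mul_right c2
          rwa [et, inv_mul_cancel_left] at this
        rw [mem_centralizer_singleton_iff, ← QuotientGroup.mk_mul, ← QuotientGroup.mk_mul,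
          ← QuotientGroup.mk_mul, ← QuotientGroup.mk_mul]
        refine congrArg QuotientGroup.mk (Subtype.ext ?_)
        simpa using c3.eq)
    exact h1.trans (Nat.mul_le_mul_left 2
      (m23_triple_bound hX (m24_prim_below hD hP h hd) h23 (bar_mem nb) qc qe qce))
  have hH : Nat.card ↥H ≤ 321052999680 := by
    refine (card_le_orbit_mul (x := d) (O := Fx D t) fun g hg => ⟨hD.2.1 g d hd, ?_⟩).trans ?_
    · rw [eH, mem_centralizer_singleton_iff] at hg
      have hdt : Commute d t := hpr ▸ Commute.list_prod_right _ _ fun v hv => hco d (by simp) v hv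
      have := (commute_conj_iff g d t).2 hdt
      rwa [conj_eq_of_commute (hg : Commute g t)] at this
    · rw [m24_ncard_four hD hP h hl]
      exact (Nat.mul_le_mul_left 504 hHd).trans (by norm_num)
  have hdH : d ∈ H := by
    rw [eH, mem_centralizer_singleton_iff]
    exact (hpr ▸ Commute.list_prod_right _ _ fun v hv => hco d (by simp) v hv : Commute d t).eq
  have hidx : 2 ≤ (commutator G).relIndex H := by
    have h0 : (commutator G).relIndex H ≠ 0 := index_ne_zero_of_finite
    have h1 : (commutator G).relIndex H ≠ 1 := fun e1 =>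
      m24_not_commutator hD hP h hd (relIndex_eq_one.1 e1 hdH)
    omega
  have h2 := card_mul_index ((commutator G ⊓ H).subgroupOf H)
  rw [Nat.card_congr (subgroupOfEquivOfLe (inf_le_right : commutator G ⊓ H ≤ H)).toEquiv] at h2
  rw [← eH]
  have h3 : ((commutator G ⊓ H).subgroupOf H).index = (commutator G).relIndex H :=
    inf_relIndex_right _ _
  rw [h3] at h2
  have h4 := Nat.mul_le_mul_left (Nat.card ↥(commutator G ⊓ H)) hidx
  rw [h2] at h4
  omega

end CfsgLib.Trans3.Fi
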