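import Cfsg.Agent.Lib.Trans3.Fi.TetradShape
import Cfsg.Agent.Lib.Trans3.Fi.TetradOrder

/-!
The shape of the centraliser of a product of four commuting members from a certificate: generators
with their action on 126 blocks of members.
-/

set_option autoImplicit false
set_option linter.unusedSectionVars false
set_option linter.style.haveILetI false

namespace CfsgLib.Trans3.Fi.TetradCert

open Subgroup
open scoped commutatorElement
open CfsgLib.KnownA.PermCert CfsgLib.KnownA.U4ThreeSchur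

/-- The certificate. -/
structure Cert {G : Type*} [Group G] (C : Subgroup G) (z : G) (T : Fin 126 → Set G)
    (q : Fin 12 → G) (y a b s : G) (πa πb πs : Equiv.Perm (Fin 126))
    (Gm Gi : Fin 12 → Fin 12 → ZMod 2) (S : Fin 126 → Finset (Fin 112)) : Prop where
  z_ne : z ≠ 1
  z_sq : z * z = 1
  z_comm : ∀ g ∈ C, Commute g z
  mem : ∀ g ∈ [z, y, a, b, s], g ∈ C
  q_mem : ∀ i, q i ∈ C
  T_inj : Function.Injective T
  q_act : ∀ i t, MulAut.conj (q i) '' T t = T t
  z_act : ∀ t, MulAut.conj z '' T t = T t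
  y_act : ∀ t, MulAut.conj y '' T t = T t
  a_act : ∀ t, MulAut.conj a '' T t = T (πa t)
  b_act : ∀ t, MulAut.conj b '' T t = T (πb t)
  s_act : ∀ t, MulAut.conj s '' T t = T (πs t)
  q_sq : ∀ i, q i * q i = 1 ∨ q i * q i = z
  q_comm : ∀ i j, ⁅q i, q j⁆ = z ^ (Gm i j).val
  inv : ∀ i j, ∑ k, Gi i k * Gm k j = if i = j then 1 else 0
  q_conj : ∀ g ∈ [y, a, b, s], ∀ i, g * q i * g⁻¹ ∈ closure (insert z (Set.range q))
  y_cube : y ^ 3 = 1
  y_conj : ∀ g ∈ [a, b, s], ∃ u ∈ closure (insert z (Set.range q)),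
    g * y * g⁻¹ = u * y ∨ g * y * g⁻¹ = u * y ^ 2
  range_ge : 6531840 ≤ Nat.card ↥(closure ({πa, πb, πs} : Set (Equiv.Perm (Fin 126))))
  P_ge : 3265920 ≤ Nat.card ↥(closure ({πa, πb} : Set (Equiv.Perm (Fin 126))))
  S_inj : Function.Injective S
  S_a : ∀ t, S (πa t) = (S t).image (permOf 112 codeA)
  S_b : ∀ t, S (πb t) = (S t).image (permOf 112 codeB)
  centre : ∀ σ, Commute σ πa → Commute σ πb → σ = 1
  y_move : ∃ i, ⁅y, q i⁆ ≠ 1 ∧ ⁅y, q i⁆ ≠ z
  ab_move : ∃ i, ⁅⁅a, b⁆, q i⁆ ≠ 1 ∧ ⁅⁅a, b⁆, q i⁆ ≠ z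

/-- The shape. -/
theorem Cert.shape {G : Type*} [Group G] [Finite G] {C : Subgroup G} {z : G} {T : Fin 126 → Set G}
    {q : Fin 12 → G} {y a b s : G} {πa πb πs : Equiv.Perm (Fin 126)}
    {Gm Gi : Fin 12 → Fin 12 → ZMod 2} {S : Fin 126 → Finset (Fin 112)}
    (hc : Cert C z T q y a b s πa πb πs Gm Gi S) (hC : Nat.card ↥C ≤ 160526499840) :
    ∃ (Q : Subgroup ↥C) (_ : Q.Normal), Cfsg.generalizedFittingSubgroup ↥C = Q ∧
      Cfsg.IsExtraspecial 2 ↥Q ∧ Nat.card Q = 2 ^ 13 ∧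
      ∃ (N M : Subgroup ↥C) (_ : N.Normal) (_ : M.Normal), Q ≤ N ∧ N ≤ M ∧
        Nat.card N = 3 * Nat.card Q ∧
        (∃ (K : Type) (_ : Field K) (_ : Fintype K), Fintype.card K = 9 ∧
          Nonempty (↥M ⧸ N.subgroupOf M ≃* Cfsg.PSU 4 K 3)) ∧ M.index = 2 := by
  classical
  obtain ⟨W, eW⟩ : ∃ W : Subgroup G, W = closure ({z, y, a, b, s} ∪ Set.range q) := ⟨_, rfl⟩
  have hWC : W ≤ C := by
    rw [eW, closure_le]
    rintro g (hg | ⟨i, rfl⟩)
    · exact hc.mem g (by simpa using hg)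
    · exact hc.q_mem i
  have hzW : z ∈ W := eW ▸ subset_closure (by simp)
  have hyW : y ∈ W := eW ▸ subset_closure (by simp)
  have haW : a ∈ W := eW ▸ subset_closure (by simp)
  have hbW : b ∈ W := eW ▸ subset_closure (by simp)
  have hsW : s ∈ W := eW ▸ subset_closure (by simp)
  have hqW : ∀ i, q i ∈ W := fun i => eW ▸ subset_closure (by simp)
  have hex : ∀ g ∈ W, ∃ π : Equiv.Perm (Fin 126), ∀ t, MulAut.conj g '' T t = T (π t) := by
    intro g hg
    rw [eW] at hg
    induction hg using closure_induction with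
    | mem v hv =>
      rcases hv with hv | ⟨i, rfl⟩
      · simp only [Set.mem_insert_iff, Set.mem_singleton_iff] at hv
        rcases hv with rfl | rfl | rfl | rfl | rfl
        exacts [⟨1, hc.z_act⟩, ⟨1, hc.y_act⟩, ⟨πa, hc.a_act⟩, ⟨πb, hc.b_act⟩, ⟨πs, hc.s_act⟩]
      · exact ⟨1, hc.q_act i⟩
    | one => exact ⟨1, fun t => by simp⟩
    | mul v w _ _ hv hw =>
      obtain ⟨π, hπ⟩ := hv
      obtain ⟨ρ, hρ⟩ := hw
      refine ⟨π * ρ, fun t => ?_⟩
      rw [Equiv.Perm.mul_apply, ← hπ, ← hρ, Set.image_image, map_mul]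
      rfl
    | inv v _ hv =>
      obtain ⟨π, hπ⟩ := hv
      refine ⟨π⁻¹, fun t => ?_⟩
      have h1 := hπ (π⁻¹ t)
      rw [Equiv.Perm.coe_inv, Equiv.apply_symm_apply] at h1
      rw [← h1, Set.image_image, Equiv.Perm.coe_inv]
      simp [mul_assoc]
  choose π hπ using hex
  have huniq : ∀ g (hg : g ∈ W) (ρ : Equiv.Perm (Fin 126)),
      (∀ t, MulAut.conj g '' T t = T (ρ t)) → π g hg = ρ :=
    fun g hg ρ h => Equiv.ext fun t => hc.T_inj ((hπ g hg t).symm.trans (h t))
  let φ : ↥W →* Equiv.Perm (Fin 126) := MonoidHom.mk' (fun g => π g g.2) fun g k =>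
    huniq _ _ _ fun t => by
      rw [Equiv.Perm.mul_apply, ← hπ g g.2, ← hπ k k.2, Set.image_image, Subgroup.coe_mul, map_mul]
      rfl
  let d : TetradShape.Gens ↥W :=
    { z := ⟨z, hzW⟩, q := fun i => ⟨q i, hqW i⟩, y := ⟨y, hyW⟩, a := ⟨a, haW⟩, b := ⟨b, hbW⟩,
      s := ⟨s, hsW⟩, φ := φ }
  have hQmap : d.Q.map W.subtype = closure (insert z (Set.range q)) := by
    rw [TetradShape.Gens.Q, MonoidHom.map_closure, Set.image_insert_eq, ← Set.range_comp]
    rfl
  have hQmem : ∀ u : ↥W, (u : G) ∈ closure (insert z (Set.range q)) → u ∈ d.Q := fun u hu => by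
    rw [← hQmap] at hu
    obtain ⟨v, hv, e⟩ := hu
    exact Subtype.ext (e : (v : G) = u) ▸ hv
  have hZmem : ∀ {u : ↥W}, u ∈ zpowers d.z → (u : G) = 1 ∨ (u : G) = z := by
    intro u hu
    obtain ⟨n, rfl⟩ := mem_zpowers_iff.1 hu
    have h2 : z ^ (2 : ℤ) = 1 := by rw [zpow_two, hc.z_sq]
    rw [SubgroupClass.coe_zpow]
    rcases Int.even_or_odd' n with ⟨k, rfl | rfl⟩
    · exact Or.inl (by show z ^ _ = 1; rw [zpow_mul, h2, one_zpow])
    · exact Or.inr (by show z ^ _ = z; rw [zpow_add_one, zpow_mul, h2, one_zpow, one_mul])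
  have hgen : closure ({d.z, d.y, d.a, d.b, d.s} ∪ Set.range d.q) = ⊤ := by
    refine map_injective W.subtype_injective ?_
    rw [MonoidHom.map_closure, ← MonoidHom.range_eq_map, W.range_subtype, Set.image_union,
      ← Set.range_comp]
    simp only [Set.image_insert_eq, Set.image_singleton]
    exact eW.symm
  have hW : Nat.card ↥W ≤ 160526499840 := (Nat.le_of_dvd Nat.card_pos (card_dvd_of_le hWC)).trans hC
  have φz : φ d.z = 1 := huniq _ _ _ hc.z_act
  have φy : φ d.y = 1 := huniq _ _ _ hc.y_act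
  have φa : φ d.a = πa := huniq _ _ _ hc.a_act
  have φb : φ d.b = πb := huniq _ _ _ hc.b_act
  have φs : φ d.s = πs := huniq _ _ _ hc.s_act
  have hV : TetradShape.Valid d Gm Gi S := by
    refine
      { z_ne := fun e => hc.z_ne (congrArg Subtype.val e)
        z_sq := Subtype.ext hc.z_sq
        z_central := mem_center_iff.2 fun g => Subtype.ext (hc.z_comm g (hWC g.2))
        gen := hgen
        q_sq := fun i => ?_
        q_comm := fun i j => Subtype.ext ?_
        inv := hc.inv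
        q_conj := fun g hg i => hQmem _ ?_
        y_cube := Subtype.ext hc.y_cube
        y_conj := fun g hg => ?_
        z_ker := φz
        q_ker := fun i => huniq _ _ _ (hc.q_act i)
        y_ker := φy
        card_le := hW
        range_ge := ?_
        P_ge := ?_
        S_inj := hc.S_inj
        S_a := fun t => ?_
        S_b := fun t => ?_
        centre := fun σ h1 h2 => hc.centre σ (φa ▸ h1) (φb ▸ h2)
        y_move := ?_
        ab_move := ?_ }
    · rcases hc.q_sq i with e | e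
      · rw [show d.q i * d.q i = 1 from Subtype.ext e]; exact one_mem _
      · rw [show d.q i * d.q i = d.z from Subtype.ext e]; exact mem_zpowers _
    · show ((⁅d.q i, d.q j⁆ : ↥W) : G) = ((d.z ^ (Gm i j).val : ↥W) : G)
      rw [SubgroupClass.coe_pow]
      exact hc.q_comm i j
    · simp only [List.mem_cons, List.not_mem_nil, or_false] at hg
      rcases hg with rfl | rfl | rfl | rfl <;> exact hc.q_conj _ (by simp [d]) i
    · have key : ∀ g' : ↥W, (∃ u ∈ closure (insert z (Set.range q)),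
          (g' : G) * y * (g' : G)⁻¹ = u * y ∨ (g' : G) * y * (g' : G)⁻¹ = u * y ^ 2) →
          g' * d.y * g'⁻¹ ∈ d.Q ⊔ zpowers d.y := by
        rintro g' ⟨u, hu, e⟩
        obtain ⟨v, hv, rfl⟩ := (hQmap.symm ▸ hu : u ∈ d.Q.map W.subtype)
        rcases e with e | e
        · rw [show g' * d.y * g'⁻¹ = v * d.y from Subtype.ext e]
          exact mul_mem (mem_sup_left hv) (mem_sup_right (mem_zpowers _))
        · rw [show g' * d.y * g'⁻¹ = v * d.y ^ 2 from Subtype.ext e]
          exact mul_mem (mem_sup_left hv) (mem_sup_right (pow_mem (mem_zpowers _) 2))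
      simp only [List.mem_cons, List.not_mem_nil, or_false] at hg
      rcases hg with rfl | rfl | rfl <;> exact key _ (hc.y_conj _ (by simp [d]))
    · refine hc.range_ge.trans (Nat.le_of_dvd Nat.card_pos (card_dvd_of_le ?_))
      rw [closure_le]
      rintro _ (rfl | rfl | rfl)
      exacts [⟨_, φa⟩, ⟨_, φb⟩, ⟨_, φs⟩]
    · show 3265920 ≤ Nat.card ↥(closure ({φ d.a, φ d.b} : Set (Equiv.Perm (Fin 126))))
      rw [φa, φb]; exact hc.P_ge
    · show S (φ d.a t) = _
      rw [φa]; exact hc.S_a t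
    · show S (φ d.b t) = _
      rw [φb]; exact hc.S_b t
    · obtain ⟨i, h1, h2⟩ := hc.y_move
      exact ⟨i, fun hm => (hZmem hm).elim h1 h2⟩
    · obtain ⟨i, h1, h2⟩ := hc.ab_move
      exact ⟨i, fun hm => (hZmem hm).elim h1 h2⟩
  have hcard := (TetradShape.N_facts hV).2.2.2
  have hCW : C = W := (eq_of_le_of_card_ge hWC (by omega)).symm
  subst hCW
  exact TetradShape.shape hV

end CfsgLib.Trans3.Fi.TetradCert
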