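import Cfsg.Agent.Lib.Trans3.Fi.TetradModel
import Cfsg.Agent.Lib.InvChar.SporFi24Perm

/-!
The relations of the certificate on the 306936 points of the presented `Fi₂₄`.
-/

set_option autoImplicit false
set_option maxRecDepth 100000
set_option Elab.async false

namespace CfsgLib.Trans3.Fi.TetradData

open CfsgLib.InvChar.SporFi24

theorem relsQ_ok : relsQOK img = true := by decide +kernel

theorem relsG_ok : relsGOK img = true := by decide +kernel

theorem relsC_zero : relsCOK img 0 = true := by decide +kernel

theorem relsC_one : relsCOK img 1 = true := by decide +kernel

theorem relsC_two : relsCOK img 2 = true := by decide +kernel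

theorem relsC_three : relsCOK img 3 = true := by decide +kernel

end CfsgLib.Trans3.Fi.TetradData
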