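import Cfsg.Agent.Lib.Trans3.Fi.TetradModel
import Cfsg.Agent.Lib.InvChar.SporFi24Perm

/-!
The action of the certificate on the blocks of points of the presented `Fi₂₄`.
-/

set_option autoImplicit false
set_option maxRecDepth 100000
set_option Elab.async false

namespace CfsgLib.Trans3.Fi.TetradData

open CfsgLib.InvChar.SporFi24

theorem actQ_ok : actQOK img = true := by decide +kernel

theorem actG_ok : actGOK img = true := by decide +kernel

end CfsgLib.Trans3.Fi.TetradData
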