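import Cfsg.Agent.Lib.Trans3.Fi.TetradChecksA
import Cfsg.Agent.Lib.Trans3.Fi.TetradChecksB
import Cfsg.Agent.Lib.Trans3.Fi.M24Order
import Cfsg.Agent.Lib.InvChar.SporFi24Cosets
import Cfsg.Agent.Lib.Trans3.FiConf.Hom24

/-!
A group of type M(24) carries the table of the presented `Fi₂₄` on 306936 points; the shape of the
centraliser of a product of four commuting members follows.
-/

set_option autoImplicit false
set_option maxRecDepth 100000
set_option linter.unusedSectionVars false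

namespace CfsgLib.Trans3.Fi.TetradData

open Subgroup CfsgLib.InvChar

theorem checks : Checks SporFi24.img where
  relsQ := relsQ_ok
  relsG := relsG_ok
  relsC g hg := by
    interval_cases g
    exacts [relsC_zero, relsC_one, relsC_two, relsC_three]
  actQ := actQ_ok
  actG := actG_ok

/-- The edges used to reach the point of each generator. -/
def treeEdges : List (ℕ × ℕ) :=
  [(0, 1), (1, 2), (2, 3), (3, 4), (4, 5), (5, 6), (6, 7), (7, 8), (8, 9), (5, 10), (10, 11)]

theorem bp_tree : ∀ e ∈ treeEdges, e.1 < 12 ∧ e.2 < 12 ∧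
    bp.getD e.2 0 = SporFi24.img e.1 (SporFi24.img e.2 (bp.getD e.1 0)) ∧
    [e.1, e.2, e.1, e.2, e.1, e.2] ∈ CfsgLib.InvChar.SporFi24.G172.rels := by decide +kernel

theorem exists_model {G : Type*} [Group G] [Finite G] {D : Set G}
    (hD : Cfsg.IsThreeTranspositionGroup D) (hP : Cfsg.IsPrimitiveUnderConj D)
    (h : Cfsg.IsOfTypeM24 G D) : ∃ m gen : ℕ → G, Model D SporFi24.img m gen := by
  classical
  obtain ⟨E, hE, hEof⟩ := FiConf.m24_hom_gens hD hP h
  obtain ⟨u, eu⟩ : ∃ u : ℕ → G, ∀ x, u x = E (SporFi24.gen x) := ⟨_, fun _ => rfl⟩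
  have hu : ∀ x < 12, u x ∈ D := fun x hx => by
    rw [eu]
    show E (SporFi24.pres.gen x) ∈ D
    rw [CfsgLib.InvChar.Coset.IsPres.gen, if_pos hx]
    exact hEof _
  have uinv : ∀ x, (u x)⁻¹ = u x := fun x => by rw [eu, ← map_inv, SporFi24.gen_inv]
  choose g hg using SporFi24.rep_transitive
  obtain ⟨m, em⟩ : ∃ m : ℕ → G, ∀ p (hp : p < 306936),
      m p = E (g ⟨p, hp⟩) * u 0 * (E (g ⟨p, hp⟩))⁻¹ :=
    ⟨fun p => if hp : p < 306936 then E (g ⟨p, hp⟩) * u 0 * (E (g ⟨p, hp⟩))⁻¹ else 1,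
      fun p hp => dif_pos hp⟩
  have well : ∀ (v : Cfsg.Spor.Fi24) (p : Fin 306936), SporFi24.rep v (SporFi24.pt 0) = p →
      m (p : ℕ) = E v * u 0 * (E v)⁻¹ := by
    intro v p hv
    have h1 : (g p)⁻¹ * v ∈ SporFi24.H := SporFi24.mem_H_of_fix (by
      rw [map_mul, Equiv.Perm.mul_apply, hv, map_inv, Equiv.Perm.inv_eq_iff_eq, hg])
    have hc : Commute (u 0) (E ((g p)⁻¹ * v)) := by
      rw [eu]; exact (show Commute _ _ from SporFi24.comm_gen_zero h1).map E
    rw [em p p.2, show (⟨(p : ℕ), p.2⟩ : Fin 306936) = p from Fin.ext rfl]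
    calc E (g p) * u 0 * (E (g p))⁻¹
        = E (g p) * (E ((g p)⁻¹ * v) * u 0 * (E ((g p)⁻¹ * v))⁻¹) * (E (g p))⁻¹ := by
          rw [hc.symm.eq, mul_inv_cancel_right]
      _ = E v * u 0 * (E v)⁻¹ := by rw [map_mul, map_inv]; group
  have step : ∀ x < 12, ∀ p < 306936, SporFi24.img x p < 306936 ∧
      m (SporFi24.img x p) = u x * m p * (u x)⁻¹ := fun x hx p hp => by
    refine ⟨SporFi24.img_lt hp hx, ?_⟩
    have h1 := well (SporFi24.gen x * g ⟨p, hp⟩) ⟨_, SporFi24.img_lt hp hx⟩ (by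
      rw [map_mul, Equiv.Perm.mul_apply, hg]
      exact Fin.ext (SporFi24.rep_gen_apply hx _))
    rw [h1, em p hp, map_mul, ← eu]
    group
  have hu0 : u 0 ∈ D := hu 0 (by norm_num)
  have surj : ∀ d ∈ D, ∃ p : Fin 306936, m (p : ℕ) = d := fun d hd => by
    obtain ⟨c, hc⟩ := hP.1 _ hu0 _ hd
    obtain ⟨v, rfl⟩ := hE c
    exact ⟨SporFi24.rep v (SporFi24.pt 0), (well v _ rfl).trans hc⟩
  have inj : ∀ p < 306936, ∀ q < 306936, m p = m q → p = q := by
    have hsub : D ⊆ m '' Set.Iio 306936 := fun d hd => by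
      obtain ⟨p, hp⟩ := surj d hd
      exact ⟨p, p.2, hp⟩
    have hcard : (m '' Set.Iio 306936).ncard = (Set.Iio 306936).ncard := by
      refine le_antisymm (Set.ncard_image_le (Set.finite_Iio _)) ?_
      rw [show (Set.Iio 306936).ncard = 306936 by rw [← Finset.coe_Iio, Set.ncard_coe_finset, Nat.card_Iio]]
      exact (m24_card_D hD hP h).ge.trans (Set.ncard_le_ncard hsub)
    intro p hp q hq e
    exact (Set.ncard_image_iff (Set.finite_Iio _)).1 hcard hp hq e
  have base : ∀ e ∈ treeEdges, m (bp.getD e.1 0) = u e.1 → bp.getD e.1 0 < 306936 →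
      m (bp.getD e.2 0) = u e.2 ∧ bp.getD e.2 0 < 306936 := by
    intro e he hm hlt
    obtain ⟨hx, hy, hb, hr⟩ := bp_tree e he
    have hb' := SporFi24.gen_braid (Or.inl hr)
    obtain ⟨l1, m1⟩ := step _ hy _ hlt
    obtain ⟨l2, m2⟩ := step _ hx _ l1
    refine ⟨?_, hb ▸ l2⟩
    rw [hb, m2, m1, hm, uinv, uinv]
    have hb2 : u e.1 * u e.2 * u e.1 = u e.2 * u e.1 * u e.2 := by
      simp only [eu, ← map_mul, hb']
    calc u e.1 * (u e.2 * u e.1 * u e.2) * u e.1
        = u e.1 * (u e.1 * u e.2 * u e.1) * u e.1 := by rw [hb2]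
      _ = (u e.1 * u e.1) * u e.2 * (u e.1 * u e.1) := by group
      _ = u e.2 := by
        rw [show u e.1 * u e.1 = 1 by simp only [eu, ← map_mul, SporFi24.gen_mul_self, map_one],
          one_mul, mul_one]
  have b0 : m (bp.getD 0 0) = u 0 ∧ bp.getD 0 0 < 306936 := by
    rw [show bp.getD 0 0 = 0 from rfl]
    refine ⟨?_, by norm_num⟩
    have h1 := well 1 (SporFi24.pt 0) (by rw [map_one]; rfl)
    rw [map_one, one_mul, inv_one, mul_one] at h1
    exact h1
  have b1 := base (0, 1) (by decide) b0.1 b0.2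
  have b2 := base (1, 2) (by decide) b1.1 b1.2
  have b3 := base (2, 3) (by decide) b2.1 b2.2
  have b4 := base (3, 4) (by decide) b3.1 b3.2
  have b5 := base (4, 5) (by decide) b4.1 b4.2
  have b6 := base (5, 6) (by decide) b5.1 b5.2
  have b7 := base (6, 7) (by decide) b6.1 b6.2
  have b8 := base (7, 8) (by decide) b7.1 b7.2
  have b9 := base (8, 9) (by decide) b8.1 b8.2
  have b10 := base (5, 10) (by decide) b5.1 b5.2
  have b11 := base (10, 11) (by decide) b10.1 b10.2
  refine ⟨m, u, step, inj, hu, ?_, fun x hx => ?_⟩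
  · have h1 : u '' Set.Iio 12 = E '' (SporFi24.gen '' Set.Iio 12) := by
      rw [Set.image_image]; simp only [eu]
    rw [h1, ← MonoidHom.map_closure, SporFi24.closure_gen]
    exact map_top_of_surjective E hE
  · interval_cases x
    exacts [b0.1, b1.1, b2.1, b3.1, b4.1, b5.1, b6.1, b7.1, b8.1, b9.1, b10.1, b11.1]

end CfsgLib.Trans3.Fi.TetradData
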