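import Cfsg.Agent.Lib.Trans3.Fi.TetradPerms
import Cfsg.Agent.Lib.Trans3.Fi.TetradCert
import Cfsg.Agent.Lib.Trans3.Fi.M24Tetrad

/-!
A group of type M(24) with a table for the action on its members: the checks on the table that give
the shape of the centraliser of a product of four commuting members.
-/

set_option autoImplicit false
set_option maxRecDepth 100000
set_option linter.unusedSectionVars false

namespace CfsgLib.Trans3.Fi.TetradData

open Subgroup
open scoped commutatorElement
open CfsgLib.KnownA.PermCert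

/-- A word followed from a point. -/
def fol (img : ℕ → ℕ → ℕ) (w : List ℕ) (p : ℕ) : ℕ := w.foldl (fun p x => img x p) p

/-- The letters of a code. -/
def dec : ℕ → ℕ → List ℕ
  | 0, _ => []
  | k + 1, n => bif Nat.beq n 0 then [] else (n % 13 - 1) :: dec k (n / 13)

/-- The word of the involution. -/
def wz : List ℕ := dec 4000 zCode

/-- The words of the generators of the extraspecial group. -/
def wq (i : ℕ) : List ℕ := dec 4000 (qCode.getD i 0)

/-- The words of the other generators. -/
def wg : ℕ → List ℕ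
  | 0 => dec 4000 yCode
  | 1 => dec 4000 aCode
  | 2 => dec 4000 bCode
  | _ => dec 4000 sCode

/-- The word of a commutator. -/
def wc (u v : List ℕ) : List ℕ := v.reverse ++ u.reverse ++ v ++ u

/-- The word of a conjugate. -/
def wconj (g u : List ℕ) : List ℕ := g.reverse ++ u ++ g

/-- The word with given coordinates. -/
def wsel (sel : List ℕ) : List ℕ := sel.flatMap fun k => bif Nat.blt k 12 then wq k else wz

/-- The word for a conjugate of the element of order three. -/
def wy (e : ℕ) (g : List ℕ) : List ℕ :=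
  (bif Nat.beq e 1 then wg 0 else wg 0 ++ wg 0).reverse ++ wconj g (wg 0)

/-- Two words act alike on the twelve base points. -/
def eqB (img : ℕ → ℕ → ℕ) (u v : List ℕ) : Bool :=
  bp.all fun p => Nat.beq (fol img u p) (fol img v p)

/-- All words use the twelve letters and have even length. -/
def wordsOK : Bool :=
  (wz :: (List.range 4).map wg ++ (List.range 12).map wq).all fun w =>
    w.all (fun x => Nat.blt x 12) && Nat.beq (w.length % 2) 0

theorem words_ok : wordsOK = true := by decide +kernel

/-- The relations of the extraspecial group. -/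
def relsQOK (img : ℕ → ℕ → ℕ) : Bool :=
  (!eqB img wz [] && eqB img (wz ++ wz) [] &&
    [0, 2, 4, 7].all fun a => [0, 2, 4, 7].all fun b => eqB img [a, b] [b, a]) &&
  (List.range 12).all fun i =>
    eqB img (wz ++ wq i) (wq i ++ wz) &&
    eqB img (wq i ++ wq i) (bif sqZ.getD i false then wz else []) &&
    (List.range 12).all fun j =>
      eqB img (wc (wq i) (wq j)) (bif (gmRows.getD i 0).testBit j then wz else [])

/-- The relations of the generators outside. -/
def relsGOK (img : ℕ → ℕ → ℕ) : Bool :=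
  eqB img (wg 0 ++ wg 0 ++ wg 0) [] &&
  ((List.range 4).all fun g => eqB img (wz ++ wg g) (wg g ++ wz)) &&
  ((List.range 3).all fun g =>
    eqB img (wy (yCoords.getD g (0, [])).1 (wg (g + 1))) (wsel (yCoords.getD g (0, [])).2)) &&
  !eqB img (wc (wg 0) (wq yIdx)) [] && !eqB img (wc (wg 0) (wq yIdx)) wz &&
  !eqB img (wc (wc (wg 1) (wg 2)) (wq abIdx)) [] &&
  !eqB img (wc (wc (wg 1) (wg 2)) (wq abIdx)) wz

/-- The conjugates of the extraspecial generators under one generator. -/
def relsCOK (img : ℕ → ℕ → ℕ) (g : ℕ) : Bool :=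
  (List.range 12).all fun i =>
    eqB img (wconj (wg g) (wq i)) (wsel ((conjCoords.getD g []).getD i []))

/-- A block. -/
def tet (t : ℕ) : List ℕ := tets.getD t []

/-- A word moves the blocks as a permutation. -/
def actOK (img : ℕ → ℕ → ℕ) (w : List ℕ) (π : ℕ → ℕ) : Bool :=
  (List.range 126).all fun t =>
    ((tet t).all fun p => (tet (π t)).any (Nat.beq (fol img w p))) &&
    ((tet (π t)).all fun q => ((tet t).map (fol img w)).any (Nat.beq q))

/-- The action of the extraspecial generators and the involution. -/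
def actQOK (img : ℕ → ℕ → ℕ) : Bool :=
  actOK img wz (fun t => t) && (List.range 12).all fun i => actOK img (wq i) (fun t => t)

/-- The action of the other generators. -/
def actGOK (img : ℕ → ℕ → ℕ) : Bool :=
  actOK img (wg 0) (fun t => t) && actOK img (wg 1) (pimg cA) && actOK img (wg 2) (pimg cB) &&
    actOK img (wg 3) (pimg cS)

/-- The blocks are made of points and no block starts inside another. -/
def tetsOK : Bool :=
  (List.range 126).all fun t =>
    ((tet t).all fun p => Nat.blt p 306936) && !(tet t).isEmpty &&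
    (List.range 126).all fun u => Nat.beq t u || !((tet u).any (Nat.beq ((tet t).getD 0 0)))

theorem tets_ok : tetsOK = true := by decide +kernel

theorem bp_lt : (bp.all fun p => Nat.blt p 306936) = true := by decide +kernel

/-- A table for the action on the members. -/
structure Model {G : Type*} [Group G] (D : Set G) (img : ℕ → ℕ → ℕ) (m : ℕ → G) (gen : ℕ → G) :
    Prop where
  step : ∀ x < 12, ∀ p < 306936, img x p < 306936 ∧ m (img x p) = gen x * m p * (gen x)⁻¹
  inj : ∀ p < 306936, ∀ q < 306936, m p = m q → p = q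
  genD : ∀ x < 12, gen x ∈ D
  gen_top : closure (gen '' Set.Iio 12) = ⊤
  base : ∀ x < 12, m (bp.getD x 0) = gen x

/-- The checks on a table. -/
structure Checks (img : ℕ → ℕ → ℕ) : Prop where
  relsQ : relsQOK img = true
  relsG : relsGOK img = true
  relsC : ∀ g < 4, relsCOK img g = true
  actQ : actQOK img = true
  actG : actGOK img = true

section

variable {G : Type*} [Group G] [Finite G] {D : Set G} {img : ℕ → ℕ → ℕ} {m gen : ℕ → G}

/-- The element of a word. -/
def el (gen : ℕ → G) (w : List ℕ) : G := (w.reverse.map gen).prod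

/-- Conjugating a table. -/
theorem Model.conj (M : Model D img m gen) (hD : Cfsg.IsThreeTranspositionGroup D) (g : G) :
    Model D img (fun p => g * m p * g⁻¹) (fun x => g * gen x * g⁻¹) where
  step x hx p hp := ⟨(M.step x hx p hp).1, by rw [(M.step x hx p hp).2]; group⟩
  inj p hp q hq e := M.inj p hp q hq (mul_left_cancel (mul_right_cancel e))
  genD x hx := hD.2.1 g _ (M.genD x hx)
  gen_top := by
    have h : (MulAut.conj g).toMonoidHom '' (gen '' Set.Iio 12) =
        (fun x => g * gen x * g⁻¹) '' Set.Iio 12 := by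
      rw [Set.image_image]; rfl
    rw [← h, ← MonoidHom.map_closure, M.gen_top]
    exact map_top_of_surjective _ (MulAut.conj g).surjective
  base x hx := by rw [M.base x hx]

theorem el_nil : el gen [] = 1 := rfl

theorem el_append (u v : List ℕ) : el gen (u ++ v) = el gen v * el gen u := by simp [el]

theorem el_cons (x : ℕ) (v : List ℕ) : el gen (x :: v) = el gen v * gen x := by simp [el]

variable (hD : Cfsg.IsThreeTranspositionGroup D) (M : Model D img m gen)
include hD M

theorem el_reverse : ∀ {w : List ℕ}, (∀ x ∈ w, x < 12) → el gen w.reverse = (el gen w)⁻¹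
  | [], _ => by simp [el]
  | x :: w, hw => by
    have hx : (gen x)⁻¹ = gen x :=
      inv_eq_of_mul_eq_one_right (Trans3.sq_one hD.1 (M.genD x (hw x (by simp))))
    rw [List.reverse_cons, el_append, el_reverse fun y hy => hw y (by simp [hy]), el_cons x w,
      mul_inv_rev, hx, el_cons, el_nil, one_mul]

theorem fol_spec : ∀ {w : List ℕ}, (∀ x ∈ w, x < 12) → ∀ {p : ℕ}, p < 306936 →
    fol img w p < 306936 ∧ m (fol img w p) = el gen w * m p * (el gen w)⁻¹
  | [], _, p, hp => ⟨hp, by simp [el, fol]⟩
  | x :: w, hw, p, hp => by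
    obtain ⟨h1, h2⟩ := M.step x (hw x (by simp)) p hp
    obtain ⟨h3, h4⟩ := fol_spec (w := w) (fun y hy => hw y (by simp [hy])) h1
    refine ⟨h3, ?_⟩
    show m (fol img w (img x p)) = _
    rw [h4, h2, el_cons]
    group

theorem bp_mem {x : ℕ} (hx : x < 12) : bp.getD x 0 < 306936 := by
  have h := bp_lt
  simp only [List.all_eq_true, Nat.blt_eq] at h
  refine h _ ?_
  rw [List.getD_eq_getElem _ _ (show x < bp.length from hx)]
  exact List.getElem_mem _

variable (hc : center G = ⊥)
include hc

theorem eq_of_eqB {u v : List ℕ} (hu : ∀ x ∈ u, x < 12) (hv : ∀ x ∈ v, x < 12)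
    (h : eqB img u v = true) : el gen u = el gen v := by
  simp only [eqB, List.all_eq_true, Nat.beq_eq] at h
  have key : (el gen v)⁻¹ * el gen u ∈ center G := by
    rw [← centralizer_univ, ← coe_top, ← M.gen_top, centralizer_closure, mem_centralizer_iff]
    rintro _ ⟨x, hx, rfl⟩
    have hx' : x < 12 := hx
    have hb := bp_mem hD M hx'
    have e : fol img u (bp.getD x 0) = fol img v (bp.getD x 0) := h _ (by
      rw [List.getD_eq_getElem _ _ (show x < bp.length from hx')]; exact List.getElem_mem _)
    have e1 := (fol_spec hD M hu hb).2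
    rw [e, (fol_spec hD M hv hb).2, M.base x hx'] at e1
    calc gen x * ((el gen v)⁻¹ * el gen u)
        = (el gen v)⁻¹ * (el gen v * gen x * (el gen v)⁻¹) * el gen u := by group
      _ = (el gen v)⁻¹ * (el gen u * gen x * (el gen u)⁻¹) * el gen u := by rw [e1]
      _ = (el gen v)⁻¹ * el gen u * gen x := by group
  rw [hc, mem_bot] at key
  exact (inv_mul_eq_one.1 key).symm

theorem ne_of_eqB {u v : List ℕ} (hu : ∀ x ∈ u, x < 12) (hv : ∀ x ∈ v, x < 12)
    (h : eqB img u v = false) : el gen u ≠ el gen v := by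
  intro e
  simp only [eqB, List.all_eq_false] at h
  obtain ⟨p, hp, hne⟩ := h
  have hp' : p < 306936 := by
    have := bp_lt
    simp only [List.all_eq_true, Nat.blt_eq] at this
    exact this p hp
  obtain ⟨h1, h2⟩ := fol_spec hD M hu hp'
  obtain ⟨h3, h4⟩ := fol_spec hD M hv hp'
  have := M.inj _ h1 _ h3 (by rw [h2, h4, e])
  exact hne (by rw [this]; exact Nat.beq_refl _)

omit hD M hc

theorem wz_lt : ∀ x ∈ wz, x < 12 := by
  have h := words_ok
  simp only [wordsOK, List.all_eq_true, Bool.and_eq_true, Nat.blt_eq] at h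
  exact (h wz (by simp)).1

theorem wg_ok (g : ℕ) : (∀ x ∈ wg g, x < 12) ∧ (wg g).length % 2 = 0 := by
  have h := words_ok
  simp only [wordsOK, List.all_eq_true, Bool.and_eq_true, Nat.blt_eq, Nat.beq_eq] at h
  have e : ∃ k < 4, wg g = wg k := by
    match g with
    | 0 => exact ⟨0, by omega, rfl⟩
    | 1 => exact ⟨1, by omega, rfl⟩
    | 2 => exact ⟨2, by omega, rfl⟩
    | k + 3 => exact ⟨3, by omega, rfl⟩
  obtain ⟨k, hk, e⟩ := e
  rw [e]
  exact h (wg k) (List.mem_append_left _ (List.mem_cons_of_mem _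
    (List.mem_map.2 ⟨k, List.mem_range.2 hk, rfl⟩)))

theorem wq_ok {i : ℕ} (hi : i < 12) : (∀ x ∈ wq i, x < 12) ∧ (wq i).length % 2 = 0 := by
  have h := words_ok
  simp only [wordsOK, List.all_eq_true, Bool.and_eq_true, Nat.blt_eq, Nat.beq_eq] at h
  exact h (wq i) (List.mem_append_right _ (List.mem_map.2 ⟨i, List.mem_range.2 hi, rfl⟩))

theorem wc_lt {u v : List ℕ} (hu : ∀ x ∈ u, x < 12) (hv : ∀ x ∈ v, x < 12) :
    ∀ x ∈ wc u v, x < 12 := by
  intro x hx
  simp only [wc, List.mem_append, List.mem_reverse] at hx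
  rcases hx with ((h | h) | h) | h
  exacts [hv x h, hu x h, hv x h, hu x h]

theorem wsel_lt (sel : List ℕ) : ∀ x ∈ wsel sel, x < 12 := by
  intro x hx
  simp only [wsel, List.mem_flatMap] at hx
  obtain ⟨k, -, hk⟩ := hx
  cases hb : Nat.blt k 12
  · rw [hb] at hk; exact wz_lt x hk
  · rw [hb] at hk; exact (wq_ok (by simpa using hb)).1 x hk

theorem wsel_mem (sel : List ℕ) :
    el gen (wsel sel) ∈ closure (insert (el gen wz) (Set.range fun i : Fin 12 => el gen (wq i))) := by
  induction sel with
  | nil => exact one_mem _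
  | cons k sel ih =>
    rw [wsel, List.flatMap_cons, el_append]
    refine mul_mem ih ?_
    cases hb : Nat.blt k 12
    · exact subset_closure (Set.mem_insert _ _)
    · exact subset_closure (Set.mem_insert_of_mem _ ⟨⟨k, by simpa using hb⟩, rfl⟩)

theorem bz_lt (b : Bool) : ∀ x ∈ (bif b then wz else []), x < 12 := by
  cases b
  · exact fun x hx => absurd hx List.not_mem_nil
  · exact wz_lt

theorem wz_eq : wz = [0, 2, 4, 7] := by decide +kernel

theorem bp_nodup : bp.getD 0 0 ≠ bp.getD 2 0 ∧ bp.getD 0 0 ≠ bp.getD 4 0 ∧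
    bp.getD 0 0 ≠ bp.getD 7 0 ∧ bp.getD 2 0 ≠ bp.getD 4 0 ∧ bp.getD 2 0 ≠ bp.getD 7 0 ∧
    bp.getD 4 0 ≠ bp.getD 7 0 := by decide +kernel

include hD M hc

attribute [local irreducible] wz wq wg dec

theorem wc_el {u v : List ℕ} (hu : ∀ x ∈ u, x < 12) (hv : ∀ x ∈ v, x < 12) :
    el gen (wc u v) = ⁅el gen u, el gen v⁆ := by
  simp only [wc, el_append, el_reverse hD M hu, el_reverse hD M hv, commutatorElement_def]
  group

theorem wconj_el {u g : List ℕ} (hg : ∀ x ∈ g, x < 12) :
    el gen (wconj g u) = el gen g * el gen u * (el gen g)⁻¹ := by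
  simp only [wconj, el_append, el_reverse hD M hg, mul_assoc]

/-- Four of the generators commute pairwise. -/
theorem fac_model (hck : Checks img) :
    Fac D 4 (el gen wz) [gen 7, gen 4, gen 2, gen 0] := by
  have hcom : ∀ a ∈ [0, 2, 4, 7], ∀ b ∈ [0, 2, 4, 7], Commute (gen a) (gen b) := by
    intro a ha b hb
    have h := hck.relsQ
    simp only [relsQOK, Bool.and_eq_true, List.all_eq_true] at h
    have hlt : ∀ c ∈ [0, 2, 4, 7], c < 12 := fun c hc => by
      simp only [List.mem_cons, List.not_mem_nil, or_false] at hc; omega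
    have e := eq_of_eqB hD M hc (u := [a, b]) (v := [b, a]) (by simpa using ⟨hlt a ha, hlt b hb⟩)
      (by simpa using ⟨hlt b hb, hlt a ha⟩) (h.1.2 a ha b hb)
    simp only [el_cons, el_nil, one_mul] at e
    exact e.symm
  have hne : ∀ a < 12, ∀ b < 12, bp.getD a 0 ≠ bp.getD b 0 → gen a ≠ gen b := fun a ha b hb h e =>
    h (M.inj _ (bp_mem hD M ha) _ (bp_mem hD M hb) (by rw [M.base a ha, M.base b hb, e]))
  obtain ⟨h1, h2, h3, h4, h5, h6⟩ := bp_nodup
  refine ⟨?_, rfl, ?_, ?_, by rw [wz_eq]; rfl⟩
  · simp only [List.nodup_cons, List.mem_cons, List.not_mem_nil, or_false, not_or, List.nodup_nil,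
      and_true, not_false_eq_true]
    exact ⟨⟨hne 7 (by omega) 4 (by omega) h6.symm, hne 7 (by omega) 2 (by omega) h5.symm,
      hne 7 (by omega) 0 (by omega) h3.symm⟩, ⟨hne 4 (by omega) 2 (by omega) h4.symm,
      hne 4 (by omega) 0 (by omega) h2.symm⟩, hne 2 (by omega) 0 (by omega) h1.symm⟩
  · intro u hu
    simp only [List.mem_cons, List.not_mem_nil, or_false] at hu
    rcases hu with rfl | rfl | rfl | rfl <;> exact M.genD _ (by omega)
  · intro u hu v hv
    simp only [List.mem_cons, List.not_mem_nil, or_false] at hu hv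
    rcases hu with rfl | rfl | rfl | rfl <;> rcases hv with rfl | rfl | rfl | rfl <;>
      exact hcom _ (by simp) _ (by simp)

/-- The action on the blocks. -/
theorem act_of_check {w : List ℕ} {f : ℕ → ℕ} (π : Equiv.Perm (Fin 126))
    (hπ : ∀ t : Fin 126, ((π t : Fin 126) : ℕ) = f t) (hw : ∀ x ∈ w, x < 12)
    (h : actOK img w f = true) (t : Fin 126) :
    MulAut.conj (el gen w) '' (m '' {p | p ∈ tet t}) = m '' {p | p ∈ tet (π t)} := by
  simp only [actOK, List.all_eq_true, List.mem_range, Bool.and_eq_true, List.any_eq_true,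
    List.mem_map, Nat.beq_eq] at h
  obtain ⟨ha, hb⟩ := h t t.2
  rw [← hπ] at ha hb
  have htl : ∀ p ∈ tet t, p < 306936 := by
    have h' := tets_ok
    simp only [tetsOK, List.all_eq_true, List.mem_range, Bool.and_eq_true, Nat.blt_eq] at h'
    exact (h' t t.2).1.1
  have hconj : ∀ p ∈ tet t, MulAut.conj (el gen w) (m p) = m (fol img w p) := fun p hp => by
    rw [(fol_spec hD M hw (htl p hp)).2]; rfl
  apply Set.Subset.antisymm
  · rintro _ ⟨_, ⟨p, hp, rfl⟩, rfl⟩
    obtain ⟨q, hq, e⟩ := ha p hp
    exact ⟨q, hq, by rw [← e, hconj p hp]⟩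
  · rintro _ ⟨q, hq, rfl⟩
    obtain ⟨_, ⟨p, hp, rfl⟩, e⟩ := hb q hq
    exact ⟨m p, ⟨p, hp, rfl⟩, by rw [hconj p hp, e]⟩

end

section

variable {G : Type*} [Group G] [Finite G] {D : Set G} {img : ℕ → ℕ → ℕ} {m gen : ℕ → G}
variable (hD : Cfsg.IsThreeTranspositionGroup D) (hP : Cfsg.IsPrimitiveUnderConj D)
variable (h24 : Cfsg.IsOfTypeM24 G D) (M : Model D img m gen) (hck : Checks img)
include hD hP h24 M hck

omit hck in
theorem el_mem_commutator : ∀ {w : List ℕ}, (∀ x ∈ w, x < 12) →
    (el gen w ∈ commutator G ↔ w.length % 2 = 0)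
  | [], _ => by simp [el]
  | x :: w, hw => by
    rw [el_cons, mul_mem_iff_of_index_two (m24_commutator_index hD hP h24),
      el_mem_commutator fun y hy => hw y (by simp [hy])]
    have hx := m24_not_commutator hD hP h24 (M.genD x (hw x (by simp)))
    simp only [hx, iff_false, List.length_cons]
    omega

/-- The certificate holds in the group. -/
theorem cert_model : TetradCert.Cert (commutator G ⊓ centralizer ({el gen wz} : Set G)) (el gen wz)
    (fun t : Fin 126 => m '' {p | p ∈ tet t}) (fun i : Fin 12 => el gen (wq i))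
    (el gen (wg 0)) (el gen (wg 1)) (el gen (wg 2)) (el gen (wg 3)) πa πb πs Gm Gi S := by
  have hc : center G = ⊥ := h24.1
  obtain ⟨hQ, hG, hC, hAQ, hAG⟩ := hck
  simp only [relsQOK, Bool.and_eq_true, Bool.not_eq_true', List.all_eq_true, List.mem_range] at hQ
  obtain ⟨hz1, hQ⟩ := hQ
  simp only [relsGOK, Bool.and_eq_true, Bool.not_eq_true', List.all_eq_true, List.mem_range] at hG
  obtain ⟨⟨⟨⟨⟨⟨hy3, hgz⟩, hyc⟩, hy1⟩, hy2⟩, hab1⟩, hab2⟩ := hG
  simp only [relsCOK, List.all_eq_true, List.mem_range] at hC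
  simp only [actQOK, Bool.and_eq_true, List.all_eq_true, List.mem_range] at hAQ
  simp only [actGOK, Bool.and_eq_true] at hAG
  obtain ⟨⟨⟨hAy, hAa⟩, hAb⟩, hAs⟩ := hAG
  have app : ∀ {u v : List ℕ}, (∀ x ∈ u, x < 12) → (∀ x ∈ v, x < 12) → ∀ x ∈ u ++ v, x < 12 :=
    fun hu hv x hx => (List.mem_append.1 hx).elim (hu x) (hv x)
  have rev : ∀ {u : List ℕ}, (∀ x ∈ u, x < 12) → ∀ x ∈ u.reverse, x < 12 :=
    fun hu x hx => hu x (List.mem_reverse.1 hx)
  have nil : ∀ x ∈ ([] : List ℕ), x < 12 := fun x hx => absurd hx (List.not_mem_nil)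
  have eq' := fun {u v} => eq_of_eqB (img := img) hD M hc (u := u) (v := v)
  have ne' := fun {u v} => ne_of_eqB (img := img) hD M hc (u := u) (v := v)
  have hzlt := wz_lt
  have hzlen : wz.length % 2 = 0 := by rw [wz_eq]; rfl
  have memC : ∀ w, (∀ x ∈ w, x < 12) → w.length % 2 = 0 → eqB img (wz ++ w) (w ++ wz) = true →
      el gen w ∈ commutator G ⊓ centralizer ({el gen wz} : Set G) := fun w hw hl he => by
    refine mem_inf.2 ⟨(el_mem_commutator hD hP h24 M hw).2 hl, mem_centralizer_singleton_iff.2 ?_⟩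
    have := eq' (app hzlt hw) (app hw hzlt) he
    rw [el_append, el_append] at this
    exact this
  obtain ⟨⟨hz1, hz2⟩, -⟩ := hz1
  have hzsq : el gen wz * el gen wz = 1 := by
    rw [← el_append, ← el_nil (gen := gen)]
    exact eq' (app hzlt hzlt) nil hz2
  have hq := fun i : Fin 12 => (wq_ok i.2)
  have hg := fun g : ℕ => wg_ok g
  have hperm : ∀ c, valid 126 c = true → ∀ t : Fin 126,
      ((permOf 126 c t : Fin 126) : ℕ) = pimg c t := fun c hc t => permOf_val hc t
  have act : ∀ {w : List ℕ} {f : ℕ → ℕ} (π : Equiv.Perm (Fin 126)),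
      (∀ t : Fin 126, ((π t : Fin 126) : ℕ) = f t) → (∀ x ∈ w, x < 12) → actOK img w f = true →
      ∀ t : Fin 126, MulAut.conj (el gen w) '' (m '' {p | p ∈ tet t}) = m '' {p | p ∈ tet (π t)} :=
    fun π h1 h2 h3 t => act_of_check hD M hc π h1 h2 h3 t
  have conjQ : ∀ g < 4, ∀ i : Fin 12, el gen (wg g) * el gen (wq i) * (el gen (wg g))⁻¹ ∈
      closure (insert (el gen wz) (Set.range fun i : Fin 12 => el gen (wq i))) := fun g hg' i => by
    rw [← wconj_el hD M hc (hg g).1, eq' (u := wconj (wg g) (wq i))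
      (app (app (rev (hg g).1) (hq i).1) (hg g).1) (wsel_lt _) (hC g hg' i i.2)]
    exact wsel_mem _
  exact
    { z_ne := fun e => ne' hzlt nil hz1 (e.trans el_nil.symm)
      z_sq := hzsq
      z_comm := fun g hg => mem_centralizer_singleton_iff.1 (mem_inf.1 hg).2
      mem := fun g hg' => by
        simp only [List.mem_cons, List.not_mem_nil, or_false] at hg'
        rcases hg' with rfl | rfl | rfl | rfl | rfl
        · exact mem_inf.2 ⟨(el_mem_commutator hD hP h24 M hzlt).2 hzlen,
            mem_centralizer_singleton_iff.2 rfl⟩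
        all_goals exact memC _ (hg _).1 (hg _).2 (hgz _ (by omega))
      q_mem := fun i => memC _ (hq i).1 (hq i).2 (hQ i i.2).1.1
      T_inj := fun t u e => by
        have h := tets_ok
        simp only [tetsOK, List.all_eq_true, List.mem_range, Bool.and_eq_true, Bool.or_eq_true,
          Bool.not_eq_true', Nat.blt_eq, Nat.beq_eq] at h
        obtain ⟨⟨hlt, hne⟩, hd⟩ := h t t.2
        obtain ⟨⟨hlu, -⟩, -⟩ := h u u.2
        obtain ⟨p, hp, hp0⟩ : ∃ p ∈ tet t, (tet t).getD 0 0 = p := by
          cases hl : tet t with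
          | nil => rw [hl] at hne; simp at hne
          | cons p l => exact ⟨p, by simp, rfl⟩
        rcases hd u u.2 with e' | e'
        · exact Fin.ext e'
        · exfalso
          have e2 : m '' {p | p ∈ tet t} = m '' {p | p ∈ tet u} := e
          obtain ⟨q, hq', eq2⟩ := (Set.ext_iff.1 e2 (m p)).1 ⟨p, hp, rfl⟩
          have := M.inj _ (hlu q hq') _ (hlt p hp) eq2
          rw [hp0, List.any_eq_false] at e'
          exact e' q hq' (by rw [this]; exact Nat.beq_refl _)
      q_act := fun i t => act 1 (fun _ => rfl) (hq i).1 (hAQ.2 i i.2) t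
      z_act := fun t => act 1 (fun _ => rfl) hzlt hAQ.1 t
      y_act := fun t => act 1 (fun _ => rfl) (hg 0).1 hAy t
      a_act := fun t => act πa (hperm cA valid_ok.1) (hg 1).1 hAa t
      b_act := fun t => act πb (hperm cB valid_ok.2.1) (hg 2).1 hAb t
      s_act := fun t => act πs (hperm cS valid_ok.2.2.1) (hg 3).1 hAs t
      q_sq := fun i => by
        have h := eq' (app (hq i).1 (hq i).1) (bz_lt _)
          (hQ i i.2).1.2
        rw [el_append] at h
        cases hb : sqZ.getD i false <;> rw [hb] at h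
        · exact Or.inl h
        · exact Or.inr h
      q_comm := fun i j => by
        have h := eq' (wc_lt (hq i).1 (hq j).1) (bz_lt _)
          ((hQ i i.2).2 j j.2)
        rw [wc_el hD M hc (hq i).1 (hq j).1] at h
        rw [h, Gm]
        cases (gmRows.getD i 0).testBit j
        · exact (pow_zero _).symm
        · exact (pow_one _).symm
      inv := inv_form
      q_conj := fun g hg' i => by
        simp only [List.mem_cons, List.not_mem_nil, or_false] at hg'
        rcases hg' with rfl | rfl | rfl | rfl <;> exact conjQ _ (by omega) i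
      y_cube := by
        have h := eq' (app (app (hg 0).1 (hg 0).1) (hg 0).1) nil hy3
        rw [el_append, el_append, el_nil] at h
        rw [pow_succ, pow_two, mul_assoc]
        exact h
      y_conj := fun g hg' => by
        have key : ∀ k < 3, ∃ u ∈ closure (insert (el gen wz)
            (Set.range fun i : Fin 12 => el gen (wq i))),
            el gen (wg (k + 1)) * el gen (wg 0) * (el gen (wg (k + 1)))⁻¹ = u * el gen (wg 0) ∨
            el gen (wg (k + 1)) * el gen (wg 0) * (el gen (wg (k + 1)))⁻¹ =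
              u * el gen (wg 0) ^ 2 := by
          intro k hk
          refine ⟨_, wsel_mem (yCoords.getD k (0, [])).2, ?_⟩
          have h := eq' (app (rev ?_) (app (app (rev (hg _).1) (hg 0).1) (hg _).1)) (wsel_lt _)
            (hyc k hk)
          · rw [← h, el_append]
            rw [show (wg (k + 1)).reverse ++ wg 0 ++ wg (k + 1) = wconj (wg (k + 1)) (wg 0) from rfl,
              wconj_el hD M hc (hg _).1]
            cases Nat.beq (yCoords.getD k (0, [])).1 1
            · right
              rw [cond_false, el_reverse hD M (app (hg 0).1 (hg 0).1), el_append, pow_two,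
                inv_mul_cancel_right]
            · left
              rw [cond_true, el_reverse hD M (hg 0).1, inv_mul_cancel_right]
          · cases Nat.beq (yCoords.getD k (0, [])).1 1
            exacts [app (hg 0).1 (hg 0).1, (hg 0).1]
        simp only [List.mem_cons, List.not_mem_nil, or_false] at hg'
        rcases hg' with rfl | rfl | rfl
        exacts [key 0 (by omega), key 1 (by omega), key 2 (by omega)]
      range_ge := range_ge
      P_ge := P_ge
      S_inj := S_inj
      S_a := S_a
      S_b := S_b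
      centre := centre
      y_move := ⟨yIdx, by
        rw [← wc_el hD M hc (hg 0).1 (hq _).1]
        exact ⟨fun e => ne' (wc_lt (hg 0).1 (hq _).1) nil hy1 (e.trans el_nil.symm),
          ne' (wc_lt (hg 0).1 (hq _).1) hzlt hy2⟩⟩
      ab_move := ⟨abIdx, by
        rw [← wc_el hD M hc (hg 1).1 (hg 2).1, ← wc_el hD M hc (wc_lt (hg 1).1 (hg 2).1) (hq _).1]
        exact ⟨fun e => ne' (wc_lt (wc_lt (hg 1).1 (hg 2).1) (hq _).1) nil hab1 (e.trans el_nil.symm),
          ne' (wc_lt (wc_lt (hg 1).1 (hg 2).1) (hq _).1) hzlt hab2⟩⟩ }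

/-- The shape of the centraliser of a product of four commuting members. -/
theorem m24_tetrad_shape {z : G} {l : List G} (hl : Fac D 4 z l) {C : Subgroup G}
    (hC : C = commutator G ⊓ centralizer ({z} : Set G)) :
    ∃ (Q : Subgroup ↥C) (_ : Q.Normal), Cfsg.generalizedFittingSubgroup ↥C = Q ∧
      Cfsg.IsExtraspecial 2 ↥Q ∧ Nat.card Q = 2 ^ 13 ∧
      ∃ (N M : Subgroup ↥C) (_ : N.Normal) (_ : M.Normal), Q ≤ N ∧ N ≤ M ∧
        Nat.card N = 3 * Nat.card Q ∧
        (∃ (K : Type) (_ : Field K) (_ : Fintype K), Fintype.card K = 9 ∧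
          Nonempty (↥M ⧸ N.subgroupOf M ≃* Cfsg.PSU 4 K 3)) ∧ M.index = 2 := by
  have hf := fac_model hD M h24.1 hck
  obtain ⟨g, hg⟩ := isConj_iff.1 (((m24_classes hD hP h24).2.1 4 (by omega) le_rfl).2 _ z
    ⟨_, hf⟩ ⟨l, hl⟩)
  have hel : el (fun x => g * gen x * g⁻¹) wz = g * el gen wz * g⁻¹ := by
    have h := map_list_prod (MulAut.conj g) (wz.reverse.map gen)
    rw [List.map_map] at h
    exact h.symm
  have hcert := cert_model hD hP h24 (M.conj hD g) hck
  rw [hel, hg, ← hC] at hcert
  have hb := m24_tetrad_bound hD hP h24 hl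
  rw [← hC] at hb
  exact hcert.shape hb

end

end CfsgLib.Trans3.Fi.TetradData
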