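import Cfsg.Agent.Lib.Trans3.Fi.TetradData

/-!
The permutations of the 126 blocks: orders of the generated groups, trivial centraliser, and the
correspondence with subsets of the 112 points of the model of `PSU₄(3)`.
-/

set_option autoImplicit false
set_option maxRecDepth 100000
set_option Elab.async false

namespace CfsgLib.Trans3.Fi.TetradData

open CfsgLib.KnownA.PermCert CfsgLib.KnownA.U4ThreeSchur

/-- The action of the first generator. -/
noncomputable def πa : Equiv.Perm (Fin 126) := permOf 126 cA

/-- The action of the second generator. -/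
noncomputable def πb : Equiv.Perm (Fin 126) := permOf 126 cB

/-- The action of the outer element. -/
noncomputable def πs : Equiv.Perm (Fin 126) := permOf 126 cS

theorem valid_ok : valid 126 cA = true ∧ valid 126 cB = true ∧ valid 126 cS = true ∧
    valid 112 codeA = true ∧ valid 112 codeB = true := by decide +kernel

/-- The codes are produced by a program from the generators. -/
def produced (gens : List ℕ) (ops : List (ℕ × ℕ × ℕ)) (need : List ℕ) : Bool :=
  gens.all (valid 126) && match slpRun 126 ops gens with
    | none => false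
    | some F => need.all fun c => F.any (Nat.beq c)

theorem mem_of_produced {gens : List ℕ} {ops : List (ℕ × ℕ × ℕ)} {need : List ℕ}
    (h : produced gens ops need = true) :
    ∀ c ∈ need, valid 126 c = true ∧ permOf 126 c ∈ genGroup 126 gens := by
  simp only [produced, Bool.and_eq_true, List.all_eq_true] at h
  obtain ⟨hv, h⟩ := h
  cases hF : slpRun 126 ops gens with
  | none => rw [hF] at h; exact absurd h (by simp)
  | some F =>
    rw [hF] at h
    simp only [List.all_eq_true, List.any_eq_true] at h
    intro c hc
    obtain ⟨d, hd, e⟩ := h c hc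
    rw [Nat.eq_of_beq_eq_true e]
    exact slpRun_sound _ (fun c hc => ⟨hv c hc, mem_genGroup hc⟩) hF d hd

theorem producedP : produced [cA, cB] opsP (chainP.flatMap Prod.snd) = true := by decide +kernel

theorem producedR : produced [cA, cB, cS] opsR (chainR.flatMap Prod.snd) = true := by decide +kernel

theorem chainP_ok : chainOK 126 [] chainP = true ∧ chainProd chainP = 3265920 := by decide +kernel

theorem chainR_ok : chainOK 126 [] chainR = true ∧ chainProd chainR = 6531840 := by decide +kernel

theorem card_ge_of_chain {gens : List ℕ} {ops : List (ℕ × ℕ × ℕ)} {ch : List (ℕ × List ℕ)}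
    (hp : produced gens ops (ch.flatMap Prod.snd) = true) (hc : chainOK 126 [] ch = true) :
    chainProd ch ≤ Nat.card ↥(genGroup 126 gens) :=
  card_ge_chain _ hc (fun e he c hc' => (mem_of_produced hp c (List.mem_flatMap.2 ⟨e, he, hc'⟩)).2)
    _ fun σ => ⟨fun h => ⟨h, fun a ha => absurd ha (List.not_mem_nil)⟩, And.left⟩

theorem genGroup_pair : genGroup 126 [cA, cB] = Subgroup.closure {πa, πb} := by
  refine congrArg Subgroup.closure (Set.ext fun σ => ?_)
  simp [πa, πb]

theorem genGroup_triple : genGroup 126 [cA, cB, cS] = Subgroup.closure {πa, πb, πs} := by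
  refine congrArg Subgroup.closure (Set.ext fun σ => ?_)
  simp [πa, πb, πs]

theorem P_ge : 3265920 ≤ Nat.card ↥(Subgroup.closure ({πa, πb} : Set (Equiv.Perm (Fin 126)))) := by
  rw [← genGroup_pair, ← chainP_ok.2]
  exact card_ge_of_chain producedP chainP_ok.1

theorem range_ge :
    6531840 ≤ Nat.card ↥(Subgroup.closure ({πa, πb, πs} : Set (Equiv.Perm (Fin 126)))) := by
  rw [← genGroup_triple, ← chainR_ok.2]
  exact card_ge_of_chain producedR chainR_ok.1

/-- Transversal elements reach every block and the stabiliser elements fix only the first block. -/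
def centreOK : Bool :=
  match chainP with
  | (b, T) :: (_, U) :: _ => Nat.beq b 0 && U.all (fun c => Nat.beq (pimg c 0) 0) &&
      (List.range 126).all fun i => T.any (fun c => Nat.beq (pimg c 0) i) &&
        (Nat.beq i 0 || U.any fun c => !Nat.beq (pimg c i) i)
  | _ => false

theorem centre_ok : centreOK = true := by decide +kernel

theorem centre (σ : Equiv.Perm (Fin 126)) (h1 : Commute σ πa) (h2 : Commute σ πb) : σ = 1 := by
  have hK : ∀ c ∈ chainP.flatMap Prod.snd, valid 126 c = true ∧ Commute σ (permOf 126 c) := by
    intro c hc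
    obtain ⟨hv, hm⟩ := mem_of_produced producedP c hc
    refine ⟨hv, ?_⟩
    have hle : genGroup 126 [cA, cB] ≤ Subgroup.centralizer ({σ} : Set _) := by
      refine genGroup_le fun d hd => Subgroup.mem_centralizer_singleton_iff.2 ?_
      simp only [List.mem_cons, List.not_mem_nil, or_false] at hd
      rcases hd with rfl | rfl
      exacts [h1.symm, h2.symm]
    exact (Subgroup.mem_centralizer_singleton_iff.1 (hle hm) :).symm
  have hc := centre_ok
  rw [centreOK] at hc
  split at hc
  case h_2 => exact absurd hc (by simp)
  case h_1 b T b' U L e =>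
    simp only [Bool.and_eq_true, List.all_eq_true, List.mem_range, List.any_eq_true,
      Bool.or_eq_true, Bool.not_eq_true', Nat.beq_eq] at hc
    obtain ⟨⟨-, hU⟩, hi⟩ := hc
    have hT : ∀ c ∈ T, valid 126 c = true ∧ Commute σ (permOf 126 c) := fun c hc =>
      hK c (by rw [e]; simp [hc])
    have hU' : ∀ c ∈ U, valid 126 c = true ∧ Commute σ (permOf 126 c) := fun c hc =>
      hK c (by rw [e]; simp [hc])
    have h0 : σ 0 = 0 := by
      rcases (hi (σ 0) (σ 0).2).2 with h | ⟨c, hc, hne⟩
      · exact Fin.ext h
      · exfalso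
        obtain ⟨hv, hcm⟩ := hU' c hc
        have e1 : permOf 126 c 0 = 0 := Fin.ext (by rw [permOf_val hv]; exact hU c hc)
        have e2 : σ (permOf 126 c 0) = permOf 126 c (σ 0) := DFunLike.congr_fun hcm.eq 0
        rw [e1] at e2
        have e3 := congrArg Fin.val e2.symm
        rw [permOf_val hv] at e3
        rw [e3, Nat.beq_refl] at hne
        exact absurd hne (by simp)
    refine Equiv.ext fun i => ?_
    obtain ⟨c, hc, hci⟩ := (hi i i.2).1
    obtain ⟨hv, hcm⟩ := hT c hc
    have e1 : permOf 126 c 0 = i := Fin.ext (by rw [permOf_val hv]; exact hci)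
    have e2 : σ (permOf 126 c 0) = permOf 126 c (σ 0) := DFunLike.congr_fun hcm.eq 0
    rw [h0, e1] at e2
    exact e2

/-- The mask of a block. -/
def mask (t : ℕ) : ℕ := masks.getD t 0

/-- The points of a block. -/
def S (t : Fin 126) : Finset (Fin 112) := Finset.univ.filter fun i : Fin 112 => (mask t).testBit i

/-- The masks are distinct, small and compatible with the generators. -/
def masksOK : Bool :=
  (List.range 126).all fun t => Nat.blt (mask t) (2 ^ 112) &&
    ((List.range t).all fun u => !Nat.beq (mask t) (mask u)) &&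
    (List.range 112).all fun i =>
      ((mask (pimg cA t)).testBit (pimg codeA i) == (mask t).testBit i) &&
      ((mask (pimg cB t)).testBit (pimg codeB i) == (mask t).testBit i)

theorem masks_ok : masksOK = true := by decide +kernel

theorem masks_facts (t : ℕ) (ht : t < 126) : mask t < 2 ^ 112 ∧ (∀ u < t, mask t ≠ mask u) ∧
    ∀ i < 112, (mask (pimg cA t)).testBit (pimg codeA i) = (mask t).testBit i ∧
      (mask (pimg cB t)).testBit (pimg codeB i) = (mask t).testBit i := by
  have h := masks_ok
  simp only [masksOK, List.all_eq_true, List.mem_range, Bool.and_eq_true, beq_iff_eq, Nat.blt_eq,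
    Bool.not_eq_true'] at h
  obtain ⟨⟨h1, h2⟩, h3⟩ := h t ht
  exact ⟨h1, fun u hu e => by simpa [e] using h2 u hu, h3⟩

theorem S_inj : Function.Injective S := by
  intro t u e
  have key : mask t = mask u := Nat.eq_of_testBit_eq fun i => by
    rcases Nat.lt_or_ge i 112 with hi | hi
    · have h1 : (⟨i, hi⟩ : Fin 112) ∈ S t ↔ (⟨i, hi⟩ : Fin 112) ∈ S u := by rw [e]
      simpa [S] using h1
    · rw [Nat.testBit_lt_two_pow ((masks_facts t t.2).1.trans_le (Nat.pow_le_pow_right (by norm_num) hi)),
        Nat.testBit_lt_two_pow ((masks_facts u u.2).1.trans_le (Nat.pow_le_pow_right (by norm_num) hi))]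
  rcases lt_trichotomy (t : ℕ) u with h | h | h
  · exact absurd key.symm ((masks_facts u u.2).2.1 t h)
  · exact Fin.ext h
  · exact absurd key ((masks_facts t t.2).2.1 u h)

theorem S_image {c d : ℕ} (hc : valid 126 c = true) (hd : valid 112 d = true)
    (h : ∀ t < 126, ∀ i < 112, (mask (pimg c t)).testBit (pimg d i) = (mask t).testBit i)
    (t : Fin 126) : S (permOf 126 c t) = (S t).image (permOf 112 d) := by
  ext j
  obtain ⟨i, rfl⟩ := (permOf 112 d).surjective j
  rw [Finset.mem_image]
  simp only [S, Finset.mem_filter, Finset.mem_univ, true_and]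
  rw [permOf_val hc, permOf_val hd, h t t.2 i i.2]
  exact ⟨fun hi => ⟨i, hi, rfl⟩, fun ⟨k, hk, e⟩ => (permOf 112 d).injective e ▸ hk⟩

theorem S_a (t : Fin 126) : S (πa t) = (S t).image (permOf 112 codeA) :=
  S_image valid_ok.1 valid_ok.2.2.2.1 (fun t ht i hi => ((masks_facts t ht).2.2 i hi).1) t

theorem S_b (t : Fin 126) : S (πb t) = (S t).image (permOf 112 codeB) :=
  S_image valid_ok.2.1 valid_ok.2.2.2.2 (fun t ht i hi => ((masks_facts t ht).2.2 i hi).2) t

/-- The commutator form. -/
def Gm (i j : Fin 12) : ZMod 2 := ((gmRows.getD i 0).testBit j).toNat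

/-- The inverse of the commutator form. -/
def Gi (i j : Fin 12) : ZMod 2 := ((giRows.getD i 0).testBit j).toNat

theorem inv_form : ∀ i j : Fin 12, ∑ k, Gi i k * Gm k j = if i = j then 1 else 0 := by decide +kernel

end CfsgLib.Trans3.Fi.TetradData
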