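import Cfsg.Prelude.Def_Transfer
import Cfsg.Agent.Lib.Comp.Local
import Cfsg.Agent.Lib.Transfer.PPrimeAut
import Cfsg.Agent.Lib.KnownA.U4ThreeSchur.Model
import Cfsg.Agent.Lib.Classical.UnitaryGen
import Cfsg.Agent.Lib.Solvable.PCore

/-!
Groups of shape `2^{1+12}.3.U₄(3).2` recognised from generators: twelve involutory or quaternary
elements with non-singular commutator form, an element of order three, and an action on 126 objects
whose two first generators match those of the 112-point model of `PSU₄(3)`.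
-/

set_option autoImplicit false
set_option linter.unusedSectionVars false
set_option linter.style.haveILetI false

namespace CfsgLib.Trans3.Fi.TetradShape

open Subgroup
open scoped commutatorElement
open CfsgLib.KnownA.PermCert CfsgLib.KnownA.U4ThreeSchur

theorem zmod_two_val : ∀ x : ZMod 2, x ≠ 0 → x.val = 1 := by decide

theorem mem_normalizer_of_conj_le {X : Type*} [Group X] [Finite X] (S : Subgroup X) {g : X}
    (h : ∀ u ∈ S, g * u * g⁻¹ ∈ S) : g ∈ normalizer (S : Set X) := by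
  have e : S.map (MulAut.conj g).toMonoidHom = S := by
    refine eq_of_le_of_card_ge ?_ (le_of_eq ?_)
    · rintro _ ⟨u, hu, rfl⟩; exact h u hu
    · rw [card_map_of_injective (MulAut.conj g).injective]
  refine mem_normalizer_iff.2 fun x => ⟨h x, fun hx => ?_⟩
  rw [← e] at hx
  obtain ⟨u, hu, eu⟩ := hx
  have : u = x := (MulAut.conj g).injective eu
  exact this ▸ hu

/-- The elements. -/
structure Gens (X : Type*) [Group X] where
  /-- the central involution -/
  z : X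
  /-- the generators of the extraspecial group -/
  q : Fin 12 → X
  /-- the element of order three -/
  y : X
  /-- over the first generator of the model -/
  a : X
  /-- over the second generator of the model -/
  b : X
  /-- the outer element -/
  s : X
  /-- the action -/
  φ : X →* Equiv.Perm (Fin 126)

variable {X : Type*} [Group X]

/-- The extraspecial subgroup. -/
def Gens.Q (d : Gens X) : Subgroup X := closure (insert d.z (Set.range d.q))

/-- The conditions. -/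
structure Valid (d : Gens X) (Gm Gi : Fin 12 → Fin 12 → ZMod 2) (S : Fin 126 → Finset (Fin 112)) :
    Prop where
  z_ne : d.z ≠ 1
  z_sq : d.z * d.z = 1
  z_central : d.z ∈ center X
  gen : closure ({d.z, d.y, d.a, d.b, d.s} ∪ Set.range d.q) = ⊤
  q_sq : ∀ i, d.q i * d.q i ∈ zpowers d.z
  q_comm : ∀ i j, ⁅d.q i, d.q j⁆ = d.z ^ (Gm i j).val
  inv : ∀ i j, ∑ k, Gi i k * Gm k j = if i = j then 1 else 0
  q_conj : ∀ g ∈ [d.y, d.a, d.b, d.s], ∀ i, g * d.q i * g⁻¹ ∈ d.Q
  y_cube : d.y ^ 3 = 1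
  y_conj : ∀ g ∈ [d.a, d.b, d.s], g * d.y * g⁻¹ ∈ d.Q ⊔ zpowers d.y
  z_ker : d.φ d.z = 1
  q_ker : ∀ i, d.φ (d.q i) = 1
  y_ker : d.φ d.y = 1
  card_le : Nat.card X ≤ 160526499840
  range_ge : 6531840 ≤ Nat.card d.φ.range
  P_ge : 3265920 ≤ Nat.card (closure ({d.φ d.a, d.φ d.b} : Set (Equiv.Perm (Fin 126))))
  S_inj : Function.Injective S
  S_a : ∀ t, S (d.φ d.a t) = (S t).image (permOf 112 codeA)
  S_b : ∀ t, S (d.φ d.b t) = (S t).image (permOf 112 codeB)
  centre : ∀ σ, Commute σ (d.φ d.a) → Commute σ (d.φ d.b) → σ = 1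
  y_move : ∃ i, ⁅d.y, d.q i⁆ ∉ zpowers d.z
  ab_move : ∃ i, ⁅⁅d.a, d.b⁆, d.q i⁆ ∉ zpowers d.z

variable [Finite X] {d : Gens X} {Gm Gi : Fin 12 → Fin 12 → ZMod 2} {S : Fin 126 → Finset (Fin 112)}
variable (hV : Valid d Gm Gi S)
include hV

theorem z_pow (n : ℤ) : d.z ^ n = 1 ∨ d.z ^ n = d.z := by
  have h2 : d.z ^ (2 : ℤ) = 1 := by rw [zpow_two, hV.z_sq]
  rcases Int.even_or_odd' n with ⟨k, rfl | rfl⟩
  · exact Or.inl (by rw [zpow_mul, h2, one_zpow])
  · exact Or.inr (by rw [zpow_add_one, zpow_mul, h2, one_zpow, one_mul])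

theorem mem_Z {u : X} (hu : u ∈ zpowers d.z) : u = 1 ∨ u = d.z := by
  obtain ⟨n, rfl⟩ := mem_zpowers_iff.1 hu
  exact z_pow hV n

theorem Z_central {u : X} (hu : u ∈ zpowers d.z) (g : X) : g * u = u * g := by
  rcases mem_Z hV hu with rfl | rfl
  · simp
  · exact mem_center_iff.1 hV.z_central g

theorem Z_conj {u : X} (hu : u ∈ zpowers d.z) (g : X) : g * u * g⁻¹ = u := by
  rw [Z_central hV hu, mul_inv_cancel_right]

theorem z_mem_Q : zpowers d.z ≤ d.Q := zpowers_le.2 (subset_closure (Set.mem_insert _ _))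

theorem q_mem_Q (i : Fin 12) : d.q i ∈ d.Q := subset_closure (Set.mem_insert_of_mem _ ⟨i, rfl⟩)

theorem Q_normal : d.Q.Normal := by
  have hz : ∀ g u, u ∈ zpowers d.z → g * u * g⁻¹ ∈ d.Q := fun g u hu => by
    rw [Z_conj hV hu]; exact z_mem_Q hV hu
  have key : ∀ g, (∀ i, g * d.q i * g⁻¹ ∈ d.Q) → g ∈ normalizer (d.Q : Set X) := fun g hg => by
    refine mem_normalizer_of_conj_le _ fun u hu => ?_
    have h1 : d.Q ≤ d.Q.comap (MulAut.conj g).toMonoidHom := by
      conv_lhs => rw [Gens.Q]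
      rw [closure_le]
      rintro _ (rfl | ⟨i, rfl⟩)
      exacts [hz g _ (mem_zpowers _), hg i]
    exact h1 hu
  refine normalizer_eq_top_iff.1 (top_le_iff.1 (hV.gen ▸ (closure_le _).2 ?_))
  rintro g (hg | ⟨i, rfl⟩)
  · simp only [Set.mem_insert_iff, Set.mem_singleton_iff] at hg
    rcases hg with rfl | rfl | rfl | rfl | rfl
    · exact le_normalizer (z_mem_Q hV (mem_zpowers _))
    all_goals exact key _ (hV.q_conj _ (by simp))
  · exact le_normalizer (q_mem_Q hV i)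

/-- What acts trivially on `Q` modulo its centre. -/
def Kq : Subgroup X where
  carrier := {g | ∀ u ∈ d.Q, ⁅g, u⁆ ∈ zpowers d.z}
  one_mem' u _ := by simp
  mul_mem' {g k} hg hk u hu := by
    rw [show ⁅g * k, u⁆ = g * ⁅k, u⁆ * g⁻¹ * ⁅g, u⁆ by simp only [commutatorElement_def]; group,
      Z_conj hV (hk u hu)]
    exact mul_mem (hk u hu) (hg u hu)
  inv_mem' {g} hg u hu := by
    rw [show ⁅g⁻¹, u⁆ = g⁻¹ * ⁅g, u⁆⁻¹ * g⁻¹⁻¹ by simp only [commutatorElement_def]; group,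
      Z_conj hV (inv_mem (hg u hu))]
    exact inv_mem (hg u hu)

theorem Kq_normal : (Kq hV).Normal := ⟨fun g hg k u hu => by
  have h1 := hg (k⁻¹ * u * k⁻¹⁻¹) ((Q_normal hV).conj_mem u hu _)
  rw [show ⁅k * g * k⁻¹, u⁆ = k * ⁅g, k⁻¹ * u * k⁻¹⁻¹⁆ * k⁻¹ by
    simp only [commutatorElement_def]; group, Z_conj hV h1]
  exact h1⟩

theorem mem_Kq {g : X} (hg : ∀ i, ⁅g, d.q i⁆ ∈ zpowers d.z) : g ∈ Kq hV := by
  intro u hu
  induction hu using closure_induction with
  | mem v hv =>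
    rcases hv with rfl | ⟨i, rfl⟩
    · rw [commutatorElement_eq_one_iff_commute.2 (Z_central hV (mem_zpowers _) g)]
      exact one_mem _
    · exact hg i
  | one => simp
  | mul v w _ _ h1 h2 =>
    rw [show ⁅g, v * w⁆ = ⁅g, v⁆ * (v * ⁅g, w⁆ * v⁻¹) by simp only [commutatorElement_def]; group,
      Z_conj hV h2]
    exact mul_mem h1 h2
  | inv v _ h1 =>
    rw [show ⁅g, v⁻¹⁆ = v⁻¹ * ⁅g, v⁆⁻¹ * v⁻¹⁻¹ by simp only [commutatorElement_def]; group,
      Z_conj hV (inv_mem h1)]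
    exact inv_mem h1

theorem Q_le_Kq : d.Q ≤ Kq hV := by
  conv_lhs => rw [Gens.Q]
  rw [closure_le]
  rintro _ (rfl | ⟨i, rfl⟩)
  · exact mem_Kq hV fun j => by
      rw [commutatorElement_eq_one_iff_commute.2 (Z_central hV (mem_zpowers _) _).symm]
      exact one_mem _
  · exact mem_Kq hV fun j => by rw [hV.q_comm]; exact pow_mem (mem_zpowers _) _

theorem Q_comm {u v : X} (hu : u ∈ d.Q) (hv : v ∈ d.Q) : ⁅u, v⁆ ∈ zpowers d.z :=
  Q_le_Kq hV hu v hv

theorem Q_sq {u : X} (hu : u ∈ d.Q) : u * u ∈ zpowers d.z := by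
  induction hu using closure_induction with
  | mem v hv =>
    rcases hv with rfl | ⟨i, rfl⟩
    exacts [mul_mem (mem_zpowers _) (mem_zpowers _), hV.q_sq i]
  | one => simp
  | mul v w hv hw h1 h2 =>
    have e : v * w * (v * w) = v * v * (v⁻¹ * ⁅w, v⁆ * v⁻¹⁻¹) * (w * w) := by
      simp only [commutatorElement_def]; group
    rw [e, Z_conj hV (Q_comm hV hw hv)]
    exact mul_mem (mul_mem h1 (Q_comm hV hw hv)) h2
  | inv v _ h1 =>
    rw [show v⁻¹ * v⁻¹ = (v * v)⁻¹ by group]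
    exact inv_mem h1

/-- The commutators with the generators. -/
theorem exists_chi : ∃ χ : ↥d.Q →* Multiplicative (Fin 12 → ZMod 2), Function.Surjective χ ∧
    ∀ u, χ u = 1 ↔ ∀ i, ⁅(u : X), d.q i⁆ = 1 := by
  classical
  obtain ⟨ε, eε⟩ : ∃ ε : X → ZMod 2, ∀ u, ε u = if u = 1 then 0 else 1 := ⟨_, fun _ => rfl⟩
  have hε : ∀ u ∈ zpowers d.z, ∀ v ∈ zpowers d.z, ε (u * v) = ε u + ε v := by
    intro u hu v hv
    rcases mem_Z hV hu with rfl | rfl <;> rcases mem_Z hV hv with rfl | rfl <;>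
      simp [eε, hV.z_sq, hV.z_ne, show (1 : ZMod 2) + 1 = 0 from rfl]
  have hεz : ∀ c : ZMod 2, ε (d.z ^ c.val) = c := by
    intro c
    rcases (by decide : ∀ w : ZMod 2, w = 0 ∨ w = 1) c with rfl | rfl
    · simp [eε]
    · simp [eε, hV.z_ne, ZMod.val_one]
  refine ⟨MonoidHom.mk' (fun u => Multiplicative.ofAdd fun j => ε ⁅(u : X), d.q j⁆) fun u v => ?_,
    ?_, fun u => ?_⟩
  · refine congrArg Multiplicative.ofAdd (funext fun j => ?_)
    show ε ⁅(u : X) * v, d.q j⁆ = _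
    rw [show ⁅(u : X) * v, d.q j⁆ = u * ⁅(v : X), d.q j⁆ * (u : X)⁻¹ * ⁅(u : X), d.q j⁆ by
        simp only [commutatorElement_def]; group,
      Z_conj hV (Q_comm hV v.2 (q_mem_Q hV j)),
      hε _ (Q_comm hV v.2 (q_mem_Q hV j)) _ (Q_comm hV u.2 (q_mem_Q hV j)), add_comm]
    rfl
  · intro f
    have hrow : ∀ c : Fin 12 → ZMod 2, ∃ u : ↥d.Q, ∀ j, ε ⁅(u : X), d.q j⁆ = ∑ k, c k * Gm k j := by
      intro c
      suffices ∀ T : Finset (Fin 12), ∃ u : ↥d.Q, ∀ j, ε ⁅(u : X), d.q j⁆ = ∑ k ∈ T, c k * Gm k j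
        from this Finset.univ
      intro T
      induction T using Finset.induction with
      | empty => exact ⟨1, fun j => by simp [eε]⟩
      | insert k T hk ih =>
        obtain ⟨u, hu⟩ := ih
        have hck : c k = 0 ∨ c k = 1 := by revert hk; generalize c k = w; intro _; revert w; decide
        rcases hck with e | e
        · exact ⟨u, fun j => by rw [Finset.sum_insert hk, e, zero_mul, zero_add, hu]⟩
        · refine ⟨⟨d.q k, q_mem_Q hV k⟩ * u, fun j => ?_⟩
          show ε ⁅d.q k * (u : X), d.q j⁆ = _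
          rw [show ⁅d.q k * (u : X), d.q j⁆ = d.q k * ⁅(u : X), d.q j⁆ * (d.q k)⁻¹ * ⁅d.q k, d.q j⁆ by
              simp only [commutatorElement_def]; group,
            Z_conj hV (Q_comm hV u.2 (q_mem_Q hV j)),
            hε _ (Q_comm hV u.2 (q_mem_Q hV j)) _ (Q_comm hV (q_mem_Q hV k) (q_mem_Q hV j)), hu,
            hV.q_comm, hεz, Finset.sum_insert hk, e, one_mul, add_comm]
    obtain ⟨u, hu⟩ := hrow fun k => ∑ i, Multiplicative.toAdd f i * Gi i k
    refine ⟨u, ?_⟩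
    show Multiplicative.ofAdd _ = f
    refine Multiplicative.toAdd.injective (funext fun j => ?_)
    show ε ⁅(u : X), d.q j⁆ = _
    rw [hu]
    simp_rw [Finset.sum_mul, mul_assoc]
    rw [Finset.sum_comm]
    simp_rw [← Finset.mul_sum, hV.inv]
    simp
  · show Multiplicative.ofAdd _ = 1 ↔ _
    constructor
    · intro h j
      have hj := congrFun (congrArg Multiplicative.toAdd h) j
      by_contra hne
      simp [eε, hne] at hj
    · intro h
      refine Multiplicative.toAdd.injective (funext fun j => ?_)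
      show ε ⁅(u : X), d.q j⁆ = 0
      simp [eε, h j]

theorem Q_facts : Nat.card d.Q = 2 ^ 13 ∧ Cfsg.IsExtraspecial 2 ↥d.Q := by
  classical
  haveI : Fact (Nat.Prime 2) := ⟨Nat.prime_two⟩
  obtain ⟨χ, hχ, hker⟩ := exists_chi hV
  let Z' : Subgroup ↥d.Q := (zpowers d.z).subgroupOf d.Q
  haveI hZn : Z'.Normal := ⟨fun u hu g => by
    rw [mem_subgroupOf] at hu ⊢
    rw [Subgroup.coe_mul, Subgroup.coe_mul, Subgroup.coe_inv, Z_conj hV hu]
    exact hu⟩
  have hZ'card : Nat.card Z' = 2 := by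
    rw [Nat.card_congr (subgroupOfEquivOfLe (z_mem_Q hV)).toEquiv, Nat.card_zpowers]
    exact orderOf_eq_prime (by rw [pow_two, hV.z_sq]) hV.z_ne
  -- the quotient by the centre is generated by twelve commuting involutions
  have hidx : Z'.index ≤ 2 ^ 12 := by
    have hc : ∀ u v : ↥d.Q ⧸ Z', Commute u v := by
      intro u v
      obtain ⟨u, rfl⟩ := QuotientGroup.mk_surjective u
      obtain ⟨v, rfl⟩ := QuotientGroup.mk_surjective v
      rw [← commutatorElement_eq_one_iff_commute]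
      show ⁅(QuotientGroup.mk' Z') u, (QuotientGroup.mk' Z') v⁆ = 1
      rw [← map_commutatorElement, QuotientGroup.mk'_apply, QuotientGroup.eq_one_iff]
      exact Q_comm hV u.2 v.2
    have hsq : ∀ u : ↥d.Q ⧸ Z', u * u = 1 := by
      intro u
      obtain ⟨u, rfl⟩ := QuotientGroup.mk_surjective u
      rw [← QuotientGroup.mk_mul, QuotientGroup.eq_one_iff]
      exact Q_sq hV u.2
    obtain ⟨m, em⟩ : ∃ m : Fin 12 → ↥d.Q ⧸ Z', ∀ i, m i = ((⟨d.q i, q_mem_Q hV i⟩ : ↥d.Q) : _) :=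
      ⟨_, fun _ => rfl⟩
    let _ : CommGroup (↥d.Q ⧸ Z') :=
      { (inferInstance : Group (↥d.Q ⧸ Z')) with mul_comm := fun u v => (hc u v).eq }
    obtain ⟨F, eF⟩ : ∃ F : Finset (Fin 12) → ↥d.Q ⧸ Z', ∀ T, F T = ∏ i ∈ T, m i := ⟨_, fun _ => rfl⟩
    have hins : ∀ T i, i ∉ T → F (insert i T) = m i * F T := fun T i hi => by
      rw [eF, eF, Finset.prod_insert hi]
    have hstep : ∀ T i, ∃ T', m i * F T = F T' := by
      intro T i
      by_cases hi : i ∈ T
      · refine ⟨T.erase i, ?_⟩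
        conv_lhs => rw [← Finset.insert_erase hi, hins _ _ (Finset.notMem_erase i T)]
        rw [← mul_assoc, hsq, one_mul]
      · exact ⟨insert i T, (hins T i hi).symm⟩
    have hsurj : Function.Surjective F := by
      intro w
      obtain ⟨⟨u, hu⟩, rfl⟩ := QuotientGroup.mk_surjective w
      suffices ∀ T, ∃ T', ((⟨u, hu⟩ : ↥d.Q) : ↥d.Q ⧸ Z') * F T = F T' by
        obtain ⟨T', hT'⟩ := this ∅
        refine ⟨T', ?_⟩
        rw [← hT', eF, Finset.prod_empty, mul_one]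
      induction hu using closure_induction with
      | mem v hv =>
        intro T
        rcases hv with rfl | ⟨i, rfl⟩
        · refine ⟨T, ?_⟩
          rw [(QuotientGroup.eq_one_iff _).2 (mem_subgroupOf.2 (mem_zpowers _)), one_mul]
        · exact em i ▸ hstep T i
      | one => exact fun T => ⟨T, by rw [show (⟨1, _⟩ : ↥d.Q) = 1 from rfl, QuotientGroup.mk_one, one_mul]⟩
      | mul v w hv hw h1 h2 =>
        intro T
        obtain ⟨T1, e1⟩ := h2 T
        obtain ⟨T2, e2⟩ := h1 T1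
        refine ⟨T2, ?_⟩
        rw [← e2, ← e1, ← mul_assoc, ← QuotientGroup.mk_mul]
        rfl
      | inv v hv h1 =>
        intro T
        obtain ⟨T1, e1⟩ := h1 T
        refine ⟨T1, ?_⟩
        rw [← e1]
        congr 1
        rw [show (⟨v⁻¹, _⟩ : ↥d.Q) = (⟨v, hv⟩ : ↥d.Q)⁻¹ from rfl, QuotientGroup.mk_inv,
          inv_eq_of_mul_eq_one_right (hsq _)]
    have := Nat.card_le_card_of_surjective F hsurj
    rwa [Nat.card_eq_fintype_card (α := Finset (Fin 12)), Fintype.card_finset, Fintype.card_fin]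
      at this
  have hZle : Z' ≤ χ.ker := fun u hu => MonoidHom.mem_ker.2 ((hker u).2 fun i =>
    commutatorElement_eq_one_iff_commute.2 (Z_central hV (mem_subgroupOf.1 hu) _).symm)
  have hcardV : Nat.card (Multiplicative (Fin 12 → ZMod 2)) = 2 ^ 12 := by
    rw [Nat.card_congr Multiplicative.toAdd, Nat.card_fun, Nat.card_zmod, Nat.card_fin]
  have hkidx : χ.ker.index = 2 ^ 12 := by
    rw [Subgroup.index_ker, MonoidHom.range_eq_top.2 hχ, Subgroup.card_top, hcardV]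
  have hkerZ : χ.ker = Z' := by
    refine le_antisymm ?_ hZle
    rw [← relIndex_eq_one]
    have h1 := relIndex_mul_index hZle
    have hpos : Z'.relIndex χ.ker ≠ 0 := fun h0 => by
      rw [h0, zero_mul] at h1
      exact index_ne_zero_of_finite h1.symm
    rw [hkidx] at h1
    by_contra hne
    have h2 : 2 * 2 ^ 12 ≤ Z'.index := h1 ▸ Nat.mul_le_mul_right _ (by omega)
    omega
  have hcard : Nat.card d.Q = 2 ^ 13 := by
    rw [← Z'.card_mul_index, hZ'card, ← hkerZ, hkidx]; norm_num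
  refine ⟨hcard, ?_⟩
  have hcen : center ↥d.Q = Z' := by
    refine le_antisymm (fun u hu => ?_) ?_
    · rw [← hkerZ]
      refine MonoidHom.mem_ker.2 ((hker u).2 fun i => ?_)
      exact commutatorElement_eq_one_iff_commute.2
        (congrArg Subtype.val (mem_center_iff.1 hu ⟨_, q_mem_Q hV i⟩)).symm
    · exact fun u hu => mem_center_iff.2 fun v => Subtype.ext (Z_central hV (mem_subgroupOf.1 hu) v)
  have hQp : IsPGroup 2 ↥d.Q := IsPGroup.of_card hcard
  have hcomm : commutator ↥d.Q = Z' := by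
    refine le_antisymm ?_ ?_
    · rw [commutator_def, commutator_le]
      exact fun u _ v _ => mem_subgroupOf.2 (Q_comm hV u.2 v.2)
    · obtain ⟨i, j, hij⟩ : ∃ i j, Gm i j ≠ 0 := by
        by_contra! h0
        have := hV.inv 0 0
        simp [h0] at this
      have hone : (Gm i j).val = 1 := zmod_two_val _ hij
      intro u hu
      rcases mem_Z hV (mem_subgroupOf.1 hu) with e | e
      · rw [show u = 1 from Subtype.ext e]; exact one_mem _
      · have h1 : ⁅(⟨d.q i, q_mem_Q hV i⟩ : ↥d.Q), ⟨d.q j, q_mem_Q hV j⟩⁆ = u := Subtype.ext (by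
          show ⁅d.q i, d.q j⁆ = (u : X)
          rw [hV.q_comm, hone, pow_one, e])
        rw [← h1]
        exact commutator_mem_commutator (mem_top _) (mem_top _)
  refine ⟨⟨hQp, ?_, hcomm.trans hcen.symm⟩, by rw [hcen, hZ'card]⟩
  rw [hcen]
  refine le_antisymm (CfsgLib.Transfer.frattini_le_of_elementary_quotient Z'
    (fun u v => mem_subgroupOf.2 (Q_comm hV u.2 v.2)) fun u => mem_subgroupOf.2 (by
      rw [pow_two, Subgroup.coe_mul]; exact Q_sq hV u.2)) ?_
  rw [← hcomm]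
  exact CfsgLib.Transfer.commutator_le_frattini_pgroup hQp

/-- The preimage of the kernel. -/
theorem N_facts : d.φ.ker = d.Q ⊔ zpowers d.y ∧ Nat.card d.φ.ker = 3 * 2 ^ 13 ∧
    Nat.card d.φ.range = 6531840 ∧ Nat.card X = 160526499840 := by
  have hle : d.Q ⊔ zpowers d.y ≤ d.φ.ker := by
    refine sup_le ?_ (zpowers_le.2 hV.y_ker)
    rw [Gens.Q, closure_le]
    rintro _ (rfl | ⟨i, rfl⟩)
    exacts [hV.z_ker, hV.q_ker i]
  have hy : orderOf d.y = 3 := by
    haveI : Fact (Nat.Prime 3) := ⟨Nat.prime_three⟩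
    refine orderOf_eq_prime hV.y_cube fun e => ?_
    obtain ⟨i, hi⟩ := hV.y_move
    exact hi (by rw [e, commutatorElement_one_left]; exact one_mem _)
  have hdvd : 3 * 2 ^ 13 ∣ Nat.card ↥(d.Q ⊔ zpowers d.y) := by
    refine Nat.Coprime.mul_dvd_of_dvd_of_dvd (by norm_num) ?_ ?_
    · rw [← hy, ← Nat.card_zpowers]; exact card_dvd_of_le le_sup_right
    · rw [← (Q_facts hV).1]; exact card_dvd_of_le le_sup_left
  have h1 : d.φ.ker.index = Nat.card d.φ.range := Subgroup.index_ker _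
  have h2 := d.φ.ker.card_mul_index
  rw [h1] at h2
  have hN : 3 * 2 ^ 13 ≤ Nat.card ↥(d.Q ⊔ zpowers d.y) := Nat.le_of_dvd Nat.card_pos hdvd
  have hk : Nat.card ↥(d.Q ⊔ zpowers d.y) ≤ Nat.card d.φ.ker :=
    Nat.le_of_dvd Nat.card_pos (card_dvd_of_le hle)
  have hX := hV.card_le
  have hR := hV.range_ge
  have hk2 : Nat.card d.φ.ker * 6531840 ≤ 160526499840 :=
    ((Nat.mul_le_mul_left _ hR).trans h2.le).trans hX
  have hkeq : Nat.card d.φ.ker = 3 * 2 ^ 13 := by omega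
  have hR2 : Nat.card d.φ.range * (3 * 2 ^ 13) ≤ 160526499840 := by
    rw [← hkeq, mul_comm, h2]; exact hX
  refine ⟨(eq_of_le_of_card_ge hle (by omega)).symm, hkeq, by omega, ?_⟩
  rw [← h2, hkeq]; omega

theorem P_facts :
    Nonempty (↥(closure ({d.φ d.a, d.φ d.b} : Set (Equiv.Perm (Fin 126)))) ≃* ↥GP) := by
  classical
  obtain ⟨P2, eP2⟩ : ∃ P2 : Subgroup (Equiv.Perm (Fin 126) × Equiv.Perm (Fin 112)), P2 =
      closure {(d.φ d.a, permOf 112 codeA), (d.φ d.b, permOf 112 codeB)} := ⟨_, rfl⟩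
  have hinv : ∀ p ∈ P2, ∀ t, S (p.1 t) = (S t).image p.2 := by
    intro p hp
    rw [eP2] at hp
    induction hp using closure_induction with
    | mem w hw =>
      rcases hw with rfl | rfl
      exacts [hV.S_a, hV.S_b]
    | one => simp
    | mul v w _ _ h1 h2 =>
      intro t
      show S (v.1 (w.1 t)) = _
      rw [h1, h2, Finset.image_image]
      rfl
    | inv v _ h1 =>
      intro t
      have h2 := h1 (v.1⁻¹ t)
      rw [Equiv.Perm.coe_inv, Equiv.apply_symm_apply] at h2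
      rw [h2, Finset.image_image, Prod.fst_inv, Prod.snd_inv]
      simp [Function.comp_def]
  have hmap2 : P2.map (MonoidHom.snd _ _) = GP := by
    rw [eP2, MonoidHom.map_closure, GP, genGroup]
    congr 1
    ext w
    simp [gensG, Set.image_insert_eq]
  have hmap1 : P2.map (MonoidHom.fst _ _) = closure {d.φ d.a, d.φ d.b} := by
    rw [eP2, MonoidHom.map_closure]
    simp [Set.image_insert_eq]
  let f₁ : ↥P2 →* ↥(P2.map (MonoidHom.fst _ _)) := (MonoidHom.fst _ _).subgroupMap P2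
  let f₂ : ↥P2 →* ↥(P2.map (MonoidHom.snd _ _)) := (MonoidHom.snd _ _).subgroupMap P2
  have hf₁ : Function.Surjective f₁ := MonoidHom.subgroupMap_surjective _ _
  have hf₂ : Function.Surjective f₂ := MonoidHom.subgroupMap_surjective _ _
  have hi₂ : Function.Injective f₂ := by
    rw [← MonoidHom.ker_eq_bot_iff, Subgroup.eq_bot_iff_forall]
    rintro ⟨⟨g, k⟩, hp⟩ hk
    have hk1 : k = 1 := congrArg Subtype.val hk
    subst hk1
    refine Subtype.ext (Prod.ext (Equiv.ext fun t => hV.S_inj ?_) rfl)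
    simpa using hinv _ hp t
  have hc : Nat.card P2 = 3265920 := by
    rw [Nat.card_congr (Equiv.ofBijective f₂ ⟨hi₂, hf₂⟩), hmap2, card_GP]
  have hi₁ : Function.Injective f₁ := by
    refine ((Nat.bijective_iff_surjective_and_card f₁).2 ⟨hf₁, ?_⟩).1
    refine le_antisymm ?_ (Nat.card_le_card_of_surjective f₁ hf₁)
    rw [hc, hmap1]; exact hV.P_ge
  exact ⟨((MulEquiv.subgroupCongr hmap1).symm.trans (MulEquiv.ofBijective f₁ ⟨hi₁, hf₁⟩).symm).trans
    ((MulEquiv.ofBijective f₂ ⟨hi₂, hf₂⟩).trans (MulEquiv.subgroupCongr hmap2))⟩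

/-- A normal subgroup covers the index two part of the action or acts trivially. -/
theorem normal_cases {H : Subgroup X} (hH : H.Normal) :
    (d.φ d.a ∈ H.map d.φ ∧ d.φ d.b ∈ H.map d.φ) ∨ H ≤ d.φ.ker := by
  haveI : Fact (Nat.Prime 3) := ⟨Nat.prime_three⟩
  letI : Fintype (GaloisField 3 2) := Fintype.ofFinite _
  have hF : Fintype.card (GaloisField 3 2) = 3 ^ 2 := by
    rw [← Nat.card_eq_fintype_card, GaloisField.card 3 2 (by norm_num)]
  obtain ⟨ePG⟩ := P_facts hV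
  obtain ⟨eG⟩ := exists_equiv (F := GaloisField 3 2) (hF.trans (by norm_num))
  haveI := CfsgLib.Classical.isSimpleGroup_psu hF (n := 4) (by norm_num) (by norm_num)
  obtain ⟨P, eP⟩ : ∃ P : Subgroup (Equiv.Perm (Fin 126)), P = closure {d.φ d.a, d.φ d.b} := ⟨_, rfl⟩
  let eP' : ↥P ≃* Cfsg.PSU 4 (GaloisField 3 2) 3 :=
    (MulEquiv.subgroupCongr eP).trans (ePG.trans eG)
  haveI : IsSimpleGroup ↥P := eP'.isSimpleGroup
  have haP : d.φ d.a ∈ P := eP ▸ subset_closure (by simp)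
  have hbP : d.φ d.b ∈ P := eP ▸ subset_closure (by simp)
  have hnorm : ∀ τ ∈ d.φ.range, ∀ σ ∈ H.map d.φ, τ * σ * τ⁻¹ ∈ H.map d.φ := by
    rintro _ ⟨g, rfl⟩ _ ⟨h, hh, rfl⟩
    exact ⟨g * h * g⁻¹, hH.conj_mem h hh g, by simp⟩
  have hPr : P ≤ d.φ.range := by
    rw [eP, closure_le]
    rintro _ (rfl | rfl) <;> exact ⟨_, rfl⟩
  haveI hI : ((H.map d.φ).subgroupOf P).Normal := ⟨fun σ hσ τ =>
    hnorm _ (hPr τ.2) _ hσ⟩
  rcases hI.eq_bot_or_eq_top with e | e
  · right
    obtain ⟨hker, hkc, hR, hX⟩ := N_facts hV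
    have hidx : (P.subgroupOf d.φ.range).index = 2 := by
      have h1 := (P.subgroupOf d.φ.range).card_mul_index
      rw [Nat.card_congr (subgroupOfEquivOfLe hPr).toEquiv, Nat.card_congr eP'.toEquiv,
        card_psu (hF.trans (by norm_num)), hR] at h1
      omega
    have key : ∀ σ ∈ H.map d.φ, σ ∈ P → σ = 1 := fun σ hσ hσP => by
      have : (⟨σ, hσP⟩ : ↥P) ∈ (H.map d.φ).subgroupOf P := hσ
      rw [e, mem_bot] at this
      exact congrArg Subtype.val this
    have hle : H.map d.φ ≤ d.φ.range := map_le_range _ _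
    intro h hh
    have hσ : d.φ h ∈ H.map d.φ := mem_map_of_mem _ hh
    rw [MonoidHom.mem_ker]
    by_contra hne
    have hout : d.φ h ∉ P := fun c => hne (key _ hσ c)
    have hc : ∀ τ ∈ d.φ.range, Commute (d.φ h) τ := by
      intro τ hτ
      have h1 := hnorm τ hτ _ hσ
      have h2 : τ * d.φ h * τ⁻¹ ∉ P := fun c => hne (conj_eq_one_iff.1 (key _ h1 c))
      have h3 := (mul_mem_iff_of_index_two hidx (a := ⟨_, hle h1⟩)
        (b := (⟨_, hle hσ⟩ : ↥d.φ.range)⁻¹)).2 (iff_of_false h2 (fun c => hout ((inv_mem_iff).1 c)))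
      have h4 := key _ (mul_mem h1 (inv_mem hσ)) h3
      rw [mul_inv_eq_one, mul_inv_eq_iff_eq_mul] at h4
      exact h4.symm
    exact hne (hV.centre _ (hc _ ⟨d.a, rfl⟩) (hc _ ⟨d.b, rfl⟩))
  · left
    rw [subgroupOf_eq_top] at e
    exact ⟨e haP, e hbP⟩

theorem pCore_eq : Cfsg.pCore 2 X = d.Q ∧ centralizer (d.Q : Set X) ≤ d.Q := by
  haveI : Fact (Nat.Prime 2) := ⟨Nat.prime_two⟩
  haveI := Q_normal hV
  obtain ⟨hker, hkc, hR, hX⟩ := N_facts hV
  obtain ⟨hQc, -⟩ := Q_facts hV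
  haveI := Kq_normal hV
  -- what lies in the kernel
  have hy : ∀ g ∈ d.φ.ker, ∃ u ∈ d.Q, ∃ k : ℕ, k < 3 ∧ g = u * d.y ^ k := by
    intro g hg
    rw [hker] at hg
    obtain ⟨u, hu, v, hv, rfl⟩ := mem_sup_of_normal_left.1 hg
    obtain ⟨n, rfl⟩ := mem_zpowers_iff.1 hv
    refine ⟨u, hu, (n % 3).toNat, by omega, ?_⟩
    congr 1
    rw [← zpow_natCast, Int.toNat_of_nonneg (Int.emod_nonneg _ (by norm_num))]
    conv_lhs => rw [← Int.mul_ediv_add_emod n 3, zpow_add, zpow_mul]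
    norm_cast
    rw [hV.y_cube, one_zpow, one_mul]
  obtain ⟨i, hi⟩ := hV.y_move
  have hyK : d.y ∉ Kq hV := fun c => hi (c _ (q_mem_Q hV i))
  -- an element of the kernel moving nothing modulo the centre lies in `Q`
  have hmeet : ∀ g ∈ d.φ.ker, g ∈ Kq hV → g ∈ d.Q := by
    intro g hg hgK
    obtain ⟨u, hu, k, hk, rfl⟩ := hy g hg
    have h1 : d.y ^ k ∈ Kq hV := by
      have := mul_mem (inv_mem (Q_le_Kq hV hu)) hgK
      rwa [inv_mul_cancel_left] at this
    interval_cases k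
    · simpa using hu
    · exact absurd (by simpa using h1) hyK
    · refine absurd ?_ hyK
      have h2 : d.y = (d.y ^ 2) ^ 2 := by
        rw [← pow_mul, show 2 * 2 = 3 + 1 from rfl, pow_succ, hV.y_cube, one_mul]
      rw [h2]; exact pow_mem h1 2
  have hK : Kq hV ≤ d.φ.ker := by
    refine (normal_cases hV (Kq_normal hV)).resolve_left fun hab => ?_
    obtain ⟨⟨k₁, hk₁, e₁⟩, ⟨k₂, hk₂, e₂⟩⟩ := hab
    obtain ⟨i, hi⟩ := hV.ab_move
    refine hi ?_
    suffices hm : ⁅d.a, d.b⁆ ∈ Kq hV from hm (d.q i) (q_mem_Q hV i)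
    have key : ∀ {g k : X}, k ∈ Kq hV → d.φ k = d.φ g →
        ∃ n : ℕ, (g : X ⧸ Kq hV) = (d.y : X ⧸ Kq hV) ^ n := by
      intro g k hk e
      obtain ⟨u, hu, n, -, en⟩ := hy (k⁻¹ * g) (by rw [MonoidHom.mem_ker, map_mul, map_inv, e,
        inv_mul_cancel])
      refine ⟨n, ?_⟩
      rw [show g = k * (u * d.y ^ n) by rw [← en, mul_inv_cancel_left], QuotientGroup.mk_mul,
        QuotientGroup.mk_mul, (QuotientGroup.eq_one_iff _).2 hk,
        (QuotientGroup.eq_one_iff _).2 (Q_le_Kq hV hu), one_mul, one_mul, QuotientGroup.mk_pow]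
    obtain ⟨n₁, en₁⟩ := key hk₁ e₁
    obtain ⟨n₂, en₂⟩ := key hk₂ e₂
    rw [← QuotientGroup.eq_one_iff]
    show QuotientGroup.mk' (Kq hV) ⁅d.a, d.b⁆ = 1
    rw [map_commutatorElement, commutatorElement_eq_one_iff_commute]
    show Commute (d.a : X ⧸ Kq hV) (d.b : X ⧸ Kq hV)
    rw [en₁, en₂]
    exact (Commute.refl _).pow_pow _ _
  have hcent : centralizer (d.Q : Set X) ≤ d.Q := fun g hg => by
    have hgK : g ∈ Kq hV := fun u hu => by
      rw [commutatorElement_eq_one_iff_commute.2 (mem_centralizer_iff.1 hg u hu).symm]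
      exact one_mem _
    exact hmeet g (hK hgK) hgK
  refine ⟨le_antisymm ?_ (CfsgLib.Solvable.le_pCore inferInstance (IsPGroup.of_card hQc)), hcent⟩
  have hO := CfsgLib.Comp.isPGroup_pCore 2 X
  have hOker : Cfsg.pCore 2 X ≤ d.φ.ker := by
    refine (normal_cases hV (CfsgLib.Solvable.pCore_normal 2 X)).resolve_left fun hab => ?_
    obtain ⟨n, hn⟩ := IsPGroup.iff_card.1 (hO.map d.φ)
    have h1 : closure {d.φ d.a, d.φ d.b} ≤ (Cfsg.pCore 2 X).map d.φ := by
      rw [closure_le]; rintro _ (rfl | rfl); exacts [hab.1, hab.2]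
    have h2 := card_dvd_of_le h1
    rw [Nat.card_congr (P_facts hV).some.toEquiv, card_GP, hn] at h2
    have h3 : 3 ∣ 2 ^ n := (Dvd.intro 1088640 (by norm_num)).trans h2
    exact absurd (Nat.Prime.dvd_of_dvd_pow Nat.prime_three h3) (by norm_num)
  intro g hg
  obtain ⟨u, hu, k, hk, rfl⟩ := hy g (hOker hg)
  have hQO : d.Q ≤ Cfsg.pCore 2 X := CfsgLib.Solvable.le_pCore inferInstance (IsPGroup.of_card hQc)
  have h1 : d.y ^ k ∈ Cfsg.pCore 2 X := by
    have := mul_mem (inv_mem (hQO hu)) hg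
    rwa [inv_mul_cancel_left] at this
  obtain ⟨n, hn⟩ := hO ⟨_, h1⟩
  have h2 : (d.y ^ k) ^ (2 ^ n) = 1 := congrArg Subtype.val hn
  have h3 : (d.y ^ k) ^ 3 = 1 := by rw [← pow_mul, mul_comm, pow_mul, hV.y_cube, one_pow]
  have h4 : d.y ^ k = 1 := by
    have h5 := (pow_gcd_eq_one (a := d.y ^ k)).2 ⟨h2, h3⟩
    rwa [(Nat.Coprime.pow_left n (by norm_num : Nat.Coprime 2 3)).gcd_eq_one, pow_one] at h5
  rw [h4, mul_one]
  exact hu

/-- The shape. -/
theorem shape : ∃ (Q : Subgroup X) (_ : Q.Normal), Cfsg.generalizedFittingSubgroup X = Q ∧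
    Cfsg.IsExtraspecial 2 ↥Q ∧ Nat.card Q = 2 ^ 13 ∧
    ∃ (N M : Subgroup X) (_ : N.Normal) (_ : M.Normal), Q ≤ N ∧ N ≤ M ∧
      Nat.card N = 3 * Nat.card Q ∧
      (∃ (K : Type) (_ : Field K) (_ : Fintype K), Fintype.card K = 9 ∧
        Nonempty (↥M ⧸ N.subgroupOf M ≃* Cfsg.PSU 4 K 3)) ∧ M.index = 2 := by
  haveI : Fact (Nat.Prime 2) := ⟨Nat.prime_two⟩
  haveI : Fact (Nat.Prime 3) := ⟨Nat.prime_three⟩
  letI : Fintype (GaloisField 3 2) := Fintype.ofFinite _
  have hF : Fintype.card (GaloisField 3 2) = 9 := by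
    rw [← Nat.card_eq_fintype_card, GaloisField.card 3 2 (by norm_num)]; norm_num
  obtain ⟨hQc, hQe⟩ := Q_facts hV
  obtain ⟨hker, hkc, hR, hX⟩ := N_facts hV
  obtain ⟨hO, hC⟩ := pCore_eq hV
  obtain ⟨ePG⟩ := P_facts hV
  obtain ⟨eG⟩ := exists_equiv hF
  obtain ⟨P, eP⟩ : ∃ P : Subgroup (Equiv.Perm (Fin 126)), P = closure {d.φ d.a, d.φ d.b} := ⟨_, rfl⟩
  let eP' : ↥P ≃* Cfsg.PSU 4 (GaloisField 3 2) 3 :=
    (MulEquiv.subgroupCongr eP).trans (ePG.trans eG)
  obtain ⟨M, eM⟩ : ∃ M : Subgroup X, M = P.comap d.φ := ⟨_, rfl⟩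
  have hkM : d.φ.ker ≤ M := eM ▸ fun g hg => by
    rw [mem_comap, MonoidHom.mem_ker.1 hg]; exact one_mem _
  have hPr : P ≤ d.φ.range := by
    rw [eP, closure_le]
    rintro _ (rfl | rfl) <;> exact ⟨_, rfl⟩
  let f : ↥M →* ↥P := (d.φ.comp M.subtype).codRestrict P fun g => by
    have := g.2
    exact (eM ▸ this : (g : X) ∈ P.comap d.φ)
  have hfs : Function.Surjective f := by
    rintro ⟨σ, hσ⟩
    obtain ⟨g, rfl⟩ := hPr hσ
    exact ⟨⟨g, eM ▸ hσ⟩, rfl⟩
  have hfk : f.ker = d.φ.ker.subgroupOf M := by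
    ext g
    rw [MonoidHom.mem_ker, mem_subgroupOf, MonoidHom.mem_ker]
    exact ⟨fun h => congrArg Subtype.val h, fun h => Subtype.ext h⟩
  have hMc : Nat.card M = 3 * 2 ^ 13 * 3265920 := by
    rw [← f.ker.card_mul_index, Subgroup.index_ker, MonoidHom.range_eq_top.2 hfs, Subgroup.card_top,
      hfk, Nat.card_congr (subgroupOfEquivOfLe hkM).toEquiv, hkc, Nat.card_congr eP'.toEquiv,
      card_psu hF]
  have hidx : M.index = 2 := by
    have h1 := M.card_mul_index
    rw [hMc, hX] at h1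
    omega
  haveI : M.Normal := normal_of_index_eq_two hidx
  refine ⟨d.Q, Q_normal hV, ?_, hQe, hQc, d.φ.ker, M, inferInstance, inferInstance, ?_, hkM,
    by rw [hkc, hQc], ⟨GaloisField 3 2, inferInstance, inferInstance, hF,
      ⟨((QuotientGroup.quotientMulEquivOfEq hfk.symm).trans
        (QuotientGroup.quotientKerEquivOfSurjective f hfs)).trans eP'⟩⟩, hidx⟩
  · rw [← hO]
    rw [← hO] at hC
    exact (CfsgLib.Comp.generalizedFitting_eq_pCore_iff 2 X).2 hC
  · rw [hker]; exact le_sup_left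

end CfsgLib.Trans3.Fi.TetradShape
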