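import Cfsg.Agent.Lib.Trans3.Fi.TwoPairOuter

/-!
The centraliser, in the automorphism group of a group of type M(22), of the product of two
commuting members: its generalized Fitting subgroup is large extraspecial of order `2¹¹`, with
quotient the automorphism group of `PSU₄(2)`.
-/

set_option autoImplicit false
set_option linter.unusedSectionVars false
set_option linter.style.haveILetI false

namespace CfsgLib.Trans3.Fi

open TwoPairOuter

variable {G : Type*} [Group G] [Finite G] {D : Set G}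
variable (hD : Cfsg.IsThreeTranspositionGroup D) (hP : Cfsg.IsPrimitiveUnderConj D)
variable (h : Cfsg.IsOfTypeM22 G D)
variable {d₁ d₂ : G} (h₁ : d₁ ∈ D) (n₂ : d₂ ∈ nbrs D d₁)
include hD hP h h₁ n₂

/-- An automorphism as for one pair exists for every pair. -/
theorem pairTau_move {a b : G} {τ : MulAut G} (hτ : PairTau D a b τ) (ha : a ∈ D) (nb : b ∈ nbrs D a) :
    ∃ τ', PairTau D d₁ d₂ τ' := by
  obtain ⟨g, hg⟩ := hP.1 a ha d₁ h₁
  have hw : ∃ u ∈ D, ∃ v ∈ D, u ≠ v ∧ Commute u v := ⟨d₁, h₁, d₂, n₂.1, Ne.symm n₂.2.1, n₂.2.2⟩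
  obtain ⟨k, hk, hk'⟩ := trans_comm hD hP hw h₁ (hD.2.1 g b nb.1)
    (fun e => nb.2.1 (mul_left_cancel (mul_right_cancel (e.trans hg.symm))))
    (hg ▸ (commute_conj_iff g a b).2 nb.2.2) n₂.1 n₂.2.1 n₂.2.2
  refine ⟨MulAut.congr (MulAut.conj (k * g)) τ, ?_⟩
  have e1 : MulAut.conj (k * g) a = d₁ := by
    rw [MulAut.conj_apply, show k * g * a * (k * g)⁻¹ = k * (g * a * g⁻¹) * k⁻¹ by group, hg, hk]
  have e2 : MulAut.conj (k * g) b = d₂ := by
    rw [MulAut.conj_apply, ← hk']; group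
  have e3 : (MulAut.conj (k * g)) '' D = D := by
    refine Set.Subset.antisymm (Set.image_subset_iff.2 fun d hd => hD.2.1 _ d hd) fun d hd => ?_
    exact ⟨(k * g)⁻¹ * d * ((k * g)⁻¹)⁻¹, hD.2.1 _ d hd, by simp [MulAut.conj_apply, mul_assoc]⟩
  have := hτ.congr (MulAut.conj (k * g))
  rwa [e1, e2, e3] at this

/-- Some member commutes with both. -/
theorem pair_common_nonempty : ∃ t, t ∈ nbrs D d₁ ∩ nbrs D d₂ := by
  by_contra hno
  push Not at hno
  have hle : (Subgroup.centralizer ({d₁} : Set G) ⊓ Subgroup.centralizer ({d₂} : Set G)) ≤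
      Subgroup.closure ({d₁, d₂} : Set G) := fun x hx => by
    rw [Subgroup.mem_inf, Subgroup.mem_centralizer_singleton_iff, Subgroup.mem_centralizer_singleton_iff] at hx
    exact pair_fix hD hP h h₁ n₂ hx.1 hx.2 fun u hu => absurd hu (hno u)
  have h1 := Nat.le_trans (card_two hD hP h h₁ n₂).ge (Subgroup.card_le_of_le hle)
  have h2 : Nat.card ↥(Subgroup.closure ({d₁, d₂} : Set G)) ≤ 4 := by
    have hs : ((Subgroup.closure ({d₁, d₂} : Set G) : Subgroup G) : Set G) ⊆ {1, d₁, d₂, d₁ * d₂} :=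
      fun v hv => by simpa using v_cases hD h₁ n₂ hv
    have h4 : ({1, d₁, d₂, d₁ * d₂} : Set G).ncard ≤ 4 := by
      refine (Set.ncard_insert_le _ _).trans ?_
      refine (Nat.add_le_add_right ((Set.ncard_insert_le _ _).trans
        (Nat.add_le_add_right (Set.ncard_insert_le _ _) 1)) 1).trans ?_
      rw [Set.ncard_singleton]
    exact (Set.ncard_le_ncard hs (Set.toFinite _)).trans h4
  omega

set_option maxHeartbeats 1000000 in
theorem m22_pair_aut {τ : MulAut G} (hτ : PairTau D d₁ d₂ τ) (j : MulAut G)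
    (hj : j = MulAut.conj (d₁ * d₂)) (Q : Subgroup (MulAut G))
    (hQ : Q = (Cfsg.generalizedFittingSubgroup ↥(Subgroup.centralizer ({j} : Set (MulAut G)))).map
      (Subgroup.centralizer ({j} : Set (MulAut G))).subtype) :
    Cfsg.IsLargeExtraspecial Q ∧ Nat.card Q = 2 ^ 11 ∧ Q ≤ Subgroup.centralizer ({j} : Set (MulAut G)) ∧
      ∃ (_ : (Q.subgroupOf (Subgroup.centralizer ({j} : Set (MulAut G)))).Normal) (F : Type) (_ : Field F)
        (_ : Fintype F), Fintype.card F = 4 ∧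
        Nonempty (↥(Subgroup.centralizer ({j} : Set (MulAut G))) ⧸
          Q.subgroupOf (Subgroup.centralizer ({j} : Set (MulAut G))) ≃* MulAut (Cfsg.PSU 4 F 2)) := by
  haveI : Fact (Nat.Prime 2) := ⟨Nat.prime_two⟩
  haveI : Finite (MulAut G) := Finite.of_injective _ DFunLike.coe_injective
  obtain ⟨z, ez⟩ : ∃ z, z = d₁ * d₂ := ⟨_, rfl⟩
  have zz : z * z = 1 := by
    rw [ez, n₂.2.2.symm.mul_mul_mul_comm, Trans3.sq_one hD.1 h₁, Trans3.sq_one hD.1 n₂.1, one_mul]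
  have z1 : z ≠ 1 := fun e => n₂.2.1 (by
    rw [ez] at e
    rw [eq_inv_of_mul_eq_one_left e, Trans3.inv_eq hD.1 n₂.1])
  have hinj : Function.Injective (MulAut.conj : G →* MulAut G) := conj_injective_of_center h.1
  obtain ⟨K, eK⟩ : ∃ K : Subgroup G, K = Subgroup.centralizer ({d₁, d₂} : Set G) := ⟨_, rfl⟩
  have hK : ∀ x, x ∈ K ↔ Commute x d₁ ∧ Commute x d₂ := fun x => by
    rw [eK, Subgroup.mem_centralizer_iff]
    simp only [Set.mem_insert_iff, Set.mem_singleton_iff, forall_eq_or_imp, forall_eq]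
    exact ⟨fun ⟨a, b⟩ => ⟨a.symm, b.symm⟩, fun ⟨a, b⟩ => ⟨a.symm, b.symm⟩⟩
  obtain ⟨C, eC⟩ : ∃ C : Subgroup G, C = Subgroup.centralizer ({d₁ * d₂} : Set G) := ⟨_, rfl⟩
  have hC : ∀ x, x ∈ C ↔ Commute x (d₁ * d₂) := fun x => by
    rw [eC]; exact Subgroup.mem_centralizer_singleton_iff
  obtain ⟨-, E, hVE, hEK, hEC, hnorm, hcE, hcomm, hEn, F, iF, iFt, hF, ⟨φ⟩⟩ :=
    m22_pair_structure_core hD hP h h₁ n₂ hK hC rfl
  have hE : PairE d₁ d₂ E := ⟨hVE, fun x hx => (hK x).1 (hEK hx),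
    fun g g1 g2 x hx => hnorm g ((hC g).2 (g1.mul_right g2)) x hx, hcE, hcomm⟩
  have hE2 : IsPGroup 2 E := isPGroup_two_of_card hcE
  have hF2 : Fintype.card F = 2 ^ 2 := hF
  have hzsu := center_su_four hF2
  haveI : IsSimpleGroup (Cfsg.PSU 4 F 2) :=
    CfsgLib.Classical.isSimpleGroup_psu hF2 (n := 4) (by norm_num) (by norm_num)
  have hzp : Subgroup.center (Cfsg.PSU 4 F 2) = ⊥ := center_congr
    ((QuotientGroup.quotientMulEquivOfEq hzsu).trans QuotientGroup.quotientBot).symm hzsu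
  obtain ⟨π, eπ⟩ : ∃ π : ↥C →* MulAut (Cfsg.PSU 4 F 2),
      π = φ.toMonoidHom.comp (QuotientGroup.mk' (E.subgroupOf C)) := ⟨_, rfl⟩
  have hπs : Function.Surjective π := eπ ▸ φ.surjective.comp (QuotientGroup.mk'_surjective _)
  have hπk : π.ker = E.subgroupOf C := by
    rw [eπ, ← MonoidHom.comap_ker, (MonoidHom.ker_eq_bot_iff _).2 φ.injective]
    exact QuotientGroup.ker_mk' _
  have hπmem : ∀ x : ↥C, π x = 1 ↔ (x : G) ∈ E := fun x => by
    rw [← MonoidHom.mem_ker, hπk, Subgroup.mem_subgroupOf]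
  have hmax : ∀ (N : Subgroup ↥C), N.Normal → IsPGroup 2 N → N ≤ E.subgroupOf C := by
    intro N hNn hN x hx
    haveI := hNn.map π hπs
    have h0 := pCore_mulAut_psu_four hF _ (hN.map π)
    rw [← hπk, MonoidHom.mem_ker, ← Subgroup.mem_bot, ← h0]
    exact ⟨x, hx, rfl⟩
  -- the action of `τ` on the centraliser
  have hτz : τ (d₁ * d₂) = d₁ * d₂ := by rw [map_mul, hτ.fix₁, hτ.fix₂]
  have hτC : ∀ x, x ∈ C ↔ τ x ∈ C := fun x => by
    rw [hC, hC]
    constructor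
    · intro hx
      have := hx.map τ.toMonoidHom
      rwa [MulEquiv.toMonoidHom_eq_coe, MonoidHom.coe_coe, hτz] at this
    · intro hx
      refine Commute.of_map (f := τ.toMonoidHom) τ.injective ?_
      simpa [hτz] using hx
  obtain ⟨r, er⟩ : ∃ r : MulAut ↥C, ∀ x : ↥C, (r x : G) = τ x :=
    ⟨{ toFun := fun x => ⟨τ x, (hτC x).1 x.2⟩
       invFun := fun x => ⟨τ.symm x, (hτC _).2 (by rw [τ.apply_symm_apply]; exact x.2)⟩
       left_inv := fun x => Subtype.ext (τ.symm_apply_apply _)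
       right_inv := fun x => Subtype.ext (τ.apply_symm_apply _)
       map_mul' := fun x y => Subtype.ext (map_mul τ (x : G) y) }, fun _ => rfl⟩
  have hEp : IsPGroup 2 ↥(E.subgroupOf C) :=
    hE2.of_equiv (Subgroup.subgroupOfEquivOfLe hEC).symm
  have hrE : (E.subgroupOf C).map (r : ↥C →* ↥C) = E.subgroupOf C :=
    Subgroup.eq_of_le_of_card_ge
      (hmax _ (hEn.map _ r.surjective) (hEp.map _))
      (Nat.card_congr ((E.subgroupOf C).equivMapOfInjective (r : ↥C →* ↥C) r.injective).toEquiv).le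
  obtain ⟨α, hα⟩ : ∃ α : MulAut (MulAut (Cfsg.PSU 4 F 2)), ∀ x : ↥C, α (π x) = π (r x) :=
    ⟨φ.symm.trans ((QuotientGroup.congr (E.subgroupOf C) (E.subgroupOf C) r hrE).trans φ), fun x => by
      rw [eπ]
      simp only [MulEquiv.trans_apply, MonoidHom.comp_apply, MulEquiv.coe_toMonoidHom,
        MulEquiv.symm_apply_apply, QuotientGroup.mk'_apply]
      rfl⟩
  obtain ⟨p, rfl⟩ := exists_conj_mulAut hzp α
  obtain ⟨c, rfl⟩ := hπs p
  -- the outer element trivial modulo `E`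
  obtain ⟨σ, eσ⟩ : ∃ σ : MulAut G, σ = MulAut.conj (c : G)⁻¹ * τ := ⟨_, rfl⟩
  have hσC : ∀ x, Commute x (d₁ * d₂) → σ x * x⁻¹ ∈ E := by
    intro x hx
    have hxC := (hC x).2 hx
    have h1 : π (c⁻¹ * r ⟨x, hxC⟩ * c * (⟨x, hxC⟩ : ↥C)⁻¹) = 1 := by
      rw [map_mul, map_mul, map_mul, ← hα, MulAut.conj_apply, map_inv, map_inv]
      group
    have h2 := (hπmem _).1 h1
    simp only [Subgroup.coe_mul, Subgroup.coe_inv, er] at h2
    rw [eσ, MulAut.mul_apply, MulAut.conj_apply, inv_inv]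
    exact h2
  have hσz : σ (d₁ * d₂) = d₁ * d₂ := by
    rw [eσ, MulAut.mul_apply, hτz, MulAut.conj_apply]
    exact conj_eq_of_commute ((hC _).1 c.2).inv_left
  have hσD : ∀ d ∈ D, σ d ∈ D := fun d hd => by
    rw [eσ, MulAut.mul_apply, MulAut.conj_apply]
    exact hD.2.1 _ _ (hτ.maps d hd)
  have hσout : ∀ g, σ ≠ MulAut.conj g := fun g e => hτ.outer ((c : G) * g) (by
    rw [map_mul, ← e, eσ, ← mul_assoc, ← map_mul, mul_inv_cancel, map_one, one_mul])
  have hcases := m22_pair_cases hD hP h h₁ n₂ ((hC _).1 (inv_mem c.2))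
  obtain ⟨s₁, s₂⟩ : σ d₁ = d₂ ∧ σ d₂ = d₁ := by
    rcases hcases with ⟨a, b⟩ | ⟨a, b⟩
    · exfalso
      obtain ⟨x, x₁, x₂, hx⟩ := hτ.moves E hE.norm hE2
        (eK ▸ pair_perfect hD hP h h₁ n₂ hK hC hEK hF φ)
        (c : G)⁻¹ (commute_of_conj_eq a) (commute_of_conj_eq b)
      refine hx ?_
      have := hσC x (x₁.mul_right x₂)
      rwa [eσ, MulAut.mul_apply, MulAut.conj_apply] at this
    · rw [eσ, MulAut.mul_apply, MulAut.mul_apply, hτ.fix₁, hτ.fix₂]
      exact ⟨a, b⟩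
  -- the centraliser of `j`
  obtain ⟨A₀, eA₀⟩ : ∃ A₀ : Subgroup (MulAut G), A₀ = Subgroup.centralizer ({j} : Set (MulAut G)) :=
    ⟨_, rfl⟩
  rw [← eA₀] at hQ ⊢
  have hA : ∀ a, a ∈ A₀ ↔ a (d₁ * d₂) = d₁ * d₂ := fun a => by
    rw [eA₀, Subgroup.mem_centralizer_singleton_iff, hj, ← mul_inv_eq_iff_eq_mul, conj_mulAut,
      hinj.eq_iff]
  have hconjA : ∀ g, MulAut.conj g ∈ A₀ ↔ g ∈ C := fun g => by
    rw [hA, hC, MulAut.conj_apply]
    exact ⟨commute_of_conj_eq, conj_eq_of_commute⟩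
  have hσA : σ ∈ A₀ := (hA σ).2 hσz
  have hdec : ∀ a ∈ A₀, ∃ g ∈ C, a = MulAut.conj g ∨ a = MulAut.conj g * σ := by
    intro a ha
    obtain ⟨g, e | e⟩ := hτ.dec a
    · exact ⟨g, (hconjA g).1 (e ▸ ha), Or.inl e⟩
    · have e' : a = MulAut.conj (g * c) * σ := by
        rw [e, eσ, ← mul_assoc, ← map_mul, mul_inv_cancel_right]
      refine ⟨g * c, (hconjA _).1 ?_, Or.inr e'⟩
      rw [show MulAut.conj (g * (c : G)) = a * σ⁻¹ by rw [e', mul_inv_cancel_right]]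
      exact mul_mem ha (inv_mem hσA)
  have hσσ : ∃ e ∈ E, σ * σ = MulAut.conj e := by
    obtain ⟨g, hg, e | e⟩ := hdec (σ * σ) (mul_mem hσA hσA)
    · refine ⟨g, ?_, e⟩
      have hcen : π ⟨g, hg⟩ = 1 := by
        refine eq_one_of_commute_inn hzp fun s => ?_
        obtain ⟨x, hx⟩ := hπs (MulAut.conj s)
        rw [← hx]
        have hxz := (hC _).1 x.2
        have k1 := hσC x hxz
        have hσxC : Commute (σ x) (d₁ * d₂) := by
          have := hxz.map σ.toMonoidHom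
          rwa [MulEquiv.toMonoidHom_eq_coe, MonoidHom.coe_coe, hσz] at this
        have k3 := mul_mem (hσC _ hσxC) k1
        rw [← mul_assoc, inv_mul_cancel_right, ← MulAut.mul_apply, e, MulAut.conj_apply] at k3
        have h5 : π (⟨g, hg⟩ * x * (⟨g, hg⟩ : ↥C)⁻¹ * x⁻¹) = 1 := (hπmem _).2 k3
        rw [map_mul, map_mul, map_mul, map_inv, map_inv, mul_inv_eq_one, mul_inv_eq_iff_eq_mul] at h5
        exact h5
      exact (hπmem ⟨g, hg⟩).1 hcen
    · exact absurd (mul_right_cancel e) (hσout g)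
  have hσE : ∀ {x}, x ∈ E → σ x = x ∨ σ x = d₁ * d₂ * x := fun hx =>
    outer_E hD hP h h₁ n₂ hE hσD s₁ s₂ hσC hσσ hx
  have hzE : z ∈ E := ez ▸ mul_mem (hVE (Subgroup.subset_closure (by simp)))
    (hVE (Subgroup.subset_closure (by simp)))
  have hσEE : ∀ {x}, x ∈ E → σ x ∈ E := fun {x} hx => by
    rcases hσE hx with e | e <;> rw [e]
    exacts [hx, mul_mem (ez ▸ hzE) hx]
  obtain ⟨e', he', hσ2⟩ := hσσ
  have hσconj : ∀ g, σ * MulAut.conj g = MulAut.conj (σ g) * σ := fun g => by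
    rw [← conj_mulAut σ g, inv_mul_cancel_right]
  -- the extraspecial group
  obtain ⟨P, eP⟩ : ∃ P : Subgroup (MulAut G), ∀ a, a ∈ P ↔
      ∃ e ∈ E, a = MulAut.conj e ∨ a = MulAut.conj e * σ := by
    refine ⟨{
      carrier := {a | ∃ e ∈ E, a = MulAut.conj e ∨ a = MulAut.conj e * σ}
      one_mem' := ⟨1, one_mem _, Or.inl (map_one _).symm⟩
      mul_mem' := ?_
      inv_mem' := ?_ }, fun a => Iff.rfl⟩
    · rintro a b ⟨e, he, rfl | rfl⟩ ⟨f, hf, rfl | rfl⟩
      · exact ⟨e * f, mul_mem he hf, Or.inl (map_mul _ _ _).symm⟩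
      · exact ⟨e * f, mul_mem he hf, Or.inr (by rw [map_mul, mul_assoc])⟩
      · exact ⟨e * σ f, mul_mem he (hσEE hf), Or.inr (by rw [map_mul, mul_assoc, hσconj, mul_assoc])⟩
      · refine ⟨e * σ f * e', mul_mem (mul_mem he (hσEE hf)) he', Or.inl ?_⟩
        rw [map_mul, map_mul, ← hσ2]
        simp only [mul_assoc]
        rw [← mul_assoc σ (MulAut.conj f), hσconj, mul_assoc]
    · rintro a ⟨e, he, rfl | rfl⟩
      · exact ⟨e⁻¹, inv_mem he, Or.inl (map_inv _ _).symm⟩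
      · refine ⟨e'⁻¹ * σ e⁻¹, mul_mem (inv_mem he') (hσEE (inv_mem he)), Or.inr ?_⟩
        refine inv_eq_of_mul_eq_one_left ?_
        rw [map_mul, map_inv, ← hσ2]
        calc (σ * σ)⁻¹ * MulAut.conj (σ e⁻¹) * σ * (MulAut.conj e * σ)
            = (σ * σ)⁻¹ * (MulAut.conj (σ e⁻¹) * σ) * MulAut.conj e * σ := by group
          _ = 1 := by rw [← hσconj, map_inv]; group
  have hPA : P ≤ A₀ := fun a ha => by
    obtain ⟨e, he, rfl | rfl⟩ := (eP a).1 ha
    exacts [(hconjA e).2 (hEC he), mul_mem ((hconjA e).2 (hEC he)) hσA]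
  have hPconj : ∀ g, MulAut.conj g ∈ P → g ∈ E := fun g hg => by
    obtain ⟨e, he, e1 | e1⟩ := (eP _).1 hg
    · rwa [hinj e1]
    · exact absurd (eq_inv_mul_of_mul_eq e1.symm) (fun e2 => hσout (e⁻¹ * g) (by
        rw [e2, map_mul, map_inv]))
  have hPnorm : ∀ a ∈ A₀, ∀ x ∈ P, a * x * a⁻¹ ∈ P := by
    have hσP : σ ∈ P := (eP σ).2 ⟨1, one_mem _, Or.inr (by rw [map_one, one_mul])⟩
    have hg : ∀ g ∈ C, ∀ x ∈ P, MulAut.conj g * x * (MulAut.conj g)⁻¹ ∈ P := by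
      intro g hg x hx
      obtain ⟨e, he, rfl | rfl⟩ := (eP x).1 hx
      · exact (eP _).2 ⟨g * e * g⁻¹, hnorm g hg e he, Or.inl (by rw [map_mul, map_mul, map_inv])⟩
      · refine (eP _).2 ⟨g * e * g⁻¹ * (g * σ g⁻¹), mul_mem (hnorm g hg e he) ?_, Or.inr ?_⟩
        · have := inv_mem (hσC g ((hC g).1 hg))
          rwa [mul_inv_rev, inv_inv, ← map_inv] at this
        · rw [show g * e * g⁻¹ * (g * σ g⁻¹) = g * e * σ g⁻¹ by group]
          calc MulAut.conj g * (MulAut.conj e * σ) * (MulAut.conj g)⁻¹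
              = MulAut.conj g * MulAut.conj e * (σ * MulAut.conj g⁻¹) := by rw [map_inv]; group
            _ = _ := by rw [hσconj, map_mul, map_mul]; group
    intro a ha x hx
    obtain ⟨g, hgC, rfl | rfl⟩ := hdec a ha
    · exact hg g hgC x hx
    · rw [show MulAut.conj g * σ * x * (MulAut.conj g * σ)⁻¹ =
        MulAut.conj g * (σ * x * σ⁻¹) * (MulAut.conj g)⁻¹ by group]
      exact hg g hgC _ (mul_mem (mul_mem hσP hx) (inv_mem hσP))
  haveI hPn : (P.subgroupOf A₀).Normal :=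
    ⟨fun x hx a => Subgroup.mem_subgroupOf.2 (hPnorm a a.2 x (Subgroup.mem_subgroupOf.1 hx))⟩
  -- the quotient
  obtain ⟨ι, eι⟩ : ∃ ι : ↥C →* ↥A₀ ⧸ P.subgroupOf A₀, ∀ x : ↥C,
      ι x = QuotientGroup.mk ⟨MulAut.conj (x : G), (hconjA _).2 x.2⟩ :=
    ⟨(QuotientGroup.mk' _).comp (((MulAut.conj : G →* MulAut G).comp C.subtype).codRestrict A₀
      fun x => (hconjA _).2 x.2), fun x => rfl⟩
  have hιs : Function.Surjective ι := by
    intro q
    induction q using QuotientGroup.induction_on with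
    | _ a =>
      obtain ⟨g, hg, e | e⟩ := hdec a a.2
      · exact ⟨⟨g, hg⟩, (eι _).trans (congrArg QuotientGroup.mk (Subtype.ext e.symm))⟩
      · refine ⟨⟨g, hg⟩, (eι _).trans (QuotientGroup.eq.2 (Subgroup.mem_subgroupOf.2 ?_))⟩
        rw [Subgroup.coe_mul, Subgroup.coe_inv, e, ← mul_assoc, inv_mul_cancel, one_mul]
        exact (eP σ).2 ⟨1, one_mem _, Or.inr (by rw [map_one, one_mul])⟩
  have hιk : ι.ker = E.subgroupOf C := by
    ext x
    rw [MonoidHom.mem_ker, eι, QuotientGroup.eq_one_iff, Subgroup.mem_subgroupOf, Subgroup.mem_subgroupOf]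
    exact ⟨hPconj _, fun hx => (eP _).2 ⟨_, hx, Or.inl rfl⟩⟩
  have Φ : ↥A₀ ⧸ P.subgroupOf A₀ ≃* MulAut (Cfsg.PSU 4 F 2) :=
    ((QuotientGroup.quotientKerEquivOfSurjective ι hιs).symm.trans
      (QuotientGroup.quotientMulEquivOfEq hιk)).trans φ
  -- orders
  have hcP : Nat.card P = 2 ^ 11 := by
    let f : ↥E × Bool → ↥P := fun q => ⟨MulAut.conj (q.1 : G) * cond q.2 σ 1, (eP _).2 ⟨q.1, q.1.2, by
      cases q.2
      · exact Or.inl (mul_one _)
      · exact Or.inr rfl⟩⟩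
    have hfi : Function.Injective f := by
      rintro ⟨e, b⟩ ⟨e₁, b₁⟩ he
      have he' : MulAut.conj (e : G) * cond b σ 1 = MulAut.conj (e₁ : G) * cond b₁ σ 1 :=
        congrArg Subtype.val he
      have hno : ∀ u v : G, MulAut.conj u * σ ≠ MulAut.conj v := fun u v e2 => hσout (u⁻¹ * v) (by
        rw [map_mul, map_inv, ← e2, inv_mul_cancel_left])
      cases b <;> cases b₁
      · exact Prod.ext (Subtype.ext (hinj (mul_right_cancel he'))) rfl
      · exact absurd (by simpa using he'.symm) (hno e₁ e)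
      · exact absurd (by simpa using he') (hno e e₁)
      · exact Prod.ext (Subtype.ext (hinj (mul_right_cancel he'))) rfl
    have hfs : Function.Surjective f := by
      rintro ⟨a, ha⟩
      obtain ⟨e, he, e1 | e1⟩ := (eP a).1 ha
      · exact ⟨(⟨e, he⟩, false), Subtype.ext ((mul_one _).trans e1.symm)⟩
      · exact ⟨(⟨e, he⟩, true), Subtype.ext e1.symm⟩
    rw [← Nat.card_eq_of_bijective f ⟨hfi, hfs⟩, Nat.card_prod, hcE, Nat.card_eq_fintype_card,
      Fintype.card_bool]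
    norm_num
  have hP2 : IsPGroup 2 ↥P := IsPGroup.of_card hcP
  have hcore : Cfsg.pCore 2 ↥A₀ = P.subgroupOf A₀ := by
    refine le_antisymm (sSup_le ?_)
      (CfsgLib.Amalgam.le_pCore hPn (hP2.of_equiv (Subgroup.subgroupOfEquivOfLe hPA).symm))
    rintro N ⟨hNn, hN⟩ x hx
    obtain ⟨ψ, eψ⟩ : ∃ ψ : ↥A₀ →* MulAut (Cfsg.PSU 4 F 2), ψ = Φ.toMonoidHom.comp (QuotientGroup.mk' _) :=
      ⟨_, rfl⟩
    have hψ : Function.Surjective ψ := eψ ▸ Φ.surjective.comp (QuotientGroup.mk'_surjective _)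
    haveI := hNn.map ψ hψ
    have h0 := pCore_mulAut_psu_four hF _ (hN.map ψ)
    have hx1 : ψ x ∈ N.map ψ := ⟨x, hx, rfl⟩
    rw [h0, Subgroup.mem_bot, eψ] at hx1
    exact (QuotientGroup.eq_one_iff x).1 (Φ.map_eq_one_iff.1 hx1)
  -- squares, commutators, centre, centraliser
  have hJ : ∀ a ∈ A₀, Commute a j := fun a ha => by
    rw [eA₀] at ha; exact Subgroup.mem_centralizer_singleton_iff.1 ha
  have hjP : j ∈ P := (eP j).2 ⟨d₁ * d₂, ez ▸ hzE, Or.inl hj⟩
  have jj : j * j = 1 := by rw [hj, ← map_mul, ← ez, zz, map_one]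
  have hz2 : ∀ {v : G}, (v = 1 ∨ v = d₁ * d₂) → MulAut.conj v = 1 ∨ MulAut.conj v = j := by
    rintro v (rfl | rfl)
    exacts [Or.inl (map_one _), Or.inr hj.symm]
  have hcentE : ∀ a, (∀ e ∈ E, Commute a (MulAut.conj e)) → ∀ e ∈ E, a e = e := by
    intro a ha e he
    refine hinj ?_
    rw [← conj_mulAut, (ha e he).eq, mul_inv_cancel_right]
  have hfix : ∀ {e : G}, e ∈ E → σ e = e → e ∈ Subgroup.closure ({d₁, d₂} : Set G) → e = 1 ∨ e = d₁ * d₂ := by
    intro e _ he hv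
    rcases v_cases hD h₁ n₂ hv with rfl | rfl | rfl | rfl
    · exact Or.inl rfl
    · exact absurd (he.symm.trans s₁) (Ne.symm n₂.2.1)
    · exact absurd (he.symm.trans s₂) n₂.2.1
    · exact Or.inr rfl
  have he'1 : e' = 1 ∨ e' = d₁ * d₂ := by
    refine hfix he' ?_ (pairE_centralizer hD hP h h₁ n₂ hE fun y hy => ?_)
    · refine hinj ?_
      rw [← conj_mulAut, ← hσ2, ← mul_assoc, mul_inv_cancel_right]
    · refine commute_of_conj_eq ?_
      show MulAut.conj e' y = y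
      rw [← hσ2, MulAut.mul_apply]
      have hzy : σ (d₁ * d₂ * y) = d₁ * d₂ * σ y := by rw [map_mul, hσz]
      rcases hσE hy with e | e
      · rw [e, e]
      · rw [e, hzy, e, ← mul_assoc, ← ez, zz, one_mul]
  have hsq : ∀ a ∈ P, a * a = 1 ∨ a * a = j := by
    intro a ha
    obtain ⟨e, he, rfl | rfl⟩ := (eP a).1 ha
    · rw [← map_mul]; exact hz2 (pairE_square hD hP h h₁ n₂ hE he)
    · have : MulAut.conj e * σ * (MulAut.conj e * σ) = MulAut.conj (e * σ e * e') := by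
        rw [map_mul, map_mul, ← hσ2]
        simp only [mul_assoc]
        rw [← mul_assoc σ (MulAut.conj e), hσconj, mul_assoc]
      rw [this]
      refine hz2 ?_
      have hmul : ∀ u v : G, (u = 1 ∨ u = d₁ * d₂) → (v = 1 ∨ v = d₁ * d₂) →
          (u * v = 1 ∨ u * v = d₁ * d₂) := by
        rintro u v (rfl | rfl) (rfl | rfl) <;> simp [← ez, zz]
      refine hmul _ _ ?_ he'1
      rcases hσE he with e2 | e2 <;> rw [e2]
      · exact pairE_square hD hP h h₁ n₂ hE he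
      · rw [← mul_assoc, ((hE.fix e he).1.mul_right (hE.fix e he).2).eq, mul_assoc]
        exact hmul _ _ (Or.inr rfl) (pairE_square hD hP h h₁ n₂ hE he)
  have hcomm' : ∀ a ∈ P, ∀ b ∈ P, a * b * a⁻¹ * b⁻¹ = 1 ∨ a * b * a⁻¹ * b⁻¹ = j := by
    intro a ha b hb
    have hc2 : ∀ u, (u = 1 ∨ u = j) → ∀ x ∈ P, Commute x u := by
      rintro u (rfl | rfl) x hx
      exacts [Commute.one_right x, hJ x (hPA hx)]
    have q1 := hc2 _ (hsq a ha)
    have e : a * b * a⁻¹ * b⁻¹ = a * b * (a * b) * (a * a)⁻¹ * (b * b)⁻¹ := by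
      calc a * b * a⁻¹ * b⁻¹ = a * b * (a * b) * (b⁻¹ * (a * a)⁻¹) * b⁻¹ := by group
        _ = a * b * (a * b) * ((a * a)⁻¹ * b⁻¹) * b⁻¹ := by rw [((q1 b hb).inv_left.inv_right).eq]
        _ = a * b * (a * b) * (a * a)⁻¹ * (b * b)⁻¹ := by group
    rw [e]
    have hji : j⁻¹ = j := inv_eq_of_mul_eq_one_right jj
    rcases hsq _ (mul_mem ha hb) with p | p <;> rcases hsq a ha with q | q <;>
      rcases hsq b hb with r | r <;> rw [p, q, r] <;> simp [jj, hji]
  have hcen : ∀ a ∈ P, (∀ b ∈ P, a * b = b * a) → a = 1 ∨ a = j := by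
    intro a ha hab
    have hfixE := hcentE a fun e he => hab _ ((eP _).2 ⟨e, he, Or.inl rfl⟩)
    obtain ⟨e, he, rfl | rfl⟩ := (eP a).1 ha
    · have hs := hab σ ((eP σ).2 ⟨1, one_mem _, Or.inr (by rw [map_one, one_mul])⟩)
      refine hz2 (hfix he (hinj ?_) (pairE_centralizer hD hP h h₁ n₂ hE fun y hy =>
        commute_of_conj_eq (hfixE y hy)))
      rw [← conj_mulAut, ← hs, mul_inv_cancel_right]
    · exfalso
      have h0 := hfixE d₁ (hVE (Subgroup.subset_closure (by simp)))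
      rw [MulAut.mul_apply, s₁, MulAut.conj_apply, conj_eq_of_commute (hE.fix e he).2] at h0
      exact n₂.2.1 h0
  have hcent : Subgroup.centralizer (P : Set (MulAut G)) ≤ P := by
    intro a ha
    have haA : ∀ {b}, b ∈ Subgroup.centralizer (P : Set (MulAut G)) → b ∈ A₀ := fun {b} hb => by
      rw [eA₀, Subgroup.mem_centralizer_singleton_iff]
      exact (Subgroup.mem_centralizer_iff.1 hb j hjP).symm
    obtain ⟨R, eR⟩ : ∃ R : Subgroup ↥A₀, R = (Subgroup.centralizer (P : Set (MulAut G))).subgroupOf A₀ :=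
      ⟨_, rfl⟩
    have hRn : R.Normal := eR ▸ ⟨fun x hx g => by
      rw [Subgroup.mem_subgroupOf, Subgroup.mem_centralizer_iff] at hx ⊢
      intro y hy
      have h2 := hx ((g : MulAut G)⁻¹ * y * g) (by simpa using hPnorm _ (inv_mem g.2) y hy)
      simp only [Subgroup.coe_mul, Subgroup.coe_inv]
      calc y * ((g : MulAut G) * x * (g : MulAut G)⁻¹)
          = g * ((g : MulAut G)⁻¹ * y * g * x) * (g : MulAut G)⁻¹ := by group
        _ = _ := by rw [h2]; group⟩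
    have hR2 : IsPGroup 2 ↥R := by
      intro x
      have hx' : ((x : ↥A₀) : MulAut G) ∈ Subgroup.centralizer (P : Set (MulAut G)) := by
        have := x.2
        simp only [eR, Subgroup.mem_subgroupOf] at this
        exact this
      refine ⟨2, Subtype.ext (Subtype.ext ?_)⟩
      show ((x : ↥A₀) : MulAut G) ^ 4 = 1
      obtain ⟨b, eb⟩ : ∃ b, b = ((x : ↥A₀) : MulAut G) * ((x : ↥A₀) : MulAut G) := ⟨_, rfl⟩
      have hb : b ∈ Subgroup.centralizer (P : Set (MulAut G)) := eb ▸ mul_mem hx' hx'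
      have hbfix := hcentE b fun e he =>
        (Subgroup.mem_centralizer_iff.1 hb _ ((eP _).2 ⟨e, he, Or.inl rfl⟩)).symm
      have hinn : ∃ g ∈ C, b = MulAut.conj g := by
        obtain ⟨g, hg, e | e⟩ := hdec _ (haA hx')
        · exact ⟨g * g, mul_mem hg hg, by rw [eb, e, map_mul]⟩
        · refine ⟨g * σ g * e', mul_mem (mul_mem hg ((hC _).2 ?_)) (hEC he'), ?_⟩
          · have := ((hC g).1 hg).map σ.toMonoidHom
            rwa [MulEquiv.toMonoidHom_eq_coe, MonoidHom.coe_coe, hσz] at this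
          · rw [eb, e, map_mul, map_mul, ← hσ2]
            simp only [mul_assoc]
            rw [← mul_assoc σ (MulAut.conj g), hσconj, mul_assoc]
      obtain ⟨g, -, hg⟩ := hinn
      have hv := pairE_centralizer hD hP h h₁ n₂ hE fun y hy =>
        commute_of_conj_eq (g := g) (by rw [← MulAut.conj_apply, ← hg]; exact hbfix y hy)
      have hgg : g * g = 1 := by
        rcases v_cases hD h₁ n₂ hv with e | e | e | e <;> rw [e]
        exacts [one_mul 1, Trans3.sq_one hD.1 h₁, Trans3.sq_one hD.1 n₂.1, ez ▸ zz]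
      rw [show (4 : ℕ) = 2 * 2 from rfl, pow_mul, pow_two ((x : ↥A₀) : MulAut G), ← eb, hg, ← map_pow,
        pow_two, hgg, map_one]
    have hle := hcore ▸ CfsgLib.Amalgam.le_pCore hRn hR2
    have : (⟨a, haA ha⟩ : ↥A₀) ∈ R := eR ▸ Subgroup.mem_subgroupOf.2 ha
    exact Subgroup.mem_subgroupOf.1 (hle this)
  -- the generalized Fitting subgroup
  have hF' : Cfsg.generalizedFittingSubgroup ↥A₀ = P.subgroupOf A₀ := by
    rw [← hcore, CfsgLib.Comp.generalizedFitting_eq_pCore_iff, hcore]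
    intro x hx
    refine Subgroup.mem_subgroupOf.2 (hcent (Subgroup.mem_centralizer_iff.2 fun y hy => ?_))
    exact congrArg Subtype.val (Subgroup.mem_centralizer_iff.1 hx ⟨y, hPA hy⟩ (Subgroup.mem_subgroupOf.2 hy))
  have hQP : Q = P := by
    rw [hQ, hF', Subgroup.subgroupOf_map_subtype]
    exact inf_eq_left.2 hPA
  subst hQP
  have j1 : j ≠ 1 := fun e => z1 (hinj (by rw [map_one, ez, ← hj, e]))
  have hpack : CfsgLib.PLocal.LargeExtra.Pack Q j := by
    refine CfsgLib.PLocal.LargeExtra.pack_mk hP2 (orderOf_eq_prime (by rw [pow_two, jj]) j1) hjP hcomm' hsq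
      hcen (fun a ha => (hJ a (hPA ha)).eq)
      ⟨MulAut.conj d₁, (eP _).2 ⟨d₁, hVE (Subgroup.subset_closure (by simp)), Or.inl rfl⟩, fun e => ?_,
        fun e => ?_⟩ hcent ?_
    · exact invol_ne_one (hD.1.1 d₁ h₁) (hinj (e.trans (map_one _).symm))
    · have e1 : d₁ = d₁ * d₂ := hinj (e.trans hj)
      exact invol_ne_one (hD.1.1 d₂ n₂.1) (by simpa using e1.symm)
    · intro a ha
      rw [← eA₀] at ha
      rw [Subgroup.mem_normalizer_iff]
      intro x
      refine ⟨hPnorm a ha x, fun hx => ?_⟩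
      have := hPnorm a⁻¹ (inv_mem ha) _ hx
      rwa [show a⁻¹ * (a * x * a⁻¹) * a⁻¹⁻¹ = x by group] at this
  refine ⟨?_, hcP, hPA, hPn, F, iF, iFt, hF, ⟨Φ⟩⟩
  obtain ⟨t, ht⟩ := pair_common_nonempty hD hP h h₁ n₂
  obtain ⟨T, hT, -⟩ := exists_hex hD hP h h₁ n₂ ht
  obtain ⟨g, hg⟩ := hP.1 d₁ h₁ (T 0) (hT.mem 0).1.1
  have hw : ∃ u ∈ D, ∃ v ∈ D, u ≠ v ∧ Commute u v := ⟨d₁, h₁, d₂, n₂.1, Ne.symm n₂.2.1, n₂.2.2⟩
  have n01 : T 1 ≠ T 0 := fun e => absurd (hT.inj e) (by decide)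
  obtain ⟨k, hk, hk'⟩ := trans_comm hD hP hw (hT.mem 0).1.1 (hD.2.1 g d₂ n₂.1)
    (fun e => n₂.2.1 (mul_left_cancel (mul_right_cancel (e.trans hg.symm))))
    (hg ▸ (commute_conj_iff g d₁ d₂).2 n₂.2.2) (hT.mem 1).1.1 n01 (hT.comm 0 1)
  have hgj : MulAut.conj (k * g) * j * (MulAut.conj (k * g))⁻¹ = MulAut.conj (T 0 * T 1) := by
    rw [hj, conj_mulAut, MulAut.conj_apply,
      show k * g * (d₁ * d₂) * (k * g)⁻¹ = k * (g * d₁ * g⁻¹) * k⁻¹ * (k * (g * d₂ * g⁻¹) * k⁻¹) by group,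
      hg, hk, hk']
  refine hpack.isLarge_of_conj (g := MulAut.conj (k * g)) ?_ ?_
  · rw [hgj]
    exact (eP _).2 ⟨_, pairE_mem hD hP h h₁ n₂ hE hT 0 1, Or.inl rfl⟩
  · rw [hgj, hj]
    intro e
    rcases pair_determined hD hP h h₁ n₂ (hT.mem 0).1.1 (hT.mem 1).1.1 n01.symm (hT.comm 0 1) h₁ n₂.1
      (Ne.symm n₂.2.1) n₂.2.2 (hinj e) with e2 | e2
    · exact (hT.mem 0).1.2.1 e2.symm
    · exact (hT.mem 1).1.2.1 e2.symm

end CfsgLib.Trans3.Fi
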