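import Cfsg.Agent.Lib.Trans3.Fi.TwoPair22
import Cfsg.Agent.Lib.Trans3.Fi.InvolM22

/-!
A group of type M(22): the hexads through two commuting members `d₁`, `d₂`.
-/

set_option autoImplicit false
set_option linter.unusedSectionVars false

namespace CfsgLib.Trans3.Fi

/-- The four further members of a hexad through `d₁` and `d₂`. -/
structure Hex {G : Type*} [Group G] (D : Set G) (d₁ d₂ : G) (T : Fin 4 → G) : Prop where
  inj : Function.Injective T
  mem : ∀ i, T i ∈ nbrs D d₁ ∩ nbrs D d₂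
  comm : ∀ i j, Commute (T i) (T j)
  prod : T 0 * T 1 * T 2 * T 3 = d₁ * d₂

theorem hex_orbit_aux : ∀ σ : Equiv.Perm (Fin 4), σ 0 = 0 → (∀ j, j ≠ 0 → σ j ≠ j) →
    ∀ j k : Fin 4, j ≠ 0 → k ≠ 0 → k = j ∨ k = σ j ∨ k = σ (σ j) := by decide

theorem hex_perm_aux : ∀ a b : Fin 4, a ≠ b →
    ∃ c e, c ≠ e ∧ [a, b, c, e].Perm [0, 1, 2, 3] := by decide

variable {G : Type*} [Group G] [Finite G] {D : Set G}
variable (hD : Cfsg.IsThreeTranspositionGroup D) (hP : Cfsg.IsPrimitiveUnderConj D)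
variable (h : Cfsg.IsOfTypeM22 G D)
variable {d₁ d₂ : G} (h₁ : d₁ ∈ D) (n₂ : d₂ ∈ nbrs D d₁)
include hD hP h h₁ n₂

omit [Finite G] hP h in
theorem v_cases {v : G} (hv : v ∈ Subgroup.closure ({d₁, d₂} : Set G)) :
    v = 1 ∨ v = d₁ ∨ v = d₂ ∨ v = d₁ * d₂ := by
  have a1 := Trans3.sq_one hD.1 h₁
  have a2 := Trans3.sq_one hD.1 n₂.1
  have c12 : d₂ * d₁ = d₁ * d₂ := n₂.2.2.symm.eq
  have b1 : d₁ * (d₁ * d₂) = d₂ := by rw [← mul_assoc, a1, one_mul]
  have b2 : d₂ * (d₁ * d₂) = d₁ := by rw [← mul_assoc, c12, mul_assoc, a2, mul_one]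
  induction hv using Subgroup.closure_induction with
  | mem w hw =>
    rcases hw with rfl | rfl
    exacts [Or.inr (Or.inl rfl), Or.inr (Or.inr (Or.inl rfl))]
  | one => exact Or.inl rfl
  | mul x y _ _ hx hy =>
    rcases hx with rfl | rfl | rfl | rfl <;> rcases hy with rfl | rfl | rfl | rfl <;>
      simp [a1, a2, c12, b1, b2, mul_assoc]
  | inv x _ hx =>
    rcases hx with rfl | rfl | rfl | rfl
    · exact Or.inl inv_one
    · exact Or.inr (Or.inl (inv_eq hD.1 h₁))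
    · exact Or.inr (Or.inr (Or.inl (inv_eq hD.1 n₂.1)))
    · exact Or.inr (Or.inr (Or.inr (by rw [mul_inv_rev, inv_eq hD.1 h₁, inv_eq hD.1 n₂.1, c12])))

omit [Finite G] hP h in
theorem pair_conj_M {g u : G} (g₁ : Commute g d₁) (g₂ : Commute g d₂)
    (hu : u ∈ nbrs D d₁ ∩ nbrs D d₂) : g * u * g⁻¹ ∈ nbrs D d₁ ∩ nbrs D d₂ := by
  have e1 := conj_eq_of_commute g₁
  have e2 := conj_eq_of_commute g₂
  refine ⟨⟨hD.2.1 g u hu.1.1, fun e => hu.1.2.1 ?_, e1 ▸ (commute_conj_iff g d₁ u).2 hu.1.2.2⟩,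
    hD.2.1 g u hu.1.1, fun e => hu.2.2.1 ?_, e2 ▸ (commute_conj_iff g d₂ u).2 hu.2.2.2⟩
  · exact mul_left_cancel (mul_right_cancel (e.trans e1.symm))
  · exact mul_left_cancel (mul_right_cancel (e.trans e2.symm))

/-- Only `⟨d₁, d₂⟩` fixes all the members commuting with `d₁` and `d₂`. -/
theorem pair_fix {x : G} (x₁ : Commute x d₁) (x₂ : Commute x d₂)
    (hx : ∀ u ∈ nbrs D d₁ ∩ nbrs D d₂, Commute x u) :
    x ∈ Subgroup.closure ({d₁, d₂} : Set G) := by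
  have hPre := pre_of_group hD
  have hxH : x ∈ Hd D d₁ := by
    rw [m22_gate hD hP h h₁]; exact Subgroup.mem_centralizer_singleton_iff.2 x₁.eq
  have v1 : d₁ ∈ Subgroup.closure ({d₁, d₂} : Set G) := Subgroup.subset_closure (by simp)
  have v2 : d₂ ∈ Subgroup.closure ({d₁, d₂} : Set G) := Subgroup.subset_closure (by simp)
  have hle : Subgroup.zpowers d₁ ≤ Subgroup.closure ({d₁, d₂} : Set G) := Subgroup.zpowers_le.2 v1
  rcases (m22_u6 hD h h₁).fixed (bar n₂) (QuotientGroup.mk ⟨x, hxH⟩) (bar_mem n₂) (fun q hq hqa => by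
      obtain ⟨w, hw, rfl⟩ := exists_bar hq
      rw [commute_bar hPre] at hqa
      have hc : Commute x w := by
        by_cases hw2 : w = d₂
        · exact hw2 ▸ x₂
        · exact hx w ⟨hw, hw.1, hw2, hqa.symm⟩
      show (QuotientGroup.mk _ : Qd D d₁) * QuotientGroup.mk _ =
        QuotientGroup.mk _ * QuotientGroup.mk _
      rw [← QuotientGroup.mk_mul, ← QuotientGroup.mk_mul]
      exact congrArg QuotientGroup.mk (Subtype.ext hc.eq)) with e | e
  · rw [QuotientGroup.eq_one_iff, m22_center_Hd hD hP h h₁, Subgroup.mem_subgroupOf] at e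
    exact hle e
  · have hz := QuotientGroup.eq.1 e
    rw [m22_center_Hd hD hP h h₁, Subgroup.mem_subgroupOf, Subgroup.coe_mul, Subgroup.coe_inv] at hz
    have h3 := mul_mem v2 (inv_mem (hle hz))
    simpa [mul_inv_rev] using h3

/-- The centraliser of `d₁` and `d₂` is transitive on their common neighbours. -/
theorem pair_trans {t u : G} (ht : t ∈ nbrs D d₁ ∩ nbrs D d₂) (hu : u ∈ nbrs D d₁ ∩ nbrs D d₂) :
    ∃ k : G, Commute k d₁ ∧ Commute k d₂ ∧ k * t * k⁻¹ = u := by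
  obtain ⟨k, hk, e1, e2⟩ := trans_pairs hD hP h h₁ n₂ ht.1 ht.2 n₂ hu.1 hu.2
  exact ⟨k, (commute_Hd hk).symm, commute_of_conj_eq e1, e2⟩

/-- Every common neighbour is the first member of a hexad. -/
theorem exists_hex {t : G} (ht : t ∈ nbrs D d₁ ∩ nbrs D d₂) :
    ∃ T : Fin 4 → G, Hex D d₁ d₂ T ∧ T 0 = t := by
  obtain ⟨t₁, t₂, t₃, hf, hne, hln, -⟩ := m22_hexad hD hP h h₁ n₂ ht.1 (Ne.symm ht.2.2.1) ht.2.2.2
  have hmem : ∀ u ∈ [t₁, t₂, t₃], u ∈ nbrs D d₁ ∩ nbrs D d₂ ∧ Commute t u := fun u hu =>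
    ⟨⟨⟨hf.2.2.1 u hu, (hne u hu).1, hln u hu d₁ h₁ (Commute.refl _) n₂.2.2 ht.1.2.2⟩,
      hf.2.2.1 u hu, (hne u hu).2.1, hln u hu d₂ n₂.1 n₂.2.2.symm (Commute.refl _) ht.2.2.2⟩,
      hln u hu t ht.1.1 ht.1.2.2.symm ht.2.2.2.symm (Commute.refl _)⟩
  obtain ⟨m1, c1⟩ := hmem t₁ (by simp)
  obtain ⟨m2, c2⟩ := hmem t₂ (by simp)
  obtain ⟨m3, c3⟩ := hmem t₃ (by simp)
  have c12 := hf.2.2.2.1 t₁ (by simp) t₂ (by simp)
  have c13 := hf.2.2.2.1 t₁ (by simp) t₃ (by simp)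
  have c23 := hf.2.2.2.1 t₂ (by simp) t₃ (by simp)
  refine ⟨![t, t₁, t₂, t₃], ⟨?_, ?_, ?_, ?_⟩, rfl⟩
  · rw [← List.nodup_ofFn]
    have : List.ofFn ![t, t₁, t₂, t₃] = [t, t₁, t₂, t₃] := by simp [List.ofFn_succ]
    rw [this, List.nodup_cons]
    exact ⟨fun hm => (hne t hm).2.2 rfl, hf.1⟩
  · intro i
    fin_cases i
    exacts [ht, m1, m2, m3]
  · intro i j
    fin_cases i <;> fin_cases j
    exacts [Commute.refl _, c1, c2, c3, c1.symm, Commute.refl _, c12, c13, c2.symm, c12.symm,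
      Commute.refl _, c23, c3.symm, c13.symm, c23.symm, Commute.refl _]
  · show t * t₁ * t₂ * t₃ = d₁ * d₂
    have hp := hf.2.2.2.2
    simp only [List.prod_cons, List.prod_nil, mul_one] at hp
    rw [mul_assoc t t₁, mul_assoc t, mul_assoc t₁, hp, ← mul_assoc,
      (ht.1.2.2.symm.mul_right ht.2.2.2.symm).eq, mul_assoc, Trans3.sq_one hD.1 ht.1.1, mul_one]

variable {T : Fin 4 → G} (hT : Hex D d₁ d₂ T)
include hT

omit [Finite G] hP h in
/-- The pairs of a hexad and their complements. -/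
theorem hex_compl {a b : Fin 4} (hab : a ≠ b) :
    ∃ c e, c ≠ e ∧ d₁ * d₂ * (T a * T b) = T c * T e := by
  obtain ⟨c, e, hce, hp⟩ := hex_perm_aux a b hab
  have h1 := (perm_prod (hp.map T) (by
    intro x hx y hy
    obtain ⟨i, -, rfl⟩ := List.mem_map.1 hx
    obtain ⟨j, -, rfl⟩ := List.mem_map.1 hy
    exact hT.comm i j)).symm
  simp only [List.map_cons, List.map_nil, List.prod_cons, List.prod_nil, mul_one, ← mul_assoc] at h1
  rw [hT.prod] at h1
  refine ⟨c, e, hce, ?_⟩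
  have k1 : Commute (T a * T b) (T c * T e) :=
    ((hT.comm a c).mul_right (hT.comm a e)).mul_left ((hT.comm b c).mul_right (hT.comm b e))
  have k2 : (T a * T b) * (T a * T b) = 1 := by
    rw [(hT.comm b a).mul_mul_mul_comm, Trans3.sq_one hD.1 (hT.mem a).1.1,
      Trans3.sq_one hD.1 (hT.mem b).1.1, one_mul]
  rw [h1, mul_assoc (T a * T b) (T c), k1.eq, mul_assoc, k2, mul_one]

omit hP in
/-- A hexad is a relation of six members. -/
theorem hex_fac : Fac D 3 (d₁ * d₂ * T 0) [T 1, T 2, T 3] := by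
  refine ⟨?_, rfl, ?_, ?_, ?_⟩
  · simp [hT.inj.eq_iff]
  · simp [(hT.mem 1).1.1, (hT.mem 2).1.1, (hT.mem 3).1.1]
  · simp [hT.comm]
  · simp only [List.prod_cons, List.prod_nil, mul_one, ← mul_assoc]
    rw [← hT.prod]
    have k : Commute (T 0 * T 1 * T 2 * T 3) (T 0) :=
      (((hT.comm 0 0).mul_left (hT.comm 1 0)).mul_left (hT.comm 2 0)).mul_left (hT.comm 3 0)
    rw [k.eq, ← mul_assoc, ← mul_assoc, ← mul_assoc, Trans3.sq_one hD.1 (hT.mem 0).1.1, one_mul]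

theorem hex_avoid : ∀ x ∈ [d₁, d₂, T 0], x ∉ [T 1, T 2, T 3] := by
  intro x hx hm
  simp only [List.mem_cons, List.not_mem_nil, or_false] at hx hm
  rcases hx with rfl | rfl | rfl
  · rcases hm with e | e | e <;> exact (hT.mem _).1.2.1 e.symm
  · rcases hm with e | e | e <;> exact (hT.mem _).2.2.1 e.symm
  · rcases hm with e | e | e <;> exact absurd (hT.inj e) (by decide)

/-- What commutes with `d₁`, `d₂` and one member of a hexad commutes with all. -/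
theorem hex_line {z : G} (hz : z ∈ D) (z₁ : Commute z d₁) (z₂ : Commute z d₂)
    (z₀ : Commute z (T 0)) : ∀ i, Commute z (T i) := by
  obtain ⟨t₁, t₂, t₃, -, -, hln, huniq⟩ :=
    m22_hexad hD hP h h₁ n₂ (hT.mem 0).1 (Ne.symm (hT.mem 0).2.2.1) (hT.mem 0).2.2.2
  have hs := huniq _ (hex_fac hD h h₁ n₂ hT) (hex_avoid hD hP h h₁ n₂ hT)
  intro i
  fin_cases i
  · exact z₀
  all_goals exact hln _ ((hs _).1 (by simp)) z hz z₁ z₂ z₀

/-- An element of the joint centraliser fixing one member of a hexad and moving the other three. -/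
theorem hex_move : ∃ g : G, Commute g d₁ ∧ Commute g d₂ ∧ ∃ σ : Equiv.Perm (Fin 4),
    (∀ m, g * T m * g⁻¹ = T (σ m)) ∧ σ 0 = 0 ∧ ∀ j, j ≠ 0 → σ j ≠ j := by
  classical
  have hN := nice_m22 hD h
  have hPre := pre_of_group hD
  have hU := m22_isU6 hD h h₁
  have n0 := (hT.mem 0).1
  obtain ⟨q, q1, q2, q3⟩ := u6_line_move hU (hN.group_Db h₁) (bar_mem n₂) (bar_mem n0)
    ((commute_bar hPre n₂ n0).2 (hT.mem 0).2.2.2)
    (fun e => (hT.mem 0).2.2.1 (hN.bar_inj h₁ n₂ n0 e).symm)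
  obtain ⟨g, rfl⟩ := QuotientGroup.mk_surjective q
  have g1 : Commute (g : G) d₁ := (commute_Hd g.2).symm
  have g2 : Commute (g : G) d₂ :=
    commute_of_conj_eq (conj_bar hD hP h h₁ g n₂ n₂ (conj_eq_of_commute q1))
  have g0 : (g : G) * T 0 * (g : G)⁻¹ = T 0 := conj_bar hD hP h h₁ g n0 n0 (conj_eq_of_commute q2)
  obtain ⟨t₁, t₂, t₃, -, -, -, huniq⟩ :=
    m22_hexad hD hP h h₁ n₂ n0 (Ne.symm (hT.mem 0).2.2.1) (hT.mem 0).2.2.2
  have hf := hex_fac hD h h₁ n₂ hT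
  have hs := huniq _ hf (hex_avoid hD hP h h₁ n₂ hT)
  have ef : ∀ x, (x = d₁ ∨ x = d₂ ∨ x = T 0) → MulAut.conj (g : G) x = x := by
    rintro x (rfl | rfl | rfl)
    exacts [conj_eq_of_commute g1, conj_eq_of_commute g2, g0]
  have himg : Fac D 3 (d₁ * d₂ * T 0) ([T 1, T 2, T 3].map (MulAut.conj (g : G))) := by
    refine ⟨hf.1.map (MulAut.conj (g : G)).injective, by simp, ?_, ?_, ?_⟩
    · intro x hx
      obtain ⟨u, hu, rfl⟩ := List.mem_map.1 hx
      exact hD.2.1 _ u (hf.2.2.1 u hu)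
    · intro x hx y hy
      obtain ⟨u, hu, rfl⟩ := List.mem_map.1 hx
      obtain ⟨v, hv, rfl⟩ := List.mem_map.1 hy
      exact (hf.2.2.2.1 u hu v hv).map (MulAut.conj (g : G)).toMonoidHom
    · rw [← map_list_prod, hf.2.2.2.2, map_mul, map_mul, ef _ (Or.inl rfl),
        ef _ (Or.inr (Or.inl rfl)), ef _ (Or.inr (Or.inr rfl))]
  have hav : ∀ x ∈ [d₁, d₂, T 0], x ∉ [T 1, T 2, T 3].map (MulAut.conj (g : G)) := by
    intro x hx hm
    obtain ⟨u, hu, hux⟩ := List.mem_map.1 hm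
    have hfix := ef x (by simpa using hx)
    have : u = x := (MulAut.conj (g : G)).injective (hux.trans hfix.symm)
    subst this
    exact hex_avoid hD hP h h₁ n₂ hT u hx hu
  have himg' := huniq _ himg hav
  have hex' : ∀ m, ∃ k, T k = (g : G) * T m * (g : G)⁻¹ := by
    intro m
    by_cases hm : m = 0
    · exact ⟨0, by rw [hm, g0]⟩
    · have h2 : (g : G) * T m * (g : G)⁻¹ ∈ [T 1, T 2, T 3] :=
        (hs _).2 ((himg' _).1 (List.mem_map.2 ⟨T m, by fin_cases m <;> simp_all, rfl⟩))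
      simp only [List.mem_cons, List.not_mem_nil, or_false] at h2
      rcases h2 with e | e | e <;> exact ⟨_, e.symm⟩
  choose σ hσ using hex'
  have σinj : Function.Injective σ := fun a b e => hT.inj (by
    have := congrArg T e
    rw [hσ, hσ] at this
    exact mul_left_cancel (mul_right_cancel this))
  refine ⟨g, g1, g2, Equiv.ofBijective σ (Finite.injective_iff_bijective.1 σinj),
    fun m => (hσ m).symm, hT.inj ((hσ 0).trans g0), fun j hj hjj => ?_⟩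
  have nj := (hT.mem j).1
  refine q3 (bar nj) (bar_mem nj) (fun e => (hT.mem j).2.2.1 (hN.bar_inj h₁ nj n₂ e))
    (fun e => hj (hT.inj (hN.bar_inj h₁ nj n0 e))) ?_ ?_
  · intro z hz z1 z2
    obtain ⟨w, hw, rfl⟩ := exists_bar hz
    rw [commute_bar hPre] at z1 z2 ⊢
    exact hex_line hD hP h h₁ n₂ hT hw.1 hw.2.2.symm z1 z2 j
  · show (QuotientGroup.mk _ : Qd D d₁) * QuotientGroup.mk _ = _
    rw [← QuotientGroup.mk_mul, ← QuotientGroup.mk_mul]
    exact congrArg QuotientGroup.mk (Subtype.ext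
      (commute_of_conj_eq (g := (g : G)) (by rw [← hσ j]; exact congrArg T hjj)).eq)

/-- A hexad is a maximal line. -/
theorem hex_max {s : G} (hs : s ∈ nbrs D d₁ ∩ nbrs D d₂) (hs0 : Commute s (T 0))
    (hline : ∀ z ∈ nbrs D d₁ ∩ nbrs D d₂, Commute z (T 0) → Commute z s) :
    ∃ i, T i = s := by
  classical
  have hN := nice_m22 hD h
  have hPre := pre_of_group hD
  have hU := m22_isU6 hD h h₁
  by_contra hno
  obtain ⟨P, eP⟩ : ∃ P : List {v // v ∈ nbrs D d₁}, P = [⟨d₂, n₂⟩, ⟨T 0, (hT.mem 0).1⟩,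
      ⟨T 1, (hT.mem 1).1⟩, ⟨T 2, (hT.mem 2).1⟩, ⟨T 3, (hT.mem 3).1⟩] := ⟨_, rfl⟩
  have hPb : P.map (fun v => bar v.2) = [bar n₂, bar (hT.mem 0).1, bar (hT.mem 1).1,
      bar (hT.mem 2).1, bar (hT.mem 3).1] := by rw [eP]; rfl
  have hPv : P.map Subtype.val = [d₂, T 0, T 1, T 2, T 3] := by rw [eP]; rfl
  have hPnd : P.Nodup := List.Nodup.of_map Subtype.val (by
    rw [hPv, List.nodup_cons]
    refine ⟨?_, by simp [hT.inj.eq_iff]⟩
    simp only [List.mem_cons, List.not_mem_nil, or_false]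
    rintro (e | e | e | e) <;> exact (hT.mem _).2.2.1 e.symm)
  have hco : ∀ u ∈ [d₂, T 0, T 1, T 2, T 3], ∀ v ∈ [d₂, T 0, T 1, T 2, T 3], Commute u v := by
    simp only [List.forall_mem_cons, List.not_mem_nil, IsEmpty.forall_iff, implies_true, and_true]
    simp [hT.comm, (hT.mem 0).2.2.2, (hT.mem 1).2.2.2, (hT.mem 2).2.2.2, (hT.mem 3).2.2.2,
      (hT.mem 0).2.2.2.symm, (hT.mem 1).2.2.2.symm, (hT.mem 2).2.2.2.symm, (hT.mem 3).2.2.2.symm]
  obtain ⟨z, hz, za, zq, zy⟩ := u6_line_max hU (hN.group_Db h₁) (a := bar n₂)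
    (g := bar (hT.mem 0).1) (t₁ := bar (hT.mem 1).1) (t₂ := bar (hT.mem 2).1)
    (t₃ := bar (hT.mem 3).1) (x := bar hs.1)
    (hPb ▸ hPnd.map fun a b e => Subtype.ext (hN.bar_inj h₁ a.2 b.2 e))
    (hPb ▸ fun q hq => by
      obtain ⟨v, -, rfl⟩ := List.mem_map.1 hq
      exact bar_mem v.2)
    (hPb ▸ fun q hq q' hq' => by
      obtain ⟨v, hv, rfl⟩ := List.mem_map.1 hq
      obtain ⟨w, hw, rfl⟩ := List.mem_map.1 hq'
      exact (commute_bar hPre v.2 w.2).2 (hco _ (hPv ▸ List.mem_map_of_mem hv) _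
        (hPv ▸ List.mem_map_of_mem hw)))
    (by
      let u : ↥(Hd D d₁) := ⟨d₂, Subgroup.subset_closure n₂⟩ *
        (⟨T 0, Subgroup.subset_closure (hT.mem 0).1⟩ * (⟨T 1, Subgroup.subset_closure (hT.mem 1).1⟩ *
        (⟨T 2, Subgroup.subset_closure (hT.mem 2).1⟩ * ⟨T 3, Subgroup.subset_closure (hT.mem 3).1⟩)))
      have hu : (u : G) = d₁ := by
        simp only [u, Subgroup.coe_mul]
        rw [← mul_assoc (T 1), ← mul_assoc (T 0), ← mul_assoc (T 0), hT.prod, ← mul_assoc,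
          n₂.2.2.symm.eq, mul_assoc, Trans3.sq_one hD.1 n₂.1, mul_one]
      have : (QuotientGroup.mk u : Qd D d₁) = 1 := (QuotientGroup.eq_one_iff u).2 (by
        rw [m22_center_Hd hD hP h h₁, Subgroup.mem_subgroupOf, hu]
        exact Subgroup.mem_zpowers d₁)
      simp only [List.prod_cons, List.prod_nil, mul_one]
      exact this)
    (bar_mem hs.1) ((commute_bar hPre hs.1 n₂).2 hs.2.2.2.symm)
    ((commute_bar hPre hs.1 (hT.mem 0).1).2 hs0)
    (hPb ▸ fun hm => by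
      obtain ⟨v, hv, e⟩ := List.mem_map.1 hm
      have e' : (v : G) = s := hN.bar_inj h₁ v.2 hs.1 e
      have hvm : (v : G) ∈ [d₂, T 0, T 1, T 2, T 3] := hPv ▸ List.mem_map_of_mem hv
      rw [e'] at hvm
      simp only [List.mem_cons, List.not_mem_nil, or_false] at hvm
      rcases hvm with e | e | e | e | e
      · exact hs.2.2.1 e
      all_goals exact hno ⟨_, e.symm⟩)
  obtain ⟨w, hw, rfl⟩ := exists_bar hz
  rw [commute_bar hPre] at za zq zy
  by_cases hw2 : w = d₂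
  · exact zy (hw2 ▸ hs.2.2.2)
  · exact zy (hline w ⟨hw, hw.1, hw2, za.symm⟩ zq)

end CfsgLib.Trans3.Fi
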