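import Cfsg.Agent.Lib.Trans3.Fi.TwoPairAut
import Cfsg.Agent.Lib.KnownA.FischerOut.T22Pair

/-!
The centraliser of the product of two commuting transpositions in the automorphism group of a group
of type M(22) isomorphic, as a 3-transposition group, to the presented Fi22.
-/

set_option autoImplicit false
set_option maxRecDepth 100000

namespace CfsgLib.Trans3.Fi

open Cfsg.Spor CfsgLib.InvChar CfsgLib.KnownA.FischerOut

theorem model_pairTau : ∃ τ : MulAut Fi22, PairTau (conjugatesOf (SporFi22.gen 0 : Fi22))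
    (SporFi22.gen 3 : Fi22) (SporFi22.gen 8) τ := by
  obtain ⟨τ, hτ⟩ := T22.exists_tau
  exact ⟨τ, {
    maps := fun d hd => T22Pair.automorphism_conj hτ hd
    fix₁ := T22Pair.tau_zero hτ 3 (by omega) (by omega)
    fix₂ := T22Pair.tau_zero hτ 8 (by omega) (by omega)
    dec := T22Pair.decompose hτ
    outer := T22.tau_outer τ hτ
    moves := fun E hn hE hf k k₁ k₂ => T22Pair.moves hτ E hn hE hf k₁ k₂ }⟩

variable {G : Type*} [Group G] [Finite G] {D : Set G}

/-- The outer automorphism over any pair, given the identification with the presented group. -/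
theorem pairTau_of_model (hD : Cfsg.IsThreeTranspositionGroup D) (hP : Cfsg.IsPrimitiveUnderConj D)
    (h : Cfsg.IsOfTypeM22 G D) {d₁ d₂ : G} (h₁ : d₁ ∈ D) (n₂ : d₂ ∈ nbrs D d₁) (e : Fi22 ≃* G)
    (he : e '' conjugatesOf (SporFi22.gen 0 : Fi22) = D) : ∃ τ : MulAut G, PairTau D d₁ d₂ τ := by
  obtain ⟨τ, hτ⟩ := model_pairTau
  have h' := hτ.congr e
  rw [he] at h'
  obtain ⟨a, b, hne, hc⟩ := T22Pair.pair_facts
  exact pairTau_move hD hP h h₁ n₂ h' (he ▸ ⟨_, a, rfl⟩)
    ⟨he ▸ ⟨_, b, rfl⟩, fun e' => hne (e.injective e'), hc.map e.toMonoidHom⟩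

end CfsgLib.Trans3.Fi
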