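import Cfsg.Prelude.Def_MonsterType
import Cfsg.Agent.Lib.Trans3.Fi.TwoPairFit
import Cfsg.Agent.Lib.Trans3.Fi.TwoPairSig
import Cfsg.Agent.Lib.Trans3.Fi.TwoPairPerm
import Cfsg.Agent.Lib.PLocal.LargeExtraCriterion

/-!
A group of type M(22) with an outer automorphism `τ` fixing two commuting members and odd on the
hexads through them: the centraliser of the product of the two in the automorphism group.
-/

set_option autoImplicit false
set_option linter.unusedSectionVars false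
set_option linter.style.haveILetI false

namespace CfsgLib.Trans3.Fi

open TwoPairOuter

/-- An outer automorphism fixing a pair and nontrivial on its joint centraliser modulo the radical,
whatever inner automorphism of that centraliser is added. -/
structure PairTau {G : Type*} [Group G] (D : Set G) (d₁ d₂ : G) (τ : MulAut G) : Prop where
  maps : ∀ d ∈ D, τ d ∈ D
  fix₁ : τ d₁ = d₁
  fix₂ : τ d₂ = d₂
  dec : ∀ φ : MulAut G, ∃ g, φ = MulAut.conj g ∨ φ = MulAut.conj g * τ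
  outer : ∀ g, τ ≠ MulAut.conj g
  moves : ∀ E : Subgroup G, (∀ g, Commute g d₁ → Commute g d₂ → ∀ x ∈ E, g * x * g⁻¹ ∈ E) →
    IsPGroup 2 E → (∀ f : ↥(Subgroup.centralizer ({d₁, d₂} : Set G)) →* ℤˣ,
      (∀ x : ↥(Subgroup.centralizer ({d₁, d₂} : Set G)), (x : G) ∈ E → f x = 1) → ∀ x, f x = 1) →
    ∀ k, Commute k d₁ → Commute k d₂ →
      ∃ x, Commute x d₁ ∧ Commute x d₂ ∧ k * τ x * k⁻¹ * x⁻¹ ∉ E

section transport

variable {G H : Type*} [Group G] [Group H]

theorem congr_mulAut_apply (e : G ≃* H) (τ : MulAut G) (x : H) :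
    MulAut.congr e τ x = e (τ (e.symm x)) := rfl

theorem PairTau.congr {D : Set G} {d₁ d₂ : G} {τ : MulAut G} (hτ : PairTau D d₁ d₂ τ) (e : G ≃* H) :
    PairTau (e '' D) (e d₁) (e d₂) (MulAut.congr e τ) where
  maps := by
    rintro _ ⟨d, hd, rfl⟩
    exact ⟨τ d, hτ.maps d hd, by rw [congr_mulAut_apply, e.symm_apply_apply]⟩
  fix₁ := by rw [congr_mulAut_apply, e.symm_apply_apply, hτ.fix₁]
  fix₂ := by rw [congr_mulAut_apply, e.symm_apply_apply, hτ.fix₂]
  dec φ := by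
    obtain ⟨φ', rfl⟩ := (MulAut.congr e).surjective φ
    have hconj : ∀ g, MulAut.congr e (MulAut.conj g) = MulAut.conj (e g) := fun g =>
      MulEquiv.ext fun x => by simp [congr_mulAut_apply, MulAut.conj_apply]
    obtain ⟨g, rfl | rfl⟩ := hτ.dec φ'
    · exact ⟨e g, Or.inl (hconj g)⟩
    · exact ⟨e g, Or.inr (by rw [map_mul, hconj])⟩
  outer g h := hτ.outer (e.symm g) ((MulAut.congr e).injective (h.trans (MulEquiv.ext fun x => by
    simp [congr_mulAut_apply, MulAut.conj_apply])))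
  moves E hn hE hf k k₁ k₂ := by
    have cback : ∀ {a : H} {b : G}, Commute a (e b) → Commute (e.symm a) b := fun {a b} h => by
      simpa using h.map e.symm.toMonoidHom
    obtain ⟨x, x₁, x₂, hx⟩ := hτ.moves (E.comap e.toMonoidHom) (fun g g₁ g₂ x hx => by
        show e (g * x * g⁻¹) ∈ E
        rw [map_mul, map_mul, map_inv]
        exact hn _ (g₁.map e.toMonoidHom) (g₂.map e.toMonoidHom) _ hx)
      (hE.comap_of_injective _ e.injective) (fun f hf' x => by
        have hmem : ∀ y : ↥(Subgroup.centralizer ({e d₁, e d₂} : Set H)),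
            e.symm (y : H) ∈ Subgroup.centralizer ({d₁, d₂} : Set G) := fun y => by
          have := y.2
          rw [Subgroup.mem_centralizer_iff] at this ⊢
          intro g hg
          have hg' : e g ∈ ({e d₁, e d₂} : Set H) := by
            rcases hg with rfl | rfl <;> simp
          exact e.injective (by rw [map_mul, map_mul, e.apply_symm_apply]; exact this _ hg')
        have hmem' : e (x : G) ∈ Subgroup.centralizer ({e d₁, e d₂} : Set H) := by
          have := x.2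
          rw [Subgroup.mem_centralizer_iff] at this ⊢
          rintro g (rfl | rfl)
          · rw [← map_mul, this d₁ (by simp), map_mul]
          · rw [← map_mul, this d₂ (by simp), map_mul]
        let r : ↥(Subgroup.centralizer ({e d₁, e d₂} : Set H)) →*
            ↥(Subgroup.centralizer ({d₁, d₂} : Set G)) :=
          (e.symm.toMonoidHom.comp (Subgroup.subtype _)).codRestrict _ hmem
        have h1 := hf (f.comp r) (fun y hy => hf' (r y) (by
          show e (e.symm (y : H)) ∈ E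
          rw [e.apply_symm_apply]; exact hy)) ⟨_, hmem'⟩
        rw [MonoidHom.comp_apply] at h1
        rw [← h1]
        exact congrArg f (Subtype.ext (e.symm_apply_apply _).symm))
      (e.symm k) (cback k₁) (cback k₂)
    refine ⟨e x, x₁.map e.toMonoidHom, x₂.map e.toMonoidHom, fun h => hx ?_⟩
    show e (e.symm k * τ x * (e.symm k)⁻¹ * x⁻¹) ∈ E
    simpa [congr_mulAut_apply, map_mul, map_inv] using h

end transport

variable {G : Type*} [Group G] [Finite G] {D : Set G}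
variable (hD : Cfsg.IsThreeTranspositionGroup D) (hP : Cfsg.IsPrimitiveUnderConj D)
variable (h : Cfsg.IsOfTypeM22 G D)
variable {d₁ d₂ : G} (h₁ : d₁ ∈ D) (n₂ : d₂ ∈ nbrs D d₁)
include hD hP h h₁ n₂

/-- The joint centraliser modulo `E` has no subgroup of index two. -/
theorem pair_perfect {E K C : Subgroup G} (hK : ∀ x, x ∈ K ↔ Commute x d₁ ∧ Commute x d₂)
    (hC : ∀ x, x ∈ C ↔ Commute x (d₁ * d₂)) (hEK : E ≤ K) {F : Type} [Field F] [Fintype F]
    (hF : Fintype.card F = 4) [(E.subgroupOf C).Normal]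
    (φ : ↥C ⧸ E.subgroupOf C ≃* MulAut (Cfsg.PSU 4 F 2)) (f : ↥K →* ℤˣ)
    (hf : ∀ x : ↥K, (x : G) ∈ E → f x = 1) : ∀ x, f x = 1 := by
  have hF2 : Fintype.card F = 2 ^ 2 := hF
  have hzsu := center_su_four hF2
  haveI : IsSimpleGroup (Cfsg.PSU 4 F 2) :=
    CfsgLib.Classical.isSimpleGroup_psu hF2 (n := 4) (by norm_num) (by norm_num)
  have hzp : Subgroup.center (Cfsg.PSU 4 F 2) = ⊥ := center_congr
    ((QuotientGroup.quotientMulEquivOfEq hzsu).trans QuotientGroup.quotientBot).symm hzsu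
  have hpsu : Nat.card (Cfsg.PSU 4 F 2) = 25920 := by
    rw [← card_su_four hF2]
    exact Nat.card_congr
      ((QuotientGroup.quotientMulEquivOfEq hzsu).trans QuotientGroup.quotientBot).toEquiv
  obtain ⟨hle, hidx⟩ := m22_pair_index hD hP h h₁ n₂ hK hC
  obtain ⟨N, eN⟩ : ∃ N : Subgroup G, N = f.ker.map K.subtype := ⟨_, rfl⟩
  have hNK : N ≤ K := eN ▸ Subgroup.map_subtype_le _
  have hEN : E ≤ N := fun x hx => eN ▸ ⟨⟨x, hEK hx⟩, hf _ hx, rfl⟩
  have hrel : N.relIndex K = f.ker.index := by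
    rw [eN, Subgroup.relIndex, Subgroup.subgroupOf,
      Subgroup.comap_map_eq_self_of_injective K.subtype_injective]
  have hker : f.ker.index ≤ 2 := by
    rw [Subgroup.index_ker]
    refine le_trans (Nat.card_le_card_of_injective _ Subtype.val_injective) ?_
    rw [Nat.card_eq_fintype_card, Fintype.card_units_int]
  have hker0 : f.ker.index ≠ 0 := Subgroup.index_ne_zero_of_finite
  have hmul : N.relIndex K * 2 = N.relIndex C := by
    rw [← hidx, ← Subgroup.relIndex_mul_relIndex N K C hNK hle]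
    rfl
  obtain ⟨π, eπ⟩ : ∃ π : ↥C →* MulAut (Cfsg.PSU 4 F 2),
      π = φ.toMonoidHom.comp (QuotientGroup.mk' _) := ⟨_, rfl⟩
  have hπ : Function.Surjective π := eπ ▸ φ.surjective.comp (QuotientGroup.mk'_surjective _)
  have hπk : π.ker = E.subgroupOf C := by
    rw [eπ, ← MonoidHom.comap_ker, (MonoidHom.ker_eq_bot_iff _).2 φ.injective]
    exact QuotientGroup.ker_mk' _
  obtain ⟨L, eL⟩ : ∃ L : Subgroup (MulAut (Cfsg.PSU 4 F 2)), L = (N.subgroupOf C).map π := ⟨_, rfl⟩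
  have hL : L.index = N.relIndex C := by
    rw [eL, Subgroup.index_map_eq _ hπ (by rw [hπk]; exact Subgroup.comap_mono hEN)]
    rfl
  have hI := inn_le_of_index hzp (by rw [hpsu]; norm_num) L (by omega) (by omega)
  have hIc : Nat.card ↥(MulAut.conj : Cfsg.PSU 4 F 2 →* MulAut (Cfsg.PSU 4 F 2)).range = 25920 := by
    rw [← hpsu]
    exact (Nat.card_congr (MonoidHom.ofInjective (conj_injective_of_center hzp)).toEquiv).symm
  have h1 := Subgroup.index_dvd_of_le hI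
  have h2 := Subgroup.card_mul_index (MulAut.conj : Cfsg.PSU 4 F 2 →* MulAut (Cfsg.PSU 4 F 2)).range
  rw [hIc, card_aut_psu_four hF] at h2
  have h3 : L.index ≤ 2 := Nat.le_of_dvd (by omega) (by
    rwa [show (MulAut.conj : Cfsg.PSU 4 F 2 →* MulAut (Cfsg.PSU 4 F 2)).range.index = 2 by omega] at h1)
  have h4 : f.ker = ⊤ := Subgroup.index_eq_one.1 (by omega)
  intro x
  exact MonoidHom.mem_ker.1 (h4 ▸ Subgroup.mem_top x)

variable {E : Subgroup G} (hE : PairE d₁ d₂ E)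
include hE

/-- An automorphism fixing `E` pointwise modulo `⟨d₁ * d₂⟩` on members of hexads. -/
theorem outer_hex {σ : MulAut G} (hσD : ∀ d ∈ D, σ d ∈ D) (s₁ : σ d₁ = d₂) (s₂ : σ d₂ = d₁)
    (hσC : ∀ x, Commute x (d₁ * d₂) → σ x * x⁻¹ ∈ E) (hσσ : ∃ e ∈ E, σ * σ = MulAut.conj e)
    {T : Fin 4 → G} (hT : Hex D d₁ d₂ T) {a b : Fin 4} (hab : a ≠ b) :
    σ (T a * T b) * (T a * T b)⁻¹ = 1 ∨ σ (T a * T b) * (T a * T b)⁻¹ = d₁ * d₂ := by
  have hE2 : IsPGroup 2 E := isPGroup_two_of_card hE.card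
  have hmemC : ∀ t ∈ nbrs D d₁ ∩ nbrs D d₂, Commute t (d₁ * d₂) := fun t ht =>
    ht.1.2.2.symm.mul_right ht.2.2.2.symm
  have himg : ∀ t ∈ nbrs D d₁ ∩ nbrs D d₂, σ t ∈ nbrs D d₁ ∩ nbrs D d₂ := fun t ht =>
    ⟨⟨hσD t ht.1.1, fun e => ht.2.2.1 (σ.injective (e.trans s₂.symm)),
      s₂ ▸ ht.2.2.2.map σ.toMonoidHom⟩,
     hσD t ht.1.1, fun e => ht.1.2.1 (σ.injective (e.trans s₁.symm)),
      s₁ ▸ ht.1.2.2.map σ.toMonoidHom⟩
  -- the permutation of the hexad
  have hπ' : ∀ m, ∃ i, σ (T m) = T i := by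
    intro m
    have hs := himg _ (hT.mem m)
    have h0 : σ (T m) * T 0 ∈ E := by
      have e1 := hσC _ (hmemC _ (hT.mem m))
      rw [Trans3.inv_eq hD.1 (hT.mem m).1.1] at e1
      have := mul_mem e1 (pairE_mem hD hP h h₁ n₂ hE hT m 0)
      rwa [mul_assoc, ← mul_assoc (T m), Trans3.sq_one hD.1 (hT.mem m).1.1, one_mul] at this
    have hline : ∀ z ∈ nbrs D d₁ ∩ nbrs D d₂, Commute z (T 0) → Commute z (σ (T m)) := fun z hz hz0 =>
      commute_of_mul_mem hD.1 hE2 hs.1.1 (hT.mem 0).1.1 hz.1.1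
        (hE.norm z hz.1.2.2.symm hz.2.2.2.symm) h0 hz0
    obtain ⟨i, hi⟩ := hex_max hD hP h h₁ n₂ hT hs (hline _ (hT.mem 0) (Commute.refl _)).symm hline
    exact ⟨i, hi.symm⟩
  choose π₀ hπ₀ using hπ'
  have π₀i : Function.Injective π₀ := fun u v e => hT.inj (σ.injective (by rw [hπ₀, hπ₀, e]))
  obtain ⟨π, hπ⟩ : ∃ π : Equiv.Perm (Fin 4), ∀ m, σ (T m) = T (π m) :=
    ⟨Equiv.ofBijective π₀ (Finite.injective_iff_bijective.1 π₀i), hπ₀⟩
  -- elements of `E` act as the regular four-group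
  have heps : ∀ e ∈ E, ∃ ε : Equiv.Perm (Fin 4), InV4 ε ∧ ∀ m, e * T m * e⁻¹ = T (ε m) := by
    intro e he
    have hx := fun m => pairE_hex hD hP h h₁ n₂ hE hT he m
    choose ε₀ hε₀ using hx
    have εi : Function.Injective ε₀ := fun u v huv => hT.inj (by
      have := hε₀ u
      rw [huv, ← hε₀ v] at this
      exact mul_left_cancel (mul_right_cancel this))
    obtain ⟨ε, hε⟩ : ∃ ε : Equiv.Perm (Fin 4), ∀ m, e * T m * e⁻¹ = T (ε m) :=
      ⟨Equiv.ofBijective ε₀ (Finite.injective_iff_bijective.1 εi), hε₀⟩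
    have hV : ∀ v ∈ Subgroup.closure ({d₁, d₂} : Set G), ∀ m, v * T m * v⁻¹ = T m := by
      intro v hv m
      refine conj_eq_of_commute ?_
      rcases v_cases hD h₁ n₂ hv with rfl | rfl | rfl | rfl
      · exact Commute.one_left _
      · exact (hT.mem m).1.2.2
      · exact (hT.mem m).2.2.2
      · exact (hT.mem m).1.2.2.mul_left (hT.mem m).2.2.2
    refine ⟨ε, ⟨Equiv.ext fun m => hT.inj ?_, ?_⟩, hε⟩
    · rw [Equiv.Perm.mul_apply, Equiv.Perm.one_apply, ← hε, ← hε,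
        show e * (e * T m * e⁻¹) * e⁻¹ = e ^ 2 * T m * (e ^ 2)⁻¹ by rw [pow_two]; group]
      exact hV _ (hE.comm e he e he).2 m
    · by_cases hfix : ∀ j, ε j ≠ j
      · exact Or.inr hfix
      push Not at hfix
      obtain ⟨j, hj⟩ := hfix
      refine Or.inl (Equiv.ext fun m => hT.inj ?_)
      obtain ⟨y, hy, ey⟩ : ∃ y ∈ E, y * T j * y⁻¹ = T m := by
        obtain ⟨u, hu, eu⟩ := pairE_trans hD hP h h₁ n₂ hE hT j
        obtain ⟨w, hw, ew⟩ := pairE_trans hD hP h h₁ n₂ hE hT m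
        exact ⟨w * u⁻¹, mul_mem hw (inv_mem hu), by rw [← eu, ← ew]; group⟩
      rw [← hε, ← ey, Equiv.Perm.one_apply,
        show e * (y * T j * y⁻¹) * e⁻¹ =
          (e * y * e⁻¹ * y⁻¹) * (y * (e * T j * e⁻¹) * y⁻¹) * (e * y * e⁻¹ * y⁻¹)⁻¹ by group,
        hε, hj, ey, hV _ (hE.comm e he y hy).1]
  -- the permutation lies in the four-group
  obtain ⟨g, g₁, g₂, γ, hγ, γ0, γmove⟩ := hex_move hD hP h h₁ n₂ hT
  have hgC : Commute g (d₁ * d₂) := g₁.mul_right g₂
  obtain ⟨ε, hεV, hε⟩ := heps _ (hσC g hgC)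
  have e1 : π * γ * π⁻¹ * γ⁻¹ = ε := by
    have : π * γ = ε * (γ * π) := Equiv.ext fun m => hT.inj (by
      simp only [Equiv.Perm.mul_apply]
      rw [← hπ, ← hγ, map_mul, map_mul, map_inv, hπ, ← hε, ← hγ]
      group)
    rw [this]; group
  obtain ⟨e', he', hσ2⟩ := hσσ
  obtain ⟨ε', hε'V, hε'⟩ := heps e' he'
  have e2 : π * π = ε' := Equiv.ext fun m => hT.inj (by
    rw [Equiv.Perm.mul_apply, ← hπ, ← hπ, ← MulAut.mul_apply, hσ2, MulAut.conj_apply, hε'])
  have hπV : InV4 π := inV4_key π γ γ0 γmove (e1.symm ▸ hεV) (e2.symm ▸ hε'V)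
  rw [map_mul, hπ, hπ]
  rcases inV4_pair π hπV a b hab with ⟨u, v⟩ | ⟨u, v⟩ | hp
  · left; rw [u, v, mul_inv_cancel]
  · left; rw [u, v, (hT.comm b a).eq, mul_inv_cancel]
  · right
    have h1 := (perm_prod (hp.map T) (by
      intro x hx y hy
      obtain ⟨i, -, rfl⟩ := List.mem_map.1 hx
      obtain ⟨j, -, rfl⟩ := List.mem_map.1 hy
      exact hT.comm i j)).symm
    simp only [List.map_cons, List.map_nil, List.prod_cons, List.prod_nil, mul_one, ← mul_assoc] at h1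
    rw [hT.prod] at h1
    rw [mul_inv_rev, Trans3.inv_eq hD.1 (hT.mem a).1.1, Trans3.inv_eq hD.1 (hT.mem b).1.1, ← mul_assoc]
    exact h1.symm

/-- An automorphism trivial on the centraliser modulo `E` that swaps `d₁`, `d₂` fixes `E` modulo
`⟨d₁ * d₂⟩`. -/
theorem outer_E {σ : MulAut G} (hσD : ∀ d ∈ D, σ d ∈ D) (s₁ : σ d₁ = d₂) (s₂ : σ d₂ = d₁)
    (hσC : ∀ x, Commute x (d₁ * d₂) → σ x * x⁻¹ ∈ E) (hσσ : ∃ e ∈ E, σ * σ = MulAut.conj e)
    {x : G} (hx : x ∈ E) : σ x = x ∨ σ x = d₁ * d₂ * x := by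
  have jj : d₁ * d₂ * (d₁ * d₂) = 1 := by
    rw [n₂.2.2.symm.mul_mul_mul_comm, Trans3.sq_one hD.1 h₁, Trans3.sq_one hD.1 n₂.1, one_mul]
  have hcen : ∀ g ∈ E, Commute g (d₁ * d₂) := fun g hg => (hE.fix g hg).1.mul_right (hE.fix g hg).2
  obtain ⟨S, eS⟩ : ∃ S : Subgroup G, ∀ y, y ∈ S ↔ y ∈ E ∧ (σ y = y ∨ σ y = d₁ * d₂ * y) := by
    refine ⟨{
      carrier := {y | y ∈ E ∧ (σ y = y ∨ σ y = d₁ * d₂ * y)}
      one_mem' := ⟨one_mem _, Or.inl (map_one σ)⟩
      mul_mem' := fun {a b} ha hb => ⟨mul_mem ha.1 hb.1, by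
        rw [map_mul]
        rcases ha.2 with e | e <;> rcases hb.2 with e' | e' <;> rw [e, e']
        · exact Or.inl rfl
        · exact Or.inr (by rw [← mul_assoc a, (hcen a ha.1).eq, mul_assoc])
        · exact Or.inr (mul_assoc _ _ _)
        · refine Or.inl ?_
          rw [show d₁ * d₂ * a * (d₁ * d₂ * b) = d₁ * d₂ * (a * (d₁ * d₂)) * b by group,
            (hcen a ha.1).eq, ← mul_assoc (d₁ * d₂), jj, one_mul]⟩
      inv_mem' := fun {a} ha => ⟨inv_mem ha.1, by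
        rw [map_inv]
        rcases ha.2 with e | e <;> rw [e]
        · exact Or.inl rfl
        · refine Or.inr ?_
          rw [mul_inv_rev, inv_eq_of_mul_eq_one_right jj, ((hcen a ha.1).inv_left).eq]⟩ }, fun y => Iff.rfl⟩
  have c21 : d₂ = d₁ * d₂ * d₁ := by
    rw [mul_assoc, n₂.2.2.symm.eq, ← mul_assoc, Trans3.sq_one hD.1 h₁, one_mul]
  have c12 : d₁ = d₁ * d₂ * d₂ := by rw [mul_assoc, Trans3.sq_one hD.1 n₂.1, mul_one]
  have hfull := pairE_full hD hP h h₁ n₂ hE S (fun z hz => ((eS z).1 hz).1)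
    ((eS _).2 ⟨hE.le (Subgroup.subset_closure (by simp)), Or.inr (s₁.trans c21)⟩)
    ((eS _).2 ⟨hE.le (Subgroup.subset_closure (by simp)), Or.inr (s₂.trans c12)⟩)
    (fun T hT a b hab => (eS _).2 ⟨pairE_mem hD hP h h₁ n₂ hE hT a b, by
      rcases outer_hex hD hP h h₁ n₂ hE hσD s₁ s₂ hσC hσσ hT hab with e | e
      · exact Or.inl (mul_inv_eq_one.1 e)
      · exact Or.inr (mul_inv_eq_iff_eq_mul.1 e)⟩)
  exact ((eS x).1 (hfull ▸ hx)).2

end CfsgLib.Trans3.Fi
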