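import Cfsg.Agent.Lib.Trans3.Fi.Nice
import Mathlib.LinearAlgebra.Matrix.GeneralLinearGroup.Card

/-!
Groups of type M(22), M(23), M(24): one class, no twins, and the short relations they lack.
-/

set_option autoImplicit false

namespace CfsgLib.Trans3.Fi

variable {G : Type*} [Group G] [Finite G] {D : Set G}

theorem not_dvd_card_proj {X : Type*} [Group X] {n : ℕ} (hn : n = 6 ∨ n = 7) {μ c : ZMod 3}
    (h : Cfsg.IsProjReflectionGroupModThree X n μ c) : ¬ 2 ^ 15 ∣ Nat.card X := by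
  obtain ⟨Q, -, -, ⟨e⟩⟩ := h
  haveI : Fact (Nat.Prime 3) := ⟨Nat.prime_three⟩
  intro hd
  rw [Nat.card_congr e.toEquiv] at hd
  have h1 := ((hd.trans (Subgroup.card_quotient_dvd_card _)).trans
    (Subgroup.card_subgroup_dvd_card _)).trans (Subgroup.card_subgroup_dvd_card _)
  rw [Matrix.card_GL_field] at h1
  rcases hn with rfl | rfl <;> simp [Fin.prod_univ_succ] at h1

theorem diff_one_eq (hD : Cfsg.IsThreeTranspositionGroup D) : D \ {1} = D :=
  Set.sdiff_singleton_eq_self fun h => invol_ne_one (hD.1.1 1 h) rfl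

theorem nice_m22_pre (hP : Pre D) (h : Cfsg.IsOfTypeM22 G D) : Nice (D \ {1}) := by
  obtain ⟨hZ, d, hd, c, hc, hdc, hU, c₃, -, hL⟩ := h
  exact nice_of_below hP hZ hd hc hdc (u6Facts hU (pre_Db hP).group).toNice
    (not_dvd_card_proj (Or.inl rfl) hL)

theorem nice_m23_pre (hP : Pre D) (h : Cfsg.IsOfTypeM23 G D) : Nice (D \ {1}) := by
  obtain ⟨hZ, d, hd, c, hc, hdc, h22, c₃, -, hL⟩ := h
  exact nice_of_below hP hZ hd hc hdc (nice_m22_pre (pre_Db hP) h22)
    (not_dvd_card_proj (Or.inr rfl) hL)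

variable (hD : Cfsg.IsThreeTranspositionGroup D)
include hD

theorem noRel_two' : NoRel D 2 := by
  intro l hnd hlen hmem _ hprod
  match l, hlen with
  | [a, b], _ =>
    simp only [List.nodup_cons, List.mem_cons, List.not_mem_nil, or_false] at hnd
    simp only [List.prod_cons, List.prod_nil, mul_one] at hprod
    exact hnd.1 (by rw [eq_inv_of_mul_eq_one_left hprod, inv_eq hD.1 (hmem b (by simp))])

theorem nice_m22 (h : Cfsg.IsOfTypeM22 G D) : Nice D :=
  diff_one_eq hD ▸ nice_m22_pre (pre_of_group hD) h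

theorem nice_m23 (h : Cfsg.IsOfTypeM23 G D) : Nice D :=
  diff_one_eq hD ▸ nice_m23_pre (pre_of_group hD) h

theorem m22_u6 (h : Cfsg.IsOfTypeM22 G D) {a : G} (ha : a ∈ D) : U6Facts (Db D a) := by
  have hN := nice_m22 hD h
  obtain ⟨-, d, hd, c, hc, hdc, hU, -⟩ := h
  exact hN.u6_all hd hU ha

theorem m22_noRel (h : Cfsg.IsOfTypeM22 G D) : NoRel D 3 ∧ NoRel D 4 ∧ NoRel D 5 := by
  have hN := nice_m22 hD h
  obtain ⟨a, ha, -⟩ := hN.pair
  have hU := m22_u6 hD h ha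
  exact ⟨hN.noRel_succ ha (noRel_two' hU.group), hN.noRel_succ ha hU.three,
    hN.noRel_succ ha hU.four⟩

theorem m23_noRel (h : Cfsg.IsOfTypeM23 G D) :
    NoRel D 3 ∧ NoRel D 4 ∧ NoRel D 5 ∧ NoRel D 6 := by
  have hN := nice_m23 hD h
  obtain ⟨-, d, hd, c, hc, hdc, h22, -⟩ := h
  have hg := hN.group_Db hd
  obtain ⟨h3, h4, h5⟩ := m22_noRel hg h22
  exact ⟨hN.noRel_succ hd (noRel_two' hg), hN.noRel_succ hd h3, hN.noRel_succ hd h4,
    hN.noRel_succ hd h5⟩

variable (hP : Cfsg.IsPrimitiveUnderConj D)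
include hP

omit [Finite G] in
theorem twins_primitive {a b : G} (ha : a ∈ D) (hb : b ∈ D)
    (h : ∀ e ∈ D, Commute b e ↔ Commute a e) : a = b := by
  by_contra hne
  obtain ⟨e, he, hae⟩ := exists_noncomm_of_primitive hD hP ha
  exact hae (eq_of_equivariant hD hP (VRel D) (fun x hx => ⟨hx, hx, fun _ _ => Iff.rfl⟩)
    (fun x y h => ⟨h.2.1, h.1, fun z hz => (h.2.2 z hz).symm⟩)
    (fun x y z h h' => ⟨h.1, h'.2.1, fun w hw => (h'.2.2 w hw).trans (h.2.2 w hw)⟩)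
    (fun g x y h => h.conj hD g) ha hb hne ⟨ha, hb, h⟩ he).commute

theorem nice_m24 (h : Cfsg.IsOfTypeM24 G D) : Nice D := by
  obtain ⟨hZ, d, hd, c, hc, hdc, h23, -⟩ := h
  refine ⟨hD, hP.1, fun a ha b hb => twins_primitive hD hP ha hb, hZ, ⟨d, hd, c, hc, hdc⟩, ?_⟩
  exact ((nice_m23_pre (pre_Db (pre_of_group hD)) h23).card.trans
    (Subgroup.card_quotient_dvd_card _)).trans (Subgroup.card_subgroup_dvd_card _)

theorem m24_noRel (h : Cfsg.IsOfTypeM24 G D) : NoRel D 4 ∧ NoRel D 6 := by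
  have hN := nice_m24 hD hP h
  obtain ⟨-, d, hd, c, hc, hdc, h23, -⟩ := h
  obtain ⟨h3, -, h5, -⟩ := m23_noRel (hN.group_Db hd) h23
  exact ⟨hN.noRel_succ hd h3, hN.noRel_succ hd h5⟩

end CfsgLib.Trans3.Fi
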