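import Cfsg.Agent.Lib.Trans3.Fi.Invol
import Cfsg.Agent.Lib.Trans3.Primitive
import Cfsg.Agent.Lib.Classical.SUCenter

/-!
The 3-transpositions of `PSU₆(2)`: they are the transvections; their commuting relations,
products and centralisers.
-/

set_option autoImplicit false
set_option linter.unusedSectionVars false
set_option linter.unusedSimpArgs false

namespace CfsgLib.Trans3.Fi

open Matrix CfsgLib.MaxSub CfsgLib.Classical CfsgLib.Trans3.TvSU

/-- No `k` distinct, pairwise commuting members of `D` have product `1`. -/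
def NoRel {Y : Type*} [Group Y] (D : Set Y) (k : ℕ) : Prop :=
  ∀ l : List Y, l.Nodup → l.length = k → (∀ a ∈ l, a ∈ D) → (∀ a ∈ l, ∀ b ∈ l, Commute a b) →
    l.prod ≠ 1

variable {F : Type*} [Field F] [Fintype F] (hF : Fintype.card F = 2 ^ 2)
variable {Y : Type*} [Group Y] {D : Set Y} (f : ↥(Cfsg.SU 6 F 2) →* Y)
  (hf : Function.Surjective f) (hk : f.ker = Subgroup.center ↥(Cfsg.SU 6 F 2))
  (hD : Cfsg.IsThreeTranspositionGroup D)
include hF hf hk hD

/-- The image of a transvection. -/
noncomputable def pt (p : Fin 6 → F) : Y := f (tv hF p)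

omit hf hD in
theorem map_eq_one_iff' {a : ↥(Cfsg.SU 6 F 2)} :
    f a = 1 ↔ a ∈ Subgroup.center ↥(Cfsg.SU 6 F 2) := by rw [← hk]; rfl

omit hf hD in
theorem map_invol_inj {a b : ↥(Cfsg.SU 6 F 2)} (ha : a * a = 1) (hb : b * b = 1)
    (h : f a = f b) : a = b :=
  center_commute_invol hF ha hb ((map_eq_one_iff' hF f hk).1 (by
    rw [map_mul, map_inv, h, inv_mul_cancel]))

omit hf hD in
theorem pt_eq {p r : Fin 6 → F} (hp : p ≠ 0) (hpp : hh p p = 0) (hrr : hh r r = 0)
    (h : pt hF f p = pt hF f r) : ∃ a : F, a ≠ 0 ∧ p = a • r :=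
  tv_eq hF hpp hrr hp (map_invol_inj hF f hk (tv_sq hF hpp) (tv_sq hF hrr) h)

omit hf hk hD in
theorem pt_smul {p : Fin 6 → F} (hpp : hh p p = 0) {a : F} (ha : a ≠ 0) :
    pt hF f (a • p) = pt hF f p := by rw [pt, pt, tv_smul hF hpp ha]

omit hf hk hD in
theorem conj_pt (g : ↥(Cfsg.SU 6 F 2)) {p : Fin 6 → F} (hpp : hh p p = 0) :
    f g * pt hF f p * (f g)⁻¹ = pt hF f (act g p) := by
  rw [pt, pt, ← map_inv, ← map_mul, ← map_mul, conj_tv hF g hpp]

omit hf hD in
theorem pt_commute {p r : Fin 6 → F} (hp : p ≠ 0) (hr : r ≠ 0) (hpp : hh p p = 0)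
    (hrr : hh r r = 0) : Commute (pt hF f p) (pt hF f r) ↔ hh p r = 0 := by
  refine ⟨fun h => ?_, fun h => (tv_comm hF hpp hrr h).map f⟩
  have h1 := conj_pt hF f (tv hF p) hrr
  rw [show f (tv hF p) = pt hF f p from rfl, h.eq, mul_assoc, mul_inv_cancel, mul_one,
    tv_act hF hpp] at h1
  by_contra h0
  have h0' : hh r p ≠ 0 := fun h' => h0 (hh_symm_zero hF h')
  obtain ⟨a, -, ha⟩ := pt_eq hF f hk hr hrr (by
    simp only [hh_add_left hF, hh_add_right hF, hh_smul_left hF, hh_smul_right hF, hrr, hpp,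
      zero_add, mul_zero, add_zero]
    rw [show hh r p ^ 2 * hh r p = hh r p ^ 3 by ring, cube_one hF h0',
      ← hh_conj hF r p, show hh r p * hh r p ^ 2 = hh r p ^ 3 by ring, cube_one hF h0',
      add_self hF]) h1
  -- `r` is a multiple of `r + h(r,p) p`, which meets `r` non-trivially
  have h2 := congrArg (fun z => hh z r) ha
  simp only [hh_smul_left hF, hh_add_left hF] at h2
  rw [hrr, zero_add, ← hh_conj hF r p, show hh r p * hh r p ^ 2 = hh r p ^ 3 by ring,
    cube_one hF h0', mul_one] at h2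
  exact hr (by rw [ha, ← h2, zero_smul])

/-- Every member of `D` is a transvection image. -/
theorem exists_pt {y : Y} (hy : y ∈ D) : ∃ p, p ≠ 0 ∧ hh p p = 0 ∧ y = pt hF f p := by
  obtain ⟨g, rfl⟩ := hf y
  have hz : g * g ∈ Subgroup.center ↥(Cfsg.SU 6 F 2) := (map_eq_one_iff' hF f hk).1 (by
    rw [map_mul, Trans3.sq_one hD.1 hy])
  obtain ⟨g', eg⟩ : ∃ g', g' = g * (g * g) := ⟨_, rfl⟩
  have hg' : g' * g' = 1 := by
    rw [eg, ← center_cube hF hz]
    simp only [pow_succ, pow_zero, one_mul, mul_assoc]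
  have hfg : f g' = f g := by
    rw [eg, map_mul, (map_eq_one_iff' hF f hk).2 hz, mul_one]
  have hne : g' ≠ 1 := by
    intro h
    rw [h, map_one] at hfg
    exact invol_ne_one (hD.1.1 _ hy) hfg.symm
  rcases invol_cases hF hg' hne with ⟨p, hp, hpp, h⟩ | ⟨s, h2, h3⟩
  · exact ⟨p, hp, hpp, by rw [← hfg, h]; rfl⟩
  · exfalso
    have hk' : f s * f g * (f s)⁻¹ ∈ D := hD.2.1 _ _ hy
    rcases hD.1.2 _ hy _ hk' with h | h
    · refine h2 ((map_eq_one_iff' hF f hk).1 ?_)
      rw [← hfg] at h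
      simpa only [map_mul, map_inv, pow_two] using h
    · refine h3 ((map_eq_one_iff' hF f hk).1 ?_)
      rw [← hfg] at h
      simpa only [map_mul, map_inv, pow_succ, pow_zero, one_mul] using h

theorem mem_nonempty : ∃ y, y ∈ D := by
  by_contra! h
  have h1 : (⊤ : Subgroup Y) = ⊥ := by
    rw [← hD.2.2, Set.eq_empty_of_forall_notMem h, Subgroup.closure_empty]
  obtain ⟨p, hp, hpp⟩ := exists_iso hF
  have : pt hF f p = 1 := Subgroup.mem_bot.1 (h1 ▸ Subgroup.mem_top _)
  have h2 := center_invol hF ((map_eq_one_iff' hF f hk).1 this) (tv_sq hF hpp)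
  obtain ⟨x, -, hx⟩ := exists_hh hF (S := ⊥) (r := p) (by simpa using hp)
  have h3 := congrArg (fun g => act g x) h2
  simp only [tv_act hF hpp, hx, one_smul, act_one, add_eq_left] at h3
  exact hp h3

/-- Every transvection image is a member of `D`. -/
theorem pt_mem {r : Fin 6 → F} (hr : r ≠ 0) (hrr : hh r r = 0) : pt hF f r ∈ D := by
  have step : ∀ {p r : Fin 6 → F}, p ≠ 0 → hh p p = 0 → hh r r = 0 → hh p r ≠ 0 →
      pt hF f p ∈ D → pt hF f r ∈ D := by
    intro p r hp hpp hrr hpr hmem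
    have h := conj_mem (g := f (tv hF p * tv hF r)) hD hmem
    rw [conj_pt hF f _ hpp, act_mul, tv_act hF hrr, act_add hF, act_smul hF, tv_act hF hpp,
      tv_act hF hpp, hpp, zero_smul, add_zero, smul_add, smul_smul, ← hh_conj hF p r,
      show hh p r * hh p r ^ 2 = hh p r ^ 3 by ring, cube_one hF hpr, one_smul,
      show p + (hh p r • r + p) = hh p r • r + (p + p) by abel, vec_add_self hF, add_zero,
      pt_smul hF f hrr hpr] at h
    exact h
  obtain ⟨y, hy⟩ := mem_nonempty hF f hf hk hD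
  obtain ⟨p, hp, hpp, rfl⟩ := exists_pt hF f hf hk hD hy
  by_cases hpr : hh p r = 0
  · obtain ⟨s, hs, hss, hsp, hsr⟩ := exists_isotropic_ne hF hp hr hpp hpr
    exact step hs hss hrr hsr (step hp hpp hss (fun h => hsp (hh_symm_zero hF h)) hy)
  · exact step hp hpp hrr hpr hy

omit hf hD in
/-- A product of pairwise orthogonal transvections which dies in `Y` moves nothing. -/
theorem rel_sum {l : List (Fin 6 → F)} (hiso : ∀ p ∈ l, hh p p = 0)
    (horth : ∀ p ∈ l, ∀ r ∈ l, hh p r = 0) (hprod : (l.map (pt hF f)).prod = 1)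
    (x : Fin 6 → F) : (l.map fun p => hh x p • p).sum = 0 := by
  have hact : ∀ (l : List (Fin 6 → F)), (∀ p ∈ l, hh p p = 0) →
      (∀ p ∈ l, ∀ r ∈ l, hh p r = 0) →
      act (l.map (tv hF)).prod x = x + (l.map fun p => hh x p • p).sum := by
    intro l
    induction l with
    | nil => intro _ _; simp [act_one]
    | cons p t ih =>
        intro h1 h2
        rw [List.map_cons, List.prod_cons, act_mul, ih (fun q hq => h1 q (List.mem_cons_of_mem _ hq))
          (fun q hq r hr => h2 q (List.mem_cons_of_mem _ hq) r (List.mem_cons_of_mem _ hr)),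
          tv_act hF (h1 p List.mem_cons_self), List.map_cons, List.sum_cons, hh_add_left hF]
        have h0 : ∀ u : List (Fin 6 → F), (∀ q ∈ u, hh q p = 0) →
            hh (u.map fun q => hh x q • q).sum p = 0 := by
          intro u
          induction u with
          | nil => intro _; simp [hh_zero_left hF]
          | cons q w ihw =>
              intro hu
              rw [List.map_cons, List.sum_cons, hh_add_left hF, hh_smul_left hF,
                hu q List.mem_cons_self, ihw fun z hz => hu z (List.mem_cons_of_mem _ hz),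
                mul_zero, add_zero]
        rw [h0 t fun q hq => h2 q (List.mem_cons_of_mem _ hq) p List.mem_cons_self, add_zero]
        abel
  have hc : ∀ a ∈ l.map (tv hF), ∀ b ∈ l.map (tv hF), Commute a b := by
    intro a ha b hb
    obtain ⟨p, hp, rfl⟩ := List.mem_map.1 ha
    obtain ⟨r, hr, rfl⟩ := List.mem_map.1 hb
    exact tv_comm hF (hiso p hp) (hiso r hr) (horth p hp r hr)
  have hsq : ∀ m : List ↥(Cfsg.SU 6 F 2), (∀ a ∈ m, a * a = 1) →
      (∀ a ∈ m, ∀ b ∈ m, Commute a b) → m.prod * m.prod = 1 := by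
    intro m
    induction m with
    | nil => simp
    | cons a t ih =>
        intro h1 h2
        have hcm : Commute a t.prod := Commute.list_prod_right _ _ fun b hb =>
          h2 a List.mem_cons_self b (List.mem_cons_of_mem _ hb)
        rw [List.prod_cons]
        rw [← mul_assoc, mul_assoc a t.prod a, ← hcm.eq, ← mul_assoc, h1 a List.mem_cons_self,
          one_mul]
        exact ih (fun b hb => h1 b (List.mem_cons_of_mem _ hb))
          (fun b hb c hc' => h2 b (List.mem_cons_of_mem _ hb) c (List.mem_cons_of_mem _ hc'))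
  have h1 : (l.map (tv hF)).prod = 1 := by
    refine center_invol hF ((map_eq_one_iff' hF f hk).1 ?_) (hsq _ ?_ hc)
    · rw [map_list_prod, List.map_map]; exact hprod
    · intro a ha
      obtain ⟨p, hp, rfl⟩ := List.mem_map.1 ha
      exact tv_sq hF (hiso p hp)
  have := hact l hiso horth
  rw [h1, act_one] at this
  exact left_eq_add.1 this

omit hf hD in
theorem not_mem_span {p r : Fin 6 → F} (hp : p ≠ 0) (hpp : hh p p = 0) (hrr : hh r r = 0)
    (hne : pt hF f p ≠ pt hF f r) : p ∉ Submodule.span F ({r} : Set (Fin 6 → F)) := by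
  intro h
  obtain ⟨a, rfl⟩ := Submodule.mem_span_singleton.1 h
  exact hne (pt_smul hF f hrr (fun ha => hp (by rw [ha, zero_smul])))

theorem noRel_two : NoRel D 2 := by
  intro l hnd hlen hmem _ hprod
  match l, hlen with
  | [a, b], _ =>
    simp only [List.nodup_cons, List.mem_cons, List.not_mem_nil, or_false] at hnd
    simp only [List.prod_cons, List.prod_nil, mul_one] at hprod
    exact hnd.1 (by rw [eq_inv_of_mul_eq_one_left hprod, inv_eq hD.1 (hmem b (by simp))])

theorem noRel_three : NoRel D 3 := by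
  intro l hnd hlen hmem hcomm hprod
  match l, hlen with
  | [a, b, c], _ =>
    obtain ⟨p, hp, hpp, rfl⟩ := exists_pt hF f hf hk hD (hmem a (by simp))
    obtain ⟨q, hq, hqq, rfl⟩ := exists_pt hF f hf hk hD (hmem b (by simp))
    obtain ⟨r, hr, hrr, rfl⟩ := exists_pt hF f hf hk hD (hmem c (by simp))
    have o : ∀ u v, u ≠ 0 → v ≠ 0 → hh u u = 0 → hh v v = 0 →
        Commute (pt hF f u) (pt hF f v) → hh u v = 0 := fun u v h1 h2 h3 h4 h5 =>
      (pt_commute hF f hk h1 h2 h3 h4).1 h5
    have opq := o _ _ hp hq hpp hqq (hcomm _ (by simp) _ (by simp))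
    have opr := o _ _ hp hr hpp hrr (hcomm _ (by simp) _ (by simp))
    have oqr := o _ _ hq hr hqq hrr (hcomm _ (by simp) _ (by simp))
    have hsum := rel_sum hF f hk (l := [p, q, r]) (by simp [hpp, hqq, hrr]) (by
      simp [hpp, hqq, hrr, opq, opr, oqr, hh_symm_zero hF opq, hh_symm_zero hF opr,
        hh_symm_zero hF oqr]) (by simpa using hprod)
    simp only [List.nodup_cons, List.mem_cons, List.not_mem_nil, or_false, not_or] at hnd
    obtain ⟨x, hxp, hxq⟩ := exists_hh_one hF
      (not_mem_span hF f hk hq hqq hpp (Ne.symm hnd.1.1))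
    have h := hsum x
    simp only [List.map_cons, List.map_nil, List.sum_cons, List.sum_nil, add_zero, hxp, hxq,
      zero_smul, one_smul, zero_add] at h
    exact not_mem_span hF f hk hq hqq hrr hnd.2.1
      (Submodule.mem_span_singleton.2 ⟨hh x r, (vec_eq_of_add hF _ _ h).symm⟩)

theorem noRel_four : NoRel D 4 := by
  intro l hnd hlen hmem hcomm hprod
  match l, hlen with
  | [a, b, c, d], _ =>
    obtain ⟨p, hp, hpp, rfl⟩ := exists_pt hF f hf hk hD (hmem a (by simp))
    obtain ⟨q, hq, hqq, rfl⟩ := exists_pt hF f hf hk hD (hmem b (by simp))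
    obtain ⟨r, hr, hrr, rfl⟩ := exists_pt hF f hf hk hD (hmem c (by simp))
    obtain ⟨s, hs, hss, rfl⟩ := exists_pt hF f hf hk hD (hmem d (by simp))
    have o : ∀ u v, u ≠ 0 → v ≠ 0 → hh u u = 0 → hh v v = 0 →
        Commute (pt hF f u) (pt hF f v) → hh u v = 0 := fun u v h1 h2 h3 h4 h5 =>
      (pt_commute hF f hk h1 h2 h3 h4).1 h5
    have opq := o _ _ hp hq hpp hqq (hcomm _ (by simp) _ (by simp))
    have opr := o _ _ hp hr hpp hrr (hcomm _ (by simp) _ (by simp))
    have ops := o _ _ hp hs hpp hss (hcomm _ (by simp) _ (by simp))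
    have oqr := o _ _ hq hr hqq hrr (hcomm _ (by simp) _ (by simp))
    have oqs := o _ _ hq hs hqq hss (hcomm _ (by simp) _ (by simp))
    have ors := o _ _ hr hs hrr hss (hcomm _ (by simp) _ (by simp))
    have hsum := rel_sum hF f hk (l := [p, q, r, s]) (by simp [hpp, hqq, hrr, hss]) (by
      simp [hpp, hqq, hrr, hss, opq, opr, oqr, ops, oqs, ors, hh_symm_zero hF opq,
        hh_symm_zero hF opr, hh_symm_zero hF oqr, hh_symm_zero hF ops, hh_symm_zero hF oqs,
        hh_symm_zero hF ors]) (by simpa using hprod)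
    simp only [List.nodup_cons, List.mem_cons, List.not_mem_nil, or_false, not_or] at hnd
    have nqr := not_mem_span hF f hk hq hqq hrr hnd.2.1.1
    have nqs := not_mem_span hF f hk hq hqq hss hnd.2.1.2
    have npr := not_mem_span hF f hk hp hpp hrr hnd.1.2.1
    have nps := not_mem_span hF f hk hp hpp hss hnd.1.2.2
    obtain ⟨x, hxp, hxq⟩ := exists_hh_one hF
      (not_mem_span hF f hk hq hqq hpp (Ne.symm hnd.1.1))
    obtain ⟨y, hyq, hyp⟩ := exists_hh_one hF (not_mem_span hF f hk hp hpp hqq hnd.1.1)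
    have h := hsum x
    have h' := hsum y
    simp only [List.map_cons, List.map_nil, List.sum_cons, List.sum_nil, add_zero, hxp, hxq,
      hyp, hyq, zero_smul, one_smul, zero_add] at h h'
    obtain ⟨β, eβ⟩ : ∃ β, hh x r = β := ⟨_, rfl⟩
    obtain ⟨γ, eγ⟩ : ∃ γ, hh x s = γ := ⟨_, rfl⟩
    obtain ⟨β', eβ'⟩ : ∃ β', hh y r = β' := ⟨_, rfl⟩
    obtain ⟨γ', eγ'⟩ : ∃ γ', hh y s = γ' := ⟨_, rfl⟩
    rw [eβ, eγ] at h
    rw [eβ', eγ'] at h'
    have eq : q = β • r + γ • s := vec_eq_of_add hF _ _ h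
    have ep : p = β' • r + γ' • s := vec_eq_of_add hF _ _ h'
    have hβ : β ≠ 0 := fun h0 => nqs (Submodule.mem_span_singleton.2 ⟨γ, by
      rw [eq, h0, zero_smul, zero_add]⟩)
    have hβ' : β' ≠ 0 := fun h0 => nps (Submodule.mem_span_singleton.2 ⟨γ', by
      rw [ep, h0, zero_smul, zero_add]⟩)
    have nrs := not_mem_span hF f hk hr hrr hss hnd.2.2.1
    obtain ⟨z, hzs, hzr⟩ := exists_hh_one hF nrs
    have hz := hsum z
    simp only [List.map_cons, List.map_nil, List.sum_cons, List.sum_nil, add_zero, ep, eq,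
      hh_add_right hF, hh_smul_right hF, hzs, hzr, zero_smul, one_smul, mul_zero, mul_one] at hz
    have hz' : (β' ^ 3 + β ^ 3 + 1) • r + (β' ^ 2 * γ' + β ^ 2 * γ) • s = 0 := by
      rw [← hz]; module
    rw [cube_one hF hβ, cube_one hF hβ', add_self hF, zero_add, one_smul] at hz'
    exact nrs (Submodule.mem_span_singleton.2 ⟨_, (vec_eq_of_add hF _ _ hz').symm⟩)

/-- Two commuting members lie in exactly one relation of length five. -/
theorem line {b c : Y} (hb : b ∈ D) (hc : c ∈ D) (hne : b ≠ c) (hbc : Commute b c) :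
    ∃ t₁ t₂ t₃ : Y, ([b, c, t₁, t₂, t₃].Nodup ∧ (∀ a ∈ [b, c, t₁, t₂, t₃], a ∈ D) ∧
        (∀ a ∈ [b, c, t₁, t₂, t₃], ∀ a' ∈ [b, c, t₁, t₂, t₃], Commute a a') ∧
        [b, c, t₁, t₂, t₃].prod = 1) ∧
      ∀ w₁ w₂ w₃ : Y, [b, c, w₁, w₂, w₃].Nodup → (∀ a ∈ [b, c, w₁, w₂, w₃], a ∈ D) →
        (∀ a ∈ [b, c, w₁, w₂, w₃], ∀ a' ∈ [b, c, w₁, w₂, w₃], Commute a a') →
        [b, c, w₁, w₂, w₃].prod = 1 → ∀ x, x ∈ [w₁, w₂, w₃] ↔ x ∈ [t₁, t₂, t₃] := by
  obtain ⟨p, hp, hpp, rfl⟩ := exists_pt hF f hf hk hD hb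
  obtain ⟨r, hr, hrr, rfl⟩ := exists_pt hF f hf hk hD hc
  have opr := (pt_commute hF f hk hp hr hpp hrr).1 hbc
  have orp := hh_symm_zero hF opr
  have nrp := not_mem_span hF f hk hr hrr hpp (Ne.symm hne)
  have npr := not_mem_span hF f hk hp hpp hrr hne
  have hind : ∀ a a' : F, a • p + a' • r = 0 → a = 0 ∧ a' = 0 := by
    intro a a' h
    have h' := vec_eq_of_add hF _ _ h
    by_cases ha' : a' = 0
    · rw [ha', zero_smul, smul_eq_zero] at h'
      exact ⟨h'.resolve_right hp, ha'⟩
    · exfalso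
      exact nrp (Submodule.mem_span_singleton.2 ⟨a'⁻¹ * a, by
        rw [← smul_smul, h', smul_smul, inv_mul_cancel₀ ha', one_smul]⟩)
  obtain ⟨ω, hω⟩ := exists_omega hF
  have hω0 : ω ≠ 0 := fun h => by rw [h] at hω; simp at hω
  have hω1 : ω + 1 ≠ 0 := fun h => by
    rw [show ω = 1 by linear_combination h - add_self hF 1] at hω
    exact one_ne_zero (hω.symm.trans (by rw [one_pow, add_self hF]))
  have w2 : ω ^ 2 = ω + 1 := by linear_combination hω - add_self hF ω
  obtain ⟨v, ev⟩ : ∃ v : F → Fin 6 → F, v = fun a => p + a • r := ⟨_, rfl⟩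
  have hvv : ∀ a a', hh (v a) (v a') = 0 := fun a a' => by
    simp only [ev, hh_add_left hF, hh_add_right hF, hh_smul_left hF, hh_smul_right hF, hpp, hrr,
      opr, orp, mul_zero, add_zero]
  have hv0 : ∀ a, v a ≠ 0 := fun a h => by
    refine one_ne_zero (hind 1 a ?_).1
    rw [one_smul, ← h, ev]
  have hpv : ∀ a, hh p (v a) = 0 ∧ hh r (v a) = 0 := fun a => by
    simp only [ev, hh_add_right hF, hh_smul_right hF, hpp, hrr, opr, orp, mul_zero, add_zero,
      and_self]
  -- all points of the line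
  have hdist : ∀ a a', pt hF f (v a) = pt hF f (v a') → a = a' := by
    intro a a' h
    obtain ⟨e, -, he⟩ := pt_eq hF f hk (hv0 a) (hvv _ _) (hvv _ _) h
    have := hind (1 + e) (a + e * a') (by
      rw [ev] at he
      have h0 := vec_add_self hF (e • (p + a' • r))
      nth_rw 1 [← he] at h0
      rw [← h0]; module)
    have he1 : e = 1 := by linear_combination this.1 - add_self hF 1
    rw [he1, one_mul] at this
    linear_combination this.2 - add_self hF a'
  have hdp : ∀ a, pt hF f (v a) ≠ pt hF f r := fun a h => by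
    obtain ⟨e, -, he⟩ := pt_eq hF f hk (hv0 a) (hvv _ _) hrr h
    refine one_ne_zero (hind 1 (a + e) ?_).1
    rw [ev] at he
    have h0 := vec_add_self hF (e • r)
    nth_rw 1 [← he] at h0
    rw [← h0]; module
  have hdb : ∀ a, a ≠ 0 → pt hF f (v a) ≠ pt hF f p := fun a ha h => by
    obtain ⟨e, -, he⟩ := pt_eq hF f hk (hv0 a) (hvv _ _) hpp h
    refine ha (hind (1 + e) a ?_).2
    rw [ev] at he
    have h0 := vec_add_self hF (e • p)
    nth_rw 1 [← he] at h0
    rw [← h0]; module
  obtain ⟨T, eT⟩ : ∃ T : F → Y, T = fun a => pt hF f (v a) := ⟨_, rfl⟩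
  refine ⟨T 1, T ω, T (ω + 1), ⟨?_, ?_, ?_, ?_⟩, ?_⟩
  · have d1 : (1 : F) ≠ ω := fun h => by
      rw [← h] at w2; exact one_ne_zero (by linear_combination -w2 : (1:F) = 0)
    have d2 : (1 : F) ≠ ω + 1 := fun h => hω0 (by linear_combination -h)
    have d3 : ω ≠ ω + 1 := fun h => one_ne_zero (by linear_combination -h : (1:F) = 0)
    simp only [eT, List.nodup_cons, List.mem_cons, List.not_mem_nil, or_false, not_or,
      List.nodup_nil, and_true, not_false_eq_true]
    exact ⟨⟨hne, Ne.symm (hdb 1 one_ne_zero), Ne.symm (hdb ω hω0), Ne.symm (hdb _ hω1)⟩,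
      ⟨Ne.symm (hdp 1), Ne.symm (hdp ω), Ne.symm (hdp _)⟩,
      ⟨fun h => d1 (hdist _ _ h), fun h => d2 (hdist _ _ h)⟩, fun h => d3 (hdist _ _ h)⟩
  · intro a ha
    simp only [List.mem_cons, List.not_mem_nil, or_false, eT] at ha
    rcases ha with rfl | rfl | rfl | rfl | rfl
    all_goals first
      | exact hb | exact hc | exact pt_mem hF f hf hk hD (hv0 _) (hvv _ _)
  · intro a ha a' ha'
    simp only [List.mem_cons, List.not_mem_nil, or_false, eT] at ha ha'
    have c1 : ∀ u, Commute (pt hF f p) (pt hF f (v u)) := fun u =>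
      (pt_commute hF f hk hp (hv0 u) hpp (hvv _ _)).2 (hpv u).1
    have c2 : ∀ u, Commute (pt hF f r) (pt hF f (v u)) := fun u =>
      (pt_commute hF f hk hr (hv0 u) hrr (hvv _ _)).2 (hpv u).2
    have c3 : ∀ u u', Commute (pt hF f (v u)) (pt hF f (v u')) := fun u u' =>
      (pt_commute hF f hk (hv0 u) (hv0 u') (hvv _ _) (hvv _ _)).2 (hvv _ _)
    rcases ha with rfl | rfl | rfl | rfl | rfl <;> rcases ha' with rfl | rfl | rfl | rfl | rfl <;>
      first
      | exact Commute.refl _ | exact hbc | exact hbc.symm | exact c1 _ | exact (c1 _).symm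
      | exact c2 _ | exact (c2 _).symm | exact c3 _ _
  · rw [show [pt hF f p, pt hF f r, T 1, T ω, T (ω + 1)] =
      List.map f [tv hF p, tv hF r, tv hF (v 1), tv hF (v ω), tv hF (v (ω + 1))] by
        simp [eT, pt], ← map_list_prod]
    refine (map_eq_one_iff' hF f hk).2 ?_
    convert one_mem (Subgroup.center ↥(Cfsg.SU 6 F 2))
    refine act_ext fun x => ?_
    simp only [List.prod_cons, List.prod_nil, mul_one, act_mul, act_one, tv_act hF hpp,
      tv_act hF hrr, tv_act hF (hvv _ _), hh_add_left hF, hh_smul_left hF, hvv, hpp, hrr, opr,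
      orp, (hpv _).1, (hpv _).2, hh_symm_zero hF (hpv _).1, hh_symm_zero hF (hpv _).2,
      mul_zero, add_zero]
    simp only [ev, hh_add_right hF, hh_smul_right hF, one_pow, one_mul, smul_add, smul_smul]
    match_scalars
    · ring
    · linear_combination 2 * add_self hF (hh x p) +
        (ω * hh x r + ω ^ 2 * hh x r + hh x r) * add_self hF 1
    · linear_combination (hh x r * ω + hh x p) * add_self hF 1 + hh x r * hω +
        (hh x p * ω + ω ^ 2 * hh x r + ω ^ 3 * hh x r + hh x r * 2) * add_self hF 1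
  · -- uniqueness
    intro w₁ w₂ w₃ hnd hmem hcomm hprod
    obtain ⟨u₁, hu₁, huu₁, rfl⟩ := exists_pt hF f hf hk hD (hmem w₁ (by simp))
    obtain ⟨u₂, hu₂, huu₂, rfl⟩ := exists_pt hF f hf hk hD (hmem w₂ (by simp))
    obtain ⟨u₃, hu₃, huu₃, rfl⟩ := exists_pt hF f hf hk hD (hmem w₃ (by simp))
    have hiso : ∀ q ∈ [p, r, u₁, u₂, u₃], hh q q = 0 ∧ q ≠ 0 := by
      simp [hpp, hrr, huu₁, huu₂, huu₃, hp, hr, hu₁, hu₂, hu₃]
    have hsum := rel_sum hF f hk (l := [p, r, u₁, u₂, u₃]) (fun q hq => (hiso q hq).1)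
      (fun q hq q' hq' => (pt_commute hF f hk (hiso q hq).2 (hiso q' hq').2 (hiso q hq).1
        (hiso q' hq').1).1 (hcomm _ (List.mem_map_of_mem (f := pt hF f) hq) _
          (List.mem_map_of_mem (f := pt hF f) hq'))) hprod
    have hnd' := hnd
    simp only [List.nodup_cons, List.mem_cons, List.not_mem_nil, or_false, not_or,
      List.nodup_nil, and_true, not_false_eq_true] at hnd'
    obtain ⟨⟨-, n1, n2, n3⟩, ⟨m1, m2, m3⟩, ⟨n12, n13⟩, n23⟩ := hnd'
    let S : Submodule F (Fin 6 → F) := Submodule.span F {p, r}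
    have hxS : ∀ x, (∀ z ∈ S, hh x z = 0) →
        hh x u₁ • u₁ + hh x u₂ • u₂ + hh x u₃ • u₃ = 0 := by
      intro x hx
      have h := hsum x
      simp only [List.map_cons, List.map_nil, List.sum_cons, List.sum_nil, add_zero,
        hx p (Submodule.subset_span (by simp)), hx r (Submodule.subset_span (by simp)),
        zero_smul, zero_add] at h
      rw [← h, add_assoc]
    -- one of the three in the line puts all three there
    have two : ∀ {u u' u''}, u' ≠ 0 → hh u' u' = 0 → hh u'' u'' = 0 →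
        pt hF f u' ≠ pt hF f u'' → u ∈ S →
        (∀ x, (∀ z ∈ S, hh x z = 0) → hh x u • u + hh x u' • u' + hh x u'' • u'' = 0) →
        u' ∈ S := by
      intro u u' u'' h0 h1 h2 hne' hu h
      by_contra hu'
      obtain ⟨x, hx, hx'⟩ := exists_hh hF hu'
      have h3 := h x hx
      rw [hx u hu, zero_smul, zero_add, hx', one_smul] at h3
      exact not_mem_span hF f hk h0 h1 h2 hne'
        (Submodule.mem_span_singleton.2 ⟨hh x u'', (vec_eq_of_add hF _ _ h3).symm⟩)
    have perm213 : ∀ x, (∀ z ∈ S, hh x z = 0) →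
        hh x u₂ • u₂ + hh x u₁ • u₁ + hh x u₃ • u₃ = 0 := fun x hx => by
      rw [← hxS x hx]; abel
    have perm : ∀ x, (∀ z ∈ S, hh x z = 0) →
        hh x u₃ • u₃ + hh x u₁ • u₁ + hh x u₂ • u₂ = 0 := fun x hx => by
      rw [← hxS x hx]; abel
    have out : u₁ ∈ S ∧ u₂ ∈ S ∧ u₃ ∈ S := by
      by_cases h1 : u₁ ∈ S
      · refine ⟨h1, two hu₂ huu₂ huu₃ n23 h1 hxS, ?_⟩
        exact two hu₃ huu₃ huu₂ (Ne.symm n23) h1 fun x hx => by rw [← hxS x hx]; abel
      exfalso
      have h2 : u₂ ∉ S := fun h2 => h1 (two hu₁ huu₁ huu₃ n13 h2 perm213)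
      have h3 : u₃ ∉ S := fun h3 => h1 (two hu₁ huu₁ huu₂ n12 h3 perm)
      -- `u₁` lies over `u₃`, and so does `u₂`
      have above : ∀ {u u' : Fin 6 → F}, u ≠ 0 → hh u u = 0 → hh u' u' = 0 → pt hF f u ≠ pt hF f u' →
          u ∉ S → (∀ x, (∀ z ∈ S, hh x z = 0) → hh x u • u + hh x u' • u' + hh x u₃ • u₃ = 0) →
          ∃ a : F, a ≠ 0 ∧ u + a • u₃ ∈ S := by
        intro u u' h0 h0' h0'' hne' huS h
        by_cases hmem' : u ∈ S ⊔ Submodule.span F {u₃}
        · obtain ⟨s', hs', t', ht', hst⟩ := Submodule.mem_sup.1 hmem'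
          obtain ⟨a, rfl⟩ := Submodule.mem_span_singleton.1 ht'
          refine ⟨a, fun ha => huS ?_, ?_⟩
          · rw [← hst, ha, zero_smul, add_zero]; exact hs'
          · rw [← hst, add_assoc, vec_add_self hF, add_zero]; exact hs'
        · exfalso
          obtain ⟨x, hx, hx'⟩ := exists_hh hF hmem'
          have h4 := h x fun z hz => hx z (Submodule.mem_sup_left hz)
          rw [hx', one_smul, hx u₃ (Submodule.mem_sup_right (Submodule.subset_span rfl)),
            zero_smul, add_zero] at h4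
          exact not_mem_span hF f hk h0 h0' h0'' hne'
            (Submodule.mem_span_singleton.2 ⟨hh x u', (vec_eq_of_add hF _ _ h4).symm⟩)
      obtain ⟨a, ha, hsa⟩ := above hu₁ huu₁ huu₂ n12 h1 hxS
      obtain ⟨a', ha', hsa'⟩ := above hu₂ huu₂ huu₁ (Ne.symm n12) h2 perm213
      obtain ⟨x, hx, hx'⟩ := exists_hh hF h3
      have e1 : hh x u₁ = a ^ 2 := by
        have h5 := hx _ hsa
        rw [hh_add_right hF, hh_smul_right hF, hx', mul_one] at h5
        linear_combination h5 - add_self hF (a ^ 2)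
      have e2 : hh x u₂ = a' ^ 2 := by
        have h5 := hx _ hsa'
        rw [hh_add_right hF, hh_smul_right hF, hx', mul_one] at h5
        linear_combination h5 - add_self hF (a' ^ 2)
      have h6 := hxS x hx
      rw [e1, e2, hx', one_smul] at h6
      refine h3 ?_
      have h7 : a ^ 2 • (u₁ + a • u₃) + a' ^ 2 • (u₂ + a' • u₃) ∈ S :=
        add_mem (S.smul_mem _ hsa) (S.smul_mem _ hsa')
      rw [show a ^ 2 • (u₁ + a • u₃) + a' ^ 2 • (u₂ + a' • u₃) =
        (a ^ 2 • u₁ + a' ^ 2 • u₂ + u₃) + (a ^ 3 + a' ^ 3 - 1) • u₃ by module, h6,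
        cube_one hF ha, cube_one hF ha', zero_add, add_sub_cancel_right, one_smul] at h7
      exact h7
    have toT : ∀ u, u ≠ 0 → u ∈ S → pt hF f p ≠ pt hF f u → pt hF f r ≠ pt hF f u →
        pt hF f u ∈ [T 1, T ω, T (ω + 1)] := by
      intro u hu0 hu nb nc
      obtain ⟨a, a', rfl⟩ := Submodule.mem_span_pair.1 hu
      have ha : a ≠ 0 := fun ha => nc (by
        rw [ha, zero_smul, zero_add] at hu0 ⊢
        rw [pt_smul hF f hrr (fun h => hu0 (by rw [h, zero_smul]))])
      have ha' : a' ≠ 0 := fun ha' => nb (by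
        rw [ha', zero_smul, add_zero] at hu0 ⊢
        rw [pt_smul hF f hpp ha])
      have he : pt hF f (a • p + a' • r) = T (a⁻¹ * a') := by
        rw [eT]
        simp only
        rw [← pt_smul hF f (hvv (a⁻¹ * a') _) ha, ev]
        simp only [smul_add, smul_smul, ← mul_assoc, mul_inv_cancel₀ ha, one_mul]
      rw [he]
      have hroots : ∀ e : F, e ≠ 0 → e = 1 ∨ e = ω ∨ e = ω + 1 := by
        intro e he0
        have h : (e - 1) * (e - ω) * (e - (ω + 1)) = 0 := by
          linear_combination cube_one hF he0 + (e - 1) * hω -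
            (ω + 1) * e * (e - 1) * add_self hF 1
        rcases mul_eq_zero.1 h with h | h
        · rcases mul_eq_zero.1 h with h | h
          · exact Or.inl (sub_eq_zero.1 h)
          · exact Or.inr (Or.inl (sub_eq_zero.1 h))
        · exact Or.inr (Or.inr (sub_eq_zero.1 h))
      rcases hroots _ (mul_ne_zero (inv_ne_zero ha) ha') with h | h | h <;> simp [h]
    have hsub : [pt hF f u₁, pt hF f u₂, pt hF f u₃] ⊆ [T 1, T ω, T (ω + 1)] := by
      intro x hx
      simp only [List.mem_cons, List.not_mem_nil, or_false] at hx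
      rcases hx with rfl | rfl | rfl
      exacts [toT _ hu₁ out.1 n1 m1, toT _ hu₂ out.2.1 n2 m2, toT _ hu₃ out.2.2 n3 m3]
    have hp3 := (List.subperm_of_subset
      (List.nodup_cons.1 (List.nodup_cons.1 hnd).2).2 hsub).perm_of_length_le (by simp)
    exact fun x => hp3.mem_iff

/-- What commutes with every member commuting with `a` is `1` or `a`. -/
theorem eq_one_or_eq_of_commute {a y : Y} (ha : a ∈ D)
    (h : ∀ e ∈ D, Commute e a → Commute y e) : y = 1 ∨ y = a := by
  obtain ⟨p, hp, hpp, rfl⟩ := exists_pt hF f hf hk hD ha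
  obtain ⟨g, rfl⟩ := hf y
  have heig : ∀ r, r ≠ 0 → hh r r = 0 → hh r p = 0 → ∃ c : F, act g r = c • r := by
    intro r hr hrr hrp
    have hc := h _ (pt_mem hF f hf hk hD hr hrr) ((pt_commute hF f hk hr hp hrr hpp).2 hrp)
    have h1 := conj_pt hF f g hrr
    rw [hc.eq, mul_assoc, mul_inv_cancel, mul_one] at h1
    obtain ⟨c, -, hc'⟩ := pt_eq hF f hk (act_ne_zero hF g hr) (by rw [hh_act]; exact hrr) hrr h1.symm
    exact ⟨c, hc'⟩
  obtain ⟨μ, hμ⟩ := heig p hp hpp hpp
  have hμ0 : μ ≠ 0 := fun h0 => act_ne_zero hF g hp (by rw [hμ, h0, zero_smul])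
  have hiso : ∀ r, hh r r = 0 → hh r p = 0 → act g r = μ • r := by
    intro r hrr hrp
    by_cases hmem : r ∈ Submodule.span F ({p} : Set (Fin 6 → F))
    · obtain ⟨a, rfl⟩ := Submodule.mem_span_singleton.1 hmem
      rw [act_smul hF, hμ, smul_smul, smul_smul, mul_comm]
    have hr : r ≠ 0 := fun h0 => hmem (h0 ▸ zero_mem _)
    obtain ⟨c, hc⟩ := heig r hr hrr hrp
    have hrp0 : r + p ≠ 0 := fun h0 => hmem (by
      rw [vec_eq_of_add hF _ _ h0]; exact Submodule.subset_span rfl)
    obtain ⟨d, hd⟩ := heig (r + p) hrp0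
      (by simp [hh_add_left hF, hh_add_right hF, hrr, hrp, hpp, hh_symm_zero hF hrp])
      (by simp [hh_add_left hF, hrp, hpp])
    rw [act_add hF, hc, hμ, smul_add] at hd
    have h2 : (c + d) • r = (μ + d) • p := by
      refine vec_eq_of_add hF _ _ ?_
      rw [show (c + d) • r + (μ + d) • p = (c • r + μ • p) + (d • r + d • p) by module, hd,
        vec_add_self hF]
    by_cases hcd : c + d = 0
    · rw [hcd, zero_smul, eq_comm, smul_eq_zero] at h2
      have hμd := h2.resolve_right hp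
      rw [hc, show c = μ by linear_combination hcd - hμd]
    · exact absurd (Submodule.mem_span_singleton.2 ⟨(c + d)⁻¹ * (μ + d), by
        rw [← smul_smul, ← h2, smul_smul, inv_mul_cancel₀ hcd, one_smul]⟩) hmem
  -- every vector orthogonal to `p`
  have hperp : ∀ y, hh y p = 0 → act g y = μ • y := by
    intro y hyp
    rcases hh_self hF y with hyy | hyy
    · exact hiso y hyy hyp
    obtain ⟨z, hzp, hzy, hzz⟩ : ∃ z, hh z p = 0 ∧ hh z y = 0 ∧ hh z z = 1 := by
      by_contra! hno
      let φ : (Fin 6 → F) →ₗ[F] F × F :=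
        { toFun := fun z => (hh z p, hh z y)
          map_add' := fun a b => by simp [hh_add_left hF]
          map_smul' := fun c a => by simp [hh_smul_left hF] }
      have htot : ∀ z w, z ∈ LinearMap.ker φ → w ∈ LinearMap.ker φ → hh z w = 0 := by
        have hself : ∀ z, z ∈ LinearMap.ker φ → hh z z = 0 := fun z hz => by
          obtain ⟨h1, h2⟩ := Prod.mk.inj (LinearMap.mem_ker.1 hz)
          exact (hh_self hF z).resolve_right (hno z h1 h2)
        intro z w hz hw
        obtain ⟨ω, hω⟩ := exists_omega hF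
        have e1 := hself _ (add_mem hz hw)
        have e2 := hself _ (add_mem hz (Submodule.smul_mem _ ω hw))
        simp only [hh_add_left hF, hh_add_right hF, hh_smul_left hF, hh_smul_right hF, hself z hz,
          hself w hw, mul_zero, add_zero, zero_add] at e1 e2
        linear_combination (ω * e1 - e2) - hh z w * hω +
          (hh z w * ω ^ 2 + hh z w * (-ω)) * add_self hF 1 * 0 + hh z w * ω ^ 2 * add_self hF 1
      -- the kernel is inside `span (p, y)`
      have hle : LinearMap.ker φ ≤ Submodule.span F {p} := by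
        intro z hz
        have hzS : z ∈ Submodule.span F ({p, y} : Set (Fin 6 → F)) := by
          by_contra hzn
          obtain ⟨x, hx, hx'⟩ := exists_hh hF hzn
          have hxk : x ∈ LinearMap.ker φ := LinearMap.mem_ker.2 (Prod.ext
            (hx p (Submodule.subset_span (by simp))) (hx y (Submodule.subset_span (by simp))))
          rw [htot x z hxk hz] at hx'
          exact zero_ne_one hx'
        obtain ⟨a, b, rfl⟩ := Submodule.mem_span_pair.1 hzS
        have hb : hh (a • p + b • y) y = 0 := (Prod.mk.inj (LinearMap.mem_ker.1 hz)).2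
        rw [hh_add_left hF, hh_smul_left hF, hh_smul_left hF, hyy, hh_symm_zero hF hyp,
          mul_zero, zero_add, mul_one] at hb
        rw [hb, zero_smul, add_zero]
        exact Submodule.smul_mem _ _ (Submodule.subset_span rfl)
      have h1 := LinearMap.finrank_range_add_finrank_ker φ
      have h2 : Module.finrank F (LinearMap.range φ) ≤ 2 := by
        simpa using Submodule.finrank_le (LinearMap.range φ)
      have h3 := (Submodule.finrank_mono hle).trans (le_of_eq (finrank_span_singleton hp))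
      simp at h1
      omega
    obtain ⟨ω, hω⟩ := exists_omega hF
    have hω0 : ω ≠ 0 := fun h => by rw [h] at hω; simp at hω
    have hyz := hh_symm_zero hF hzy
    have k1 := hiso (y + z) (by
      simp [hh_add_left hF, hh_add_right hF, hyy, hzz, hyz, hzy, add_self hF])
      (by simp [hh_add_left hF, hyp, hzp])
    have k2 := hiso (y + ω • z) (by
      simp only [hh_add_left hF, hh_add_right hF, hh_smul_left hF, hh_smul_right hF, hyy, hzz,
        hyz, hzy, mul_zero, add_zero, zero_add, mul_one]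
      linear_combination cube_one hF hω0 + add_self hF 1)
      (by simp [hh_add_left hF, hh_smul_left hF, hyp, hzp])
    rw [act_add hF] at k1 k2
    rw [act_smul hF] at k2
    have hz0 : act g z = μ • z := by
      have hω1 : 1 - ω ≠ 0 := fun h => by
        rw [show ω = 1 by linear_combination -h] at hω
        exact one_ne_zero (hω.symm.trans (by rw [one_pow, add_self hF]))
      refine smul_right_injective (Fin 6 → F) hω1 ?_
      show (1 - ω) • act g z = (1 - ω) • (μ • z)
      linear_combination (norm := module) k1 - k2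
    linear_combination (norm := module) k1 - hz0
  obtain ⟨v, hvv, hpv⟩ := exists_partner hF hp hpp
  have hvp := hh_symm_one hF hpv
  obtain ⟨w, ew⟩ : ∃ w, w = act g v + μ • v := ⟨_, rfl⟩
  have hgv : act g v = μ • v + w := by
    rw [ew, add_comm (act g v), ← add_assoc, vec_add_self hF, zero_add]
  have hwy : ∀ y, hh y p = 0 → hh w y = 0 := by
    intro y hy
    have h1 := hh_act g v y
    rw [hgv, hperp y hy, hh_add_left hF, hh_smul_left hF, hh_smul_right hF, hh_smul_right hF] at h1
    linear_combination μ * h1 - (μ * hh v y + hh w y) * cube_one hF hμ0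
  have hw : w ∈ Submodule.span F ({p} : Set (Fin 6 → F)) := by
    by_contra hn
    obtain ⟨x, hx, hx'⟩ := exists_hh hF hn
    rw [hh_symm_zero hF (hwy x (hx p (Submodule.subset_span rfl)))] at hx'
    exact zero_ne_one hx'
  obtain ⟨c, rfl⟩ := Submodule.mem_span_singleton.1 hw
  have hc := hh_act g v v
  rw [hgv, hvv] at hc
  simp only [hh_add_left hF, hh_add_right hF, hh_smul_left hF, hh_smul_right hF, hvv, hpp, hvp,
    hpv, mul_zero, add_zero, zero_add, mul_one] at hc
  have hall : ∀ x, act g x = μ • x + (hh x p * c) • p := by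
    intro x
    have hx := hperp (x + hh x p • v) (by
      rw [hh_add_left hF, hh_smul_left hF, hvp, mul_one, add_self hF])
    rw [act_add hF, act_smul hF, hgv] at hx
    linear_combination (norm := module) hx - vec_add_self hF ((hh x p * c) • p)
  have hε : (c * μ ^ 2) ^ 2 = c * μ ^ 2 := by
    linear_combination hc + (μ * c ^ 2) * cube_one hF hμ0 - add_self hF (μ ^ 2 * c)
  rcases fixed hF hε with h0 | h1
  · left
    have hc0 : c = 0 := (mul_eq_zero.1 h0).resolve_right (pow_ne_zero _ hμ0)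
    refine (map_eq_one_iff' hF f hk).2 (mem_center_of_scalar hF (c := μ) fun x => ?_)
    rw [hall, hc0, mul_zero, zero_smul, add_zero]
  · right
    have hcμ : c = μ := by linear_combination μ * h1 - c * cube_one hF hμ0
    have hz : g * tv hF p ∈ Subgroup.center ↥(Cfsg.SU 6 F 2) := by
      refine mem_center_of_scalar hF (c := μ) fun x => ?_
      rw [act_mul, tv_act hF hpp, act_add hF, act_smul hF, hall, hμ, hcμ, smul_smul, add_assoc,
        vec_add_self hF, add_zero]
    have h2 := (map_eq_one_iff' hF f hk).2 hz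
    rw [map_mul] at h2
    rw [eq_inv_of_mul_eq_one_left h2, ← pt, inv_eq hD.1 ha]

theorem exists_noncommuting : ∃ a ∈ D, ∃ b ∈ D, ¬ Commute a b := by
  obtain ⟨p, hp, hpp⟩ := exists_iso hF
  obtain ⟨v, hvv, hpv⟩ := exists_partner hF hp hpp
  have hv : v ≠ 0 := fun h => by rw [h, hh_zero_right hF] at hpv; exact zero_ne_one hpv
  refine ⟨_, pt_mem hF f hf hk hD hp hpp, _, pt_mem hF f hf hk hD hv hvv, fun h => ?_⟩
  rw [(pt_commute hF f hk hp hv hpp hvv).1 h] at hpv
  exact zero_ne_one hpv

theorem center_trivial : Subgroup.center Y = ⊥ := by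
  rw [eq_bot_iff]
  intro y hy
  rw [Subgroup.mem_bot]
  obtain ⟨a, ha, b, hb, hab⟩ := exists_noncommuting hF f hf hk hD
  have hy' : ∀ e, Commute y e := fun e => (Subgroup.mem_center_iff.1 hy e).symm
  rcases eq_one_or_eq_of_commute hF f hf hk hD ha fun e _ _ => hy' e with h | h
  · exact h
  · exact absurd (h ▸ hy' b) hab

theorem no_twins {a b : Y} (ha : a ∈ D) (hb : b ∈ D)
    (h : ∀ e ∈ D, Commute b e ↔ Commute a e) : a = b :=
  ((eq_one_or_eq_of_commute hF f hf hk hD ha fun e he hc => (h e he).2 hc.symm).resolve_left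
    (invol_ne_one (hD.1.1 b hb))).symm

theorem conj_all {a b : Y} (ha : a ∈ D) (hb : b ∈ D) : ∃ g : Y, g * a * g⁻¹ = b := by
  obtain ⟨p, hp, hpp, rfl⟩ := exists_pt hF f hf hk hD ha
  obtain ⟨r, hr, hrr, rfl⟩ := exists_pt hF f hf hk hD hb
  have step : ∀ {p r : Fin 6 → F}, p ≠ 0 → r ≠ 0 → hh p p = 0 → hh r r = 0 → hh p r ≠ 0 →
      ∃ g : Y, g * pt hF f p * g⁻¹ = pt hF f r := fun {p r} h1 h2 h3 h4 h5 =>
    ⟨_, conj_of_noncomm hD.1 (pt_mem hF f hf hk hD h1 h3) (pt_mem hF f hf hk hD h2 h4)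
      fun h => h5 ((pt_commute hF f hk h1 h2 h3 h4).1 h)⟩
  by_cases hpr : hh p r = 0
  · obtain ⟨s, hs, hss, hsp, hsr⟩ := exists_isotropic_ne hF hp hr hpp hpr
    obtain ⟨g, hg⟩ := step hp hs hpp hss fun h => hsp (hh_symm_zero hF h)
    obtain ⟨k, hk'⟩ := step hs hr hss hrr hsr
    exact ⟨k * g, by rw [← hk', ← hg]; group⟩
  · exact step hp hr hpp hrr hpr

theorem card_dvd : 2 ^ 15 ∣ Nat.card Y := by
  have hY : Nat.card Y = Nat.card (Cfsg.PSU 6 F 2) := by
    rw [← Nat.card_congr (QuotientGroup.quotientKerEquivOfSurjective f hf).toEquiv, hk]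
  rw [hY]
  have h := card_psu_mul hF (n := 6) (by norm_num)
  rw [card_gu hF] at h
  simp [Finset.prod_range_succ, Nat.even_iff] at h
  omega

end CfsgLib.Trans3.Fi
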