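import Cfsg.Agent.Lib.Trans3.Fi.U6Semi

/-!
Elements `g` of `SU₆(2)` with `g³ = 1`: the three eigenspaces are non-degenerate, pairwise
orthogonal, span the space and have congruent dimensions modulo 3; isotropic vectors of a
non-degenerate subspace are counted through an orthonormal basis.
-/

set_option autoImplicit false
set_option linter.unusedSectionVars false
set_option linter.style.haveILetI false

namespace CfsgLib.Trans3.Fi.U6Eigen

open Matrix CfsgLib.MaxSub CfsgLib.Classical CfsgLib.Trans3.TvSU CfsgLib.Trans3.Fi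
open scoped _root_.Classical

variable {F : Type*} [Field F] [Fintype F] (hF : Fintype.card F = 2 ^ 2)

/-- An eigenspace. -/
noncomputable abbrev eig (g : ↥(Cfsg.SU 6 F 2)) (a : F) : Submodule F (Fin 6 → F) :=
  Module.End.eigenspace (lin g) a

theorem mem_eig {g : ↥(Cfsg.SU 6 F 2)} {a : F} {v : Fin 6 → F} :
    v ∈ eig g a ↔ act g v = a • v := by
  rw [Module.End.mem_eigenspace_iff, lin_apply]

/-- A non-degenerate subspace. -/
def Nondeg (S : Submodule F (Fin 6 → F)) : Prop :=
  ∀ v ∈ S, (∀ w ∈ S, hh w v = 0) → v = 0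

/-- The form with a fixed second argument. -/
noncomputable def hhL (v : Fin 6 → F) : (Fin 6 → F) →ₗ[F] F where
  toFun x := Cfsg.hermForm 6 F 2 x v
  map_add' x y := by simp [Cfsg.hermForm, add_mul, Finset.sum_add_distrib]
  map_smul' c x := by simp [Cfsg.hermForm, Finset.mul_sum, mul_assoc]

theorem hhL_apply (v x : Fin 6 → F) : hhL v x = hh x v := rfl

include hF

/-- Eigenvectors of different eigenvalues are orthogonal. -/
theorem eig_orth {g : ↥(Cfsg.SU 6 F 2)} {a b : F} (hab : a ≠ b) {v w : Fin 6 → F}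
    (hv : v ∈ eig g a) (hw : w ∈ eig g b) : hh v w = 0 := by
  by_contra h
  have hw0 : w ≠ 0 := fun e => h (by rw [e, hh_zero_right hF])
  exact hab (eigen_eq hF hw0 (mem_eig.1 hv) (mem_eig.1 hw) h)

theorem units_cases {ω : F} (hω : ω + ω ^ 2 = 1) (a : Fˣ) :
    (a : F) = 1 ∨ (a : F) = ω ∨ (a : F) = ω ^ 2 := by
  by_contra! h
  have h0 := a.ne_zero
  have h3 := cube_one hF h0
  have h2 := add_self hF (1 : F)
  have hr : (a : F) ^ 2 + a + 1 = 0 := by
    refine (mul_eq_zero.1 ?_).resolve_left (sub_ne_zero.2 h.1)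
    linear_combination h3
  have : ((a : F) - ω) * ((a : F) - ω ^ 2) = 0 := by
    have e3 : ω ^ 3 = 1 := cube_one hF (fun e => by rw [e] at hω; simp at hω)
    linear_combination hr - (a : F) * hω + e3 - (a : F) * h2
  rcases mul_eq_zero.1 this with e | e
  · exact h.2.1 (sub_eq_zero.1 e)
  · exact h.2.2 (sub_eq_zero.1 e)

theorem sup_eig_eq_top {g : ↥(Cfsg.SU 6 F 2)} (hg : g ^ 3 = 1) :
    ⨆ a : Fˣ, eig g (a : F) = ⊤ := by
  refine eq_top_iff.2 fun x _ => ?_
  obtain ⟨ω, hω⟩ := exists_omega hF
  have hω0 : ω ≠ 0 := fun e => by rw [e] at hω; simp at hω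
  have h2 := add_self hF (1 : F)
  have e3 : ω ^ 3 = 1 := cube_one hF hω0
  have h3 : ∀ v, act g (act g (act g v)) = v := fun v => by
    rw [← act_mul, ← act_mul, ← pow_three', hg, act_one]
  let P : F → (Fin 6 → F) := fun a => x + (a ^ 2) • act g x + a • act g (act g x)
  have hP : ∀ a : F, a ≠ 0 → P a ∈ eig g a := by
    intro a ha
    refine mem_eig.2 ?_
    simp only [P, act_add hF, act_smul hF, h3, smul_add, smul_smul]
    rw [show a * a ^ 2 = 1 by linear_combination cube_one hF ha, one_smul,
      show a * a = a ^ 2 by ring]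
    abel
  have hsum : P 1 + P ω + P (ω ^ 2) = x := by
    funext i
    simp only [P, Pi.add_apply, Pi.smul_apply, smul_eq_mul]
    linear_combination (x i) * h2 + (act g x i) * (hω + h2 + ω * e3) +
      (act g (act g x) i) * (hω + h2)
  rw [← hsum]
  refine add_mem (add_mem ?_ ?_) ?_
  · exact Submodule.mem_iSup_of_mem 1 (by simpa using hP 1 one_ne_zero)
  · exact Submodule.mem_iSup_of_mem (Units.mk0 ω hω0) (hP ω hω0)
  · exact Submodule.mem_iSup_of_mem (Units.mk0 (ω ^ 2) (pow_ne_zero 2 hω0))
      (hP _ (pow_ne_zero 2 hω0))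

theorem nondeg_eig {g : ↥(Cfsg.SU 6 F 2)} (hg : g ^ 3 = 1) (a : Fˣ) :
    Nondeg (eig g (a : F)) := by
  intro v hv h
  refine eq_zero_of_hh hF fun x => ?_
  have hx : x ∈ ⨆ b : Fˣ, eig g (b : F) := sup_eig_eq_top hF hg ▸ Submodule.mem_top
  have hle : ⨆ b : Fˣ, eig g (b : F) ≤ LinearMap.ker (hhL v) := iSup_le fun b w hw => by
    rw [LinearMap.mem_ker, hhL_apply]
    by_cases hb : (b : F) = (a : F)
    · exact h w (hb ▸ hw)
    · exact eig_orth hF hb hw hv
  exact LinearMap.mem_ker.1 (hle hx)

/-- The dimensions of the eigenspaces: their sum and the determinant condition. -/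
theorem dims {g : ↥(Cfsg.SU 6 F 2)} (hg : g ^ 3 = 1) :
    ∑ a : Fˣ, Module.finrank F (eig g (a : F)) = 6 ∧
      ∏ a : Fˣ, (a : F) ^ Module.finrank F (eig g (a : F)) = 1 := by
  classical
  obtain ⟨d, ed⟩ : ∃ d : Fˣ → ℕ, ∀ a, d a = Module.finrank F (eig g (a : F)) := ⟨_, fun _ => rfl⟩
  have hint : DirectSum.IsInternal (fun a : Fˣ => eig g (a : F)) :=
    DirectSum.isInternal_submodule_of_iSupIndep_of_iSup_eq_top
      ((Module.End.eigenspaces_iSupIndep (lin g)).comp Units.val_injective) (sup_eig_eq_top hF hg)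
  let B := hint.collectedBasis fun a => Module.finBasis F (eig g (a : F))
  have hc : Fintype.card ((a : Fˣ) × Fin (Module.finrank F (eig g (a : F)))) = 6 := by
    rw [← Module.finrank_eq_card_basis B, Module.finrank_pi, Fintype.card_fin]
  have hsum : ∑ a : Fˣ, Module.finrank F (eig g (a : F)) = 6 := by
    simpa [Fintype.card_sigma] using hc
  refine ⟨hsum, ?_⟩
  let e := Fintype.equivFinOfCardEq hc
  have h := det_monomial hF (g := g) (b := fun j => B (e.symm j))
    (B.linearIndependent.comp _ e.symm.injective) 1 (fun j => ((e.symm j).1 : F)) fun j => by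
      rw [Equiv.Perm.one_apply]
      exact mem_eig.1 (hint.collectedBasis_mem _ (e.symm j))
  rw [Equiv.prod_comp e.symm (fun s => ((s.1 : Fˣ) : F)), Fintype.prod_sigma] at h
  simpa using h

/-- Congruent dimensions. -/
theorem dims_mod {g : ↥(Cfsg.SU 6 F 2)} (hg : g ^ 3 = 1) (a b : Fˣ) :
    Module.finrank F (eig g (a : F)) % 3 = Module.finrank F (eig g (b : F)) % 3 := by
  classical
  obtain ⟨ω, hω⟩ := exists_omega hF
  have hω0 : ω ≠ 0 := fun e => by rw [e] at hω; simp at hω
  have h2 := add_self hF (1 : F)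
  have e3 : ω ^ 3 = 1 := cube_one hF hω0
  have n1 : ω ≠ 1 := fun e => by rw [e, one_pow, h2] at hω; exact zero_ne_one hω
  let u : Fˣ := Units.mk0 ω hω0
  have hu3 : u ^ 3 = 1 := Units.ext e3
  have hord : orderOf u = 3 := by
    haveI : Fact (Nat.Prime 3) := ⟨Nat.prime_three⟩
    exact orderOf_eq_prime hu3 fun e => n1 (congrArg Units.val e)
  have huniv : (Finset.univ : Finset Fˣ) = {1, u, u ^ 2} := by
    refine (Finset.eq_univ_of_card ({1, u, u ^ 2} : Finset Fˣ) ?_).symm
    · rw [Fintype.card_units, hF]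
      rw [Finset.card_insert_of_notMem, Finset.card_pair]
      · norm_num
      · intro e
        have := congrArg Units.val e
        simp only [Units.val_pow_eq_pow_val, u, Units.val_mk0] at this
        exact n1 (mul_left_cancel₀ hω0 (by linear_combination -this))
      · simp only [Finset.mem_insert, Finset.mem_singleton, not_or]
        refine ⟨fun e => n1 (congrArg Units.val e).symm, fun e => ?_⟩
        have := congrArg orderOf e
        rw [orderOf_one, orderOf_pow' u two_ne_zero, hord] at this
        norm_num at this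
  obtain ⟨hsum, hprod⟩ := dims hF hg
  have hprod' : ∏ a : Fˣ, a ^ Module.finrank F (eig g (a : F)) = 1 := Units.ext (by
    push_cast [Units.val_pow_eq_pow_val]; exact hprod)
  have hne1 : (1 : Fˣ) ∉ ({u, u ^ 2} : Finset Fˣ) := by
    simp only [Finset.mem_insert, Finset.mem_singleton, not_or]
    refine ⟨fun e => n1 (congrArg Units.val e).symm, fun e => ?_⟩
    have := congrArg orderOf e
    rw [orderOf_one, orderOf_pow' u two_ne_zero, hord] at this
    norm_num at this
  have hne2 : u ∉ ({u ^ 2} : Finset Fˣ) := by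
    rw [Finset.mem_singleton]
    intro e
    exact n1 (mul_left_cancel₀ hω0 (by
      have := congrArg Units.val e
      simp only [Units.val_pow_eq_pow_val, u, Units.val_mk0] at this
      linear_combination -this))
  rw [huniv, Finset.sum_insert hne1, Finset.sum_insert hne2, Finset.sum_singleton] at hsum
  rw [huniv, Finset.prod_insert hne1, Finset.prod_insert hne2, Finset.prod_singleton, one_pow,
    one_mul, ← pow_mul, ← pow_add] at hprod'
  have hdvd := orderOf_dvd_of_pow_eq_one hprod'
  rw [hord] at hdvd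
  have key : ∀ c : Fˣ, c = 1 ∨ c = u ∨ c = u ^ 2 := fun c => by
    have := Finset.mem_univ c
    rw [huniv] at this
    simpa using this
  rcases key a with rfl | rfl | rfl <;> rcases key b with rfl | rfl | rfl <;> omega

/-- An orthonormal basis. -/
theorem exists_orthonormal : ∀ (n : ℕ) (S : Submodule F (Fin 6 → F)), Nondeg S →
    Module.finrank F S = n → ∃ b : Fin n → (Fin 6 → F), (∀ i, b i ∈ S) ∧
      ∀ i j, hh (b i) (b j) = if i = j then 1 else 0 := by
  intro n
  induction n with
  | zero => exact fun S _ _ => ⟨fun i => i.elim0, fun i => i.elim0, fun i => i.elim0⟩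
  | succ n ih =>
    intro S hS hn
    obtain ⟨v, hvS, hv⟩ : ∃ v ∈ S, hh v v = 1 := by
      by_contra hcon
      push Not at hcon
      have h0 : ∀ x ∈ S, hh x x = 0 := fun x hx => (hh_self hF x).resolve_right (hcon x hx)
      have hsq : ∀ x ∈ S, ∀ y ∈ S, hh x y ^ 2 = hh x y := fun x hx y hy => by
        have := h0 _ (add_mem hx hy)
        rw [hh_add_left hF, hh_add_right hF, hh_add_right hF, h0 x hx, h0 y hy, zero_add,
          add_zero, ← hh_conj hF x y] at this
        linear_combination this - hh x y * add_self hF (1 : F)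
      obtain ⟨ω, hω⟩ := exists_omega hF
      have hne : S ≠ ⊥ := fun e => by rw [e, finrank_bot] at hn; omega
      obtain ⟨x, hx, hx0⟩ := S.exists_mem_ne_zero_of_ne_bot hne
      refine hx0 (hS x hx fun w hw => ?_)
      have h1 := hsq w hw x hx
      have h3 := hsq _ (S.smul_mem ω hw) x hx
      rw [hh_smul_left hF] at h3
      rcases fixed hF h1 with e | e
      · exact e
      · exfalso
        rw [e, mul_one] at h3
        rcases fixed hF h3 with e' | e' <;> rw [e'] at hω
        · simp at hω
        · rw [one_pow, add_self hF] at hω; exact zero_ne_one hω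
    obtain ⟨S', eS'⟩ : ∃ S', S' = S ⊓ LinearMap.ker (hhL v) := ⟨_, rfl⟩
    have hmem : ∀ x, x ∈ S' ↔ x ∈ S ∧ hh x v = 0 := fun x => by
      rw [eS', Submodule.mem_inf, LinearMap.mem_ker, hhL_apply]
    have hsplit : ∀ x ∈ S, x + hh x v • v ∈ S' := fun x hx =>
      (hmem _).2 ⟨add_mem hx (S.smul_mem _ hvS), by
        rw [hh_add_left hF, hh_smul_left hF, hv, mul_one, add_self hF]⟩
    have hv0 : v ≠ 0 := fun e => by rw [e, hh_zero_left hF] at hv; exact zero_ne_one hv
    have hsup : S' ⊔ Submodule.span F {v} = S := by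
      refine le_antisymm (sup_le (eS' ▸ inf_le_left) (by simpa using hvS)) fun x hx => ?_
      have e : x = (x + hh x v • v) + hh x v • v := by
        rw [add_assoc, vec_add_self hF, add_zero]
      rw [e]
      exact Submodule.add_mem_sup (hsplit x hx)
        (Submodule.smul_mem _ _ (Submodule.mem_span_singleton_self v))
    have hinf : S' ⊓ Submodule.span F {v} = ⊥ := by
      refine (Submodule.eq_bot_iff _).2 fun x hx => ?_
      obtain ⟨h1, h3⟩ := Submodule.mem_inf.1 hx
      obtain ⟨c, rfl⟩ := Submodule.mem_span_singleton.1 h3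
      have := ((hmem _).1 h1).2
      rw [hh_smul_left hF, hv, mul_one] at this
      rw [this, zero_smul]
    have hrank : Module.finrank F S' = n := by
      have h := Submodule.finrank_sup_add_finrank_inf_eq S' (Submodule.span F {v})
      rw [hsup, hinf, hn, finrank_span_singleton hv0, finrank_bot] at h
      omega
    obtain ⟨b, hbS, hb⟩ := ih S' (fun x hx h => hS x ((hmem x).1 hx).1 fun w hw => by
      have h1 := h _ (hsplit w hw)
      rw [hh_add_left hF, hh_smul_left hF, hh_symm_zero hF ((hmem x).1 hx).2, mul_zero,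
        add_zero] at h1
      exact h1) hrank
    refine ⟨Fin.cons v b, fun i => ?_, fun i j => ?_⟩
    · induction i using Fin.cases with
      | zero => exact hvS
      | succ i => exact ((hmem _).1 (hbS i)).1
    · induction i using Fin.cases with
      | zero =>
        induction j using Fin.cases with
        | zero => simpa using hv
        | succ j =>
          simp [(Fin.succ_ne_zero j).symm, hh_symm_zero hF ((hmem _).1 (hbS j)).2]
      | succ i =>
        induction j using Fin.cases with
        | zero => simp [Fin.succ_ne_zero i, ((hmem _).1 (hbS i)).2]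
        | succ j => simpa [Fin.succ_inj] using hb i j

/-- Isotropic vectors of a non-degenerate subspace. -/
theorem card_iso {S : Submodule F (Fin 6 → F)} (hS : Nondeg S) {n : ℕ}
    (hn : Module.finrank F S = n) :
    2 * (Nat.card {v : Fin 6 → F // v ∈ S ∧ hh v v = 0} : ℤ) =
      2 ^ (2 * n) + (-1) ^ n * (2 ^ (n + 1) - 2 ^ n) := by
  classical
  obtain ⟨b, hbS, hb⟩ := exists_orthonormal hF n S hS hn
  let T : (Fin n → F) →ₗ[F] S :=
    { toFun := fun c => ⟨∑ i, c i • b i, Submodule.sum_mem _ fun i _ => S.smul_mem _ (hbS i)⟩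
      map_add' := fun c d => Subtype.ext (by simp [add_smul, Finset.sum_add_distrib])
      map_smul' := fun k c => Subtype.ext (by simp [Finset.smul_sum, smul_smul]) }
  have hTb : ∀ c j, hh (T c : Fin 6 → F) (b j) = c j := fun c j => by
    show hhL (b j) (∑ i, c i • b i) = c j
    simp only [map_sum, map_smul, hhL_apply, hb, smul_eq_mul]
    simp
  have hinj : Function.Injective T := fun c d h => funext fun j => by
    rw [← hTb c j, ← hTb d j, h]
  have hsurj : Function.Surjective T := (LinearMap.injective_iff_surjective_of_finrank_eq_finrank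
    (by rw [Module.finrank_pi, Fintype.card_fin, hn])).1 hinj
  have hself : ∀ c, hh (T c : Fin 6 → F) (T c : Fin 6 → F) = Cfsg.hermForm n F 2 c c := fun c => by
    rw [hermForm_self]
    show hhL (T c : Fin 6 → F) (∑ i, c i • b i) = _
    rw [map_sum]
    refine Finset.sum_congr rfl fun i _ => ?_
    rw [map_smul, hhL_apply, ← hh_conj hF, hTb, smul_eq_mul]
    ring
  have e : {c : Fin n → F // Cfsg.hermForm n F 2 c c = 0} ≃
      {v : Fin 6 → F // v ∈ S ∧ hh v v = 0} :=
    (Equiv.ofBijective T ⟨hinj, hsurj⟩ |>.subtypeEquiv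
      (p := fun c => Cfsg.hermForm n F 2 c c = 0) (q := fun v : S => hh (v : Fin 6 → F) (v : Fin 6 → F) = 0)
      fun c => by rw [← hself]; rfl).trans
      (Equiv.subtypeSubtypeEquivSubtypeInter (fun v : Fin 6 → F => v ∈ S) fun v => hh v v = 0)
  rw [← Nat.card_congr e]
  exact card_herm_zero_int hF n

theorem card_iso_values {S : Submodule F (Fin 6 → F)} (hS : Nondeg S) :
    (Module.finrank F S = 1 → Nat.card {v : Fin 6 → F // v ∈ S ∧ hh v v = 0} = 1) ∧
    (Module.finrank F S = 2 → Nat.card {v : Fin 6 → F // v ∈ S ∧ hh v v = 0} = 10) ∧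
    (Module.finrank F S = 3 → Nat.card {v : Fin 6 → F // v ∈ S ∧ hh v v = 0} = 28) := by
  refine ⟨fun h => ?_, fun h => ?_, fun h => ?_⟩ <;>
  · have := card_iso hF hS h
    norm_num [-Nat.card_eq_fintype_card] at this
    omega

end CfsgLib.Trans3.Fi.U6Eigen
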