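import Cfsg.Agent.Lib.Trans3.Fi.U6Semi
import Cfsg.Agent.Lib.Trans3.Fi.PLocalUp
import Cfsg.Agent.Lib.Trans3.Sym
import Cfsg.Agent.Lib.Trans3.Fi.U6Rad

/-!
An element of order five of `PSU₆(2)` commutes with three transvections; with one of them it
centralises a group of order ten.
-/

set_option autoImplicit false
set_option linter.unusedSectionVars false
set_option linter.unusedSimpArgs false
set_option linter.style.haveILetI false

namespace CfsgLib.Trans3.Fi

open Matrix CfsgLib.MaxSub CfsgLib.Classical CfsgLib.Trans3.TvSU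

variable {F : Type*} [Field F] [Fintype F] (hF : Fintype.card F = 2 ^ 2)

section Model

variable {g : ↥(Cfsg.SU 6 F 2)} (hg : g ^ 5 = 1)
include hF hg

local notation "T" => lin g

/-- A quadratic in `g`. -/
def qQ (g : ↥(Cfsg.SU 6 F 2)) (c : F) (v : Fin 6 → F) : Fin 6 → F :=
  act g (act g v) + c • act g v + v

theorem five_id (v : Fin 6 → F) : T (T (T (T (T v)))) = v := by
  simp only [lin_apply, ← act_mul]
  rw [show g * (g * (g * (g * g))) = g ^ 5 by simp [pow_succ, mul_assoc]]
  rw [hg, act_one]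

theorem five_hh (u v : Fin 6 → F) : hh (T u) (T v) = hh u v := by
  rw [lin_apply, lin_apply, hh_act]

theorem five_prod {c : F} (hc : c + c ^ 2 = 1) (v : Fin 6 → F) :
    qQ g c (qQ g (c ^ 2) v) = v + T v + T (T v) + T (T (T v)) + T (T (T (T v))) ∧
      qQ g (c ^ 2) (qQ g c v) = qQ g c (qQ g (c ^ 2) v) := by
  have hc0 : c ≠ 0 := fun h => by rw [h] at hc; simp at hc
  have h3 : c ^ 3 - 1 = 0 := by rw [cube_one hF hc0, sub_self]
  have h1 : c + c ^ 2 - 1 = 0 := by rw [hc, sub_self]
  simp only [qQ, ← lin_apply, map_add, map_smul]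
  constructor
  · linear_combination (norm := module) vec_add_self hF (T (T v)) + h3 • T (T v) +
      h1 • (T (T (T v)) + T v)
  · module

theorem five_recover {c : F} (hc : c + c ^ 2 = 1) {v : Fin 6 → F}
    (_h : qQ g c (qQ g (c ^ 2) v) = 0) :
    v = T (T (T (T (qQ g c v + qQ g (c ^ 2) v)))) := by
  have h1 : c + c ^ 2 - 1 = 0 := by rw [hc, sub_self]
  simp only [qQ, ← lin_apply, map_add, map_smul, five_id hF hg]
  linear_combination (norm := module) -(vec_add_self hF (T v)) -
    vec_add_self hF (T (T (T (T v)))) - h1 • v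

theorem five_zero {c : F} (hc : c + c ^ 2 = 1) {v : Fin 6 → F} (h1 : qQ g c v = 0)
    (h2 : qQ g (c ^ 2) v = 0) : v = 0 := by
  have h : qQ g c (qQ g (c ^ 2) v) = 0 := by
    rw [h2]; simp [qQ, ← lin_apply]
  rw [five_recover hF hg hc h, h1, h2]
  simp

omit hg in
theorem root_sq {c : F} (hc : c + c ^ 2 = 1) : c ^ 2 + (c ^ 2) ^ 2 = 1 := by
  rw [pow_four hF, add_comm, hc]

theorem five_iso {c : F} (hc : c + c ^ 2 = 1) {u v : Fin 6 → F} (hu : qQ g c u = 0)
    (hv : qQ g c v = 0) : hh u v = 0 := by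
  have h : qQ g c (qQ g (c ^ 2) v) = 0 := by
    rw [← (five_prod hF hg hc v).2, hv]; simp [qQ, ← lin_apply]
  obtain ⟨y, ey⟩ : ∃ y, v = qQ g (c ^ 2) y := ⟨T (T (T (T v))), by
    conv_lhs => rw [five_recover hF hg hc h, hv, zero_add]
    simp only [qQ, ← lin_apply, map_add, map_smul, five_id hF hg]⟩
  rw [ey]
  have a1 : ∀ u z, hh u (T z) = hh (T (T (T (T u)))) z := fun u z => by
    conv_lhs => rw [← five_id hF hg u, five_hh hF hg]
  have e : T (T (T u)) + c • T (T (T (T u))) + u = T (T (T (qQ g c u))) := by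
    simp only [qQ, ← lin_apply, map_add, map_smul, five_id hF hg]; abel
  have e2 : hh u (qQ g (c ^ 2) y) = hh (T (T (T u)) + c • T (T (T (T u))) + u) y := by
    simp only [qQ, ← lin_apply, hh_add_right hF, hh_smul_right hF, pow_four hF, a1, five_id hF hg,
      hh_add_left hF, hh_smul_left hF]
  rw [e2, e, hu]
  simp [hh_zero_left hF]

theorem five_fix_orth {c : F} (hc : c + c ^ 2 = 1) {v k : Fin 6 → F} (hv : qQ g c v = 0)
    (hk : T k = k) : hh v k = 0 := by
  have e : ∀ z, hh (T z) k = hh z k := fun z => by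
    conv_lhs => rw [← hk, five_hh hF hg]
  have h : qQ g c (qQ g (c ^ 2) v) = 0 := by
    rw [← (five_prod hF hg hc v).2, hv]; simp [qQ, ← lin_apply]
  rw [(five_prod hF hg hc v).1] at h
  have h' := congrArg (fun z => hh z k) h
  simp only [hh_add_left hF, e, hh_zero_left hF] at h'
  linear_combination h' - 2 * add_self hF (hh v k)

theorem five_indep {c : F} (hc : c + c ^ 2 = 1) {w : Fin 6 → F} (hw : qQ g c w = 0) (hw0 : w ≠ 0)
    {a b : F} (h : a • w + b • T w = 0) : a = 0 ∧ b = 0 := by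
  by_cases hb : b = 0
  · subst hb
    rw [zero_smul, add_zero, smul_eq_zero] at h
    exact ⟨h.resolve_right hw0, rfl⟩
  exfalso
  obtain ⟨γ, eγ⟩ : ∃ γ, γ = b⁻¹ * a := ⟨_, rfl⟩
  have hγ : T w = γ • w := by
    rw [eγ, ← smul_smul, vec_eq_of_add hF _ _ h, smul_smul, inv_mul_cancel₀ hb, one_smul]
  rw [qQ] at hw
  simp only [← lin_apply, hγ, map_smul, smul_smul] at hw
  have h1 : (γ * γ + c * γ + 1) • w = 0 := by rw [← hw]; module
  have h2 := (smul_eq_zero.1 h1).resolve_right hw0
  have hγ0 : γ ≠ 0 := fun e => by rw [e] at h2; simp at h2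
  have hc0 : c ≠ 0 := fun e => by rw [e] at hc; simp at hc
  have h4 : c * γ * γ + γ + 1 = 0 := by linear_combination γ * h2 - cube_one hF hγ0
  have h5 : c * (γ + c) = 0 := by
    linear_combination h4 + c * h2 - c * γ ^ 2 * add_self hF 1 -
      (1 - c) * γ * add_self hF 1 - c * add_self hF 1 - γ * hc + hc
  have hγc : γ = c := by
    linear_combination (mul_eq_zero.1 h5).resolve_left hc0 - add_self hF c
  rw [hγc] at h2
  exact one_ne_zero (by linear_combination h2 - c ^ 2 * add_self hF 1 : (1 : F) = 0)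

theorem five_ker {c : F} (hc : c + c ^ 2 = 1) (a b : F) {w : Fin 6 → F} (hw : qQ g c w = 0) :
    qQ g c (a • w + b • T w) = 0 := by
  have e : qQ g c (a • w + b • T w) = a • qQ g c w + b • T (qQ g c w) := by
    simp only [qQ, ← lin_apply, map_add, map_smul]; module
  rw [e, hw]; simp

theorem five_sum_fixed (z : Fin 6 → F) {c : F} (hc : c + c ^ 2 = 1) :
    T (qQ g c (qQ g (c ^ 2) z)) = qQ g c (qQ g (c ^ 2) z) := by
  rw [(five_prod hF hg hc z).1]; simp only [map_add, five_id hF hg]; abel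

theorem five_sum_idem (z : Fin 6 → F) {c : F} (hc : c + c ^ 2 = 1) :
    qQ g c (qQ g (c ^ 2) (z + qQ g c (qQ g (c ^ 2) z))) = 0 := by
  obtain ⟨k, ek⟩ : ∃ k, k = qQ g c (qQ g (c ^ 2) z) := ⟨_, rfl⟩
  have hk : T k = k := by rw [ek]; exact five_sum_fixed hF hg z hc
  have e := (five_prod hF hg hc (z + k)).1
  rw [← ek, e]
  simp only [map_add, hk]
  have ez := (five_prod hF hg hc z).1
  rw [← ek] at ez
  linear_combination (norm := module) -ez + (3 : F) • vec_add_self hF k

theorem five_exists (hne : g ≠ 1) {c : F} (hc : c + c ^ 2 = 1) : ∃ w, qQ g c w = 0 ∧ w ≠ 0 := by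
  by_contra! h
  have inB : ∀ z, qQ g c (qQ g (c ^ 2) z) = 0 → qQ g (c ^ 2) z = 0 := fun z hz => h _ hz
  obtain ⟨y, hy⟩ : ∃ y, act g y ≠ y := by
    by_contra! h
    exact hne (act_ext fun x => by rw [h, act_one])
  obtain ⟨v, ev⟩ : ∃ v, v = T y + y := ⟨_, rfl⟩
  have hS : qQ g c (qQ g (c ^ 2) v) = 0 := by
    rw [(five_prod hF hg hc v).1, ev]
    simp only [map_add, five_id hF hg]
    linear_combination (norm := module) vec_add_self hF y + vec_add_self hF (T y) +
      vec_add_self hF (T (T y)) + vec_add_self hF (T (T (T y))) + vec_add_self hF (T (T (T (T y))))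
  refine hy ?_
  rw [← lin_apply]
  refine vec_eq_of_add hF _ _ (ev ▸ eq_zero_of_hh hF fun z => hh_symm_zero hF ?_)
  obtain ⟨k, ek⟩ : ∃ k, k = qQ g c (qQ g (c ^ 2) z) := ⟨_, rfl⟩
  have hz : z = (z + k) + k := by rw [add_assoc, vec_add_self hF, add_zero]
  rw [hz, hh_add_right hF,
    five_iso hF hg (root_sq hF hc) (inB v hS) (inB _ (by rw [ek]; exact five_sum_idem hF hg z hc)),
    five_fix_orth hF hg (root_sq hF hc) (inB v hS) (by rw [ek]; exact five_sum_fixed hF hg z hc),
    add_zero]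

/-- The frame: a fixed hyperbolic pair and one vector in each kernel. -/
structure Frame (g : ↥(Cfsg.SU 6 F 2)) (c : F) (p q w u : Fin 6 → F) : Prop where
  root : c + c ^ 2 = 1
  fp : act g p = p
  fq : act g q = q
  pp : hh p p = 0
  qq : hh q q = 0
  pq : hh p q = 1
  kw : qQ g c w = 0
  w0 : w ≠ 0
  ku : qQ g (c ^ 2) u = 0
  u0 : u ≠ 0

theorem five_exists_frame (hne : g ≠ 1) {p : Fin 6 → F} (hp : p ≠ 0) (hpp : hh p p = 0)
    (hfp : act g p = p) : ∃ c q w u, Frame g c p q w u := by
  obtain ⟨c, hc⟩ := exists_omega hF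
  obtain ⟨v, hvv, hpv⟩ := exists_partner hF hp hpp
  obtain ⟨k, ek⟩ : ∃ k, k = qQ g c (qQ g (c ^ 2) v) := ⟨_, rfl⟩
  have hk : T k = k := by rw [ek]; exact five_sum_fixed hF hg v hc
  have e : ∀ z, hh p (T z) = hh p z := fun z => by
    conv_lhs => rw [← hfp, ← lin_apply, five_hh hF hg]
  have hpk : hh p k = 1 := by
    rw [ek, (five_prod hF hg hc v).1]
    simp only [hh_add_right hF, e, hpv]
    linear_combination 2 * add_self hF 1
  obtain ⟨l, h1, h2⟩ := exists_pair hF hpp hpk
  obtain ⟨w, hw, hw0⟩ := five_exists hF hg hne hc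
  obtain ⟨u, hu, hu0⟩ := five_exists hF hg hne (root_sq hF hc)
  exact ⟨c, k + l • p, w, u, hc, hfp, by
    rw [← lin_apply, map_add, map_smul, hk, lin_apply, hfp], hpp, h1, h2, hw, hw0, hu, hu0⟩

variable {c : F} {p q w u : Fin 6 → F} (hfr : Frame g c p q w u)
include hfr

theorem frame_kpart (a b : F) : T (a • p + b • q) = a • p + b • q := by
  rw [map_add, map_smul, map_smul, lin_apply, lin_apply, hfr.fp, hfr.fq]

theorem frame_indep : LinearIndependent F ![p, q, w, T w, u, T u] := by
  rw [Fintype.linearIndependent_iff]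
  intro a ha
  rw [Fin.sum_univ_six] at ha
  simp only [Matrix.cons_val] at ha
  obtain ⟨v, ev⟩ : ∃ v, v = a 2 • w + a 3 • T w := ⟨_, rfl⟩
  obtain ⟨r, er⟩ : ∃ r, r = a 4 • u + a 5 • T u := ⟨_, rfl⟩
  have hv : qQ g c v = 0 := by rw [ev]; exact five_ker hF hg hfr.root _ _ hfr.kw
  have hr : qQ g (c ^ 2) r = 0 := by
    rw [er]; exact five_ker hF hg (root_sq hF hfr.root) _ _ hfr.ku
  have hsum : (a 0 • p + a 1 • q) + (v + r) = 0 := by rw [← ha, ev, er]; abel
  have horth : ∀ z, T z = z → hh z (a 0 • p + a 1 • q) = 0 := by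
    intro z hz
    rw [vec_eq_of_add hF _ _ hsum, hh_add_right hF,
      hh_symm_zero hF (five_fix_orth hF hg hfr.root hv hz),
      hh_symm_zero hF (five_fix_orth hF hg (root_sq hF hfr.root) hr hz), add_zero]
  have hp' := horth p (by rw [lin_apply, hfr.fp])
  have hq' := horth q (by rw [lin_apply, hfr.fq])
  simp only [hh_add_right hF, hh_smul_right hF, hfr.pp, hfr.qq, hfr.pq, hh_symm_one hF hfr.pq,
    mul_zero, mul_one, zero_add, add_zero] at hp' hq'
  have h0 : a 0 = 0 := pow_eq_zero_iff two_ne_zero |>.1 hq'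
  have h1 : a 1 = 0 := pow_eq_zero_iff two_ne_zero |>.1 hp'
  rw [h0, h1, zero_smul, zero_smul, add_zero, zero_add] at hsum
  have hvr := vec_eq_of_add hF _ _ hsum
  have hv0 : v = 0 := five_zero hF hg hfr.root hv (by rw [hvr]; exact hr)
  obtain ⟨h2, h3⟩ := five_indep hF hg hfr.root hfr.kw hfr.w0 (ev.symm.trans hv0)
  obtain ⟨h4, h5⟩ := five_indep hF hg (root_sq hF hfr.root) hfr.ku hfr.u0
    (er.symm.trans (hvr.symm.trans hv0))
  intro i
  fin_cases i <;> assumption

theorem frame_span (v : Fin 6 → F) : ∃ a b a' b' a'' b'' : F,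
    v = (a • p + b • q) + ((a' • w + b' • T w) + (a'' • u + b'' • T u)) := by
  have h : v ∈ Submodule.span F (Set.range ![p, q, w, T w, u, T u]) := by
    rw [span_six (frame_indep hF hg hfr)]; trivial
  obtain ⟨a, ha⟩ := (Submodule.mem_span_range_iff_exists_fun F).1 h
  rw [Fin.sum_univ_six] at ha
  simp only [Matrix.cons_val] at ha
  exact ⟨a 0, a 1, a 2, a 3, a 4, a 5, by rw [← ha]; abel⟩

theorem frame_fixed {k : Fin 6 → F} (hk : T k = k) : ∃ a b : F, k = a • p + b • q := by
  obtain ⟨a, b, a', b', a'', b'', e⟩ := frame_span hF hg hfr k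
  refine ⟨a, b, ?_⟩
  obtain ⟨r, er⟩ : ∃ r, r = (a' • w + b' • T w) + (a'' • u + b'' • T u) := ⟨_, rfl⟩
  rw [← er] at e
  have hr : T r = r := by
    have h := hk
    rw [e, map_add, frame_kpart hF hg hfr] at h
    exact add_left_cancel h
  have hS : qQ g c (qQ g (c ^ 2) r) = r := by
    rw [(five_prod hF hg hfr.root r).1]
    simp only [hr]
    linear_combination (norm := module) (2 : F) • vec_add_self hF r
  have hadd : ∀ d x y, qQ g d (x + y) = qQ g d x + qQ g d y := fun d x y => by
    simp only [qQ, ← lin_apply, map_add, smul_add]; abel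
  have hz : ∀ d, qQ g d (0 : Fin 6 → F) = 0 := fun d => by simp [qQ, ← lin_apply]
  have hr0 : r = 0 := by
    rw [← hS, er, hadd, hadd, five_ker hF hg (root_sq hF hfr.root) _ _ hfr.ku, hz, add_zero,
      ← (five_prod hF hg hfr.root _).2, five_ker hF hg hfr.root _ _ hfr.kw, hz]
  rw [e, hr0, add_zero]

theorem frame_kernel {v : Fin 6 → F} (hv : qQ g c v = 0) : ∃ a b : F, v = a • w + b • T w := by
  obtain ⟨a, b, a', b', a'', b'', e⟩ := frame_span hF hg hfr v
  refine ⟨a', b', ?_⟩
  obtain ⟨r, er⟩ : ∃ r, r = a'' • u + b'' • T u := ⟨_, rfl⟩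
  obtain ⟨k, ek⟩ : ∃ k, k = a • p + b • q := ⟨_, rfl⟩
  rw [← er, ← ek] at e
  have hadd : ∀ d x y, qQ g d (x + y) = qQ g d x + qQ g d y := fun d x y => by
    simp only [qQ, ← lin_apply, map_add, smul_add]; abel
  have hz : ∀ d, qQ g d (0 : Fin 6 → F) = 0 := fun d => by simp [qQ, ← lin_apply]
  have hw := five_ker hF hg hfr.root a' b' hfr.kw
  have hr : qQ g (c ^ 2) r = 0 := by
    rw [er]; exact five_ker hF hg (root_sq hF hfr.root) _ _ hfr.ku
  have h1 : qQ g c k + qQ g c r = 0 := by
    rw [← hv, e, hadd, hadd, hw, zero_add]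
  have hk0 : k = 0 := by
    have h2 := congrArg (qQ g (c ^ 2)) h1
    rw [hadd, (five_prod hF hg hfr.root k).2, (five_prod hF hg hfr.root r).2, hr, hz, hz,
      add_zero, (five_prod hF hg hfr.root k).1] at h2
    have hTk : T k = k := by rw [ek]; exact frame_kpart hF hg hfr a b
    simp only [hTk] at h2
    linear_combination (norm := module) h2 - (2 : F) • vec_add_self hF k
  rw [hk0, hz, zero_add] at h1
  rw [e, hk0, five_zero hF hg hfr.root h1 hr, add_zero, zero_add]

theorem frame_rigid {k : ↥(Cfsg.SU 6 F 2)} (hk : Commute k g) {l : F} (hl : l ^ 3 = 1)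
    (hkp : act k p = l • p) (hkq : act k q = l • q) {w' : Fin 6 → F} (hw' : qQ g c w' = 0)
    (hw'0 : w' ≠ 0) (hkw : act k w' = l • w') : ∀ x, act k x = l • x := by
  have hfr' : Frame g c p q w' u :=
    ⟨hfr.root, hfr.fp, hfr.fq, hfr.pp, hfr.qq, hfr.pq, hw', hw'0, hfr.ku, hfr.u0⟩
  rw [← lin_apply] at hkp hkq hkw
  have hkT : ∀ x, lin k (T x) = T (lin k x) := fun x => by
    simp only [lin_apply, ← act_mul, hk.eq]
  have hlK : ∀ a b : F, lin k (a • p + b • q) = l • (a • p + b • q) := fun a b => by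
    rw [map_add, map_smul, map_smul, hkp, hkq]; module
  have hlA : ∀ a b : F, lin k (a • w' + b • T w') = l • (a • w' + b • T w') := fun a b => by
    simp only [map_add, map_smul, hkT, hkw]; module
  have hlB : ∀ v, qQ g (c ^ 2) v = 0 → lin k v = l • v := by
    intro v hv
    refine vec_eq_of_add hF _ _ (eq_zero_of_hh hF fun x => hh_symm_zero hF ?_)
    obtain ⟨a, b, a', b', a'', b'', rfl⟩ := frame_span hF hg hfr' x
    have hb : qQ g (c ^ 2) (lin k v + l • v) = 0 := by
      have : qQ g (c ^ 2) (lin k v + l • v) = lin k (qQ g (c ^ 2) v) + l • qQ g (c ^ 2) v := by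
        simp only [qQ, ← lin_apply, map_add, map_smul, hkT]; module
      rw [this, hv]; simp
    rw [hh_add_right hF _ (a • p + b • q), hh_add_right hF _ (a' • w' + b' • T w'),
      five_fix_orth hF hg (root_sq hF hfr.root) hb (frame_kpart hF hg hfr a b),
      five_iso hF hg (root_sq hF hfr.root) hb
        (five_ker hF hg (root_sq hF hfr.root) a'' b'' hfr.ku), zero_add, add_zero]
    obtain ⟨y, ey⟩ : ∃ y, y = a' • w' + b' • T w' := ⟨_, rfl⟩
    rw [← ey]
    have h2 : hh (lin k v) (lin k y) = hh v y := by rw [lin_apply, lin_apply, hh_act]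
    rw [ey, hlA, ← ey, hh_smul_right hF] at h2
    rw [hh_add_left hF, hh_smul_left hF]
    linear_combination l * h2 - hh (lin k v) y * hl + add_self hF (l * hh v y)
  intro x
  obtain ⟨a, b, a', b', a'', b'', rfl⟩ := frame_span hF hg hfr' x
  rw [← lin_apply, map_add, map_add (lin k) (a' • w' + b' • T w'), hlK, hlA,
    hlB _ (five_ker hF hg (root_sq hF hfr.root) a'' b'' hfr.ku)]
  module

/-- What commutes with `g` and fixes the pair is a power of `g`. -/
theorem frame_fix_group (hne : g ≠ 1) {k : ↥(Cfsg.SU 6 F 2)} (hk : Commute k g)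
    (hkp : act k p = p) (hkq : act k q = q) : k ∈ Subgroup.zpowers g := by
  let H : Subgroup ↥(Cfsg.SU 6 F 2) :=
    { carrier := {k | Commute k g ∧ act k p = p ∧ act k q = q}
      one_mem' := ⟨Commute.one_left g, act_one p, act_one q⟩
      mul_mem' := fun {a b} ha hb => ⟨ha.1.mul_left hb.1, by rw [act_mul, hb.2.1, ha.2.1],
        by rw [act_mul, hb.2.2, ha.2.2]⟩
      inv_mem' := fun {a} ha => ⟨ha.1.inv_left, by conv_lhs => rw [← ha.2.1, act_inv],
        by conv_lhs => rw [← ha.2.2, act_inv]⟩ }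
  have h15 : Nat.card ↥H ∣ 15 := by
    have h := card_dvd_of_free (H := H) (A := {v | qQ g c v = 0 ∧ v ≠ 0}) (fun j hj a ha => by
        refine ⟨?_, act_ne_zero hF j ha.2⟩
        have hjT : ∀ x, lin j (T x) = T (lin j x) := fun x => by
          simp only [lin_apply, ← act_mul, hj.1.eq]
        have : qQ g c (lin j a) = lin j (qQ g c a) := by
          simp only [qQ, ← lin_apply, map_add, map_smul, hjT]
        rw [← lin_apply, this, ha.1, map_zero])
      (fun j hj a ha hja => act_ext fun x => by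
        rw [act_one, frame_rigid hF hg hfr hj.1 (one_pow 3) (by rw [hj.2.1, one_smul])
          (by rw [hj.2.2, one_smul]) ha.1 ha.2 (by rw [hja, one_smul]) x, one_smul])
    have hA : {v | qQ g c v = 0 ∧ v ≠ 0}.ncard = 15 := by
      obtain ⟨φ, eφ⟩ : ∃ φ : F × F → (Fin 6 → F), φ = fun t => t.1 • w + t.2 • T w := ⟨_, rfl⟩
      have hinj : Function.Injective φ := by
        rintro ⟨a, b⟩ ⟨a', b'⟩ h
        rw [eφ] at h
        simp only at h
        obtain ⟨h1, h2⟩ := five_indep hF hg hfr.root hfr.kw hfr.w0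
          (a := a - a') (b := b - b') (by linear_combination (norm := module) h)
        rw [sub_eq_zero] at h1 h2
        simp [h1, h2]
      have himg : {v | qQ g c v = 0 ∧ v ≠ 0} = φ '' ({(0, 0)}ᶜ) := by
        ext v
        constructor
        · rintro ⟨hv, hv0⟩
          obtain ⟨a, b, rfl⟩ := frame_kernel hF hg hfr hv
          refine ⟨(a, b), fun e => hv0 ?_, by rw [eφ]⟩
          simp only [Set.mem_singleton_iff, Prod.mk.injEq] at e
          simp [e.1, e.2]
        · rintro ⟨t, ht, rfl⟩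
          refine ⟨by rw [eφ]; exact five_ker hF hg hfr.root _ _ hfr.kw,
            fun e => ht (hinj (e.trans ?_))⟩
          rw [eφ]; simp
      rw [himg, Set.ncard_image_of_injective _ hinj, Set.ncard_compl, Set.ncard_singleton,
        Nat.card_prod, Nat.card_eq_fintype_card, hF]
      norm_num
    rwa [hA] at h
  have hno3 : ¬ 3 ∣ Nat.card ↥H := by
    intro h3
    haveI := Fact.mk Nat.prime_three
    obtain ⟨j₀, ho₀⟩ := exists_prime_orderOf_dvd_card' 3 h3
    obtain ⟨j, hjg, hjp, hjq, ho⟩ : ∃ j, Commute j g ∧ act j p = p ∧ act j q = q ∧ orderOf j = 3 :=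
      ⟨j₀.1, j₀.2.1, j₀.2.2.1, j₀.2.2.2, (Subgroup.orderOf_coe j₀).trans ho₀⟩
    have hj3 : ∀ x, lin j (lin j (lin j x)) = x := fun x => by
      simp only [lin_apply, ← act_mul]
      rw [show j * (j * j) = j ^ 3 by simp [pow_succ, mul_assoc], ← ho, pow_orderOf_eq_one, act_one]
    have hjT : ∀ x, lin j (T x) = T (lin j x) := fun x => by
      simp only [lin_apply, ← act_mul, hjg.eq]
    have qmap : ∀ d z, qQ g d (lin j z) = lin j (qQ g d z) := fun d z => by
      simp only [qQ, ← lin_apply, map_add, map_smul, hjT]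
    obtain ⟨ω, hω⟩ := exists_omega hF
    have hω0 : ω ≠ 0 := fun h => by rw [h] at hω; simp at hω
    have w3 := cube_one hF hω0
    obtain ⟨v, l, hv, hv0, hl, hjv⟩ :
        ∃ v l, qQ g c v = 0 ∧ v ≠ 0 ∧ l ^ 3 = (1 : F) ∧ act j v = l • v := by
      obtain ⟨v₁, e₁⟩ : ∃ v, v = lin j w + w := ⟨_, rfl⟩
      have hadd : ∀ x y, qQ g c (x + y) = qQ g c x + qQ g c y := fun x y => by
        simp only [qQ, ← lin_apply, map_add, smul_add]; abel
      have hA₁ : qQ g c v₁ = 0 := by rw [e₁, hadd, qmap, hfr.kw, map_zero, add_zero]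
      by_cases h₁ : v₁ = 0
      · exact ⟨w, 1, hfr.kw, hfr.w0, one_pow 3, by
          rw [one_smul, ← lin_apply]; exact vec_eq_of_add hF _ _ (e₁.symm.trans h₁)⟩
      obtain ⟨v₂, e₂⟩ : ∃ v, v = lin j v₁ + ω • v₁ := ⟨_, rfl⟩
      by_cases h₂ : v₂ = 0
      · exact ⟨v₁, ω, hA₁, h₁, w3, by
          rw [← lin_apply]; exact vec_eq_of_add hF _ _ (e₂.symm.trans h₂)⟩
      refine ⟨v₂, ω ^ 2, ?_, h₂, by
        rw [← pow_mul, show 2 * 3 = 3 * 2 from rfl, pow_mul, w3, one_pow], ?_⟩
      · have hs : qQ g c (ω • v₁) = ω • qQ g c v₁ := by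
          simp only [qQ, ← lin_apply, map_smul]; module
        rw [e₂, hadd, qmap, hs, hA₁, map_zero, smul_zero, add_zero]
      · rw [← lin_apply, e₂, e₁]
        simp only [map_add, map_smul, hj3]
        refine vec_eq_of_add hF _ _ ?_
        have e1 : ω ^ 3 - 1 = 0 := by rw [w3, sub_self]
        have e2 : ω + ω ^ 2 - 1 = 0 := by rw [hω, sub_self]
        linear_combination (norm := module) (vec_add_self hF (lin j (lin j w))) +
          (vec_add_self hF (lin j w)) + (vec_add_self hF w) + e1 • (lin j w + w) +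
          e2 • (lin j (lin j w) + lin j w)
    obtain ⟨j', ej'⟩ : ∃ j', j' = j := ⟨_, rfl⟩
    have hfr' : Frame g c p q v u :=
      ⟨hfr.root, hfr.fp, hfr.fq, hfr.pp, hfr.qq, hfr.pq, hv, hv0, hfr.ku, hfr.u0⟩
    rw [← lin_apply] at hjv
    have hju : lin j u = l • u := by
      refine vec_eq_of_add hF _ _ (eq_zero_of_hh hF fun x => hh_symm_zero hF ?_)
      obtain ⟨a, b, a', b', a'', b'', rfl⟩ := frame_span hF hg hfr' x
      have hb : qQ g (c ^ 2) (lin j u + l • u) = 0 := by
        have : qQ g (c ^ 2) (lin j u + l • u) = lin j (qQ g (c ^ 2) u) + l • qQ g (c ^ 2) u := by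
          simp only [qQ, ← lin_apply, map_add, map_smul, hjT]; module
        rw [this, hfr.ku]; simp
      rw [hh_add_right hF _ (a • p + b • q), hh_add_right hF _ (a' • v + b' • T v),
        five_fix_orth hF hg (root_sq hF hfr.root) hb (frame_kpart hF hg hfr a b),
        five_iso hF hg (root_sq hF hfr.root) hb
          (five_ker hF hg (root_sq hF hfr.root) a'' b'' hfr.ku), zero_add, add_zero]
      obtain ⟨y, ey⟩ : ∃ y, y = a' • v + b' • T v := ⟨_, rfl⟩
      rw [← ey]
      have hy : lin j y = l • y := by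
        rw [ey]; simp only [map_add, map_smul, hjT, hjv]; module
      have h2 : hh (lin j u) (lin j y) = hh u y := by rw [lin_apply, lin_apply, hh_act]
      rw [hy, hh_smul_right hF] at h2
      rw [hh_add_left hF, hh_smul_left hF]
      linear_combination l * h2 - hh (lin j u) y * hl + add_self hF (l * hh u y)
    have hd := det_monomial hF (g := j) (frame_indep hF hg hfr') 1 ![1, 1, l, l, l, l] (fun i => by
      rw [← lin_apply]
      fin_cases i <;> simp [hjT, hjv, hju] <;> simp [lin_apply, hjp, hjq])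
    simp [Fin.prod_univ_succ] at hd
    have hl1 : l = 1 := by linear_combination hd - l * hl
    rw [hl1, lin_apply] at hjv
    have : j = 1 := act_ext fun x => by
      rw [act_one, frame_rigid hF hg hfr hjg (one_pow 3) (by rw [hjp, one_smul])
        (by rw [hjq, one_smul]) hv hv0 hjv x, one_smul]
    rw [this, orderOf_one] at ho
    omega
  have hgH : Subgroup.zpowers g ≤ H := Subgroup.zpowers_le.2 ⟨Commute.refl g, hfr.fp, hfr.fq⟩
  haveI := Fact.mk (show Nat.Prime 5 by norm_num)
  have hcard : Nat.card ↥(Subgroup.zpowers g) = 5 := by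
    rw [Nat.card_zpowers, orderOf_eq_prime hg hne]
  have heq := Subgroup.eq_of_le_of_card_ge hgH (by
    rw [hcard]
    have hle := Nat.le_of_dvd (by norm_num) h15
    generalize Nat.card ↥H = m at h15 hno3 hle ⊢
    interval_cases m <;> omega)
  rw [heq]
  exact ⟨hk, hkp, hkq⟩

end Model

variable {Y : Type*} [Group Y] [Finite Y] {D : Set Y} (f : ↥(Cfsg.SU 6 F 2) →* Y)
  (hf : Function.Surjective f) (hk : f.ker = Subgroup.center ↥(Cfsg.SU 6 F 2))
  (hD : Cfsg.IsThreeTranspositionGroup D)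
include hF hf hk hD

/-- An eigenvector of a fixed member is fixed. -/
theorem five_eigen {g : ↥(Cfsg.SU 6 F 2)} (hg : g ^ 5 = 1) {p : Fin 6 → F} (hp : p ≠ 0)
    (hpp : hh p p = 0) (h : Commute (pt hF f p) (f g)) : act g p = p := by
  obtain ⟨α, hα0, hα⟩ := eigen_of_commute hF f hf hk hD hp hpp h.symm
  have h5 := five_id hF hg p
  simp only [lin_apply] at h5
  simp only [hα, act_smul hF, smul_smul] at h5
  have : α * α * α * α * α = 1 := smul_vec_cancel hF hp (by rw [one_smul]; exact h5)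
  have hα1 : α = 1 := by
    have h3 := cube_one hF hα0
    linear_combination -α * this + (α * α * α + 1) * h3
  rw [hα, hα1, one_smul]

theorem five_local {x : Y} (hx : orderOf x = 5) {d : Y} (hd : d ∈ D) (hdx : Commute d x) :
    SymConf 3 (Fx D x) ∧ Nat.card ↥(Subgroup.centralizer ({x} : Set Y) ⊓
      Subgroup.centralizer ({d} : Set Y)) = 10 := by
  obtain ⟨g, rfl, hg⟩ := exists_lift hF f hf hk (x := x) (p := 5) (m := 6)
    (by rw [← hx, pow_orderOf_eq_one]) (by norm_num) (by norm_num)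
  have hne : g ≠ 1 := fun e => by rw [e, map_one, orderOf_one] at hx; omega
  obtain ⟨p, hp, hpp, rfl⟩ := exists_pt hF f hf hk hD hd
  have hfp := five_eigen hF f hf hk hD hg hp hpp hdx
  obtain ⟨c, q, w, u, hfr⟩ := five_exists_frame hF hg hne hp hpp hfp
  have hq0 : q ≠ 0 := fun e => by
    have h := hfr.pq
    rw [e, hh_zero_right hF] at h
    exact zero_ne_one h
  have hqm : pt hF f q ∈ Fx D (f g) := ⟨pt_mem hF f hf hk hD hq0 hfr.qq, Commute.symm
    (commute_of_conj_eq (by rw [conj_pt hF f g hfr.qq, hfr.fq]))⟩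
  have hpm : pt hF f p ∈ Fx D (f g) := ⟨hd, hdx⟩
  have hnc : ¬ Commute (pt hF f p) (pt hF f q) := fun h => by
    have h' := (pt_commute hF f hk hp hq0 hpp hfr.qq).1 h
    rw [hfr.pq] at h'
    exact one_ne_zero h'
  have hclass : ∀ e ∈ Fx D (f g), e = pt hF f p ∨ e = pt hF f q ∨ e = pt hF f (p + q) := by
    rintro e ⟨he, hec⟩
    obtain ⟨r, hr, hrr, rfl⟩ := exists_pt hF f hf hk hD he
    have hfix := five_eigen hF f hf hk hD hg hr hrr hec
    obtain ⟨a, b, rfl⟩ := frame_fixed hF hg hfr (by rw [lin_apply]; exact hfix)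
    simp only [hh_add_left hF, hh_add_right hF, hh_smul_left hF, hh_smul_right hF, hpp, hfr.qq,
      hfr.pq, hh_symm_one hF hfr.pq, mul_zero, mul_one, zero_add, add_zero] at hrr
    by_cases hb : b = 0
    · subst hb
      rw [zero_smul, add_zero] at hr ⊢
      exact Or.inl (pt_smul hF f hpp fun e => hr (by rw [e, zero_smul]))
    by_cases ha : a = 0
    · subst ha
      rw [zero_smul, zero_add] at hr ⊢
      exact Or.inr (Or.inl (pt_smul hF f hfr.qq hb))
    · have hab : a = b := by
        have : a * b * (a + b) = 0 := by linear_combination hrr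
        exact vecless (mul_ne_zero ha hb) this
      subst hab
      right; right
      rw [← smul_add]
      exact pt_smul hF f (by
        simp [hh_add_left hF, hh_add_right hF, hpp, hfr.qq, hfr.pq, hh_symm_one hF hfr.pq,
          add_self hF]) ha
  refine ⟨?_, ?_⟩
  · obtain ⟨φ, hφ, f1, f2⟩ := exists_hom_perm_three (Trans3.sq_one hD.1 hd)
      (Trans3.sq_one hD.1 hqm.1) (braid hD.1 hd hqm.1 hnc) (ne_of_not_commute hnc)
      (invol_ne_one (hD.1.1 _ hd))
    refine ⟨φ, hφ, Set.eq_of_subset_of_ncard_le ?_ ?_ (Set.toFinite _)⟩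
    · rintro _ ⟨σ, ⟨a, b, hab, rfl⟩, rfl⟩
      have hsw : ∀ a b : Fin 3, a ≠ b → Equiv.swap a b = Equiv.swap 0 1 ∨
          Equiv.swap a b = Equiv.swap 1 2 ∨
          Equiv.swap a b = Equiv.swap 0 1 * Equiv.swap 1 2 * Equiv.swap 0 1 := by decide +kernel
      rcases hsw a b hab with e' | e' | e' <;> rw [e']
      · rw [f1]; exact hpm
      · rw [f2]; exact hqm
      · rw [map_mul, map_mul, f1, f2]; exact Fx_closed hD _ _ hpm _ hqm
    · rw [Set.ncard_image_of_injective _ hφ, ncard_swaps, Fintype.card_fin]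
      refine le_trans (Set.ncard_le_ncard (t := {pt hF f p, pt hF f q, pt hF f (p + q)})
        (fun e he => by simpa using hclass e he) (Set.toFinite _)) ?_
      exact le_trans (Set.ncard_insert_le _ _) (by
        have := Set.ncard_insert_le (pt hF f q) {pt hF f (p + q)}
        rw [Set.ncard_singleton] at this
        have : (3 : ℕ).choose 2 = 3 := rfl
        omega)
  · obtain ⟨d₀, ed₀⟩ : ∃ d₀, d₀ = pt hF f p := ⟨_, rfl⟩
    rw [← ed₀] at hdx hd ⊢
    have ho : orderOf (f g * d₀) = 10 := by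
      rw [(Commute.symm hdx).orderOf_mul_eq_mul_orderOf_of_coprime (by
        rw [hx, hD.1.1 d₀ hd]; norm_num), hx, hD.1.1 d₀ hd]
    have hxin : f g ∈ Subgroup.zpowers (f g * d₀) := by
      have h6 : (f g * d₀) ^ 6 = f g := by
        rw [(Commute.symm hdx).mul_pow]
        have e1 : f g ^ 6 = f g := by
          rw [pow_succ, show f g ^ 5 = 1 by rw [← hx, pow_orderOf_eq_one], one_mul]
        have e2 : d₀ ^ 6 = 1 := by
          calc d₀ ^ 6 = (d₀ ^ 2) ^ 3 := by rw [← pow_mul]
            _ = 1 := by rw [← hD.1.1 d₀ hd, pow_orderOf_eq_one, one_pow]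
        rw [e1, e2, mul_one]
      have h7 := Subgroup.npow_mem_zpowers (f g * d₀) 6
      rwa [h6] at h7
    have hdin : d₀ ∈ Subgroup.zpowers (f g * d₀) := by
      have := mul_mem (inv_mem hxin) (Subgroup.mem_zpowers (f g * d₀))
      rwa [inv_mul_cancel_left] at this
    rw [← ho, ← Nat.card_zpowers]
    refine congrArg (fun S : Subgroup Y => Nat.card ↥S) (le_antisymm (fun y hy => ?_) ?_)
    · obtain ⟨hy1, hy2⟩ := Subgroup.mem_inf.1 hy
      obtain ⟨k, rfl⟩ := hf y
      have hkg := comm_lift hF f hf hk hg (by norm_num)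
        (Subgroup.mem_centralizer_singleton_iff.1 hy1 : Commute (f k) (f g))
      obtain ⟨α, hα0, hα⟩ := eigen_of_commute hF f hf hk hD hp hpp
        (ed₀ ▸ (Subgroup.mem_centralizer_singleton_iff.1 hy2 : Commute (f k) d₀))
      obtain ⟨z, hz, hzact⟩ := exists_scalar hF (inv_ne_zero hα0)
      obtain ⟨k₁, ek₁⟩ : ∃ k₁, k₁ = z * k := ⟨_, rfl⟩
      have hfk : f k₁ = f k := by
        rw [ek₁, map_mul, (map_eq_one_iff' hF f hk).2 hz, one_mul]
      have hk₁g : Commute k₁ g := by
        rw [ek₁]; exact (Subgroup.mem_center_iff.1 hz g).symm.trans rfl |> fun h =>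
          (show Commute z g from h).mul_left hkg
      have hk₁p : act k₁ p = p := by
        rw [ek₁, act_mul, hα, hzact, smul_smul, inv_mul_cancel₀ hα0, one_smul]
      have hk₁q : act g (act k₁ q) = act k₁ q := by
        rw [← act_mul, ← hk₁g.eq, act_mul, hfr.fq]
      obtain ⟨a, b, hab⟩ := frame_fixed hF hg hfr (by rw [lin_apply]; exact hk₁q)
      have h1 := hh_act k₁ p q
      have h2 := hh_act k₁ q q
      rw [hk₁p, hab, hfr.pq] at h1
      rw [hab, hfr.qq] at h2
      simp only [hh_add_left hF, hh_add_right hF, hh_smul_left hF, hh_smul_right hF, hpp, hfr.qq,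
        hfr.pq, hh_symm_one hF hfr.pq, mul_zero, mul_one, zero_add, add_zero] at h1 h2
      have hb : b = 1 := by
        have := congrArg (fun t => t ^ 2) h1
        simpa [pow_four hF] using this
      subst hb
      have ha : a ^ 2 = a := by linear_combination h2 - add_self hF a
      have hin : ∀ j, Commute j g → act j p = p → act j q = q →
          f j ∈ Subgroup.zpowers (f g * d₀) := by
        intro j h1 h2 h3
        obtain ⟨i, rfl⟩ := Subgroup.mem_zpowers_iff.1 (frame_fix_group hF hg hfr hne h1 h2 h3)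
        rw [map_zpow]
        exact Subgroup.zpow_mem _ hxin i
      rw [← hfk]
      rcases fixed hF ha with rfl | rfl
      · exact hin k₁ hk₁g hk₁p (by rw [hab, zero_smul, one_smul, zero_add])
      · have htg : Commute (tv hF p) g := by
          have := conj_tv hF g hpp
          rw [hfp] at this
          exact (show Commute g (tv hF p) from mul_inv_eq_iff_eq_mul.1 this).symm
        have h3 := hin (tv hF p * k₁) (htg.mul_left hk₁g)
          (by rw [act_mul, hk₁p, tv_act hF hpp, hpp, zero_smul, add_zero])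
          (by
            rw [act_mul, hab, one_smul, one_smul, tv_act hF hpp, hh_add_left hF, hpp,
              hh_symm_one hF hfr.pq, zero_add, one_smul, add_comm p q, add_assoc, vec_add_self hF,
              add_zero])
        rw [map_mul] at h3
        have := mul_mem (inv_mem hdin) h3
        rwa [show f (tv hF p) = d₀ from ed₀.symm, inv_mul_cancel_left] at this
    · rw [Subgroup.zpowers_le, Subgroup.mem_inf]
      exact ⟨Subgroup.mem_centralizer_singleton_iff.2 ((Commute.refl (f g)).mul_left hdx).eq,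
        Subgroup.mem_centralizer_singleton_iff.2 ((Commute.symm hdx).mul_left (Commute.refl d₀)).eq⟩
where
  vecless {a b : F} {Q : F} (hQ : Q ≠ 0) (h : Q * (a + b) = 0) : a = b := by
    linear_combination (mul_eq_zero.1 h).resolve_left hQ - add_self hF b

end CfsgLib.Trans3.Fi
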