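import Cfsg.Agent.Lib.Trans3.Fi.Types

/-!
`PSU₆(2)`: two hyperovals of a totally isotropic plane sharing three points, and the members
orthogonal to all common partners of a non-commuting pair.
-/

set_option autoImplicit false
set_option linter.unusedSectionVars false
set_option linter.unusedSimpArgs false

namespace CfsgLib.Trans3.Fi

open Matrix CfsgLib.MaxSub CfsgLib.Classical CfsgLib.Trans3.TvSU

variable {F : Type*} [Field F] [Fintype F] (hF : Fintype.card F = 2 ^ 2)
variable {Y : Type*} [Group Y] {D : Set Y} (f : ↥(Cfsg.SU 6 F 2) →* Y)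
  (hf : Function.Surjective f) (hk : f.ker = Subgroup.center ↥(Cfsg.SU 6 F 2))
  (hD : Cfsg.IsThreeTranspositionGroup D)
include hF hf hk hD

omit hf hk hD in
theorem hh_single (i j : Fin 6) :
    hh (Pi.single i (1 : F) : Fin 6 → F) (Pi.single j 1) = if i = j then 1 else 0 := by
  show ∑ k, (Pi.single i (1 : F) : Fin 6 → F) k * (Pi.single j (1 : F) : Fin 6 → F) k ^ 2 = _
  rw [Finset.sum_eq_single i (fun k _ hk => by simp [hk]) (by simp), Pi.single_eq_same,
    Pi.single_apply]
  split_ifs <;> simp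

theorem planes : ∃ a b c x y z x' y' z' : Y,
    ([a, b, c, x, y, z].Nodup ∧ (∀ u ∈ [a, b, c, x, y, z], u ∈ D) ∧
      (∀ u ∈ [a, b, c, x, y, z], ∀ v ∈ [a, b, c, x, y, z], Commute u v) ∧
      [a, b, c, x, y, z].prod = 1) ∧
    ([a, b, c, x', y', z'].Nodup ∧ (∀ u ∈ [a, b, c, x', y', z'], u ∈ D) ∧
      (∀ u ∈ [a, b, c, x', y', z'], ∀ v ∈ [a, b, c, x', y', z'], Commute u v) ∧
      [a, b, c, x', y', z'].prod = 1) ∧ x ∉ [x', y', z'] := by
  obtain ⟨ω, hω⟩ := exists_omega hF
  have w2 : ω ^ 2 = ω + 1 := by linear_combination hω - add_self hF ω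
  have hω0 : ω ≠ 0 := fun h => by rw [h] at hω; simp at hω
  have hω1 : ω + 1 ≠ 0 := fun h => by
    rw [show ω = 1 by linear_combination h - add_self hF 1] at hω
    exact one_ne_zero (hω.symm.trans (by rw [one_pow, add_self hF]))
  have dω : ω ≠ 1 := fun h => hω1 (by rw [h]; exact add_self hF 1)
  have dω' : ω + 1 ≠ 1 := fun h => hω0 (by linear_combination h)
  have dω'' : ω + 1 ≠ ω := fun h => one_ne_zero (by linear_combination h : (1 : F) = 0)
  obtain ⟨w, ew⟩ : ∃ w : F → F → F → (Fin 6 → F), w = fun a b c => ![a, a, b, b, c, c] := ⟨_, rfl⟩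
  have hww : ∀ a b c a' b' c', hh (w a b c) (w a' b' c') = 0 := by
    intro a b c a' b' c'
    show ∑ k, w a b c k * w a' b' c' k ^ 2 = _
    simp only [ew, Fin.sum_univ_six, Matrix.cons_val_zero, Matrix.cons_val_one, Matrix.cons_val]
    linear_combination add_self hF (a * a' ^ 2) + add_self hF (b * b' ^ 2) +
      add_self hF (c * c' ^ 2)
  have hw0 : ∀ a b c, (a ≠ 0 ∨ b ≠ 0 ∨ c ≠ 0) → w a b c ≠ 0 := by
    intro a b c h h0
    rw [ew] at h0
    rcases h with h | h | h
    exacts [h (by simpa using congrFun h0 0), h (by simpa using congrFun h0 2),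
      h (by simpa using congrFun h0 4)]
  obtain ⟨T, eT⟩ : ∃ T : F × F × F → Y, T = fun v => pt hF f (w v.1 v.2.1 v.2.2) := ⟨_, rfl⟩
  have hne : ∀ u v : F × F × F, (u.1 ≠ 0 ∨ u.2.1 ≠ 0 ∨ u.2.2 ≠ 0) →
      (∀ a : F, u ≠ a • v) → T u ≠ T v := by
    intro u v hu h he
    rw [eT] at he
    obtain ⟨a, -, ha⟩ := pt_eq hF f hk (hw0 _ _ _ hu) (hww _ _ _ _ _ _) (hww _ _ _ _ _ _) he
    rw [ew] at ha
    refine h a (Prod.ext ?_ (Prod.ext ?_ ?_))
    exacts [by simpa using congrFun ha 0, by simpa using congrFun ha 2,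
      by simpa using congrFun ha 4]
  have block : ∀ (μ ν : F), μ ≠ 0 → ν ≠ 0 → ∀ (l : List (F × F × F)),
      l = [(1, 0, 0), (0, 1, 0), (0, 0, 1), (1, μ, ν), (1, ω * μ, (ω + 1) * ν),
        (1, (ω + 1) * μ, ω * ν)] →
      (l.map T).Nodup ∧ (∀ u ∈ l.map T, u ∈ D) ∧
        (∀ u ∈ l.map T, ∀ v ∈ l.map T, Commute u v) ∧ (l.map T).prod = 1 := by
    intro μ ν hμ hν l hl
    have hnz : ∀ u ∈ l, u.1 ≠ 0 ∨ u.2.1 ≠ 0 ∨ u.2.2 ≠ 0 := by
      subst hl; simp
    refine ⟨?_, ?_, ?_, ?_⟩
    · subst hl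
      simp only [List.map_cons, List.map_nil, List.nodup_cons, List.mem_cons, List.not_mem_nil,
        or_false, not_or, List.nodup_nil, and_true, not_false_eq_true]
      refine ⟨⟨?_, ?_, ?_, ?_, ?_⟩, ⟨?_, ?_, ?_, ?_⟩, ⟨?_, ?_, ?_⟩, ⟨?_, ?_⟩, ?_⟩ <;>
        refine hne _ _ (by simp) fun a ha => ?_ <;>
        simp only [Prod.smul_mk, smul_eq_mul, Prod.mk.injEq, mul_one, mul_zero] at ha <;>
        obtain ⟨h1, h2, h3⟩ := ha <;>
        first
          | exact one_ne_zero h1 | exact one_ne_zero h2 | exact one_ne_zero h3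
          | (subst h1; first
              | exact hμ (by simpa [hω0, hω1] using h2.symm)
              | exact hν (by simpa [hω0, hω1] using h3.symm)
              | (rw [one_mul] at h2
                 first
                   | exact dω (mul_right_cancel₀ hμ (h2.symm.trans (one_mul μ).symm))
                   | exact dω' (mul_right_cancel₀ hμ (h2.symm.trans (one_mul μ).symm))
                   | exact dω'' (mul_right_cancel₀ hμ h2.symm)))
    · intro u hu
      obtain ⟨v, hv, rfl⟩ := List.mem_map.1 hu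
      rw [eT]
      exact pt_mem hF f hf hk hD (hw0 _ _ _ (hnz v hv)) (hww _ _ _ _ _ _)
    · intro u hu v hv
      obtain ⟨u, hu', rfl⟩ := List.mem_map.1 hu
      obtain ⟨v, hv', rfl⟩ := List.mem_map.1 hv
      rw [eT]
      exact (pt_commute hF f hk (hw0 _ _ _ (hnz u hu')) (hw0 _ _ _ (hnz v hv')) (hww _ _ _ _ _ _)
        (hww _ _ _ _ _ _)).2 (hww _ _ _ _ _ _)
    · rw [show T = (fun g => f g) ∘ fun v => tv hF (w v.1 v.2.1 v.2.2) from eT, ← List.map_map,
        ← map_list_prod]
      refine (map_eq_one_iff' hF f hk).2 ?_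
      convert one_mem (Subgroup.center ↥(Cfsg.SU 6 F 2))
      refine act_ext fun x => ?_
      subst hl
      simp only [List.map_cons, List.map_nil, List.prod_cons, List.prod_nil, mul_one, act_mul,
        act_one, tv_act hF (hww _ _ _ _ _ _), hh_add_left hF, hh_smul_left hF, hww, mul_zero,
        add_zero]
      have hh_w : ∀ a b c, hh x (w a b c) = a ^ 2 * hh x (w 1 0 0) + b ^ 2 * hh x (w 0 1 0) +
          c ^ 2 * hh x (w 0 0 1) := by
        intro a b c
        rw [← hh_smul_right hF, ← hh_smul_right hF, ← hh_smul_right hF, ← hh_add_right hF,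
          ← hh_add_right hF]
        congr 1
        funext i
        fin_cases i <;> simp [ew]
      have hw_w : ∀ a b c, w a b c = a • w 1 0 0 + b • w 0 1 0 + c • w 0 0 1 := by
        intro a b c
        funext i
        fin_cases i <;> simp [ew]
      rw [hh_w 1 μ ν, hh_w 1 (ω * μ), hh_w 1 ((ω + 1) * μ), hw_w 1 μ ν, hw_w 1 (ω * μ),
        hw_w 1 ((ω + 1) * μ)]
      obtain ⟨X, eX⟩ : ∃ X, hh x (w 1 0 0) = X := ⟨_, rfl⟩
      obtain ⟨Y₁, eY⟩ : ∃ Y₁, hh x (w 0 1 0) = Y₁ := ⟨_, rfl⟩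
      obtain ⟨Z, eZ⟩ : ∃ Z, hh x (w 0 0 1) = Z := ⟨_, rfl⟩
      rw [eX, eY, eZ]
      have c1 := cube_one hF hμ
      have c2 := cube_one hF hν
      have c3 := cube_one hF hω0
      have c4 := cube_one hF hω1
      have two : (2 : F) = 0 := by rw [← one_add_one_eq_two]; exact add_self hF 1
      have hA : 1 + ω ^ 2 + (ω + 1) ^ 2 = 0 := by
        linear_combination 2 * w2 + (2 * ω + 2) * two
      have hP : 1 + ω + (ω + 1) = 0 := by linear_combination (ω + 1) * two
      have hR : 1 + ω ^ 3 + (ω + 1) ^ 3 = 1 := by linear_combination c3 + c4 + two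
      have hQ : 1 + ω * (ω + 1) ^ 2 + (ω + 1) * ω ^ 2 = 0 := by
        linear_combination (2 * ω + 5) * w2 + (4 * ω + 3) * two
      match_scalars
      · ring
      · linear_combination (μ ^ 2 * Y₁ + ν ^ 2 * Z) * hA + 2 * X * two
      · linear_combination μ * X * hP + μ * ν ^ 2 * Z * hQ + μ ^ 3 * Y₁ * hR + Y₁ * c1 + Y₁ * two
      · linear_combination ν * X * hP + ν * μ ^ 2 * Y₁ * hQ + ν ^ 3 * Z * hR + Z * c2 + Z * two
  obtain ⟨h1, h2, h3, h4⟩ := block 1 1 one_ne_zero one_ne_zero _ rfl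
  obtain ⟨k1, k2, k3, k4⟩ := block 1 ω one_ne_zero hω0 _ rfl
  simp only [List.map_cons, List.map_nil] at h1 h2 h3 h4 k1 k2 k3 k4
  refine ⟨_, _, _, _, _, _, _, _, _, ⟨h1, h2, h3, h4⟩, ⟨k1, k2, k3, k4⟩, ?_⟩
  simp only [List.mem_cons, List.not_mem_nil, or_false, not_or]
  refine ⟨?_, ?_, ?_⟩ <;> refine hne _ _ (by simp) fun a ha => ?_ <;>
    simp only [Prod.smul_mk, smul_eq_mul, Prod.mk.injEq, mul_one] at ha <;>
    obtain ⟨h1', h2', h3'⟩ := ha <;> subst h1' <;> simp only [one_mul] at h2' h3'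
  · exact dω h3'.symm
  · exact dω h2'.symm
  · exact dω' h2'.symm

/-- A member orthogonal to all common partners of a non-commuting pair is on its line. -/
theorem hyper {a c s : Y} (ha : a ∈ D) (hc : c ∈ D) (hs : s ∈ D) (hac : ¬ Commute a c)
    (h : ∀ e ∈ D, Commute e a → Commute e c → Commute e s) : s = a ∨ s = c ∨ s = a * c * a := by
  obtain ⟨p, hp, hpp, rfl⟩ := exists_pt hF f hf hk hD ha
  obtain ⟨r, hr, hrr, rfl⟩ := exists_pt hF f hf hk hD hc
  obtain ⟨u, hu, huu, rfl⟩ := exists_pt hF f hf hk hD hs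
  have hpr : hh p r ≠ 0 := fun h0 => hac ((pt_commute hF f hk hp hr hpp hrr).2 h0)
  -- normalise `h(p,r) = 1`
  obtain ⟨r', er⟩ : ∃ r', r' = hh p r • r := ⟨_, rfl⟩
  have hrp' : pt hF f r' = pt hF f r := by rw [er, pt_smul hF f hrr hpr]
  have hrr' : hh r' r' = 0 := by
    rw [er, hh_smul_left hF, hh_smul_right hF, hrr, mul_zero, mul_zero]
  have k1 : hh p r' = 1 := by
    rw [er, hh_smul_right hF]; linear_combination cube_one hF hpr
  have k2 := hh_symm_one hF k1
  rw [← hrp'] at h ⊢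
  obtain ⟨S, eS⟩ : ∃ S : Submodule F (Fin 6 → F), S = Submodule.span F {p, r'} := ⟨_, rfl⟩
  have hperp : ∀ x, hh x p = 0 → hh x r' = 0 → hh x u = 0 := by
    have hiso : ∀ x, hh x p = 0 → hh x r' = 0 → hh x x = 0 → hh x u = 0 := by
      intro x hxp hxr hxx
      by_cases hx : x = 0
      · rw [hx, hh_zero_left hF]
      have hr0 : r' ≠ 0 := by rw [er]; exact smul_ne_zero hpr hr
      exact (pt_commute hF f hk hx hu hxx huu).1 (h _ (pt_mem hF f hf hk hD hx hxx)
        ((pt_commute hF f hk hx hp hxx hpp).2 hxp) ((pt_commute hF f hk hx hr0 hxx hrr').2 hxr))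
    intro y hyp hyr
    rcases hh_self hF y with hyy | hyy
    · exact hiso y hyp hyr hyy
    obtain ⟨ω, hω⟩ := exists_omega hF
    obtain ⟨z, hzp, hzr, hzy, hzz⟩ :
        ∃ z, hh z p = 0 ∧ hh z r' = 0 ∧ hh z y = 0 ∧ hh z z = 1 := by
      by_contra! hno
      let φ : (Fin 6 → F) →ₗ[F] F × F × F :=
        { toFun := fun z => (hh z p, hh z r', hh z y)
          map_add' := fun a b => by simp [hh_add_left hF]
          map_smul' := fun c a => by simp [hh_smul_left hF] }
      have hmem : ∀ z, z ∈ LinearMap.ker φ → hh z p = 0 ∧ hh z r' = 0 ∧ hh z y = 0 := fun z hz => by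
        simpa [φ] using hz
      have hself : ∀ z, z ∈ LinearMap.ker φ → hh z z = 0 := fun z hz =>
        (hh_self hF z).resolve_right (hno z (hmem z hz).1 (hmem z hz).2.1 (hmem z hz).2.2)
      have htot : ∀ z w, z ∈ LinearMap.ker φ → w ∈ LinearMap.ker φ → hh z w = 0 := by
        intro z w hz hw
        have e1 := hself _ (add_mem hz hw)
        have e2 := hself _ (add_mem hz (Submodule.smul_mem _ ω hw))
        simp only [hh_add_left hF, hh_add_right hF, hh_smul_left hF, hh_smul_right hF, hself z hz,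
          hself w hw, mul_zero, add_zero, zero_add] at e1 e2
        linear_combination (ω * e1 - e2) - hh z w * hω + hh z w * ω ^ 2 * add_self hF 1
      have hbot : LinearMap.ker φ = ⊥ := by
        rw [Submodule.eq_bot_iff]
        intro z hz
        have hzS : z ∈ Submodule.span F ({p, r', y} : Set (Fin 6 → F)) := by
          by_contra hzn
          obtain ⟨x, hx, hx'⟩ := exists_hh hF hzn
          have hxk : x ∈ LinearMap.ker φ := LinearMap.mem_ker.2 (Prod.ext
            (hx p (Submodule.subset_span (by simp))) (Prod.ext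
              (hx r' (Submodule.subset_span (by simp))) (hx y (Submodule.subset_span (by simp)))))
          rw [htot x z hxk hz] at hx'
          exact zero_ne_one hx'
        obtain ⟨c₁, c₂, c₃, rfl⟩ := Submodule.mem_span_triple.1 hzS
        obtain ⟨h1, h2, h3⟩ := hmem _ hz
        simp only [hh_add_left hF, hh_smul_left hF, hpp, k1, k2, hrr', hyp, hyr, hyy,
          hh_symm_zero hF hyp, hh_symm_zero hF hyr, mul_zero, mul_one, add_zero, zero_add] at h1 h2 h3
        rw [h1, h2, h3, zero_smul, zero_smul, zero_smul, add_zero, add_zero]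
      have h1 := LinearMap.finrank_range_add_finrank_ker φ
      have h2 : Module.finrank F (LinearMap.range φ) ≤ 3 := by
        simpa using Submodule.finrank_le (LinearMap.range φ)
      rw [hbot, finrank_bot] at h1
      simp at h1
      omega
    have hω0 : ω ≠ 0 := fun h => by rw [h] at hω; simp at hω
    have hyz := hh_symm_zero hF hzy
    have j1 := hiso (y + z) (by simp [hh_add_left hF, hyp, hzp])
      (by simp [hh_add_left hF, hyr, hzr])
      (by simp [hh_add_left hF, hh_add_right hF, hyy, hzz, hyz, hzy, add_self hF])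
    have j2 := hiso (y + ω • z) (by simp [hh_add_left hF, hh_smul_left hF, hyp, hzp])
      (by simp [hh_add_left hF, hh_smul_left hF, hyr, hzr]) (by
        simp only [hh_add_left hF, hh_add_right hF, hh_smul_left hF, hh_smul_right hF, hyy, hzz,
          hyz, hzy, mul_zero, add_zero, zero_add, mul_one]
        linear_combination cube_one hF hω0 + add_self hF 1)
    rw [hh_add_left hF] at j1
    rw [hh_add_left hF, hh_smul_left hF] at j2
    have hω1 : ω - 1 ≠ 0 := fun h => by
      rw [show ω = 1 by linear_combination h] at hω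
      exact one_ne_zero (hω.symm.trans (by rw [one_pow, add_self hF]))
    refine (mul_eq_zero.1 (?_ : (ω - 1) * hh y u = 0)).resolve_left hω1
    linear_combination ω * j1 - j2
  have huS : u ∈ Submodule.span F ({p, r'} : Set (Fin 6 → F)) := by
    by_contra hn
    obtain ⟨x, hx, hx'⟩ := exists_hh hF hn
    rw [hperp x (hx p (Submodule.subset_span (by simp))) (hx r' (Submodule.subset_span (by simp)))]
      at hx'
    exact zero_ne_one hx'
  obtain ⟨α, β, rfl⟩ := Submodule.mem_span_pair.1 huS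
  simp only [hh_add_left hF, hh_add_right hF, hh_smul_left hF, hh_smul_right hF, hpp, hrr', k1,
    k2, mul_zero, mul_one, add_zero, zero_add] at huu
  by_cases hα : α = 0
  · refine Or.inr (Or.inl ?_)
    rw [hα, zero_smul, zero_add] at hu ⊢
    exact pt_smul hF f hrr' fun h0 => hu (by rw [h0, zero_smul])
  by_cases hβ : β = 0
  · left
    rw [hβ, zero_smul, add_zero]
    exact pt_smul hF f hpp hα
  right; right
  have hαβ : α = β := by
    rcases fixed hF (a := α * β ^ 2)
        (by linear_combination huu - add_self hF (α * β ^ 2) + (α ^ 2 * β) * cube_one hF hβ) with h0 | h1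
    · exact absurd h0 (mul_ne_zero hα (pow_ne_zero _ hβ))
    · linear_combination β * h1 - α * cube_one hF hβ
  subst hαβ
  rw [← smul_add, pt_smul hF f (by
    simp [hh_add_left hF, hh_add_right hF, hpp, hrr', k1, k2, add_self hF]) hα]
  have h1 := conj_pt hF f (tv hF p) hrr'
  rw [tv_act hF hpp, k2, one_smul, show f (tv hF p) = pt hF f p from rfl,
    inv_eq hD.1 (pt_mem hF f hf hk hD hp hpp)] at h1
  rw [h1, add_comm]

end CfsgLib.Trans3.Fi

namespace CfsgLib.Trans3.Fi

section Wrap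

variable {G : Type*} [Group G] {D : Set G} (hU : IsU6 G) (hD : Cfsg.IsThreeTranspositionGroup D)
include hU hD

theorem exists_model : ∃ (F : Type) (_ : Field F) (_ : Fintype F) (f : ↥(Cfsg.SU 6 F 2) →* G),
    Fintype.card F = 2 ^ 2 ∧ Function.Surjective f ∧
      f.ker = Subgroup.center ↥(Cfsg.SU 6 F 2) := by
  obtain ⟨F, i₁, i₂, hF4, ⟨e⟩⟩ := hU
  refine ⟨F, i₁, i₂, e.symm.toMonoidHom.comp (QuotientGroup.mk' _), hF4,
    e.symm.surjective.comp (QuotientGroup.mk'_surjective _), ?_⟩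
  ext x
  rw [MonoidHom.mem_ker]
  show e.symm (QuotientGroup.mk' _ x) = 1 ↔ _
  rw [e.symm.map_eq_one_iff]
  exact QuotientGroup.eq_one_iff x

theorem u6_planes : ∃ a b c x y z x' y' z' : G,
    ([a, b, c, x, y, z].Nodup ∧ (∀ u ∈ [a, b, c, x, y, z], u ∈ D) ∧
      (∀ u ∈ [a, b, c, x, y, z], ∀ v ∈ [a, b, c, x, y, z], Commute u v) ∧
      [a, b, c, x, y, z].prod = 1) ∧
    ([a, b, c, x', y', z'].Nodup ∧ (∀ u ∈ [a, b, c, x', y', z'], u ∈ D) ∧
      (∀ u ∈ [a, b, c, x', y', z'], ∀ v ∈ [a, b, c, x', y', z'], Commute u v) ∧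
      [a, b, c, x', y', z'].prod = 1) ∧ x ∉ [x', y', z'] := by
  obtain ⟨F, _, _, f, hF, hf, hk⟩ := exists_model hU hD
  exact planes hF f hf hk hD

theorem u6_hyper {a c s : G} (ha : a ∈ D) (hc : c ∈ D) (hs : s ∈ D) (hac : ¬ Commute a c)
    (h : ∀ e ∈ D, Commute e a → Commute e c → Commute e s) : s = a ∨ s = c ∨ s = a * c * a := by
  obtain ⟨F, _, _, f, hF, hf, hk⟩ := exists_model hU hD
  exact hyper hF f hf hk hD ha hc hs hac h

end Wrap

end CfsgLib.Trans3.Fi
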