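import Cfsg.Agent.Lib.Trans3.Fi.U6Semi

/-!
An element of order seven of `PSU₆(2)` commutes with no transvection and centralises only itself.
-/

set_option autoImplicit false
set_option linter.unusedSectionVars false
set_option linter.unusedSimpArgs false
set_option linter.style.haveILetI false

namespace CfsgLib.Trans3.Fi

open Matrix CfsgLib.MaxSub CfsgLib.Classical CfsgLib.Trans3.TvSU

variable {F : Type*} [Field F] [Fintype F] (hF : Fintype.card F = 2 ^ 2)

section Model

variable {g : ↥(Cfsg.SU 6 F 2)} (hg : g ^ 7 = 1)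
include hF hg

local notation "T" => lin g

/-- The first cubic in `g`. -/
def qA (g : ↥(Cfsg.SU 6 F 2)) (v : Fin 6 → F) : Fin 6 → F :=
  act g (act g (act g v)) + act g v + v

/-- The second cubic in `g`. -/
def qB (g : ↥(Cfsg.SU 6 F 2)) (v : Fin 6 → F) : Fin 6 → F :=
  act g (act g (act g v)) + act g (act g v) + v

theorem seven_id (v : Fin 6 → F) : T (T (T (T (T (T (T v)))))) = v := by
  simp only [lin_apply, ← act_mul]
  rw [show g * (g * (g * (g * (g * (g * g))))) = g ^ 7 by simp [pow_succ, mul_assoc]]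
  rw [hg, act_one]

theorem hh_T (u v : Fin 6 → F) : hh (T u) (T v) = hh u v := by
  rw [lin_apply, lin_apply, hh_act]

theorem seven_out (u y : Fin 6 → F) :
    hh u (qB g y) = hh (T (T (T (T u))) + T (T (T (T (T u)))) + u) y ∧
      hh u (qA g y) = hh (T (T (T (T u))) + T (T (T (T (T (T u))))) + u) y := by
  have a1 : ∀ u z, hh u (T z) = hh (T (T (T (T (T (T u)))))) z := fun u z => by
    conv_lhs => rw [← seven_id hF hg u, hh_T hF hg]
  constructor
  · simp only [qB, ← lin_apply, hh_add_right hF, hh_add_left hF, a1, seven_id hF hg]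
  · simp only [qA, ← lin_apply, hh_add_right hF, hh_add_left hF, a1, seven_id hF hg]

theorem seven_T_eq {v : Fin 6 → F} :
    qA g (T v) = T (qA g v) ∧ qB g (T v) = T (qB g v) := by
  simp only [qA, qB, ← lin_apply, map_add, and_self]

theorem seven_prod (v : Fin 6 → F) :
    qA g (qB g v) = v + T v + T (T v) + T (T (T v)) + T (T (T (T v))) + T (T (T (T (T v)))) +
      T (T (T (T (T (T v))))) ∧ qB g (qA g v) = qA g (qB g v) := by
  simp only [qA, qB, ← lin_apply, map_add]
  constructor
  · linear_combination (norm := module) vec_add_self hF (T (T (T v)))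
  · module

/-- Where the sum of the powers vanishes the two cubics determine the vector. -/
theorem seven_recover {v : Fin 6 → F} (h : qA g (qB g v) = 0) :
    v = (qA g v + qB g v) + T (T (qA g v + qB g v)) + T (T (T (T (qA g v + qB g v)))) := by
  rw [(seven_prod hF hg v).1] at h
  simp only [qA, qB, ← lin_apply, map_add, seven_id hF hg]
  linear_combination (norm := module) h - (2 : F) • vec_add_self hF v -
    (2 : F) • vec_add_self hF (T (T (T v))) - (2 : F) • vec_add_self hF (T (T (T (T (T v))))) -
    (2 : F) • vec_add_self hF (T (T (T (T v)))) - (2 : F) • vec_add_self hF (T (T v)) -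
    vec_add_self hF (T v) - vec_add_self hF (T (T (T (T (T (T v))))))

theorem seven_zero {v : Fin 6 → F} (h1 : qA g v = 0) (h2 : qB g v = 0) : v = 0 := by
  have h : qA g (qB g v) = 0 := by
    rw [h2]; simp [qA, ← lin_apply]
  rw [seven_recover hF hg h, h1, h2]
  simp

theorem seven_iso {u v : Fin 6 → F} :
    (qA g u = 0 → qA g v = 0 → hh u v = 0) ∧ (qB g u = 0 → qB g v = 0 → hh u v = 0) := by
  constructor
  · intro hu hv
    have h : qA g (qB g v) = 0 := by
      rw [← (seven_prod hF hg v).2, hv]; simp [qB, ← lin_apply]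
    obtain ⟨y, ey⟩ : ∃ y, v = qB g y := ⟨v + T (T v) + T (T (T (T v))), by
      conv_lhs => rw [seven_recover hF hg h, hv, zero_add]
      simp only [qB, ← lin_apply, map_add]; abel⟩
    rw [ey, (seven_out hF hg u y).1]
    have : T (T (T (T u))) + T (T (T (T (T u)))) + u = T (T (T (T (qA g u)))) := by
      simp only [qA, ← lin_apply, map_add, seven_id hF hg]; abel
    rw [this, hu]; simp [hh_zero_left hF]
  · intro hu hv
    have h : qA g (qB g v) = 0 := by rw [hv]; simp [qA, ← lin_apply]
    obtain ⟨y, ey⟩ : ∃ y, v = qA g y := ⟨v + T (T v) + T (T (T (T v))), by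
      conv_lhs => rw [seven_recover hF hg h, hv, add_zero]
      simp only [qA, ← lin_apply, map_add]; abel⟩
    rw [ey, (seven_out hF hg u y).2]
    have : T (T (T (T u))) + T (T (T (T (T (T u))))) + u = T (T (T (T (qB g u)))) := by
      simp only [qB, ← lin_apply, map_add, seven_id hF hg]; abel
    rw [this, hu]; simp [hh_zero_left hF]

/-- Vectors killed by the sum of powers are orthogonal to fixed vectors. -/
theorem seven_fix_orth {v k : Fin 6 → F} (h : qA g (qB g v) = 0) (hk : T k = k) : hh v k = 0 := by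
  have e : ∀ z, hh (T z) k = hh z k := fun z => by
    conv_lhs => rw [← hk, hh_T hF hg]
  rw [(seven_prod hF hg v).1] at h
  have h' := congrArg (fun z => hh z k) h
  simp only [hh_add_left hF, e, hh_zero_left hF] at h'
  linear_combination h' - 3 * add_self hF (hh v k)

/-- Irreducibility of the first cubic over the field of four elements. -/
theorem seven_indep {w : Fin 6 → F} (hA : qA g w = 0 ∨ qB g w = 0) (hw : w ≠ 0) {a b c : F}
    (h : a • w + b • T w + c • T (T w) = 0) : a = 0 ∧ b = 0 ∧ c = 0 := by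
  have noeig : ∀ γ : F, T w ≠ γ • w := by
    intro γ hγ
    have h0 : γ ≠ 0 := fun e => by
      rw [e, zero_smul, lin_apply] at hγ
      exact act_ne_zero hF g hw hγ
    rcases hA with hA | hA
    · rw [qA] at hA
      simp only [← lin_apply, hγ, map_smul, smul_smul] at hA
      have h1 : (γ * γ * γ + γ + 1) • w = 0 := by rw [← hA]; module
      rw [smul_eq_zero] at h1
      have h2 := h1.resolve_right hw
      exact h0 (by linear_combination h2 - cube_one hF h0 - add_self hF 1)
    · rw [qB] at hA
      simp only [← lin_apply, hγ, map_smul, smul_smul] at hA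
      have h1 : (γ * γ * γ + γ * γ + 1) • w = 0 := by rw [← hA]; module
      rw [smul_eq_zero] at h1
      have h2 := h1.resolve_right hw
      exact mul_ne_zero h0 h0 (by linear_combination h2 - cube_one hF h0 - add_self hF 1)
  by_cases hc : c = 0
  · subst hc
    rw [zero_smul, add_zero] at h
    by_cases hb : b = 0
    · subst hb
      rw [zero_smul, add_zero, smul_eq_zero] at h
      exact ⟨h.resolve_right hw, rfl, rfl⟩
    · exfalso
      refine noeig (b⁻¹ * a) ?_
      rw [← smul_smul, vec_eq_of_add hF _ _ h, smul_smul, inv_mul_cancel₀ hb, one_smul]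
  · exfalso
    obtain ⟨α, eα⟩ : ∃ α, α = c⁻¹ * a := ⟨_, rfl⟩
    obtain ⟨β, eβ⟩ : ∃ β, β = c⁻¹ * b := ⟨_, rfl⟩
    have h2 : T (T w) = α • w + β • T w := by
      refine (vec_eq_of_add hF _ _ ?_).symm
      have h' := congrArg (fun z => c⁻¹ • z) h
      simp only [smul_add, smul_smul, inv_mul_cancel₀ hc, one_smul, smul_zero] at h'
      rw [eα, eβ]; exact h'
    have h3 : T (T (T w)) = (β * α) • w + (α + β ^ 2) • T w := by
      rw [h2, map_add, map_smul, map_smul, h2]; module
    rcases hA with hA | hA
    · rw [qA] at hA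
      simp only [← lin_apply] at hA
      rw [h3] at hA
      by_cases hr : α + β ^ 2 + 1 = 0
      · have h1 : (β * α + 1) • w = 0 := by
          linear_combination (norm := module) hA - hr • T w
        have h1' := (smul_eq_zero.1 h1).resolve_right hw
        have hαe : α = β ^ 2 + 1 := by
          linear_combination hr - add_self hF (β ^ 2) - add_self hF 1
        rw [hαe] at h1'
        by_cases hβ : β = 0
        · rw [hβ] at h1'; simp at h1'
        · exact hβ (by linear_combination h1' - cube_one hF hβ - add_self hF 1)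
      · refine noeig ((α + β ^ 2 + 1)⁻¹ * (β * α + 1)) ?_
        have h1 : (α + β ^ 2 + 1) • T w + (β * α + 1) • w = 0 := by
          linear_combination (norm := module) hA
        rw [← smul_smul, ← vec_eq_of_add hF _ _ h1, smul_smul, inv_mul_cancel₀ hr, one_smul]
    · rw [qB] at hA
      simp only [← lin_apply] at hA
      rw [h3, h2] at hA
      by_cases hr : α + β ^ 2 + β = 0
      · have h1 : (β * α + α + 1) • w = 0 := by
          linear_combination (norm := module) hA - hr • T w
        have h1' := (smul_eq_zero.1 h1).resolve_right hw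
        have hαe : α = β ^ 2 + β := by
          linear_combination hr - add_self hF (β ^ 2) - add_self hF β
        rw [hαe] at h1'
        by_cases hβ : β = 0
        · rw [hβ] at h1'; simp at h1'
        · exact hβ (by linear_combination h1' - cube_one hF hβ - add_self hF (β ^ 2) - add_self hF 1)
      · refine noeig ((α + β ^ 2 + β)⁻¹ * (β * α + α + 1)) ?_
        have h1 : (α + β ^ 2 + β) • T w + (β * α + α + 1) • w = 0 := by
          linear_combination (norm := module) hA
        rw [← smul_smul, ← vec_eq_of_add hF _ _ h1, smul_smul, inv_mul_cancel₀ hr, one_smul]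

theorem seven_kerA (a b c : F) {w : Fin 6 → F} (hw : qA g w = 0) :
    qA g (a • w + b • T w + c • T (T w)) = 0 := by
  have e : qA g (a • w + b • T w + c • T (T w)) =
      a • qA g w + b • T (qA g w) + c • T (T (qA g w)) := by
    simp only [qA, ← lin_apply, map_add, map_smul]; module
  rw [e, hw]; simp

theorem seven_kerB (a b c : F) {w : Fin 6 → F} (hw : qB g w = 0) :
    qB g (a • w + b • T w + c • T (T w)) = 0 := by
  have e : qB g (a • w + b • T w + c • T (T w)) =
      a • qB g w + b • T (qB g w) + c • T (T (qB g w)) := by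
    simp only [qB, ← lin_apply, map_add, map_smul]; module
  rw [e, hw]; simp

theorem seven_six {w u : Fin 6 → F} (hw : qA g w = 0) (hw0 : w ≠ 0) (hu : qB g u = 0)
    (hu0 : u ≠ 0) : LinearIndependent F ![w, T w, T (T w), u, T u, T (T u)] := by
  rw [Fintype.linearIndependent_iff]
  intro c hc
  rw [Fin.sum_univ_six] at hc
  simp only [Matrix.cons_val] at hc
  obtain ⟨v, ev⟩ : ∃ v, v = c 0 • w + c 1 • T w + c 2 • T (T w) := ⟨_, rfl⟩
  have hv : v = c 3 • u + c 4 • T u + c 5 • T (T u) := by
    refine vec_eq_of_add hF _ _ ?_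
    rw [ev]; linear_combination (norm := module) hc
  have hv0 : v = 0 := seven_zero hF hg (by rw [ev]; exact seven_kerA hF hg _ _ _ hw)
    (by rw [hv]; exact seven_kerB hF hg _ _ _ hu)
  obtain ⟨h0, h1, h2⟩ := seven_indep hF hg (Or.inl hw) hw0 (ev.symm.trans hv0)
  obtain ⟨h3, h4, h5⟩ := seven_indep hF hg (Or.inr hu) hu0 (hv.symm.trans hv0)
  intro i
  fin_cases i <;> assumption

theorem seven_exists (hne : g ≠ 1) :
    (∃ w, qA g w = 0 ∧ w ≠ 0) ∧ ∃ u, qB g u = 0 ∧ u ≠ 0 := by
  obtain ⟨y, hy⟩ : ∃ y, act g y ≠ y := by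
    by_contra! h
    exact hne (act_ext fun x => by rw [h, act_one])
  obtain ⟨v, ev⟩ : ∃ v, v = T y + y := ⟨_, rfl⟩
  have hv0 : v ≠ 0 := fun e => hy (by
    rw [← lin_apply]; exact vec_eq_of_add hF _ _ (ev.symm.trans e))
  have hS : qA g (qB g v) = 0 := by
    rw [(seven_prod hF hg v).1, ev]
    simp only [map_add, seven_id hF hg]
    linear_combination (norm := module) vec_add_self hF (T y) + vec_add_self hF y +
      vec_add_self hF (T (T y)) + vec_add_self hF (T (T (T y))) +
      vec_add_self hF (T (T (T (T y)))) + vec_add_self hF (T (T (T (T (T y))))) +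
      vec_add_self hF (T (T (T (T (T (T y))))))
  have hfixS : ∀ z, T (qA g (qB g z)) = qA g (qB g z) := fun z => by
    rw [(seven_prod hF hg z).1]; simp only [map_add, seven_id hF hg]; abel
  have idem : ∀ z, qA g (qB g (z + qA g (qB g z))) = 0 := fun z => by
    obtain ⟨k, ek⟩ : ∃ k, k = qA g (qB g z) := ⟨_, rfl⟩
    have hTk : T k = k := by rw [ek]; exact hfixS z
    have e := (seven_prod hF hg (z + qA g (qB g z))).1
    rw [e, ← ek]
    simp only [map_add, hTk]
    have ez := (seven_prod hF hg z).1
    rw [← ek] at ez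
    linear_combination (norm := module) -ez + (4 : F) • vec_add_self hF k
  have key : ∀ v, qA g (qB g v) = 0 → v ≠ 0 →
      (∀ z, qA g (qB g z) = 0 → hh v z = 0) → False := by
    intro v hSv hv0 hperp
    refine hv0 (eq_zero_of_hh hF fun z => hh_symm_zero hF ?_)
    obtain ⟨k, ek⟩ : ∃ k, k = qA g (qB g z) := ⟨_, rfl⟩
    have hz : z = (z + k) + k := by rw [add_assoc, vec_add_self hF, add_zero]
    rw [hz, hh_add_right hF, hperp _ (by rw [ek]; exact idem z),
      seven_fix_orth hF hg hSv (by rw [ek]; exact hfixS z), add_zero]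
  constructor
  · by_contra! h
    refine key v hS hv0 fun z hz => ?_
    have inB : ∀ z, qA g (qB g z) = 0 → qB g z = 0 := fun z hz => h _ hz
    exact (seven_iso hF hg).2 (inB v hS) (inB z hz)
  · by_contra! h
    refine key v hS hv0 fun z hz => ?_
    have inA : ∀ z, qA g (qB g z) = 0 → qA g z = 0 := fun z hz =>
      h _ (((seven_prod hF hg z).2).trans hz)
    exact (seven_iso hF hg).1 (inA v hS) (inA z hz)

theorem seven_span {w u : Fin 6 → F} (hw : qA g w = 0) (hw0 : w ≠ 0) (hu : qB g u = 0)
    (hu0 : u ≠ 0) (v : Fin 6 → F) :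
    ∃ a b c a' b' c' : F, v = (a • w + b • T w + c • T (T w)) +
      (a' • u + b' • T u + c' • T (T u)) := by
  have h : v ∈ Submodule.span F (Set.range ![w, T w, T (T w), u, T u, T (T u)]) := by
    rw [span_six (seven_six hF hg hw hw0 hu hu0)]; trivial
  obtain ⟨c, hc⟩ := (Submodule.mem_span_range_iff_exists_fun F).1 h
  rw [Fin.sum_univ_six] at hc
  simp only [Matrix.cons_val] at hc
  exact ⟨c 0, c 1, c 2, c 3, c 4, c 5, by rw [← hc]; abel⟩

/-- The kernel of the first cubic is three-dimensional. -/
theorem seven_kerA_eq {w u : Fin 6 → F} (hw : qA g w = 0) (hw0 : w ≠ 0) (hu : qB g u = 0)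
    (hu0 : u ≠ 0) {v : Fin 6 → F} (hv : qA g v = 0) :
    ∃ a b c : F, v = a • w + b • T w + c • T (T w) := by
  obtain ⟨a, b, c, a', b', c', e⟩ := seven_span hF hg hw hw0 hu hu0 v
  refine ⟨a, b, c, ?_⟩
  obtain ⟨r, er⟩ : ∃ r, r = a' • u + b' • T u + c' • T (T u) := ⟨_, rfl⟩
  have hr : qA g r = 0 := by
    have hadd : ∀ x y, qA g (x + y) = qA g x + qA g y := fun x y => by
      simp only [qA, ← lin_apply, map_add]; abel
    have := congrArg (qA g) e
    rwa [hv, hadd, seven_kerA hF hg _ _ _ hw, zero_add, ← er, eq_comm] at this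
  rw [e, ← er, seven_zero hF hg hr (by rw [er]; exact seven_kerB hF hg _ _ _ hu), add_zero]

/-- What commutes with `g` is determined by its value on one vector of the first kernel. -/
theorem seven_rigid {w u : Fin 6 → F} (hw : qA g w = 0) (hw0 : w ≠ 0) (hu : qB g u = 0)
    (hu0 : u ≠ 0) {k : ↥(Cfsg.SU 6 F 2)} (hk : Commute k g) {l : F} (hl : l ^ 3 = 1)
    (hkw : act k w = l • w) : ∀ x, act k x = l • x := by
  have hkT : ∀ x, lin k (T x) = T (lin k x) := fun x => by
    simp only [lin_apply, ← act_mul, hk.eq]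
  have hkA : ∀ v, qA g v = 0 → lin k v = l • v := by
    intro v hv
    obtain ⟨a, b, c, rfl⟩ := seven_kerA_eq hF hg hw hw0 hu hu0 hv
    rw [← lin_apply] at hkw
    simp only [map_add, map_smul, hkT, hkw]
    module
  have hlinv : ∀ v, qB g v = 0 → lin k v = l • v := by
    intro v hv
    refine vec_eq_of_add hF _ _ (eq_zero_of_hh hF fun x => hh_symm_zero hF ?_)
    obtain ⟨a, b, c, a', b', c', rfl⟩ := seven_span hF hg hw hw0 hu hu0 x
    rw [hh_add_right hF]
    have hkB : qB g (lin k v) = 0 := by
      have : qB g (lin k v) = lin k (qB g v) := by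
        simp only [qB, ← lin_apply, map_add, hkT]
      rw [this, hv, map_zero]
    have hb : qB g (lin k v + l • v) = 0 := by
      have : qB g (lin k v + l • v) = qB g (lin k v) + l • qB g v := by
        simp only [qB, ← lin_apply, map_add, map_smul]; module
      rw [this, hkB, hv]; simp
    rw [(seven_iso hF hg).2 hb (seven_kerB hF hg a' b' c' hu), add_zero]
    obtain ⟨y, ey⟩ : ∃ y, y = a • w + b • T w + c • T (T w) := ⟨_, rfl⟩
    rw [← ey]
    have h1 := hkA y (by rw [ey]; exact seven_kerA hF hg a b c hw)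
    have h2 : hh (lin k v) (lin k y) = hh v y := by rw [lin_apply, lin_apply, hh_act]
    rw [h1, hh_smul_right hF] at h2
    rw [hh_add_left hF, hh_smul_left hF]
    linear_combination l * h2 - hh (lin k v) y * hl + add_self hF (l * hh v y)
  intro x
  obtain ⟨a, b, c, a', b', c', rfl⟩ := seven_span hF hg hw hw0 hu hu0 x
  rw [← lin_apply, map_add, hkA _ (seven_kerA hF hg a b c hw),
    hlinv _ (seven_kerB hF hg a' b' c' hu)]
  module

theorem seven_card_dvd (hne : g ≠ 1) :
    Nat.card ↥(Subgroup.centralizer ({g} : Set ↥(Cfsg.SU 6 F 2))) ∣ 63 := by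
  obtain ⟨⟨w, hw, hw0⟩, u, hu, hu0⟩ := seven_exists hF hg hne
  have h := card_dvd_of_free (H := Subgroup.centralizer ({g} : Set ↥(Cfsg.SU 6 F 2)))
    (A := {v | qA g v = 0 ∧ v ≠ 0}) (fun k hk a ha => by
      have hkg : k * g = g * k := Subgroup.mem_centralizer_singleton_iff.1 hk
      refine ⟨?_, act_ne_zero hF k ha.2⟩
      have : qA g (act k a) = act k (qA g a) := by
        simp only [qA, act_add hF, ← act_mul, ← mul_assoc, hkg]
        simp only [mul_assoc, hkg]
      rw [this, ha.1]; simp [act])
    (fun k hk a ha hka => act_ext fun x => by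
      rw [act_one, seven_rigid hF hg ha.1 ha.2 hu hu0 (Subgroup.mem_centralizer_singleton_iff.1 hk)
        (one_pow 3) (by rw [hka, one_smul]) x, one_smul])
  have hA : {v | qA g v = 0 ∧ v ≠ 0}.ncard = 63 := by
    obtain ⟨φ, eφ⟩ : ∃ φ : F × F × F → (Fin 6 → F),
        φ = fun q => q.1 • w + q.2.1 • T w + q.2.2 • T (T w) := ⟨_, rfl⟩
    have hinj : Function.Injective φ := by
      rintro ⟨a, b, c⟩ ⟨a', b', c'⟩ h
      rw [eφ] at h
      simp only at h
      obtain ⟨h1, h2, h3⟩ := seven_indep hF hg (Or.inl hw) hw0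
        (a := a - a') (b := b - b') (c := c - c') (by linear_combination (norm := module) h)
      rw [sub_eq_zero] at h1 h2 h3
      simp [h1, h2, h3]
    have himg : {v | qA g v = 0 ∧ v ≠ 0} = φ '' ({(0, 0, 0)}ᶜ) := by
      ext v
      constructor
      · rintro ⟨hv, hv0⟩
        obtain ⟨a, b, c, rfl⟩ := seven_kerA_eq hF hg hw hw0 hu hu0 hv
        refine ⟨(a, b, c), fun e => hv0 ?_, by rw [eφ]⟩
        simp only [Set.mem_singleton_iff, Prod.mk.injEq] at e
        simp [e.1, e.2.1, e.2.2]
      · rintro ⟨q, hq, rfl⟩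
        refine ⟨by rw [eφ]; exact seven_kerA hF hg _ _ _ hw, fun e => hq (hinj (e.trans ?_))⟩
        rw [eφ]; simp
    rw [himg, Set.ncard_image_of_injective _ hinj, Set.ncard_compl, Set.ncard_singleton,
      Nat.card_prod, Nat.card_prod, Nat.card_eq_fintype_card, hF]
    norm_num
  rwa [hA] at h

/-- Nothing of order three modulo the centre centralises `g`. -/
theorem seven_no_three (hne : g ≠ 1) {k : ↥(Cfsg.SU 6 F 2)} (hk : Commute k g)
    (h3 : k ^ 3 ∈ Subgroup.center ↥(Cfsg.SU 6 F 2)) :
    k ∈ Subgroup.center ↥(Cfsg.SU 6 F 2) := by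
  obtain ⟨⟨w, hw, hw0⟩, u, hu, hu0⟩ := seven_exists hF hg hne
  have hkT : ∀ x, lin k (T x) = T (lin k x) := fun x => by
    simp only [lin_apply, ← act_mul, hk.eq]
  obtain ⟨c, hc, hcube⟩ := center_act hF h3
  have hk3 : ∀ x, lin k (lin k (lin k x)) = c • x := fun x => by
    simp only [lin_apply, ← act_mul]
    rw [← hcube x]
    congr 1
    simp [pow_succ, mul_assoc]
  have hc3 := cube_one hF hc
  have qmap : ∀ z, qA g (lin k z) = lin k (qA g z) ∧ qB g (lin k z) = lin k (qB g z) := fun z => by
    simp only [qA, qB, ← lin_apply, map_add, hkT, and_self]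
  by_cases hc1 : c = 1
  · subst hc1
    obtain ⟨ω, hω⟩ := exists_omega hF
    have hω0 : ω ≠ 0 := fun h => by rw [h] at hω; simp at hω
    have w3 := cube_one hF hω0
    suffices h : ∃ v l, qA g v = 0 ∧ v ≠ 0 ∧ l ^ 3 = (1 : F) ∧ act k v = l • v by
      obtain ⟨v, l, hv, hv0, hl, hkv⟩ := h
      exact mem_center_of_scalar hF (seven_rigid hF hg hv hv0 hu hu0 hk hl hkv)
    obtain ⟨v₁, e₁⟩ : ∃ v, v = lin k w + w := ⟨_, rfl⟩
    have hA₁ : qA g v₁ = 0 := by
      rw [e₁, show qA g (lin k w + w) = qA g (lin k w) + qA g w by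
        simp only [qA, ← lin_apply, map_add]; abel, (qmap w).1, hw, map_zero, add_zero]
    by_cases h₁ : v₁ = 0
    · exact ⟨w, 1, hw, hw0, one_pow 3, by
        rw [one_smul, ← lin_apply]; exact vec_eq_of_add hF _ _ (e₁.symm.trans h₁)⟩
    obtain ⟨v₂, e₂⟩ : ∃ v, v = lin k v₁ + ω • v₁ := ⟨_, rfl⟩
    by_cases h₂ : v₂ = 0
    · exact ⟨v₁, ω, hA₁, h₁, w3, by
        rw [← lin_apply]; exact vec_eq_of_add hF _ _ (e₂.symm.trans h₂)⟩
    refine ⟨v₂, ω ^ 2, ?_, h₂, by rw [← pow_mul, show 2 * 3 = 3 * 2 from rfl, pow_mul, w3, one_pow], ?_⟩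
    · rw [e₂, show qA g (lin k v₁ + ω • v₁) = qA g (lin k v₁) + ω • qA g v₁ by
        simp only [qA, ← lin_apply, map_add, map_smul]; module, (qmap v₁).1, hA₁, map_zero,
        smul_zero, add_zero]
    · rw [← lin_apply, e₂, e₁]
      simp only [map_add, map_smul, hk3, one_smul]
      refine vec_eq_of_add hF _ _ ?_
      have e1 : ω ^ 3 - 1 = 0 := by rw [w3, sub_self]
      have e2 : ω + ω ^ 2 - 1 = 0 := by rw [hω, sub_self]
      linear_combination (norm := module) (vec_add_self hF (lin k (lin k w))) +
        (vec_add_self hF (lin k w)) + (vec_add_self hF w) + e1 • (lin k w + w) +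
        e2 • (lin k (lin k w) + lin k w)
  · exfalso
    have key : ∀ v, (qA g v = 0 ∨ qB g v = 0) → v ≠ 0 → ∀ a b d : F,
        a • v + b • lin k v + d • lin k (lin k v) = 0 → a = 0 ∧ b = 0 ∧ d = 0 := by
      intro v _ hv a b d h
      have noeig : ∀ γ : F, lin k v ≠ γ • v := by
        intro γ hγ
        have h' := hk3 v
        simp only [hγ, map_smul, smul_smul] at h'
        have h'' := smul_vec_cancel hF hv h'
        rcases eq_or_ne γ 0 with e | e
        · exact hc (by rw [← h'', e]; ring)
        · exact hc1 (by rw [← h'', ← cube_one hF e]; ring)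
      by_cases hd : d = 0
      · subst hd
        rw [zero_smul, add_zero] at h
        by_cases hb : b = 0
        · subst hb
          rw [zero_smul, add_zero, smul_eq_zero] at h
          exact ⟨h.resolve_right hv, rfl, rfl⟩
        · exfalso
          refine noeig (b⁻¹ * a) ?_
          rw [← smul_smul, vec_eq_of_add hF _ _ h, smul_smul, inv_mul_cancel₀ hb, one_smul]
      · exfalso
        obtain ⟨α, eα⟩ : ∃ α, α = d⁻¹ * a := ⟨_, rfl⟩
        obtain ⟨β, eβ⟩ : ∃ β, β = d⁻¹ * b := ⟨_, rfl⟩
        have h2 : lin k (lin k v) = α • v + β • lin k v := by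
          refine (vec_eq_of_add hF _ _ ?_).symm
          have h' := congrArg (fun z => d⁻¹ • z) h
          simp only [smul_add, smul_smul, inv_mul_cancel₀ hd, one_smul, smul_zero] at h'
          rw [eα, eβ]; exact h'
        have h3 : (β * α + c) • v + (α + β ^ 2) • lin k v = 0 := by
          have := hk3 v
          rw [h2, map_add, map_smul, map_smul, h2] at this
          linear_combination (norm := module) this + vec_add_self hF (c • v)
        by_cases hr : α + β ^ 2 = 0
        · rw [hr, zero_smul, add_zero, smul_eq_zero] at h3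
          have h4 := h3.resolve_right hv
          have hαe : α = β ^ 2 := by linear_combination hr - add_self hF (β ^ 2)
          rw [hαe] at h4
          by_cases hβ : β = 0
          · rw [hβ] at h4; simp at h4; exact hc h4
          · exact hc1 (by linear_combination h4 - cube_one hF hβ - add_self hF 1)
        · refine noeig ((α + β ^ 2)⁻¹ * (β * α + c)) ?_
          rw [← smul_smul, vec_eq_of_add hF _ _ h3, smul_smul, inv_mul_cancel₀ hr, one_smul]
    have kA : ∀ a b d : F, qA g (a • w + b • lin k w + d • lin k (lin k w)) = 0 := fun a b d => by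
      rw [show qA g (a • w + b • lin k w + d • lin k (lin k w)) =
        a • qA g w + b • qA g (lin k w) + d • qA g (lin k (lin k w)) by
          simp only [qA, ← lin_apply, map_add, map_smul]; module,
        (qmap w).1, (qmap _).1, (qmap w).1, hw]
      simp
    have kB : ∀ a b d : F, qB g (a • u + b • lin k u + d • lin k (lin k u)) = 0 := fun a b d => by
      rw [show qB g (a • u + b • lin k u + d • lin k (lin k u)) =
        a • qB g u + b • qB g (lin k u) + d • qB g (lin k (lin k u)) by
          simp only [qB, ← lin_apply, map_add, map_smul]; module,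
        (qmap u).2, (qmap _).2, (qmap u).2, hu]
      simp
    have hind : LinearIndependent F
        ![w, lin k w, lin k (lin k w), u, lin k u, lin k (lin k u)] := by
      rw [Fintype.linearIndependent_iff]
      intro a ha
      rw [Fin.sum_univ_six] at ha
      simp only [Matrix.cons_val] at ha
      obtain ⟨v, ev⟩ : ∃ v, v = a 0 • w + a 1 • lin k w + a 2 • lin k (lin k w) := ⟨_, rfl⟩
      have hv : v = a 3 • u + a 4 • lin k u + a 5 • lin k (lin k u) := by
        refine vec_eq_of_add hF _ _ ?_
        rw [ev]; linear_combination (norm := module) ha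
      have hv0 : v = 0 := seven_zero hF hg (by rw [ev]; exact kA _ _ _) (by rw [hv]; exact kB _ _ _)
      obtain ⟨h0, h1, h2⟩ := key w (Or.inl hw) hw0 _ _ _ (ev.symm.trans hv0)
      obtain ⟨h3, h4, h5⟩ := key u (Or.inr hu) hu0 _ _ _ (hv.symm.trans hv0)
      intro i
      fin_cases i <;> assumption
    let σ : Equiv.Perm (Fin 6) :=
      ⟨![1, 2, 0, 4, 5, 3], ![2, 0, 1, 5, 3, 4], by decide, by decide⟩
    have h := det_monomial hF (g := k) hind σ ![1, 1, c, 1, 1, c] (fun j => by
      rw [← lin_apply]
      fin_cases j <;> simp [σ, hk3])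
    simp [Fin.prod_univ_succ] at h
    exact hc1 (by linear_combination hc3 - c * h)

end Model

variable {Y : Type*} [Group Y] [Finite Y] {D : Set Y} (f : ↥(Cfsg.SU 6 F 2) →* Y)
  (hf : Function.Surjective f) (hk : f.ker = Subgroup.center ↥(Cfsg.SU 6 F 2))
  (hD : Cfsg.IsThreeTranspositionGroup D)
include hF hf hk hD

theorem seven_no_fixed {x : Y} (hx : orderOf x = 7) {d : Y} (hd : d ∈ D) : ¬ Commute d x := by
  intro h
  have h1 : orderOf x ∣ Nat.card ↥(Subgroup.centralizer ({d} : Set Y)) :=
    Subgroup.orderOf_dvd_natCard _ (Subgroup.mem_centralizer_singleton_iff.2 h.eq.symm)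
  rw [card_stab_member hF f hf hk hD hd, hx] at h1
  norm_num at h1

theorem seven_centralizer {x : Y} (hx : orderOf x = 7) :
    Nat.card ↥(Subgroup.centralizer ({x} : Set Y)) = 7 := by
  obtain ⟨g, rfl, hg⟩ := exists_lift hF f hf hk (x := x) (p := 7) (m := 15)
    (by rw [← hx, pow_orderOf_eq_one]) (by norm_num) (by norm_num)
  have hne : g ≠ 1 := fun e => by rw [e, map_one, orderOf_one] at hx; omega
  have hmap : (Subgroup.centralizer ({g} : Set ↥(Cfsg.SU 6 F 2))).map f =
      Subgroup.centralizer ({f g} : Set Y) := by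
    ext y
    constructor
    · rintro ⟨k, hk', rfl⟩
      exact Subgroup.mem_centralizer_singleton_iff.2
        (by rw [← map_mul, Subgroup.mem_centralizer_singleton_iff.1 hk', map_mul])
    · intro hy
      obtain ⟨k, rfl⟩ := hf y
      exact ⟨k, Subgroup.mem_centralizer_singleton_iff.2
        (comm_lift hF f hf hk hg (by norm_num)
          (Subgroup.mem_centralizer_singleton_iff.1 hy : Commute (f k) (f g))).eq, rfl⟩
  have h63 : Nat.card ↥(Subgroup.centralizer ({f g} : Set Y)) ∣ 63 := by
    rw [← hmap]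
    exact (Subgroup.card_map_dvd _ _).trans (seven_card_dvd hF hg hne)
  have h7 : 7 ∣ Nat.card ↥(Subgroup.centralizer ({f g} : Set Y)) := by
    rw [← hx]
    exact Subgroup.orderOf_dvd_natCard _ (Subgroup.mem_centralizer_singleton_iff.2 rfl)
  have hno3 : ¬ 3 ∣ Nat.card ↥(Subgroup.centralizer ({f g} : Set Y)) := by
    intro h3
    haveI := Fact.mk Nat.prime_three
    obtain ⟨⟨y, hy⟩, ho⟩ := exists_prime_orderOf_dvd_card' 3 h3
    rw [Subgroup.orderOf_mk] at ho
    obtain ⟨k, rfl⟩ := hf y
    have hz := seven_no_three hF hg hne (comm_lift hF f hf hk hg (by norm_num)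
      (Subgroup.mem_centralizer_singleton_iff.1 hy : Commute (f k) (f g)))
      ((map_eq_one_iff' hF f hk).1 (by rw [map_pow, ← ho, pow_orderOf_eq_one]))
    rw [(map_eq_one_iff' hF f hk).2 hz, orderOf_one] at ho
    omega
  generalize Nat.card ↥(Subgroup.centralizer ({f g} : Set Y)) = c at h63 h7 hno3 ⊢
  have hle := Nat.le_of_dvd (by norm_num) h63
  obtain ⟨m, rfl⟩ := h7
  have : m ≤ 9 := by omega
  interval_cases m <;> omega

end CfsgLib.Trans3.Fi
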