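import Cfsg.Agent.Lib.Trans3.Fi.U6Eigen
import Cfsg.Agent.Lib.Trans3.Fi.U6Meet
import Cfsg.Agent.Lib.Trans3.Fi.U6Config
import Cfsg.Agent.Lib.Trans3.Fi.PLocal

/-!
Elements of order three of `PSU₆(2)`: either a product of two non-commuting transvections, or the
transvections commuting with it form classes of pairwise non-commuting members, two of size nine,
three of size three, or none.
-/

set_option autoImplicit false
set_option linter.unusedSectionVars false
set_option linter.style.haveILetI false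

namespace CfsgLib.Trans3.Fi

open Matrix CfsgLib.MaxSub CfsgLib.Classical CfsgLib.Trans3.TvSU
open scoped _root_.Classical

/-- Two or three classes of pairwise non-commuting members, of sizes 9 and 3 respectively. -/
def Multi {Y : Type*} [Group Y] (S : Set Y) : Prop :=
  ∃ s : ℕ, (S = ∅ ∨ (s = 9 ∧ S.ncard = 18) ∨ (s = 3 ∧ S.ncard = 9)) ∧
    (∀ a ∈ S, {b | b ∈ S ∧ (b = a ∨ ¬ Commute a b)}.ncard = s) ∧
    ∀ a ∈ S, ∀ b ∈ S, ∀ c ∈ S, ¬ Commute a b → ¬ Commute b c → a = c ∨ ¬ Commute a c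

namespace U6Eigen

variable {F : Type*} [Field F] [Fintype F] (hF : Fintype.card F = 2 ^ 2)
include hF

/-- No two orthogonal independent isotropic vectors in dimension at most three. -/
theorem no_plane {S : Submodule F (Fin 6 → F)} (hS : Nondeg S) (hn : Module.finrank F S ≤ 3)
    {v w : Fin 6 → F} (hvS : v ∈ S) (hwS : w ∈ S) (hvv : hh v v = 0) (hww : hh w w = 0)
    (hvw : hh v w = 0) (hv : v ≠ 0) : w ∈ Submodule.span F ({v} : Set (Fin 6 → F)) := by
  by_contra hw
  let L : S →ₗ[F] F × F := ((hhL v).prod (hhL w)).comp S.subtype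
  have hker : ∀ u : S, u ∈ LinearMap.ker L ↔ hh (u : Fin 6 → F) v = 0 ∧ hh (u : Fin 6 → F) w = 0 :=
    fun u => by
      rw [LinearMap.mem_ker, show L u = ((hhL v) (u : Fin 6 → F), (hhL w) (u : Fin 6 → F)) from rfl,
        Prod.mk_eq_zero, hhL_apply, hhL_apply]
  have hrange : LinearMap.range L = ⊤ := by
    by_contra hne
    obtain ⟨φ, hφ, hφ0⟩ := Submodule.exists_dual_map_eq_bot_of_lt_top (lt_top_iff_ne_top.2 hne)
      inferInstance
    obtain ⟨α, eα⟩ : ∃ α, α = φ (1, 0) := ⟨_, rfl⟩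
    obtain ⟨β, eβ⟩ : ∃ β, β = φ (0, 1) := ⟨_, rfl⟩
    have hφe : ∀ a b : F, φ (a, b) = a * α + b * β := fun a b => by
      rw [show ((a, b) : F × F) = a • ((1, 0) : F × F) + b • ((0, 1) : F × F) by simp, map_add,
        map_smul, map_smul, eα, eβ, smul_eq_mul, smul_eq_mul]
    have h0 : ∀ u : S, φ (hh (u : Fin 6 → F) v, hh (u : Fin 6 → F) w) = 0 := fun u => by
      have : φ (L u) ∈ (LinearMap.range L).map φ := ⟨L u, ⟨u, rfl⟩, rfl⟩
      rw [hφ0, Submodule.mem_bot] at this
      exact this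
    have hz : α ^ 2 • v + β ^ 2 • w = 0 := by
      refine hS _ (add_mem (S.smul_mem _ hvS) (S.smul_mem _ hwS)) fun u hu => ?_
      rw [hh_add_right hF, hh_smul_right hF, hh_smul_right hF, pow_four hF, pow_four hF]
      have := h0 ⟨u, hu⟩
      rw [hφe] at this
      linear_combination this
    by_cases hβ : β = 0
    · refine hφ ?_
      rw [hβ, zero_pow two_ne_zero, zero_smul, add_zero] at hz
      have hα : α = 0 := by
        rcases smul_eq_zero.1 hz with e | e
        · exact pow_eq_zero_iff two_ne_zero |>.1 e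
        · exact absurd e hv
      refine LinearMap.ext fun z => ?_
      rw [show z = (z.1, z.2) from rfl, hφe, hα, hβ]
      simp
    · refine hw (Submodule.mem_span_singleton.2 ⟨(β ^ 2)⁻¹ * α ^ 2, ?_⟩)
      rw [← smul_smul, vec_eq_of_add hF _ _ hz, smul_smul, inv_mul_cancel₀ (pow_ne_zero 2 hβ),
        one_smul]
  have h1 := LinearMap.finrank_range_add_finrank_ker L
  rw [hrange, finrank_top, Module.finrank_prod, Module.finrank_self] at h1
  have h2 : 2 ≤ Module.finrank F (LinearMap.ker L) := by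
    have hli : LinearIndependent F ![v, w] := by
      refine LinearIndependent.pair_iff.2 fun a b hab => ?_
      have hb : b = 0 := by
        by_contra hb
        refine hw (Submodule.mem_span_singleton.2 ⟨b⁻¹ * a, ?_⟩)
        rw [← smul_smul, vec_eq_of_add hF _ _ hab, smul_smul, inv_mul_cancel₀ hb, one_smul]
      refine ⟨?_, hb⟩
      rw [hb, zero_smul, add_zero] at hab
      exact (smul_eq_zero.1 hab).resolve_right hv
    have hle : Submodule.span F (Set.range ![v, w]) ≤ (LinearMap.ker L).map S.subtype := by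
      rw [Submodule.span_le]
      rintro x ⟨i, rfl⟩
      fin_cases i
      · exact ⟨⟨v, hvS⟩, (hker _).2 ⟨hvv, hvw⟩, rfl⟩
      · exact ⟨⟨w, hwS⟩, (hker _).2 ⟨hh_symm_zero hF hvw, hww⟩, rfl⟩
    have h3 := Submodule.finrank_mono hle
    rw [finrank_span_eq_card hli, Fintype.card_fin, Submodule.finrank_map_subtype_eq] at h3
    exact h3
  omega

end U6Eigen

section Model

open U6Eigen

variable {F : Type*} [Field F] [Fintype F] (hF : Fintype.card F = 2 ^ 2)
variable {Y : Type*} [Group Y] [Finite Y] {D : Set Y} (f : ↥(Cfsg.SU 6 F 2) →* Y)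
  (hf : Function.Surjective f) (hk : f.ker = Subgroup.center ↥(Cfsg.SU 6 F 2))
  (hD : Cfsg.IsThreeTranspositionGroup D)
include hF hf hk hD

/-- A member commutes with the image exactly when its vector is an eigenvector. -/
theorem commute_pt_iff {g : ↥(Cfsg.SU 6 F 2)} {v : Fin 6 → F} (hv : v ≠ 0) (hvv : hh v v = 0) :
    Commute (pt hF f v) (f g) ↔ ∃ a : Fˣ, act g v = (a : F) • v := by
  constructor
  · intro h
    have h1 := conj_pt hF f g hvv
    rw [← h.eq, mul_inv_cancel_right] at h1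
    obtain ⟨a, ha, e⟩ := pt_eq hF f hk (act_ne_zero hF g hv) (by rw [hh_act]; exact hvv) hvv h1.symm
    exact ⟨Units.mk0 a ha, e⟩
  · rintro ⟨a, e⟩
    have h1 := conj_pt hF f g hvv
    rw [e, pt_smul hF f hvv a.ne_zero] at h1
    exact (mul_inv_eq_iff_eq_mul.1 h1).symm

/-- Without a lift of order three nothing is fixed. -/
theorem fx_empty {g : ↥(Cfsg.SU 6 F 2)} (hg : f g ^ 3 = 1) (hg3 : g ^ 3 ≠ 1) :
    Fx D (f g) = ∅ := by
  refine Set.eq_empty_of_forall_notMem fun d hd => ?_
  obtain ⟨v, hv, hvv, rfl⟩ := exists_pt hF f hf hk hD hd.1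
  obtain ⟨a, e⟩ := (commute_pt_iff hF f hf hk hD hv hvv).1 hd.2
  obtain ⟨c, -, hc⟩ := center_act hF
    ((map_eq_one_iff' hF f hk).1 (show f (g ^ 3) = 1 by rw [map_pow, hg]))
  have h1 : act (g ^ 3) v = ((a : F) ^ 3) • v := by
    rw [pow_three', act_mul, act_mul, e, act_smul hF, e, act_smul hF, act_smul hF, e,
      smul_smul, smul_smul]
    congr 1
    ring
  rw [hc, cube_one hF a.ne_zero] at h1
  have hc1 := smul_vec_cancel hF hv h1
  exact hg3 (act_ext fun x => by rw [hc, hc1, one_smul, act_one])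

/-- Products of two non-commuting members from an eigenspace of dimension four. -/
theorem prod_of_four {g : ↥(Cfsg.SU 6 F 2)} (hg : g ^ 3 = 1) {a b c : Fˣ}
    (hab : (a : F) ≠ b) (hac : (a : F) ≠ c) (hbc : (b : F) ≠ c)
    (hb : Module.finrank F (eig g (b : F)) = 1) (hc : Module.finrank F (eig g (c : F)) = 1) :
    ∃ p ∈ D, ∃ q ∈ D, ¬ Commute p q ∧ f g = p * q := by
  have habc : (a : F) * b * c = 1 := by
    have h2 := add_self hF (1 : F)
    have ha3 := cube_one hF a.ne_zero
    have hb3 := cube_one hF b.ne_zero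
    have hc3 := cube_one hF c.ne_zero
    obtain ⟨ω, hω⟩ := exists_omega hF
    have e3 : ω ^ 3 = 1 := cube_one hF (fun e => by rw [e] at hω; simp at hω)
    rcases units_cases hF hω a with ea | ea | ea <;> rcases units_cases hF hω b with eb | eb | eb <;>
      rcases units_cases hF hω c with ec | ec | ec <;>
      simp only [ea, eb, ec] at hab hac hbc ⊢ <;>
      first
        | exact absurd rfl hab
        | exact absurd rfl hac
        | exact absurd rfl hbc
        | linear_combination e3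
  obtain ⟨u, hu⟩ := exists_orthonormal hF 1 _ (nondeg_eig hF hg b) hb
  obtain ⟨v, hv⟩ := exists_orthonormal hF 1 _ (nondeg_eig hF hg c) hc
  have huu : hh (u 0) (u 0) = 1 := by simpa using hu.2 0 0
  have hvv : hh (v 0) (v 0) = 1 := by simpa using hv.2 0 0
  have hub : u 0 ∈ eig g (b : F) := hu.1 0
  have hvc : v 0 ∈ eig g (c : F) := hv.1 0
  have huv : hh (u 0) (v 0) = 0 := eig_orth hF hbc hub hvc
  have hvu : hh (v 0) (u 0) = 0 := hh_symm_zero hF huv
  obtain ⟨p, ep⟩ : ∃ p, p = u 0 + v 0 := ⟨_, rfl⟩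
  obtain ⟨q, eq⟩ : ∃ q, q = (b : F) • u 0 + (c : F) • v 0 := ⟨_, rfl⟩
  have hb3 := cube_one hF b.ne_zero
  have hc3 := cube_one hF c.ne_zero
  have h2 := add_self hF (1 : F)
  have hpp : hh p p = 0 := by
    rw [ep, hh_add_left hF, hh_add_right hF, hh_add_right hF, huu, huv, hvu, hvv]
    linear_combination h2
  have hqq : hh q q = 0 := by
    rw [eq, hh_add_left hF, hh_add_right hF, hh_add_right hF, hh_smul_left hF, hh_smul_left hF,
      hh_smul_left hF, hh_smul_left hF, hh_smul_right hF, hh_smul_right hF, hh_smul_right hF,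
      hh_smul_right hF, huu, huv, hvu, hvv]
    linear_combination h2 + hb3 + hc3
  have hpq : hh p q ≠ 0 := by
    rw [ep, eq, hh_add_left hF, hh_add_right hF, hh_add_right hF, hh_smul_right hF,
      hh_smul_right hF, hh_smul_right hF, hh_smul_right hF, huu, huv, hvu, hvv]
    simp only [mul_one, mul_zero, add_zero, zero_add]
    intro h
    have h' : (b : F) ^ 2 = (c : F) ^ 2 := by linear_combination h - (c : F) ^ 2 * h2
    exact hbc (by linear_combination ((b : F) ^ 2 + (c : F) ^ 2) * h' - (b : F) * hb3 + (c : F) * hc3)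
  have hp : p ≠ 0 := fun e => hpq (by rw [e, hh_zero_left hF])
  have hq : q ≠ 0 := fun e => hpq (by rw [e, hh_zero_right hF])
  obtain ⟨z, hz, hza⟩ := exists_scalar hF a.ne_zero
  have key : ∀ x, act g x = act (z * (tv hF p * tv hF q)) x := by
    intro x
    have hle : ⨆ d : Fˣ, eig g (d : F) ≤
        LinearMap.eqLocus (lin g) (lin (z * (tv hF p * tv hF q))) := by
      refine iSup_le fun d w hw => ?_
      rw [LinearMap.mem_eqLocus, lin_apply, lin_apply, mem_eig.1 hw, act_mul, hza, act_mul,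
        tv_act hF hqq]
      rcases (show (d : F) = a ∨ (d : F) = b ∨ (d : F) = c by
        by_contra! h
        obtain ⟨ω, hω⟩ := exists_omega hF
        rcases units_cases hF hω a with ea | ea | ea <;>
          rcases units_cases hF hω b with eb | eb | eb <;>
          rcases units_cases hF hω c with ec | ec | ec <;>
          rcases units_cases hF hω d with ed | ed | ed <;>
          simp only [ea, eb, ec, ed] at hab hac hbc h <;>
          simp at hab hac hbc h) with e | e | e
      · rw [e] at hw ⊢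
        rw [show hh w q = 0 from by
          rw [eq, hh_add_right hF, hh_smul_right hF, hh_smul_right hF, eig_orth hF hab hw hub,
            eig_orth hF hac hw hvc, mul_zero, mul_zero, add_zero], zero_smul, add_zero,
          tv_act hF hpp, show hh w p = 0 from by
            rw [ep, hh_add_right hF, eig_orth hF hab hw hub, eig_orth hF hac hw hvc, add_zero],
          zero_smul, add_zero]
      · rw [e] at hw ⊢
        obtain ⟨k, rfl⟩ : ∃ k : F, w = k • u 0 := by
          have hspan : Submodule.span F {u 0} = eig g (b : F) :=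
            Submodule.eq_of_le_of_finrank_eq (by simpa using hub)
              (by rw [hb, finrank_span_singleton (fun e' => by
                rw [e', hh_zero_left hF] at huu; exact zero_ne_one huu)])
          rw [← hspan] at hw
          obtain ⟨k, hk'⟩ := Submodule.mem_span_singleton.1 hw
          exact ⟨k, hk'.symm⟩
        rw [tv_act hF hpp]
        simp only [ep, eq, hh_add_left hF, hh_add_right hF, hh_smul_left hF, hh_smul_right hF,
          huu, huv, hvu, hvv, smul_add, smul_smul]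
        funext i
        simp only [Pi.add_apply, Pi.smul_apply, smul_eq_mul]
        linear_combination (norm := ring_nf) (k * u 0 i * (b : F)) * habc
          + ((b : F) * k * u 0 i - (b : F) ^ 2 * k * u 0 i * a * c - (b : F) ^ 2 * k * a * v 0 i * c
            - (b : F) ^ 3 * k * u 0 i * a - k * u 0 i * a - k * a * v 0 i) * h2
          + (-(k * a * v 0 i)) * hb3
      · rw [e] at hw ⊢
        obtain ⟨k, rfl⟩ : ∃ k : F, w = k • v 0 := by
          have hspan : Submodule.span F {v 0} = eig g (c : F) :=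
            Submodule.eq_of_le_of_finrank_eq (by simpa using hvc)
              (by rw [hc, finrank_span_singleton (fun e' => by
                rw [e', hh_zero_left hF] at hvv; exact zero_ne_one hvv)])
          rw [← hspan] at hw
          obtain ⟨k, hk'⟩ := Submodule.mem_span_singleton.1 hw
          exact ⟨k, hk'.symm⟩
        rw [tv_act hF hpp]
        simp only [ep, eq, hh_add_left hF, hh_add_right hF, hh_smul_left hF, hh_smul_right hF,
          huu, huv, hvu, hvv, smul_add, smul_smul]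
        funext i
        simp only [Pi.add_apply, Pi.smul_apply, smul_eq_mul]
        linear_combination (norm := ring_nf) (k * v 0 i * (c : F)) * habc
          + ((c : F) * k * v 0 i - (c : F) ^ 2 * k * v 0 i * a * b - (c : F) ^ 2 * k * a * u 0 i * b
            - (c : F) ^ 3 * k * v 0 i * a - k * v 0 i * a - k * a * u 0 i) * h2
          + (-(k * a * u 0 i)) * hc3
    have hx : x ∈ LinearMap.eqLocus (lin g) (lin (z * (tv hF p * tv hF q))) :=
      hle (sup_eig_eq_top hF hg ▸ Submodule.mem_top)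
    simpa [lin_apply] using LinearMap.mem_eqLocus.1 hx
  refine ⟨pt hF f p, pt_mem hF f hf hk hD hp hpp, pt hF f q, pt_mem hF f hf hk hD hq hqq,
    fun h => hpq ((pt_commute hF f hk hp hq hpp hqq).1 h), ?_⟩
  rw [act_ext key, map_mul, map_mul, (map_eq_one_iff' hF f hk).2 hz, one_mul]
  rfl

/-- The members of one eigenspace. -/
theorem card_cls {g : ↥(Cfsg.SU 6 F 2)} (hg : g ^ 3 = 1) (a : Fˣ) {N : ℕ}
    (hN : Nat.card {v : Fin 6 → F // v ∈ eig g (a : F) ∧ hh v v = 0} = N) :
    3 * {d | d ∈ D ∧ ∃ v, v ≠ 0 ∧ hh v v = 0 ∧ v ∈ eig g (a : F) ∧ d = pt hF f v}.ncard + 1 = N := by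
  obtain ⟨S, eS⟩ : ∃ S : Set Y,
      S = {d | d ∈ D ∧ ∃ v, v ≠ 0 ∧ hh v v = 0 ∧ v ∈ eig g (a : F) ∧ d = pt hF f v} := ⟨_, rfl⟩
  rw [← eS, ← Nat.card_coe_set_eq, ← card_vectors hF f hf hk hD (S := S) (fun d hd => (eS ▸ hd).1),
    ← hN, ← card_ne (fun v : Fin 6 → F => v ∈ eig g (a : F) ∧ hh v v = 0) 0
      ⟨zero_mem _, hh_zero_left hF 0⟩]
  congr 1
  refine Nat.card_congr (Equiv.subtypeEquivRight fun v => ?_)
  constructor
  · rintro ⟨⟨v0, vv⟩, hv⟩
    rw [eS] at hv
    obtain ⟨-, w, -, ww, hw, e⟩ := hv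
    obtain ⟨k, -, rfl⟩ := pt_eq hF f hk v0 vv ww e
    exact ⟨v0, Submodule.smul_mem _ _ hw, vv⟩
  · rintro ⟨v0, hv, vv⟩
    rw [eS]
    exact ⟨⟨v0, vv⟩, pt_mem hF f hf hk hD v0 vv, v, v0, vv, hv, rfl⟩

/-- The shape of an element of order three. -/
theorem three_model {g : ↥(Cfsg.SU 6 F 2)} (hy : f g ^ 3 = 1) (hne : f g ≠ 1) :
    ((∃ p ∈ D, ∃ q ∈ D, ¬ Commute p q ∧ f g = p * q) ∨ Multi (Fx D (f g))) ∧
      (Fx D (f g)).ncard ≤ 256 := by
  by_cases hg : g ^ 3 = 1
  swap
  · rw [fx_empty hF f hf hk hD hy hg]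
    exact ⟨Or.inr ⟨0, Or.inl rfl, fun a ha => absurd ha (Set.notMem_empty a),
      fun a ha => absurd ha (Set.notMem_empty a)⟩, by simp⟩
  obtain ⟨hsum, -⟩ := dims hF hg
  obtain ⟨dd, edd⟩ : ∃ dd : Fˣ → ℕ, ∀ a, dd a = Module.finrank F (eig g (a : F)) :=
    ⟨_, fun _ => rfl⟩
  simp only [← edd] at hsum
  have hmod : ∀ a b, dd a % 3 = dd b % 3 := fun a b => by rw [edd, edd]; exact dims_mod hF hg a b
  have hcard3 : Fintype.card Fˣ = 3 := by rw [Fintype.card_units, hF]; norm_num
  -- the two other eigenvalues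
  have hothers : ∀ a : Fˣ, ∃ b c : Fˣ, a ≠ b ∧ a ≠ c ∧ b ≠ c ∧ dd a + dd b + dd c = 6 ∧
      ∀ e, e = a ∨ e = b ∨ e = c := by
    intro a
    obtain ⟨b, c, hbc, e⟩ := Finset.card_eq_two.1
      (show ((Finset.univ : Finset Fˣ).erase a).card = 2 by
        rw [Finset.card_erase_of_mem (Finset.mem_univ a), Finset.card_univ, hcard3])
    have hb : b ∈ (Finset.univ : Finset Fˣ).erase a := e ▸ Finset.mem_insert_self _ _
    have hc : c ∈ (Finset.univ : Finset Fˣ).erase a :=
      e ▸ Finset.mem_insert_of_mem (Finset.mem_singleton_self _)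
    refine ⟨b, c, (Finset.ne_of_mem_erase hb).symm, (Finset.ne_of_mem_erase hc).symm, hbc, ?_,
      fun x => ?_⟩
    · rw [← hsum, ← Finset.add_sum_erase _ dd (Finset.mem_univ a), e, Finset.sum_pair hbc]
      omega
    · by_cases hx : x = a
      · exact Or.inl hx
      · have := Finset.mem_erase.2 ⟨hx, Finset.mem_univ x⟩
        rw [e] at this
        simp only [Finset.mem_insert, Finset.mem_singleton] at this
        exact Or.inr this
  have hle : ∀ a, dd a ≤ 4 := by
    intro a
    obtain ⟨b, c, -, -, -, hs, -⟩ := hothers a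
    have h1 := hmod a b
    have h2 := hmod a c
    by_contra h
    have h6 : dd a = 6 := by omega
    refine hne ((map_eq_one_iff' hF f hk).2 (mem_center_of_scalar hF (c := (a : F)) fun x => ?_))
    have htop : eig g (a : F) = ⊤ := Submodule.eq_top_of_finrank_eq (by
      rw [← edd, h6, Module.finrank_pi, Fintype.card_fin])
    exact mem_eig.1 (htop ▸ Submodule.mem_top : x ∈ eig g (a : F))
  have hcl : ∀ d ∈ Fx D (f g), ∃ a : Fˣ, ∃ v, v ≠ 0 ∧ hh v v = 0 ∧ v ∈ eig g (a : F) ∧
      d = pt hF f v := by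
    intro d hd
    obtain ⟨v, hv, hvv, rfl⟩ := exists_pt hF f hf hk hD hd.1
    obtain ⟨a, e⟩ := (commute_pt_iff hF f hf hk hD hv hvv).1 hd.2
    exact ⟨a, v, hv, hvv, mem_eig.2 e, rfl⟩
  obtain ⟨cl, ecl⟩ : ∃ cl : Fˣ → Set Y, ∀ a, cl a =
      {d | d ∈ D ∧ ∃ v, v ≠ 0 ∧ hh v v = 0 ∧ v ∈ eig g (a : F) ∧ d = pt hF f v} := ⟨_, fun _ => rfl⟩
  have hcle : ∀ a, cl a ⊆ Fx D (f g) := by
    intro a d hd
    rw [ecl] at hd
    obtain ⟨hdD, v, hv, hvv, hva, rfl⟩ := hd
    exact ⟨hdD, (commute_pt_iff hF f hf hk hD hv hvv).2 ⟨a, mem_eig.1 hva⟩⟩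
  have hsplit : ∀ d ∈ Fx D (f g), ∃ a, d ∈ cl a := fun d hd => by
    obtain ⟨a, h⟩ := hcl d hd
    exact ⟨a, by rw [ecl]; exact ⟨hd.1, h⟩⟩
  have hdisj : ∀ a b, a ≠ b → Disjoint (cl a) (cl b) := by
    intro a b hab
    refine Set.disjoint_left.2 fun d hda hdb => ?_
    rw [ecl] at hda hdb
    obtain ⟨-, v, hv, hvv, hva, rfl⟩ := hda
    obtain ⟨-, w, -, hww, hwb, e⟩ := hdb
    obtain ⟨k, -, rfl⟩ := pt_eq hF f hk hv hvv hww e
    exact hab (Units.ext (smul_vec_cancel hF hv
      ((mem_eig.1 hva).symm.trans (mem_eig.1 (Submodule.smul_mem _ k hwb)))))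
  have hN : ∀ a : Fˣ, Nat.card {v : Fin 6 → F // v ∈ eig g (a : F) ∧ hh v v = 0} ≤ 256 := fun a => by
    have h1 : Nat.card {v : Fin 6 → F // v ∈ eig g (a : F) ∧ hh v v = 0} ≤
        Nat.card (eig g (a : F)) :=
      Nat.card_le_card_of_injective (fun v => ⟨v.1, v.2.1⟩)
        fun x y h => Subtype.ext (congrArg (fun z : eig g (a : F) => (z : Fin 6 → F)) h)
    refine h1.trans ?_
    rw [Module.natCard_eq_pow_finrank (K := F), Nat.card_eq_fintype_card, hF, ← edd a]
    calc (2 ^ 2) ^ dd a ≤ (2 ^ 2) ^ 4 := Nat.pow_le_pow_right (by norm_num) (hle a)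
      _ = 256 := by norm_num
  have hbound : (Fx D (f g)).ncard ≤ 256 := by
    obtain ⟨b, c, -, -, -, -, hall⟩ := hothers 1
    have hsub : Fx D (f g) ⊆ cl 1 ∪ cl b ∪ cl c := fun d hd => by
      obtain ⟨a, ha⟩ := hsplit d hd
      rcases hall a with rfl | rfl | rfl
      · exact Or.inl (Or.inl ha)
      · exact Or.inl (Or.inr ha)
      · exact Or.inr ha
    have h1 := (Set.ncard_le_ncard hsub).trans
      ((Set.ncard_union_le _ _).trans (Nat.add_le_add_right (Set.ncard_union_le _ _) _))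
    have h2 : ∀ a, 3 * (cl a).ncard + 1 ≤ 256 := fun a => by
      rw [ecl]; exact (card_cls hF f hf hk hD hg a rfl).trans_le (hN a)
    have := h2 1; have := h2 b; have := h2 c
    omega
  refine ⟨?_, hbound⟩
  by_cases h4 : ∃ a, dd a = 4
  · obtain ⟨a, ha⟩ := h4
    obtain ⟨b, c, hab, hac, hbc, hs, -⟩ := hothers a
    have h1 := hmod a b
    have h2 := hmod a c
    exact Or.inl (prod_of_four hF f hf hk hD hg (a := a) (b := b) (c := c)
      (fun e => hab (Units.ext e)) (fun e => hac (Units.ext e)) (fun e => hbc (Units.ext e))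
      (by rw [← edd]; omega) (by rw [← edd]; omega))
  right
  push Not at h4
  have h3 : ∀ a, dd a ≤ 3 := fun a => by have := hle a; have := h4 a; omega
  have hmem : ∀ a, ∀ d ∈ cl a, ∀ e ∈ Fx D (f g), (e = d ∨ ¬ Commute d e) ↔ e ∈ cl a := by
    intro a d hd e he
    obtain ⟨b, hb⟩ := hsplit e he
    constructor
    · rintro (rfl | hnc)
      · exact hd
      · by_contra hea
        rw [ecl] at hd hb
        obtain ⟨-, v, hv, hvv, hva, rfl⟩ := hd
        obtain ⟨-, w, hw, hww, hwb, rfl⟩ := hb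
        refine hnc ((pt_commute hF f hk hv hw hvv hww).2 (eig_orth hF ?_ hva hwb))
        intro eab
        exact hea (by rw [ecl, Units.ext eab]; exact ⟨he.1, w, hw, hww, hwb, rfl⟩)
    · intro hea
      by_contra! hcon
      obtain ⟨hne', hc⟩ := hcon
      rw [ecl] at hd hea
      obtain ⟨-, v, hv, hvv, hva, rfl⟩ := hd
      obtain ⟨-, w, hw, hww, hwa, rfl⟩ := hea
      obtain ⟨k, hk'⟩ := Submodule.mem_span_singleton.1 (no_plane hF (nondeg_eig hF hg a)
        (by rw [← edd]; exact h3 a) hva hwa hvv hww ((pt_commute hF f hk hv hw hvv hww).1 hc) hv)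
      refine hne' ?_
      rw [← hk', pt_smul hF f hvv]
      intro e0
      exact hw (by rw [← hk', e0, zero_smul])
  have hval : ∀ a, (dd a = 0 → (cl a).ncard = 0) ∧ (dd a = 2 → (cl a).ncard = 3) ∧
      (dd a = 3 → (cl a).ncard = 9) := by
    intro a
    have h := fun N => card_cls hF f hf hk hD hg a (N := N)
    rw [← ecl] at h
    obtain ⟨-, i2, i3⟩ := card_iso_values hF (nondeg_eig hF hg a)
    refine ⟨fun h0 => ?_, fun h0 => ?_, fun h0 => ?_⟩
    · have h1 := h 1 (by
        rw [Nat.card_eq_one_iff_unique]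
        rw [edd] at h0
        have hbot := Submodule.finrank_eq_zero.1 h0
        refine ⟨⟨fun x y => Subtype.ext ?_⟩, ⟨⟨0, zero_mem _, hh_zero_left hF 0⟩⟩⟩
        have hx := hbot.le x.2.1
        have hy' := hbot.le y.2.1
        rw [Submodule.mem_bot] at hx hy'
        rw [hx, hy'])
      omega
    · have h1 := h 10 (i2 (by rw [← edd]; exact h0))
      omega
    · have h1 := h 28 (i3 (by rw [← edd]; exact h0))
      omega
  obtain ⟨b, c, hab, hac, hbc, hs, hall⟩ := hothers 1
  have hunion : Fx D (f g) = cl 1 ∪ cl b ∪ cl c := by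
    refine Set.Subset.antisymm (fun d hd => ?_)
      (Set.union_subset (Set.union_subset (hcle _) (hcle _)) (hcle _))
    obtain ⟨a, ha⟩ := hsplit d hd
    rcases hall a with rfl | rfl | rfl
    · exact Or.inl (Or.inl ha)
    · exact Or.inl (Or.inr ha)
    · exact Or.inr ha
  have htot : (Fx D (f g)).ncard = (cl 1).ncard + (cl b).ncard + (cl c).ncard := by
    rw [hunion, Set.ncard_union_eq (Set.disjoint_union_left.2 ⟨hdisj _ _ hac, hdisj _ _ hbc⟩),
      Set.ncard_union_eq (hdisj _ _ hab)]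
  have hshape : (dd 1 = 2 ∧ dd b = 2 ∧ dd c = 2) ∨
      ((dd 1 = 0 ∨ dd 1 = 3) ∧ (dd b = 0 ∨ dd b = 3) ∧ (dd c = 0 ∨ dd c = 3)) := by
    have := h3 1; have := h3 b; have := h3 c
    have := hmod 1 b; have := hmod 1 c
    omega
  have hcls : ∀ a, ∀ d ∈ cl a, {e | e ∈ Fx D (f g) ∧ (e = d ∨ ¬ Commute d e)} = cl a := by
    intro a d hd
    ext e
    exact ⟨fun h => (hmem a d hd e h.1).1 h.2, fun h => ⟨hcle a h, (hmem a d hd e (hcle a h)).2 h⟩⟩
  obtain ⟨v1, v2, v3⟩ := hval 1
  obtain ⟨w1, w2, w3⟩ := hval b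
  obtain ⟨u1, u2, u3⟩ := hval c
  have htrans : ∀ d ∈ Fx D (f g), ∀ e ∈ Fx D (f g), ∀ k ∈ Fx D (f g),
      ¬ Commute d e → ¬ Commute e k → d = k ∨ ¬ Commute d k := by
    intro d hd e he k hk' hde hek
    obtain ⟨a, ha⟩ := hsplit d hd
    have hea : e ∈ cl a := (hmem a d ha e he).1 (Or.inr hde)
    have hka : k ∈ cl a := (hmem a e hea k hk').1 (Or.inr hek)
    exact ((hmem a d ha k hk').2 hka).imp Eq.symm id
  rcases hshape with ⟨e1, e2, e3⟩ | ⟨e1, e2, e3⟩
  · refine ⟨3, Or.inr (Or.inr ⟨rfl, ?_⟩), fun d hd => ?_, htrans⟩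
    · rw [htot, v2 e1, w2 e2, u2 e3]
    · obtain ⟨a, ha⟩ := hsplit d hd
      rw [hcls a d ha]
      rcases hall a with rfl | rfl | rfl
      exacts [v2 e1, w2 e2, u2 e3]
  · refine ⟨9, Or.inr (Or.inl ⟨rfl, ?_⟩), fun d hd => ?_, htrans⟩
    · rw [htot]
      rcases e1 with e1 | e1 <;> rcases e2 with e2 | e2 <;> rcases e3 with e3 | e3 <;>
        first
          | omega
          | (rw [show (cl 1).ncard = _ from by first | exact v1 e1 | exact v3 e1,
              show (cl b).ncard = _ from by first | exact w1 e2 | exact w3 e2,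
              show (cl c).ncard = _ from by first | exact u1 e3 | exact u3 e3])
    · obtain ⟨a, ha⟩ := hsplit d hd
      rw [hcls a d ha]
      have hpos : 0 < (cl a).ncard := (Set.ncard_pos (Set.toFinite _)).2 ⟨d, ha⟩
      have h0 := (hval a).1
      have h9 := (hval a).2.2
      have : dd a = 0 ∨ dd a = 3 := by rcases hall a with rfl | rfl | rfl <;> assumption
      rcases this with h | h
      · have := h0 h; omega
      · exact h9 h

/-- A product of two non-commuting members determines their line. -/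
theorem prod_unique_model {a b a' b' : Y} (ha : a ∈ D) (hb : b ∈ D) (ha' : a' ∈ D) (hb' : b' ∈ D)
    (hn : ¬ Commute a b) (hn' : ¬ Commute a' b') (h : a * b = a' * b') :
    a' = a ∨ a' = b ∨ a' = a * b * a := by
  obtain ⟨p, hp, hpp, rfl⟩ := exists_pt hF f hf hk hD ha
  obtain ⟨q, hq, hqq, rfl⟩ := exists_pt hF f hf hk hD hb
  obtain ⟨r, hr, hrr, rfl⟩ := exists_pt hF f hf hk hD ha'
  obtain ⟨s, hs, hss, rfl⟩ := exists_pt hF f hf hk hD hb'
  have hpq : hh p q ≠ 0 := fun e => hn ((pt_commute hF f hk hp hq hpp hqq).2 e)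
  have hrs : hh r s ≠ 0 := fun e => hn' ((pt_commute hF f hk hr hs hrr hss).2 e)
  have hqp : hh q p ≠ 0 := fun e => hpq (hh_symm_zero hF e)
  have hker : (tv hF p * tv hF q)⁻¹ * (tv hF r * tv hF s) ∈ Subgroup.center ↥(Cfsg.SU 6 F 2) := by
    refine (map_eq_one_iff' hF f hk).1 ?_
    rw [map_mul, map_inv, map_mul, map_mul]
    show (pt hF f p * pt hF f q)⁻¹ * (pt hF f r * pt hF f s) = 1
    rw [h, inv_mul_cancel]
  obtain ⟨c, -, hc⟩ := center_act hF hker
  have hact : ∀ x, act (tv hF r * tv hF s) x = c • act (tv hF p * tv hF q) x := fun x => by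
    rw [← act_smul hF, ← hc x, ← act_mul, mul_inv_cancel_left]
  obtain ⟨x₀, hx0, hx0'⟩ := exists_outside hF (n := 4) (by norm_num) 0 ![p, q, r, s]
  have hc1 : c = 1 := by
    have e := hact x₀
    have n1 : hh x₀ p = 0 := hx0' 0
    have n2 : hh x₀ q = 0 := hx0' 1
    have n3 : hh x₀ r = 0 := hx0' 2
    have n4 : hh x₀ s = 0 := hx0' 3
    simp only [act_mul, tv_act hF hpp, tv_act hF hqq, tv_act hF hrr, tv_act hF hss, n1, n2, n3, n4,
      zero_smul, add_zero] at e
    refine (smul_vec_cancel hF (p := x₀) (fun e0 => hx0 ?_) ((one_smul F x₀).trans e)).symm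
    rw [e0]; exact zero_mem _
  -- `r` lies in the plane of `p` and `q`
  have hrspan : r ∈ Submodule.span F ({p, q} : Set (Fin 6 → F)) := by
    by_contra hr'
    obtain ⟨x, hx, hxr⟩ := exists_hh hF hr'
    have n1 : hh x p = 0 := hx p (Submodule.subset_span (Set.mem_insert _ _))
    have n2 : hh x q = 0 := hx q (Submodule.subset_span (Set.mem_insert_of_mem _ rfl))
    have e := hact x
    rw [hc1, one_smul] at e
    simp only [act_mul, tv_act hF hpp, tv_act hF hqq, tv_act hF hrr, tv_act hF hss, n1, n2,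
      zero_smul, add_zero, hh_add_left hF, hh_smul_left hF, hxr] at e
    rw [add_assoc, add_eq_left] at e
    have e' := congrArg (fun z => hh z r) e
    simp only [hh_add_left hF, hh_smul_left hF, hh_zero_left hF, hrr, mul_zero, add_zero] at e'
    have hsr : hh s r ≠ 0 := fun e0 => hrs (hh_symm_zero hF e0)
    have hxs : hh x s = 0 := (mul_eq_zero.1 e').resolve_right hsr
    rw [hxs, zero_smul, zero_add, zero_mul, add_zero, one_smul] at e
    exact hr e
  obtain ⟨α, β, rfl⟩ := Submodule.mem_span_pair.1 hrspan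
  have hnorm : α * β ^ 2 * hh p q + β * α ^ 2 * hh q p = 0 := by
    have := hrr
    simp only [hh_add_left hF, hh_add_right hF, hh_smul_left hF, hh_smul_right hF, hpp, hqq,
      mul_zero, zero_add, add_zero] at this
    linear_combination this
  by_cases hβ : β = 0
  · left
    have hα : α ≠ 0 := fun e => hr (by simp [e, hβ])
    rw [hβ, zero_smul, add_zero, pt_smul hF f hpp hα]
  by_cases hα : α = 0
  · right; left
    rw [hα, zero_smul, zero_add, pt_smul hF f hqq hβ]
  · right; right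
    rw [← hh_conj hF p q] at hnorm
    rcases fixed hF (show (α * β ^ 2 * hh p q) ^ 2 = α * β ^ 2 * hh p q by
      have hb3 := cube_one hF hβ
      linear_combination hnorm - (α * β ^ 2 * hh p q) * add_self hF (1 : F) +
        (α ^ 2 * β * hh p q ^ 2) * hb3) with e | e
    · exact absurd e (mul_ne_zero (mul_ne_zero hα (pow_ne_zero 2 hβ)) hpq)
    · have ed : α = β * hh q p := by
        have hb3 := cube_one hF hβ
        have hp3 := cube_one hF hpq
        rw [← hh_conj hF p q]
        linear_combination (β * hh p q ^ 2) * e - (α * hh p q ^ 3) * hb3 - α * hp3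
      rw [third hF f hf hD hp hpp hqq, ed,
        show (β * hh q p) • p + β • q = β • (q + hh q p • p) by rw [smul_add, smul_smul, add_comm],
        pt_smul hF f ?_ hβ]
      rw [← tv_act hF hpp q, hh_act]
      exact hqq

end Model

section Wrap

variable {G : Type*} [Group G] [Finite G] {D : Set G} (hU : IsU6 G)
  (hD : Cfsg.IsThreeTranspositionGroup D)
include hU hD

theorem u6_three {y : G} (hy : y ^ 3 = 1) (hne : y ≠ 1) :
    ((∃ p ∈ D, ∃ q ∈ D, ¬ Commute p q ∧ y = p * q) ∨ Multi (Fx D y)) ∧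
      (Fx D y).ncard ≤ 256 := by
  obtain ⟨F, _, _, f, hF, hf, hk⟩ := exists_model hU hD
  obtain ⟨g, rfl⟩ := hf y
  exact three_model hF f hf hk hD hy hne

theorem u6_prod_unique {a b a' b' : G} (ha : a ∈ D) (hb : b ∈ D) (ha' : a' ∈ D) (hb' : b' ∈ D)
    (hn : ¬ Commute a b) (hn' : ¬ Commute a' b') (h : a * b = a' * b') :
    a' = a ∨ a' = b ∨ a' = a * b * a := by
  obtain ⟨F, _, _, f, hF, hf, hk⟩ := exists_model hU hD
  exact prod_unique_model hF f hf hk hD ha hb ha' hb' hn hn' h

end Wrap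

end CfsgLib.Trans3.Fi
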