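import Cfsg.Agent.Lib.Trans3.Fi.U6ThreeLift

/-!
The three classes of elements of order three of `PSU₆(2)`: they commute with 45, 18 or 9
transvections, this number determines the class, and 45 means a product of two non-commuting
transvections.
-/

set_option autoImplicit false
set_option linter.unusedSectionVars false
set_option linter.style.haveILetI false

namespace CfsgLib.Trans3.Fi

/-- The patterns of three multiplicities summing to six. -/
theorem triple_pattern : ∀ a b : Fin 7, a.val + b.val ≤ 6 → a.val % 3 = b.val % 3 →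
    a.val % 3 = (6 - a.val - b.val) % 3 → a.val ≠ 6 → b.val ≠ 6 → 6 - a.val - b.val ≠ 6 →
    (a.val, b.val, 6 - a.val - b.val) ∈ ([(4, 1, 1), (3, 3, 0), (2, 2, 2)] : List (ℕ × ℕ × ℕ)) ∨
      (6 - a.val - b.val, a.val, b.val) ∈ ([(4, 1, 1), (3, 3, 0), (2, 2, 2)] : List (ℕ × ℕ × ℕ)) ∨
      (b.val, 6 - a.val - b.val, a.val) ∈ ([(4, 1, 1), (3, 3, 0), (2, 2, 2)] : List (ℕ × ℕ × ℕ)) := by
  intro a b
  fin_cases a <;> fin_cases b <;> simp

open Matrix CfsgLib.MaxSub CfsgLib.Classical CfsgLib.Trans3.TvSU U6Eigen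
open scoped _root_.Classical

section Model

variable {F : Type*} [Field F] [Fintype F] (hF : Fintype.card F = 2 ^ 2)

/-- The dimensions of the eigenspaces at `1`, `u`, `u²`. -/
noncomputable abbrev eigTriple (g : ↥(Cfsg.SU 6 F 2)) (u : Fˣ) : ℕ × ℕ × ℕ :=
  (Module.finrank F (eig g ((1 : Fˣ) : F)), Module.finrank F (eig g (u : F)),
    Module.finrank F (eig g ((u ^ 2 : Fˣ) : F)))

include hF

theorem exists_omega_unit : ∃ u : Fˣ, (u : F) + (u : F) ^ 2 = 1 := by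
  obtain ⟨ω, hω⟩ := exists_omega hF
  exact ⟨Units.mk0 ω (fun e => by rw [e] at hω; simp at hω), hω⟩

theorem unit_cases {u : Fˣ} (hu : (u : F) + (u : F) ^ 2 = 1) (a : Fˣ) :
    a = 1 ∨ a = u ∨ a = u ^ 2 := by
  rcases units_cases hF hu a with e | e | e
  exacts [Or.inl (Units.ext e), Or.inr (Or.inl (Units.ext e)),
    Or.inr (Or.inr (Units.ext (by rw [e, Units.val_pow_eq_pow_val])))]

theorem unit_distinct {u : Fˣ} (hu : (u : F) + (u : F) ^ 2 = 1) :
    u ^ 3 = 1 ∧ (1 : Fˣ) ≠ u ∧ (1 : Fˣ) ≠ u ^ 2 ∧ u ≠ u ^ 2 := by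
  have h2 := add_self hF (1 : F)
  have h3 : u ^ 3 = 1 := Units.ext (by rw [Units.val_pow_eq_pow_val, cube_one hF u.ne_zero]; rfl)
  have n1 : (1 : Fˣ) ≠ u := fun e => by
    rw [← e] at hu; simp [h2] at hu
  refine ⟨h3, n1, fun e => n1 ?_, fun e => n1 ?_⟩
  · rw [← h3, pow_succ, ← e, one_mul]
  · refine mul_left_cancel (a := u) ?_
    rw [mul_one, ← pow_two, ← e]

theorem eig_dims_of_triple {u : Fˣ} (hu : (u : F) + (u : F) ^ 2 = 1) {g g' : ↥(Cfsg.SU 6 F 2)}
    (h : eigTriple g u = eigTriple g' u) (a : Fˣ) :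
    Module.finrank F (eig g (a : F)) = Module.finrank F (eig g' (a : F)) := by
  simp only [eigTriple, Prod.mk.injEq] at h
  rcases unit_cases hF hu a with rfl | rfl | rfl
  exacts [h.1, h.2.1, h.2.2]

theorem eigTriple_sum {u : Fˣ} (hu : (u : F) + (u : F) ^ 2 = 1) {g : ↥(Cfsg.SU 6 F 2)}
    (hg : g ^ 3 = 1) :
    (eigTriple g u).1 + (eigTriple g u).2.1 + (eigTriple g u).2.2 = 6 := by
  obtain ⟨-, n1, n2, n3⟩ := unit_distinct hF hu
  have huniv : (Finset.univ : Finset Fˣ) = {1, u, u ^ 2} :=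
    Finset.ext fun a => by simpa using unit_cases hF hu a
  have h := (dims hF hg).1
  rw [huniv, Finset.sum_insert (by simp [n1, n2]), Finset.sum_pair n3] at h
  simp only [eigTriple]
  omega

/-- A scalar moves the eigenvalues. -/
theorem eig_scalar {g z : ↥(Cfsg.SU 6 F 2)} {c : Fˣ} (hz : ∀ x, act z x = (c : F) • x) (a : Fˣ) :
    eig (z * g) ((c * a : Fˣ) : F) = eig g (a : F) := by
  ext v
  rw [mem_eig, mem_eig, act_mul, hz, Units.val_mul, mul_smul]
  exact (smul_right_injective (Fin 6 → F) c.ne_zero).eq_iff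

theorem scalar_lift {g : ↥(Cfsg.SU 6 F 2)} (hg : g ^ 3 = 1) (c : Fˣ) :
    ∃ z ∈ Subgroup.center ↥(Cfsg.SU 6 F 2), (z * g) ^ 3 = 1 ∧
      ∀ a : Fˣ, eig (z * g) ((c * a : Fˣ) : F) = eig g (a : F) := by
  obtain ⟨z, hz, hzx⟩ := exists_scalar hF c.ne_zero
  refine ⟨z, hz, ?_, eig_scalar hF hzx⟩
  rw [(show Commute z g from (Subgroup.mem_center_iff.1 hz g).symm).mul_pow, hg, mul_one,
    center_cube hF hz]

/-- Prescribed eigenvalues on the standard basis. -/
theorem exists_diag (e : Fin 6 → Fˣ) (he : ∏ i, e i = 1) :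
    ∃ g : ↥(Cfsg.SU 6 F 2), g ^ 3 = 1 ∧ ∀ a : Fˣ,
      Module.finrank F (eig g (a : F)) = (Finset.univ.filter fun i => e i = a).card := by
  obtain ⟨L, eL⟩ : ∃ L : (Fin 6 → F) →ₗ[F] (Fin 6 → F),
      L = Matrix.toLin' (Matrix.diagonal fun i => ((e i : Fˣ) : F)) := ⟨_, rfl⟩
  have hL : ∀ x i, L x i = (e i : F) * x i := fun x i => by
    rw [eL, Matrix.toLin'_apply, Matrix.mulVec_diagonal]
  obtain ⟨g, hg⟩ := exists_su_map hF L (by
      rw [eL, LinearMap.det_toLin', Matrix.det_diagonal, ← Units.coe_prod, he, Units.val_one])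
    (fun x y => by
      show Cfsg.hermForm 6 F 2 (L x) (L y) = Cfsg.hermForm 6 F 2 x y
      simp only [Cfsg.hermForm, hL]
      exact Finset.sum_congr rfl fun i _ => by
        linear_combination (x i * y i ^ 2) * cube_one hF (e i).ne_zero)
  have hg3 : g ^ 3 = 1 := act_ext fun x => funext fun i => by
    rw [pow_three', act_mul, act_mul, hg, hg, hg, hL, hL, hL, act_one]
    linear_combination x i * cube_one hF (e i).ne_zero
  refine ⟨g, hg3, ?_⟩
  have hle : ∀ a ∈ (Finset.univ : Finset Fˣ),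
      (Finset.univ.filter fun i => e i = a).card ≤ Module.finrank F (eig g (a : F)) := by
    intro a _
    obtain ⟨s, es⟩ : ∃ s : {i // e i = a} → Fin 6 → F, ∀ i, s i = Pi.single i.1 1 :=
      ⟨_, fun _ => rfl⟩
    have hs : LinearIndependent F s := by
      have h := (Pi.basisFun F (Fin 6)).linearIndependent.comp
        (fun i : {i // e i = a} => i.1) Subtype.val_injective
      rwa [show s = ⇑(Pi.basisFun F (Fin 6)) ∘ (fun i : {i // e i = a} => i.1) from
        funext fun i => by rw [es, Function.comp_apply, Pi.basisFun_apply]]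
    have h2 : Submodule.span F (Set.range s) ≤ eig g (a : F) := by
      rw [Submodule.span_le]
      rintro _ ⟨i, rfl⟩
      refine mem_eig.2 ?_
      rw [hg, es]
      funext j
      rw [hL, Pi.smul_apply, smul_eq_mul]
      rcases eq_or_ne j i.1 with rfl | hj
      · rw [i.2]
      · rw [Pi.single_eq_of_ne hj, mul_zero, mul_zero]
    have h3 := Submodule.finrank_mono h2
    rwa [finrank_span_eq_card hs, Fintype.card_subtype] at h3
  have hsum : ∑ a : Fˣ, (Finset.univ.filter fun i => e i = a).card =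
      ∑ a : Fˣ, Module.finrank F (eig g (a : F)) := by
    rw [(dims hF hg3).1, ← Finset.card_eq_sum_card_fiberwise (fun i _ => Finset.mem_univ (e i)),
      Finset.card_univ, Fintype.card_fin]
  exact fun a => ((Finset.sum_eq_sum_iff_of_le hle).1 hsum a (Finset.mem_univ a)).symm

variable {Y : Type*} [Group Y] [Finite Y] {D : Set Y} (f : ↥(Cfsg.SU 6 F 2) →* Y)
  (hf : Function.Surjective f) (hk : f.ker = Subgroup.center ↥(Cfsg.SU 6 F 2))
include hf hk

/-- No eigenspace is everything. -/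
theorem eig_lt_six {g : ↥(Cfsg.SU 6 F 2)} (hne : f g ≠ 1) (a : F) :
    Module.finrank F (eig g a) ≠ 6 := by
  intro h6
  refine hne ((map_eq_one_iff' hF f hk).2 (mem_center_of_scalar hF (c := a) fun x => ?_))
  have htop : eig g a = ⊤ := Submodule.eq_top_of_finrank_eq (by
    rw [h6, Module.finrank_pi, Fintype.card_fin])
  exact mem_eig.1 (htop ▸ Submodule.mem_top : x ∈ eig g a)

/-- The normal form of an element of order three. -/
theorem exists_normal {u : Fˣ} (hu : (u : F) + (u : F) ^ 2 = 1) {y : Y} (hy : y ^ 3 = 1)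
    (hne : y ≠ 1) : ∃ g, f g = y ∧ g ^ 3 = 1 ∧
      eigTriple g u ∈ [(4, 1, 1), (3, 3, 0), (2, 2, 2)] := by
  obtain ⟨g, rfl⟩ := hf y
  have hg := lift_cube_one hF ((map_eq_one_iff' hF f hk).1 (show f (g ^ 3) = 1 by rw [map_pow, hy]))
  obtain ⟨h3, -, -, -⟩ := unit_distinct hF hu
  have hsum := eigTriple_sum hF hu hg
  have m1 := dims_mod hF hg 1 u
  have m2 := dims_mod hF hg 1 (u ^ 2)
  have b1 := eig_lt_six hF f hf hk hne ((1 : Fˣ) : F)
  have b2 := eig_lt_six hF f hf hk hne (u : F)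
  have b3 := eig_lt_six hF f hf hk hne ((u ^ 2 : Fˣ) : F)
  have shift : ∀ c : Fˣ, ∃ g', f g' = f g ∧ g' ^ 3 = 1 ∧ eigTriple g' u =
      (Module.finrank F (eig g ((c⁻¹ * 1 : Fˣ) : F)), Module.finrank F (eig g ((c⁻¹ * u : Fˣ) : F)),
        Module.finrank F (eig g ((c⁻¹ * u ^ 2 : Fˣ) : F))) := by
    intro c
    obtain ⟨z, hz, hzg, he⟩ := scalar_lift hF hg c
    refine ⟨z * g, by rw [map_mul, (map_eq_one_iff' hF f hk).2 hz, one_mul], hzg, ?_⟩
    have e : ∀ a : Fˣ, eig (z * g) (a : F) = eig g ((c⁻¹ * a : Fˣ) : F) := fun a => by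
      rw [← he (c⁻¹ * a), mul_inv_cancel_left]
    have e' : ∀ a : Fˣ, Module.finrank F (eig (z * g) (a : F)) =
        Module.finrank F (eig g ((c⁻¹ * a : Fˣ) : F)) := fun a =>
      congrArg (fun S : Submodule F (Fin 6 → F) => Module.finrank F S) (e a)
    exact Prod.ext (e' 1) (Prod.ext (e' u) (e' (u ^ 2)))
  obtain ⟨g1, f1, c1, t1⟩ := shift u
  obtain ⟨g2, f2, c2, t2⟩ := shift (u ^ 2)
  have i1 : u⁻¹ = u ^ 2 := inv_eq_of_mul_eq_one_right (by rw [← pow_succ', h3])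
  have i2 : (u ^ 2)⁻¹ = u := inv_eq_of_mul_eq_one_right (by rw [← pow_succ, h3])
  rw [show u⁻¹ * 1 = u ^ 2 by rw [i1, mul_one],
    show u⁻¹ * u = 1 from inv_mul_cancel u,
    show u⁻¹ * u ^ 2 = u by rw [pow_two, inv_mul_cancel_left]] at t1
  rw [show (u ^ 2)⁻¹ * 1 = u by rw [i2, mul_one],
    show (u ^ 2)⁻¹ * u ^ 2 = 1 from inv_mul_cancel _,
    show (u ^ 2)⁻¹ * u = u ^ 2 by rw [i2, pow_two]] at t2
  obtain ⟨a, ea⟩ : ∃ a, Module.finrank F (eig g ((1 : Fˣ) : F)) = a := ⟨_, rfl⟩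
  obtain ⟨b, eb⟩ : ∃ b, Module.finrank F (eig g (u : F)) = b := ⟨_, rfl⟩
  obtain ⟨c, ec⟩ : ∃ c, Module.finrank F (eig g ((u ^ 2 : Fˣ) : F)) = c := ⟨_, rfl⟩
  rw [ea, eb, ec] at t1 t2
  have hs : a + b + c = 6 := by rw [← ea, ← eb, ← ec]; exact hsum
  have k1 : a % 3 = b % 3 := by rw [← ea, ← eb]; exact m1
  have k2 : a % 3 = c % 3 := by rw [← ea, ← ec]; exact m2
  have l1 : a ≠ 6 := by rw [← ea]; exact b1
  have l2 : b ≠ 6 := by rw [← eb]; exact b2
  have l3 : c ≠ 6 := by rw [← ec]; exact b3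
  clear hsum m1 m2 b1 b2 b3
  have t0 : eigTriple g u = (a, b, c) := by simp only [eigTriple, ea, eb, ec]
  have hcases : (a, b, c) ∈ [(4, 1, 1), (3, 3, 0), (2, 2, 2)] ∨
      (c, a, b) ∈ [(4, 1, 1), (3, 3, 0), (2, 2, 2)] ∨
      (b, c, a) ∈ [(4, 1, 1), (3, 3, 0), (2, 2, 2)] := by
    have key := triple_pattern ⟨a, by omega⟩ ⟨b, by omega⟩ (by show a + b ≤ 6; omega) k1
      (by show a % 3 = (6 - a - b) % 3; rw [show 6 - a - b = c by omega]; exact k2)
      (by show a ≠ 6; exact l1) (by show b ≠ 6; exact l2)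
      (by show 6 - a - b ≠ 6; rw [show 6 - a - b = c by omega]; exact l3)
    simpa only [show 6 - a - b = c by omega] using key
  rcases hcases with e | e | e
  · exact ⟨g, rfl, hg, t0 ▸ e⟩
  · exact ⟨g1, f1, c1, t1 ▸ e⟩
  · exact ⟨g2, f2, c2, t2 ▸ e⟩

variable (hD : Cfsg.IsThreeTranspositionGroup D)
include hD

/-- The transvections commuting with a normal form. -/
theorem normal_card {u : Fˣ} (hu : (u : F) + (u : F) ^ 2 = 1) {g : ↥(Cfsg.SU 6 F 2)}
    (hg : g ^ 3 = 1) :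
    (eigTriple g u = (4, 1, 1) → (Fx D (f g)).ncard = 45) ∧
      (eigTriple g u = (3, 3, 0) → (Fx D (f g)).ncard = 18) ∧
      (eigTriple g u = (2, 2, 2) → (Fx D (f g)).ncard = 9) := by
  obtain ⟨cl, ecl⟩ : ∃ cl : Fˣ → Set Y, ∀ a, cl a =
      {d | d ∈ D ∧ ∃ v, v ≠ 0 ∧ hh v v = 0 ∧ v ∈ eig g (a : F) ∧ d = pt hF f v} := ⟨_, fun _ => rfl⟩
  have hun : Fx D (f g) = cl 1 ∪ cl u ∪ cl (u ^ 2) := by
    ext d
    constructor
    · intro hd
      obtain ⟨v, hv, hvv, rfl⟩ := exists_pt hF f hf hk hD hd.1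
      obtain ⟨a, ha⟩ := (commute_pt_iff hF f hf hk hD hv hvv).1 hd.2
      have hm : pt hF f v ∈ cl a := by
        rw [ecl]; exact ⟨hd.1, v, hv, hvv, mem_eig.2 ha, rfl⟩
      rcases unit_cases hF hu a with rfl | rfl | rfl
      exacts [Or.inl (Or.inl hm), Or.inl (Or.inr hm), Or.inr hm]
    · have hc : ∀ a, cl a ⊆ Fx D (f g) := by
        intro a x hx
        rw [ecl] at hx
        obtain ⟨hxD, v, hv, hvv, hva, rfl⟩ := hx
        exact ⟨hxD, (commute_pt_iff hF f hf hk hD hv hvv).2 ⟨a, mem_eig.1 hva⟩⟩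
      rintro ((h | h) | h) <;> exact hc _ h
  have hdisj : ∀ a b, a ≠ b → Disjoint (cl a) (cl b) := by
    intro a b hab
    refine Set.disjoint_left.2 fun d hda hdb => ?_
    rw [ecl] at hda hdb
    obtain ⟨-, v, hv, hvv, hva, rfl⟩ := hda
    obtain ⟨-, w, -, hww, hwb, e⟩ := hdb
    obtain ⟨k, -, rfl⟩ := pt_eq hF f hk hv hvv hww e
    exact hab (Units.ext (smul_vec_cancel hF hv
      ((mem_eig.1 hva).symm.trans (mem_eig.1 (Submodule.smul_mem _ k hwb)))))
  obtain ⟨-, n1, n2, n3⟩ := unit_distinct hF hu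
  have htot : (Fx D (f g)).ncard = (cl 1).ncard + (cl u).ncard + (cl (u ^ 2)).ncard := by
    rw [hun, Set.ncard_union_eq (Set.disjoint_union_left.2 ⟨hdisj _ _ n2, hdisj _ _ n3⟩),
      Set.ncard_union_eq (hdisj _ _ n1)]
  have hval : ∀ (a : Fˣ) (n : ℕ), Module.finrank F (eig g (a : F)) = n →
      2 * (3 * (cl a).ncard + 1 : ℤ) = 2 ^ (2 * n) + (-1) ^ n * (2 ^ (n + 1) - 2 ^ n) := by
    intro a n hn
    have h1 := card_cls hF f hf hk hD hg a rfl
    rw [← ecl] at h1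
    rw [← card_iso hF (nondeg_eig hF hg a) hn, ← h1]
    push_cast
    ring
  simp only [eigTriple, Prod.mk.injEq]
  refine ⟨?_, ?_, ?_⟩ <;> rintro ⟨e1, e2, e3⟩ <;>
  · have h1 := hval 1 _ e1
    have h2 := hval u _ e2
    have h3 := hval (u ^ 2) _ e3
    norm_num at h1 h2 h3
    omega

/-- The model statement. -/
theorem three_class_model :
    (∀ y : Y, y ^ 3 = 1 → y ≠ 1 → ((Fx D y).ncard = 45 ∨ (Fx D y).ncard = 18 ∨ (Fx D y).ncard = 9) ∧
      ((Fx D y).ncard = 45 → ∃ p ∈ D, ∃ q ∈ D, ¬ Commute p q ∧ y = p * q)) ∧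
    (∀ y y' : Y, y ^ 3 = 1 → y ≠ 1 → y' ^ 3 = 1 → y' ≠ 1 → (Fx D y).ncard = (Fx D y').ncard →
      ∃ k, k * y * k⁻¹ = y') ∧
    ∀ n ∈ [45, 18, 9], ∃ y : Y, y ^ 3 = 1 ∧ y ≠ 1 ∧ (Fx D y).ncard = n := by
  obtain ⟨u, hu⟩ := exists_omega_unit hF
  obtain ⟨h3, n1, n2, n3⟩ := unit_distinct hF hu
  have key : ∀ y : Y, y ^ 3 = 1 → y ≠ 1 → ∃ g, f g = y ∧ g ^ 3 = 1 ∧
      ((eigTriple g u = (4, 1, 1) ∧ (Fx D y).ncard = 45) ∨
        (eigTriple g u = (3, 3, 0) ∧ (Fx D y).ncard = 18) ∨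
        (eigTriple g u = (2, 2, 2) ∧ (Fx D y).ncard = 9)) := by
    intro y hy hne
    obtain ⟨g, hgy, hg, ht⟩ := exists_normal hF f hf hk hu hy hne
    obtain ⟨c1, c2, c3⟩ := normal_card hF f hf hk hD hu hg
    rw [hgy] at c1 c2 c3
    refine ⟨g, hgy, hg, ?_⟩
    simp only [List.mem_cons, List.not_mem_nil, or_false] at ht
    rcases ht with e | e | e
    exacts [Or.inl ⟨e, c1 e⟩, Or.inr (Or.inl ⟨e, c2 e⟩), Or.inr (Or.inr ⟨e, c3 e⟩)]
  refine ⟨fun y hy hne => ?_, fun y y' hy hne hy' hne' he => ?_, fun n hn => ?_⟩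
  · obtain ⟨g, rfl, hg, h⟩ := key y hy hne
    refine ⟨?_, fun h45 => ?_⟩
    · rcases h with ⟨-, e⟩ | ⟨-, e⟩ | ⟨-, e⟩ <;> omega
    · rcases h with ⟨e, -⟩ | ⟨-, e⟩ | ⟨-, e⟩ <;> [skip; omega; omega]
      simp only [eigTriple, Prod.mk.injEq] at e
      exact prod_of_four hF f hf hk hD hg (a := 1) (b := u) (c := u ^ 2)
        (fun h => n1 (Units.ext h)) (fun h => n2 (Units.ext h)) (fun h => n3 (Units.ext h))
        e.2.1 e.2.2
  · obtain ⟨g, rfl, hg, h⟩ := key y hy hne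
    obtain ⟨g', rfl, hg', h'⟩ := key y' hy' hne'
    have ht : eigTriple g u = eigTriple g' u := by
      rcases h with ⟨e, c⟩ | ⟨e, c⟩ | ⟨e, c⟩ <;> rcases h' with ⟨e', c'⟩ | ⟨e', c'⟩ | ⟨e', c'⟩ <;>
        first
          | exact e.trans e'.symm
          | omega
    obtain ⟨k, hk'⟩ := conj_of_dims hF hg hg' (eig_dims_of_triple hF hu ht)
    exact ⟨f k, by rw [← hk', map_mul, map_mul, map_inv]⟩
  · simp only [List.mem_cons, List.not_mem_nil, or_false] at hn
    have mk : ∀ (e : Fin 6 → Fˣ) (t : ℕ × ℕ × ℕ), (∏ i, e i = 1) →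
        ((Finset.univ.filter fun i => e i = 1).card, (Finset.univ.filter fun i => e i = u).card,
          (Finset.univ.filter fun i => e i = u ^ 2).card) = t →
        t.1 ≠ 6 → t.2.1 ≠ 6 → t.2.2 ≠ 6 →
        ∃ g, g ^ 3 = 1 ∧ eigTriple g u = t ∧ f g ≠ 1 := by
      intro e t he ht t1 t2 t3
      obtain ⟨g, hg, hd⟩ := exists_diag hF e he
      refine ⟨g, hg, by simp only [eigTriple, hd, ht], fun h1 => ?_⟩
      obtain ⟨c, hc0, hc⟩ := center_act hF ((map_eq_one_iff' hF f hk).1 h1)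
      have htop : eig g c = ⊤ := Submodule.eq_top_iff'.2 fun x => mem_eig.2 (hc x)
      have h6 : ∀ a : Fˣ, (a : F) = c → (Finset.univ.filter fun i => e i = a).card = 6 := by
        intro a ha
        rw [← hd, ha, htop, finrank_top, Module.finrank_pi, Fintype.card_fin]
      rw [← ht] at t1 t2 t3
      rcases unit_cases hF hu (Units.mk0 c hc0) with e' | e' | e'
      exacts [t1 (h6 _ (congrArg Units.val e').symm), t2 (h6 _ (congrArg Units.val e').symm),
        t3 (h6 _ (congrArg Units.val e').symm)]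
    have fin : ∀ g, g ^ 3 = 1 → f g ≠ 1 → f g ^ 3 = 1 ∧ f g ≠ 1 := fun g hg hne =>
      ⟨by rw [← map_pow, hg, map_one], hne⟩
    have h6 : u ^ 6 = 1 := by rw [show 6 = 3 * 2 from rfl, pow_mul, h3, one_pow]
    rcases hn with rfl | rfl | rfl
    · obtain ⟨g, hg, ht, hne⟩ := mk ![1, 1, 1, 1, u, u ^ 2] (4, 1, 1)
        (by rw [Fin.prod_univ_six]; simp only [Matrix.cons_val, one_mul, ← pow_succ', h3])
        (by simp only [Finset.card_filter, Fin.sum_univ_six, Matrix.cons_val, if_true, if_false, n1, n2, n3, n1.symm, n2.symm, n3.symm, add_zero, zero_add])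
        (by simp) (by simp) (by simp)
      exact ⟨f g, (fin g hg hne).1, hne, (normal_card hF f hf hk hD hu hg).1 ht⟩
    · obtain ⟨g, hg, ht, hne⟩ := mk ![1, 1, 1, u, u, u] (3, 3, 0)
        (by rw [Fin.prod_univ_six]
            simp only [Matrix.cons_val, one_mul]
            rw [← h3, pow_three'])
        (by simp only [Finset.card_filter, Fin.sum_univ_six, Matrix.cons_val, if_true, if_false, n1, n2, n3, n1.symm, n2.symm, n3.symm, add_zero, zero_add])
        (by simp) (by simp) (by simp)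
      exact ⟨f g, (fin g hg hne).1, hne, (normal_card hF f hf hk hD hu hg).2.1 ht⟩
    · obtain ⟨g, hg, ht, hne⟩ := mk ![1, 1, u, u, u ^ 2, u ^ 2] (2, 2, 2)
        (by rw [Fin.prod_univ_six]
            simp only [Matrix.cons_val, one_mul]
            rw [← h6]; group)
        (by simp only [Finset.card_filter, Fin.sum_univ_six, Matrix.cons_val, if_true, if_false, n1, n2, n3, n1.symm, n2.symm, n3.symm, add_zero, zero_add])
        (by simp) (by simp) (by simp)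
      exact ⟨f g, (fin g hg hne).1, hne, (normal_card hF f hf hk hD hu hg).2.2 ht⟩

end Model

section Wrap

variable {G : Type*} [Group G] [Finite G] {D : Set G} (hU : IsU6 G)
  (hD : Cfsg.IsThreeTranspositionGroup D)
include hU hD

theorem u6_three_values {y : G} (hy : y ^ 3 = 1) (hne : y ≠ 1) :
    ((Fx D y).ncard = 45 ∨ (Fx D y).ncard = 18 ∨ (Fx D y).ncard = 9) ∧
      ((Fx D y).ncard = 45 ↔ ∃ p ∈ D, ∃ q ∈ D, ¬ Commute p q ∧ y = p * q) := by
  obtain ⟨F, _, _, f, hF, hf, hk⟩ := exists_model hU hD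
  obtain ⟨h1, h45⟩ := (three_class_model hF f hf hk hD).1 y hy hne
  refine ⟨h1, h45, ?_⟩
  rintro ⟨p, hp, q, hq, hn, rfl⟩
  have hsub : meet D [p, q] ⊆ Fx D (p * q) := fun e he =>
    ⟨he.1, (he.2 p (by simp)).mul_right (he.2 q (by simp))⟩
  have h2 := Set.ncard_le_ncard hsub
  rw [(u6_meet_pair hU hD hp hq hn).1] at h2
  omega

theorem u6_three_conj {y y' : G} (hy : y ^ 3 = 1) (hne : y ≠ 1) (hy' : y' ^ 3 = 1)
    (hne' : y' ≠ 1) (he : (Fx D y).ncard = (Fx D y').ncard) : ∃ k, k * y * k⁻¹ = y' := by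
  obtain ⟨F, _, _, f, hF, hf, hk⟩ := exists_model hU hD
  exact (three_class_model hF f hf hk hD).2.1 y y' hy hne hy' hne' he

theorem u6_three_exists {n : ℕ} (hn : n ∈ [45, 18, 9]) :
    ∃ y : G, y ^ 3 = 1 ∧ y ≠ 1 ∧ (Fx D y).ncard = n := by
  obtain ⟨F, _, _, f, hF, hf, hk⟩ := exists_model hU hD
  exact (three_class_model hF f hf hk hD).2.2 n hn

end Wrap

end CfsgLib.Trans3.Fi
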