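import Cfsg.Agent.Lib.Trans3.Fi.U6Three

/-!
Elements of order three of `PSU₆(2)` lift to elements of order three of `SU₆(2)`, and two of
these with eigenspaces of equal dimensions are conjugate.
-/

set_option autoImplicit false
set_option linter.unusedSectionVars false
set_option linter.style.haveILetI false

namespace CfsgLib.Trans3.Fi

open Matrix CfsgLib.MaxSub CfsgLib.Classical CfsgLib.Trans3.TvSU U6Eigen

variable {F : Type*} [Field F] [Fintype F] (hF : Fintype.card F = 2 ^ 2)
include hF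

/-- A map whose cube is a scalar other than one is irreducible in dimensions one and two modulo
an invariant subspace. -/
theorem cube_scalar_indep {g : ↥(Cfsg.SU 6 F 2)} {c : F} (hc0 : c ≠ 0) (hc1 : c ≠ 1)
    (hg : ∀ x, act g (act g (act g x)) = c • x) {S : Submodule F (Fin 6 → F)}
    (hS : ∀ x ∈ S, act g x ∈ S) {v : Fin 6 → F} (hv : v ∉ S) {a b e : F}
    (h : a • v + b • act g v + e • act g (act g v) ∈ S) : a = 0 ∧ b = 0 ∧ e = 0 := by
  have heig : ∀ k : F, act g v + k • v ∉ S := by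
    intro k hk
    have h1 := hS _ hk
    rw [act_add hF, act_smul hF] at h1
    have h2 := hS _ h1
    rw [act_add hF, act_smul hF, hg] at h2
    have h3 := S.add_mem (S.add_mem h2 (S.smul_mem k h1)) (S.smul_mem (k ^ 2) hk)
    have e3 : c • v + k • act g (act g v) + k • (act g (act g v) + k • act g v) +
        k ^ 2 • (act g v + k • v) = (c + k ^ 3) • v := by
      funext i
      simp only [Pi.add_apply, Pi.smul_apply, smul_eq_mul]
      linear_combination (k * act g (act g v) i + k ^ 2 * act g v i) * add_self hF (1 : F)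
    rw [e3] at h3
    by_cases hk0 : k = 0
    · rw [hk0, zero_pow three_ne_zero, add_zero] at h3
      exact hv ((S.smul_mem_iff hc0).1 h3)
    · rw [cube_one hF hk0] at h3
      refine hv ((S.smul_mem_iff fun e => hc1 ?_).1 h3)
      linear_combination e - add_self hF (1 : F)
  by_cases he : e = 0
  · rw [he, zero_smul, add_zero] at h
    by_cases hb : b = 0
    · rw [hb, zero_smul, add_zero] at h
      refine ⟨?_, hb, he⟩
      by_contra ha
      exact hv ((S.smul_mem_iff ha).1 h)
    · refine absurd ?_ (heig (b⁻¹ * a))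
      have h' := S.smul_mem b⁻¹ h
      rwa [smul_add, smul_smul, smul_smul, inv_mul_cancel₀ hb, one_smul, add_comm] at h'
  · exfalso
    obtain ⟨p, ep⟩ : ∃ p, p = e⁻¹ * a := ⟨_, rfl⟩
    obtain ⟨q, eq⟩ : ∃ q, q = e⁻¹ * b := ⟨_, rfl⟩
    have h0 : p • v + q • act g v + act g (act g v) ∈ S := by
      have h' := S.smul_mem e⁻¹ h
      rwa [smul_add, smul_add, smul_smul, smul_smul, smul_smul, inv_mul_cancel₀ he, one_smul, ← ep,
        ← eq] at h'
    have h1 := hS _ h0
    rw [act_add hF, act_add hF, act_smul hF, act_smul hF, hg] at h1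
    have h2 := S.add_mem h1 (S.smul_mem q h0)
    have e2 : p • act g v + q • act g (act g v) + c • v +
        q • (p • v + q • act g v + act g (act g v)) = (c + q * p) • v + (p + q ^ 2) • act g v := by
      funext i
      simp only [Pi.add_apply, Pi.smul_apply, smul_eq_mul]
      linear_combination (q * act g (act g v) i) * add_self hF (1 : F)
    rw [e2] at h2
    have h3 : p + q ^ 2 = 0 := by
      by_contra hne
      refine heig ((p + q ^ 2)⁻¹ * (c + q * p)) ?_
      have h' := S.smul_mem (p + q ^ 2)⁻¹ h2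
      rwa [smul_add, smul_smul, smul_smul, inv_mul_cancel₀ hne, one_smul, add_comm] at h'
    rw [h3, zero_smul, add_zero] at h2
    have h4 : c + q * p = 0 := by
      by_contra hne
      exact hv ((S.smul_mem_iff hne).1 h2)
    by_cases hq : q = 0
    · exact hc0 (by linear_combination h4 - p * hq)
    · exact hc1 (by
        linear_combination h4 - q * h3 + cube_one hF hq)

/-- The cube of a lift is trivial. -/
theorem lift_cube_one {g : ↥(Cfsg.SU 6 F 2)} (hz : g ^ 3 ∈ Subgroup.center ↥(Cfsg.SU 6 F 2)) :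
    g ^ 3 = 1 := by
  classical
  obtain ⟨c, hc0, hc⟩ := center_act hF hz
  by_cases hc1 : c = 1
  · exact act_ext fun x => by rw [hc, hc1, one_smul, act_one]
  exfalso
  have hg : ∀ x, act g (act g (act g x)) = c • x := fun x => by
    rw [← hc x, pow_three', act_mul, act_mul]
  obtain ⟨v, hv⟩ : ∃ v : Fin 6 → F, v ≠ 0 := ⟨Pi.single 0 1, by simp⟩
  obtain ⟨S, eS⟩ : ∃ S : Submodule F (Fin 6 → F),
      S = Submodule.span F (Set.range ![v, act g v, act g (act g v)]) := ⟨_, rfl⟩
  have hinv : ∀ x ∈ S, act g x ∈ S := by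
    intro x hx
    rw [eS] at hx ⊢
    rw [Submodule.mem_span_range_iff_exists_fun] at hx ⊢
    obtain ⟨k, rfl⟩ := hx
    refine ⟨![k 2 * c, k 0, k 1], ?_⟩
    simp only [Fin.sum_univ_three, Matrix.cons_val, act_add hF, act_smul hF, hg, smul_smul]
    abel
  have hne : S ≠ ⊤ := fun e => by
    have h := finrank_range_le_card (R := F) ![v, act g v, act g (act g v)]
    rw [Set.finrank, ← eS, e, finrank_top, Module.finrank_pi, Fintype.card_fin,
      Fintype.card_fin] at h
    omega
  obtain ⟨w, hw⟩ : ∃ w, w ∉ S := by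
    by_contra! hall
    exact hne (Submodule.eq_top_iff'.2 hall)
  obtain ⟨b, eb⟩ : ∃ b : Fin 6 → Fin 6 → F,
      b = ![v, act g v, act g (act g v), w, act g w, act g (act g w)] := ⟨_, rfl⟩
  have hb : LinearIndependent F b := by
    rw [Fintype.linearIndependent_iff]
    intro k hk
    simp only [eb, Fin.sum_univ_six, Matrix.cons_val] at hk
    have hm : k 3 • w + k 4 • act g w + k 5 • act g (act g w) ∈ S := by
      have e : k 3 • w + k 4 • act g w + k 5 • act g (act g w) =
          -(k 0 • v + k 1 • act g v + k 2 • act g (act g v)) := by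
        rw [eq_neg_iff_add_eq_zero, ← hk]; abel
      rw [e]
      refine S.neg_mem ?_
      rw [eS, Submodule.mem_span_range_iff_exists_fun]
      exact ⟨![k 0, k 1, k 2], by simp [Fin.sum_univ_three, Matrix.cons_val]⟩
    obtain ⟨h3, h4, h5⟩ := cube_scalar_indep hF hc0 hc1 hg hinv hw hm
    rw [h3, h4, h5, zero_smul, zero_smul, zero_smul, add_zero, add_zero, add_zero] at hk
    obtain ⟨h0, h1, h2⟩ := cube_scalar_indep hF hc0 hc1 hg (S := ⊥)
      (fun x hx => by
        rw [Submodule.mem_bot] at hx ⊢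
        rw [hx]; simp [act])
      (by simpa using hv) ((Submodule.mem_bot F).2 hk)
    intro i
    fin_cases i <;> assumption
  obtain ⟨σ, hσ⟩ : ∃ σ : Equiv.Perm (Fin 6), ∀ j, σ j = ![1, 2, 0, 4, 5, 3] j :=
    ⟨⟨![1, 2, 0, 4, 5, 3], ![2, 0, 1, 5, 3, 4], by decide, by decide⟩, fun _ => rfl⟩
  have hp := det_monomial hF (g := g) hb σ ![1, 1, c, 1, 1, c] fun j => by
    rw [hσ, eb]
    fin_cases j <;> first | exact (one_smul F _).symm | exact hg _
  rw [Fin.prod_univ_six] at hp
  have hp' : c * c = 1 := by simpa using hp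
  have h3 := cube_one hF hc0
  exact hc1 (by linear_combination h3 - c * hp')

/-- A form-preserving map of determinant one. -/
theorem exists_su_map (L : (Fin 6 → F) →ₗ[F] (Fin 6 → F)) (hdet : LinearMap.det L = 1)
    (hh' : ∀ x y, hh (L x) (L y) = hh x y) : ∃ k : ↥(Cfsg.SU 6 F 2), ∀ x, act k x = L x := by
  refine ⟨⟨⟨LinearMap.toMatrix' L, by rw [LinearMap.det_toMatrix', hdet]⟩, fun x y => ?_⟩,
    fun x => LinearMap.toMatrix'_mulVec L x⟩
  show hh (LinearMap.toMatrix' L *ᵥ x) (LinearMap.toMatrix' L *ᵥ y) = hh x y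
  rw [LinearMap.toMatrix'_mulVec, LinearMap.toMatrix'_mulVec, hh']

/-- The form on an orthonormal family. -/
theorem hh_orth_sum {ι : Type*} [Fintype ι] [DecidableEq ι] {B : ι → Fin 6 → F}
    (hB : ∀ i j, hh (B i) (B j) = if i = j then 1 else 0) (a b : ι → F) :
    hh (∑ i, a i • B i) (∑ i, b i • B i) = ∑ i, a i * b i ^ 2 := by
  have h1 : ∀ (k : ι → F) j, hh (∑ i, k i • B i) (B j) = k j := fun k j => by
    show hhL (B j) (∑ i, k i • B i) = k j
    rw [map_sum]
    simp only [map_smul, hhL_apply, hB, smul_eq_mul]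
    simp
  show hhL (∑ i, b i • B i) (∑ i, a i • B i) = _
  rw [map_sum]
  refine Finset.sum_congr rfl fun i _ => ?_
  rw [map_smul, hhL_apply, ← hh_conj hF, h1, smul_eq_mul]

/-- Equal dimensions of eigenspaces give conjugate elements. -/
theorem conj_of_dims {g g' : ↥(Cfsg.SU 6 F 2)} (hg : g ^ 3 = 1) (hg' : g' ^ 3 = 1)
    (hd : ∀ a : Fˣ, Module.finrank F (eig g (a : F)) = Module.finrank F (eig g' (a : F))) :
    ∃ k, k * g * k⁻¹ = g' := by
  classical
  choose b hb hbo using fun a : Fˣ => exists_orthonormal hF _ _ (nondeg_eig hF hg a) rfl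
  choose b' hb' hbo' using fun a : Fˣ => exists_orthonormal hF _ _ (nondeg_eig hF hg' a) (hd a).symm
  obtain ⟨B, eB⟩ : ∃ B : ((a : Fˣ) × Fin (Module.finrank F (eig g (a : F)))) → Fin 6 → F,
      ∀ s, B s = b s.1 s.2 := ⟨_, fun _ => rfl⟩
  obtain ⟨B', eB'⟩ : ∃ B' : ((a : Fˣ) × Fin (Module.finrank F (eig g (a : F)))) → Fin 6 → F,
      ∀ s, B' s = b' s.1 s.2 := ⟨_, fun _ => rfl⟩
  have hcard : Fintype.card ((a : Fˣ) × Fin (Module.finrank F (eig g (a : F)))) =
      Module.finrank F (Fin 6 → F) := by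
    rw [Fintype.card_sigma, Module.finrank_pi, Fintype.card_fin]
    simpa using (dims hF hg).1
  have orth : ∀ (G₁ : ↥(Cfsg.SU 6 F 2))
      (C : ∀ a : Fˣ, Fin (Module.finrank F (eig g (a : F))) → Fin 6 → F),
      (∀ (a : Fˣ) i, C a i ∈ eig G₁ (a : F)) →
      (∀ (a : Fˣ) i j, hh (C a i) (C a j) = if i = j then 1 else 0) →
      ∀ s t : (a : Fˣ) × Fin (Module.finrank F (eig g (a : F))),
        hh (C s.1 s.2) (C t.1 t.2) = if s = t then 1 else 0 := by
    intro G₁ C h1 h2 s t
    obtain ⟨a, i⟩ := s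
    obtain ⟨a', j⟩ := t
    by_cases e : a = a'
    · subst e
      rw [h2]
      simp
    · rw [eig_orth hF (fun h => e (Units.ext h)) (h1 a i) (h1 a' j), if_neg]
      exact fun h => e (congrArg Sigma.fst h)
  have oB : ∀ s t, hh (B s) (B t) = if s = t then 1 else 0 := fun s t => by
    rw [eB, eB]; exact orth g b hb hbo s t
  have oB' : ∀ s t, hh (B' s) (B' t) = if s = t then 1 else 0 := fun s t => by
    rw [eB', eB']; exact orth g' b' hb' hbo' s t
  have indep : ∀ C : ((a : Fˣ) × Fin (Module.finrank F (eig g (a : F)))) → Fin 6 → F,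
      (∀ s t, hh (C s) (C t) = if s = t then 1 else 0) → LinearIndependent F C := by
    intro C hC
    rw [Fintype.linearIndependent_iff]
    intro k hk s
    have h : hhL (C s) (∑ i, k i • C i) = 0 := by rw [hk, map_zero]
    rw [map_sum] at h
    simp only [map_smul, hhL_apply, hC, smul_eq_mul] at h
    simpa using h
  have hne : Nonempty ((a : Fˣ) × Fin (Module.finrank F (eig g (a : F)))) :=
    Fintype.card_pos_iff.1 (by rw [hcard, Module.finrank_pi, Fintype.card_fin]; norm_num)
  obtain ⟨Bb, hBb⟩ : ∃ Bb : Module.Basis _ F (Fin 6 → F), ∀ s, Bb s = B s :=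
    ⟨basisOfLinearIndependentOfCardEqFinrank (indep B oB) hcard, fun s => by simp⟩
  obtain ⟨Bb', hBb'⟩ : ∃ Bb' : Module.Basis _ F (Fin 6 → F), ∀ s, Bb' s = B' s :=
    ⟨basisOfLinearIndependentOfCardEqFinrank (indep B' oB') hcard, fun s => by simp⟩
  obtain ⟨L₀, eL₀⟩ : ∃ L₀ : (Fin 6 → F) ≃ₗ[F] (Fin 6 → F), L₀ = Bb.equiv Bb' (Equiv.refl _) :=
    ⟨_, rfl⟩
  obtain ⟨lam, elam⟩ : ∃ lam : F, lam * LinearMap.det (L₀ : (Fin 6 → F) →ₗ[F] (Fin 6 → F)) = 1 :=
    ⟨_, inv_mul_cancel₀ (L₀.isUnit_det').ne_zero⟩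
  have hlam : lam ≠ 0 := fun e => by rw [e, zero_mul] at elam; exact zero_ne_one elam
  obtain ⟨s₀⟩ := hne
  obtain ⟨co, eco⟩ : ∃ co : ((a : Fˣ) × Fin (Module.finrank F (eig g (a : F)))) → F,
      ∀ s, co s = if s = s₀ then lam else 1 := ⟨_, fun _ => rfl⟩
  have hco3 : ∀ s, co s * co s ^ 2 = 1 := fun s => by
    rw [eco]
    split
    · linear_combination cube_one hF hlam
    · simp
  obtain ⟨Dm, eDm⟩ : ∃ Dm : (Fin 6 → F) →ₗ[F] (Fin 6 → F),
      Dm = Bb'.constr F fun s => co s • Bb' s := ⟨_, rfl⟩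
  have hdetD : LinearMap.det Dm = lam := by
    rw [← LinearMap.det_toMatrix Bb', show LinearMap.toMatrix Bb' Bb' Dm = Matrix.diagonal co from ?_,
      Matrix.det_diagonal]
    · rw [Finset.prod_eq_single s₀ (fun s _ hs => by rw [eco, if_neg hs])
        (fun h => absurd (Finset.mem_univ s₀) h), eco, if_pos rfl]
    · ext i j
      rw [LinearMap.toMatrix_apply, eDm, Module.Basis.constr_basis, map_smul,
        Module.Basis.repr_self, Finsupp.smul_single, smul_eq_mul, mul_one, Finsupp.single_apply,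
        Matrix.diagonal_apply]
      by_cases e : i = j
      · subst e; simp
      · rw [if_neg e, if_neg (Ne.symm e)]
  obtain ⟨L, eL⟩ : ∃ L : (Fin 6 → F) →ₗ[F] (Fin 6 → F),
      L = Dm.comp (L₀ : (Fin 6 → F) →ₗ[F] (Fin 6 → F)) := ⟨_, rfl⟩
  have hL : ∀ s, L (B s) = co s • B' s := fun s => by
    rw [eL, LinearMap.comp_apply, ← hBb, eL₀, LinearEquiv.coe_coe, Module.Basis.equiv_apply,
      Equiv.refl_apply, eDm, Module.Basis.constr_basis, hBb']
  obtain ⟨k, hk⟩ := exists_su_map hF L (by rw [eL, LinearMap.det_comp, hdetD, elam]) fun x y => by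
    obtain ⟨a, rfl⟩ : ∃ a : _ → F, x = ∑ s, a s • B s :=
      ⟨_, by simpa only [hBb] using (Bb.sum_repr x).symm⟩
    obtain ⟨c, rfl⟩ : ∃ c : _ → F, y = ∑ s, c s • B s :=
      ⟨_, by simpa only [hBb] using (Bb.sum_repr y).symm⟩
    simp only [map_sum, map_smul, hL, smul_smul]
    rw [hh_orth_sum hF oB, hh_orth_sum hF oB']
    exact Finset.sum_congr rfl fun s _ => by linear_combination (a s * c s ^ 2) * hco3 s
  refine ⟨k, ?_⟩
  have key : lin (k * g) = lin (g' * k) := by
    refine Bb.ext fun s => ?_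
    rw [hBb, lin_apply, lin_apply, act_mul, act_mul]
    have e1 : act g (B s) = (s.1 : F) • B s := by rw [eB]; exact mem_eig.1 (hb _ _)
    have e2 : act g' (B' s) = (s.1 : F) • B' s := by rw [eB']; exact mem_eig.1 (hb' _ _)
    rw [e1, act_smul hF, hk, hL, act_smul hF, e2, smul_smul, smul_smul, mul_comm]
  have h1 : k * g = g' * k := act_ext fun x => by rw [← lin_apply, ← lin_apply, key]
  rw [h1, mul_inv_cancel_right]

end CfsgLib.Trans3.Fi
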