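import Cfsg.Agent.Lib.Trans3.Fi.Lvl

/-!
One step up: from the properties of the neighbourhood groups modulo centre and the existence of
common neighbours of a commuting pair and a further member, the centraliser of a member is
generated by the members commuting with it, and the properties hold one level higher.
-/

set_option autoImplicit false
set_option linter.unusedSectionVars false

namespace CfsgLib.Trans3.Fi.Up

variable {G : Type*} [Group G] [Finite G] {D : Set G}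

theorem conj_mem_Cd (hD : Cfsg.IsThreeTranspositionGroup D) (g : G) {d x : G}
    (hx : x ∈ Cd D d) : g * x * g⁻¹ ∈ Cd D (g * d * g⁻¹) := by
  have hle : (Cd D d).map (MulAut.conj g).toMonoidHom ≤ Cd D (g * d * g⁻¹) := by
    rw [MonoidHom.map_closure]
    refine Subgroup.closure_mono ?_
    rintro _ ⟨u, ⟨hu, hc⟩, rfl⟩
    exact ⟨hD.2.1 g u hu, (commute_conj_iff g d u).2 hc⟩
  exact hle ⟨x, hx, rfl⟩

omit [Finite G] in
theorem commute_Cd {d x : G} (hx : x ∈ Cd D d) : Commute d x := by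
  induction hx using Subgroup.closure_induction with
  | mem y hy => exact hy.2
  | one => exact Commute.one_right _
  | mul a b _ _ h1 h2 => exact h1.mul_right h2
  | inv a _ h1 => exact h1.inv_right

omit [Finite G] in
theorem mem_Cd {a y : G} (hy : y ∈ D) (hc : Commute a y) : y ∈ Cd D a :=
  Subgroup.subset_closure ⟨hy, hc⟩

omit [Finite G] in
theorem Hd_le_Cd (a : G) : Hd D a ≤ Cd D a :=
  Subgroup.closure_mono fun _ hy => ⟨hy.1, hy.2.2⟩

omit [Finite G] in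
theorem Cd_split {a x : G} (hx : x ∈ Cd D a) : ∃ h ∈ Hd D a, ∃ i ∈ Subgroup.zpowers a, x = h * i := by
  induction hx using Subgroup.closure_induction with
  | mem y hy =>
    by_cases e : y = a
    · exact ⟨1, one_mem _, a, Subgroup.mem_zpowers a, by rw [e, one_mul]⟩
    · exact ⟨y, Subgroup.subset_closure ⟨hy.1, e, hy.2⟩, 1, one_mem _, (mul_one y).symm⟩
  | one => exact ⟨1, one_mem _, 1, one_mem _, (mul_one 1).symm⟩
  | mul u v _ _ hu hv =>
    obtain ⟨h, hh, i, hi, rfl⟩ := hu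
    obtain ⟨k, hk, j, hj, rfl⟩ := hv
    refine ⟨h * k, mul_mem hh hk, i * j, mul_mem hi hj, ?_⟩
    obtain ⟨n, rfl⟩ := hi
    rw [mul_assoc h (a ^ n), ← mul_assoc (a ^ n) k, ((commute_Hd hk).zpow_left n).eq]
    simp [mul_assoc]
  | inv u _ hu =>
    obtain ⟨h, hh, i, hi, rfl⟩ := hu
    refine ⟨h⁻¹, inv_mem hh, i⁻¹, inv_mem hi, ?_⟩
    obtain ⟨n, rfl⟩ := hi
    rw [mul_inv_rev, ((commute_Hd hh).zpow_left n).inv_left.inv_right.eq]

omit [Finite G] in
theorem bar_third' (hD : Cfsg.IsThreeTranspositionGroup D) {b u v : G} (hu : u ∈ nbrs D b)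
    (hv : v ∈ nbrs D b) : ∃ hm : u * v * u ∈ nbrs D b, bar hm = bar hu * bar hv * bar hu := by
  refine ⟨⟨self_conj_mem hD hu.1 hv.1, fun e => hv.2.1 ?_,
    (hu.2.2.mul_right hv.2.2).mul_right hu.2.2⟩, ?_⟩
  · have h1 := conj_eq_of_commute hu.2.2.symm
    rw [inv_eq hD.1 hu.1] at h1
    have h2 : u * (u * v * u) * u = u * b * u := by rw [e]
    rw [h1, show u * (u * v * u) * u = (u * u) * v * (u * u) by group, Trans3.sq_one hD.1 hu.1,
      one_mul, mul_one] at h2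
    exact h2
  · show (QuotientGroup.mk _ : Qd D b) = QuotientGroup.mk _ * QuotientGroup.mk _ * QuotientGroup.mk _
    rw [← QuotientGroup.mk_mul, ← QuotientGroup.mk_mul]; rfl

variable (hN : Nice D) (hP : Cfsg.IsPrimitiveUnderConj D) (hL : ∀ a ∈ D, Lvl (Db D a))
include hN hP hL

theorem exists_nbr {a : G} (ha : a ∈ D) : ∃ b, b ∈ nbrs D a := by
  obtain ⟨q, hq, -⟩ := (hL a ha).pairc
  obtain ⟨b, hb, -⟩ := exists_bar hq
  exact ⟨b, hb⟩

theorem pairc : ∃ u ∈ D, ∃ v ∈ D, u ≠ v ∧ Commute u v := by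
  obtain ⟨a, ha, -⟩ := hN.pair
  obtain ⟨b, hb⟩ := exists_nbr hN hP hL ha
  exact ⟨a, ha, b, hb.1, Ne.symm hb.2.1, hb.2.2⟩

theorem conj_bar {b u v : G} (hb : b ∈ D) (k : ↥(Hd D b)) (hu : u ∈ nbrs D b) (hv : v ∈ nbrs D b)
    (he : (k : Qd D b) * bar hu * (k : Qd D b)⁻¹ = bar hv) : (k : G) * u * (k : G)⁻¹ = v := by
  have hk : (k : G) * u * (k : G)⁻¹ ∈ nbrs D b := ⟨hN.group.2.1 _ u hu.1, fun e => hu.2.1 (by
      have : (k : G) * u = k * b := by
        rw [← (commute_Hd k.2).eq]; exact mul_inv_eq_iff_eq_mul.1 e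
      exact mul_left_cancel this),
    ((commute_Hd k.2).mul_right hu.2.2).mul_right (commute_Hd k.2).inv_right⟩
  exact hN.bar_inj hb hk hv he

theorem conj_lift {b u v : G} (hb : b ∈ D) (hu : u ∈ nbrs D b) (hv : v ∈ nbrs D b) :
    ∃ k ∈ Cd D b, k * u * k⁻¹ = v := by
  obtain ⟨q, hq⟩ := (hL b hb).prim.1 _ (bar_mem hu) _ (bar_mem hv)
  obtain ⟨k, rfl⟩ := QuotientGroup.mk_surjective q
  exact ⟨k, Hd_le_Cd b k.2, conj_bar hN hP hL hb k hu hv hq⟩

theorem lift_perp {b r : G} (hr : r ∈ nbrs D b) {q : Qd D b}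
    (hq : q ∈ Cd (Db D b) (bar hr)) :
    ∃ k : ↥(Hd D b), (k : G) ∈ Subgroup.closure {w | w ∈ D ∧ Commute b w ∧ Commute r w} ∧
      (k : Qd D b) = q := by
  induction hq using Subgroup.closure_induction with
  | mem v hv =>
    obtain ⟨w, hw, rfl⟩ := exists_bar hv.1
    exact ⟨⟨w, Subgroup.subset_closure hw⟩, Subgroup.subset_closure
      ⟨hw.1, hw.2.2, (commute_bar (pre_of_group hN.group) hr hw).1 hv.2⟩, rfl⟩
  | one => exact ⟨1, by simpa using one_mem _, rfl⟩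
  | mul x y _ _ hx hy =>
    obtain ⟨k, hk, rfl⟩ := hx
    obtain ⟨l, hl, rfl⟩ := hy
    exact ⟨k * l, mul_mem hk hl, rfl⟩
  | inv x _ hx =>
    obtain ⟨k, hk, rfl⟩ := hx
    exact ⟨k⁻¹, inv_mem hk, rfl⟩

theorem closure_pair_le (b r : G) :
    Subgroup.closure {w | w ∈ D ∧ Commute b w ∧ Commute r w} ≤ Cd D b ⊓ Cd D r := by
  rw [Subgroup.closure_le]
  exact fun w ⟨hw, h1, h2⟩ => ⟨mem_Cd hw h1, mem_Cd hw h2⟩

theorem trans_lift {b r u v : G} (hb : b ∈ D) (hr : r ∈ nbrs D b) (hu : u ∈ nbrs D b)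
    (hv : v ∈ nbrs D b) (hru : ¬ Commute r u) (hrv : ¬ Commute r v) :
    ∃ k, k ∈ Cd D b ∧ k ∈ Cd D r ∧ k * u * k⁻¹ = v := by
  have hPre := pre_of_group hN.group
  have hl := hL b hb
  obtain ⟨q, hq, hq'⟩ := trans_noncomm_closure hl.group hl.prim hl.pairc (bar_mem hr) (bar_mem hu)
    (fun e => hru ((commute_bar hPre hr hu).1 e)) (bar_mem hv)
    (fun e => hrv ((commute_bar hPre hr hv).1 e))
  obtain ⟨k, hk, rfl⟩ := lift_perp hN hP hL hr hq
  obtain ⟨h1, h2⟩ := closure_pair_le hN hP hL b r hk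
  exact ⟨k, h1, h2, conj_bar hN hP hL hb k hu hv hq'⟩

theorem exists_common {a c : G} (ha : a ∈ D) (hc : c ∈ D) (hac : ¬ Commute a c) :
    ∃ e ∈ D, Commute e a ∧ Commute e c := by
  obtain ⟨b₀, hb₀⟩ := exists_nbr hN hP hL ha
  have hab : a ∈ nbrs D b₀ := ⟨ha, Ne.symm hb₀.2.1, hb₀.2.2.symm⟩
  have hU := hL b₀ hb₀.1
  obtain ⟨p, hp, r, hr, hpr⟩ := hU.pair
  obtain ⟨g, hg⟩ := hU.conj p hp (bar hab) (bar_mem hab)
  obtain ⟨c₀, hc₀, e₀⟩ := exists_bar (hU.group.2.1 g r hr)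
  have hn : ¬ Commute a c₀ := fun h' => hpr ((commute_conj_iff g p r).1 (by
    rw [hg, e₀]; exact (commute_bar (pre_of_group hN.group) hab hc₀).2 h'))
  obtain ⟨k, hk, hk'⟩ := trans_noncomm hN.group hP (pairc hN hP hL) ha hc₀.1 hn hc hac
  exact ⟨k * b₀ * k⁻¹, hN.group.2.1 k b₀ hb₀.1, hk ▸ (commute_conj_iff k b₀ a).2 hb₀.2.2.symm,
    hk' ▸ (commute_conj_iff k b₀ c₀).2 hc₀.2.2⟩

theorem nonab {a c : G} (ha : a ∈ D) (hc : c ∈ D) (hac : ¬ Commute a c) :
    ∃ A ∈ D, ∃ B ∈ D,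
      Commute a A ∧ Commute c A ∧ Commute a B ∧ Commute c B ∧ ¬ Commute A B := by
  obtain ⟨e, he, hea, hec⟩ := exists_common hN hP hL ha hc hac
  have na : a ∈ nbrs D e := ⟨ha, fun x => hac (x ▸ hec), hea⟩
  have nc : c ∈ nbrs D e := ⟨hc, fun x => hac (x ▸ hea.symm), hec⟩
  have hPre := pre_of_group hN.group
  obtain ⟨qA, mA, qB, mB, h1, h2, h3, h4, h5⟩ := (hL e he).nonab _ _ (bar_mem na) (bar_mem nc)
    fun x => hac ((commute_bar hPre na nc).1 x)
  obtain ⟨A, hA, rfl⟩ := exists_bar mA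
  obtain ⟨B, hB, rfl⟩ := exists_bar mB
  rw [commute_bar hPre] at h1 h2 h3 h4 h5
  exact ⟨A, hA.1, B, hB.1, h1, h2, h3, h4, h5⟩

theorem hyper {a c s : G} (ha : a ∈ D) (hc : c ∈ D) (hs : s ∈ D) (hac : ¬ Commute a c)
    (h : ∀ e ∈ D, Commute e a → Commute e c → Commute e s) :
    s = a ∨ s = c ∨ s = a * c * a := by
  obtain ⟨A, hA, B, hB, aA, cA, aB, cB, hAB⟩ := nonab hN hP hL ha hc hac
  have na : a ∈ nbrs D A := ⟨ha, fun x => hac (x ▸ cA.symm), aA.symm⟩
  have nc : c ∈ nbrs D A := ⟨hc, fun x => hac (x ▸ aA), cA.symm⟩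
  have ns : s ∈ nbrs D A := ⟨hs, fun x => hAB (x ▸ h B hB aB.symm cB.symm).symm, h A hA aA.symm cA.symm⟩
  have hPre := pre_of_group hN.group
  obtain ⟨m, em⟩ := bar_third' hN.group na nc
  rcases (hL A hA).hyper _ _ _ (bar_mem na) (bar_mem nc) (bar_mem ns)
      (fun x => hac ((commute_bar hPre na nc).1 x)) (fun q hq h1 h2 => by
        obtain ⟨e, he, rfl⟩ := exists_bar hq
        rw [commute_bar hPre] at h1 h2 ⊢
        exact h e he.1 h1 h2) with e | e | e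
  · exact Or.inl (hN.bar_inj hA ns na e)
  · exact Or.inr (Or.inl (hN.bar_inj hA ns nc e))
  · exact Or.inr (Or.inr (hN.bar_inj hA ns m (e.trans em.symm)))

/-- Only `1` and `a` centralise `a` and all members commuting with it. -/
theorem centralizer_eq {a z : G} (ha : a ∈ D) (hzH : ∀ y ∈ D, Commute a y → Commute z y) :
    z = 1 ∨ z = a := by
  have hD := hN.group
  obtain ⟨c, hc, hac⟩ := exists_noncomm_of_primitive hD hP ha
  have hw := pairc hN hP hL
  have key : ∀ w, (∀ y ∈ D, Commute a y → Commute w y) → Commute w c → w = 1 := by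
    intro w hw' hwc
    have : w ∈ Subgroup.center G := by
      rw [Subgroup.mem_center_iff]
      intro g
      have hg : g ∈ Subgroup.closure D := hD.2.2 ▸ Subgroup.mem_top g
      induction hg using Subgroup.closure_induction with
      | mem y hy =>
        by_cases hay : Commute a y
        · exact (hw' y hy hay).eq.symm
        · obtain ⟨k, hk, rfl⟩ := trans_noncomm_closure hD hP hw ha hc hac hy hay
          have hall : ∀ g' ∈ Subgroup.closure {y | y ∈ D ∧ Commute a y}, Commute w g' := by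
            intro g' hg'
            induction hg' using Subgroup.closure_induction with
            | mem u hu => exact hw' u hu.1 hu.2
            | one => exact Commute.one_right _
            | mul _ _ _ _ h1 h2 => exact h1.mul_right h2
            | inv _ _ h1 => exact h1.inv_right
          have hwk : Commute w k := hall k hk
          exact ((hwk.mul_right hwc).mul_right hwk.inv_right).eq.symm
      | one => simp
      | mul _ _ _ _ h1 h2 => exact (Commute.mul_left h1 h2 : Commute _ w)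
      | inv _ _ h1 => exact (Commute.inv_left h1 : Commute _ w)
    rwa [hN.center, Subgroup.mem_bot] at this
  obtain ⟨c', ec'⟩ : ∃ c', c' = z * c * z⁻¹ := ⟨_, rfl⟩
  have hza : z * a * z⁻¹ = a := conj_eq_of_commute (hzH a ha (Commute.refl a))
  rcases hyper hN hP hL ha hc (ec' ▸ hD.2.1 z c hc) hac (fun e he h1 h2 => by
      rw [ec']
      have hze : z * e * z⁻¹ = e := conj_eq_of_commute (hzH e he h1.symm)
      have h3 := (commute_conj_iff z e c).2 h2
      rwa [hze] at h3) with e | e | e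
  · exfalso
    exact ne_of_not_commute hac
      (mul_left_cancel (mul_right_cancel (hza.trans (e.symm.trans ec'))))
  · left
    exact key z hzH (mul_inv_eq_iff_eq_mul.1 (ec'.symm.trans e))
  · right
    have h1 : a * z = 1 := by
      refine key (a * z) (fun y hy hay => hay.mul_left (hzH y hy hay)) ?_
      show a * z * c = c * (a * z)
      have h2 : z * c = a * c * a * z := by rw [← e, ec', inv_mul_cancel_right]
      rw [mul_assoc, h2, show a * (a * c * a * z) = (a * a) * (c * (a * z)) by group,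
        Trans3.sq_one hD.1 ha, one_mul]
    rw [eq_inv_of_mul_eq_one_right h1, inv_eq hD.1 ha]

theorem center_mem {a : G} (ha : a ∈ D) {x : ↥(Hd D a)} (hx : x ∈ Subgroup.center ↥(Hd D a)) :
    (x : G) = 1 ∨ (x : G) = a := by
  refine centralizer_eq hN hP hL ha fun y hy hay => ?_
  by_cases hya : y = a
  · exact hya ▸ (commute_Hd x.2).symm
  · exact (congrArg Subtype.val
      (Subgroup.mem_center_iff.1 hx ⟨y, Subgroup.subset_closure ⟨hy, hya, hay⟩⟩)).symm

theorem stab_le {a b x : G} (ha : a ∈ D) (hb : b ∈ D) (hab : Commute a b) (hx : x ∈ Cd D b)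
    (hxa : Commute x a) : x ∈ Cd D a := by
  by_cases e : a = b
  · exact e ▸ hx
  obtain ⟨k, hk, i, hi, rfl⟩ := Cd_split hx
  have hbM : b ∈ Cd D a := mem_Cd hb hab
  have hiM : i ∈ Cd D a := Subgroup.zpowers_le.2 hbM hi
  refine mul_mem ?_ hiM
  have hka : Commute k a := by
    have := hxa.mul_left (commute_Cd hiM).symm.inv_left
    rwa [mul_inv_cancel_right] at this
  have han : a ∈ nbrs D b := ⟨ha, e, hab.symm⟩
  obtain ⟨s, hs, hsx⟩ := lift_perp hN hP hL han (q := ((⟨k, hk⟩ : ↥(Hd D b)) : Qd D b))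
    ((hL b hb).stab _ _ (bar_mem han) (by
      show (QuotientGroup.mk _ : Qd D b) * QuotientGroup.mk _ = _
      rw [← QuotientGroup.mk_mul, ← QuotientGroup.mk_mul]
      exact congrArg QuotientGroup.mk (Subtype.ext hka.eq)))
  have hs' := (closure_pair_le hN hP hL b a hs).2
  have hz := center_mem hN hP hL hb (QuotientGroup.eq.1 hsx)
  rw [Subgroup.coe_mul, Subgroup.coe_inv] at hz
  rcases hz with e1 | e1
  · rwa [inv_mul_eq_one.1 e1] at hs'
  · have h2 := mul_mem hs' hbM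
    rwa [show (s : G) * b = k from mul_eq_of_eq_inv_mul e1.symm] at h2

theorem mid {a q r : G} (ha : a ∈ D) (hq : q ∈ D) (hr : r ∈ D) (haq : Commute a q)
    (har : Commute a r) :
    ∃ u ∈ D, u ≠ a ∧ Commute u a ∧ Commute u q ∧ Commute u r := by
  by_cases hqr : Commute q r
  · by_cases hqa : q = a
    · subst hqa
      by_cases hra : r = q
      · subst hra
        obtain ⟨b, hb⟩ := exists_nbr hN hP hL ha
        exact ⟨b, hb.1, hb.2.1, hb.2.2.symm, hb.2.2.symm, hb.2.2.symm⟩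
      · exact ⟨r, hr, hra, har.symm, har.symm, Commute.refl r⟩
    · exact ⟨q, hq, hqa, haq.symm, Commute.refl q, hqr⟩
  · have nq : q ∈ nbrs D a := ⟨hq, fun e => hqr (e ▸ har), haq⟩
    have nr : r ∈ nbrs D a := ⟨hr, fun e => hqr (e ▸ haq.symm), har⟩
    have hPre := pre_of_group hN.group
    obtain ⟨p, hp, h1, h2⟩ := (hL a ha).common _ _ (bar_mem nq) (bar_mem nr)
      fun e => hqr ((commute_bar hPre nq nr).1 e)
    obtain ⟨u, hu, rfl⟩ := exists_bar hp
    rw [commute_bar hPre] at h1 h2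
    exact ⟨u, hu.1, hu.2.1, hu.2.2.symm, h1, h2⟩

theorem trans_common {b y e f : G} (hb : b ∈ D) (hy : y ∈ D) (hby : ¬ Commute b y)
    (he : e ∈ D) (heb : Commute b e) (hey : Commute y e) (hf : f ∈ D) (hfb : Commute b f)
    (hfy : Commute y f) :
    ∃ k ∈ Subgroup.closure {w | w ∈ D ∧ Commute b w ∧ Commute y w}, k * e * k⁻¹ = f := by
  have hPre := pre_of_group hN.group
  obtain ⟨L, eL⟩ : ∃ L, L = Subgroup.closure {w | w ∈ D ∧ Commute b w ∧ Commute y w} := ⟨_, rfl⟩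
  rw [← eL]
  suffices hO : Trans3.Orb L e f by exact hO
  have step : ∀ {u v : G}, u ∈ D → Commute b u → Commute y u → v ∈ D → Commute b v → Commute y v →
      ¬ Commute u v → Trans3.Orb L u v := by
    intro u v hu bu yu hv bv yv huv
    exact ⟨u * v, eL ▸ mul_mem (Subgroup.subset_closure ⟨hu, bu, yu⟩)
      (Subgroup.subset_closure ⟨hv, bv, yv⟩), conj_of_noncomm hN.group.1 hu hv huv⟩
  have conn : ∀ {g u v : G}, g ∈ D → Commute g b → Commute g y → u ∈ nbrs D g → Commute b u →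
      Commute y u → v ∈ nbrs D g → Commute b v → Commute y v → Trans3.Orb L u v := by
    intro g u v hg gb gy hu bu yu hv bv yv
    have nb : b ∈ nbrs D g := ⟨hb, fun e => hby (e ▸ gy), gb⟩
    have ny : y ∈ nbrs D g := ⟨hy, fun e => hby (e ▸ gb.symm), gy⟩
    obtain ⟨q, hq, hquv⟩ := (hL g hg).transCommon _ _ _ _ (bar_mem nb) (bar_mem ny)
      (fun e => hby ((commute_bar hPre nb ny).1 e)) (bar_mem hu) ((commute_bar hPre nb hu).2 bu)
      ((commute_bar hPre ny hu).2 yu) (bar_mem hv) ((commute_bar hPre nb hv).2 bv)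
      ((commute_bar hPre ny hv).2 yv)
    have hlift : ∀ q ∈ Subgroup.closure
        {w | w ∈ Db D g ∧ Commute (bar nb) w ∧ Commute (bar ny) w},
        ∃ k : ↥(Hd D g), (k : G) ∈ L ∧ (k : Qd D g) = q := by
      intro q hq
      induction hq using Subgroup.closure_induction with
      | mem v hv =>
        obtain ⟨w, hw, rfl⟩ := exists_bar hv.1
        exact ⟨⟨w, Subgroup.subset_closure hw⟩, eL ▸ Subgroup.subset_closure
          ⟨hw.1, (commute_bar hPre nb hw).1 hv.2.1, (commute_bar hPre ny hw).1 hv.2.2⟩, rfl⟩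
      | one => exact ⟨1, by simpa using one_mem _, rfl⟩
      | mul x y _ _ hx hy =>
        obtain ⟨k, hk, rfl⟩ := hx
        obtain ⟨l, hl, rfl⟩ := hy
        exact ⟨k * l, mul_mem hk hl, rfl⟩
      | inv x _ hx =>
        obtain ⟨k, hk, rfl⟩ := hx
        exact ⟨k⁻¹, inv_mem hk, rfl⟩
    obtain ⟨k, hk, rfl⟩ := hlift q hq
    exact ⟨k, hk, conj_bar hN hP hL hg k hu hv hquv⟩
  by_cases hef : Commute e f
  swap
  · exact step he heb hey hf hfb hfy hef
  by_cases hfe : f = e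
  · subst hfe; exact Trans3.Orb.rfl' f
  have nf : f ∈ nbrs D e := ⟨hf, hfe, hef⟩
  have nb : b ∈ nbrs D e := ⟨hb, fun x => hby (x ▸ hey.symm), heb.symm⟩
  have ny : y ∈ nbrs D e := ⟨hy, fun x => hby (x ▸ heb), hey.symm⟩
  obtain ⟨q, hq, q0, q1, q2, q3⟩ := (hL e he).mid _ _ _ (bar_mem nf) (bar_mem nb) (bar_mem ny)
    ((commute_bar hPre nf nb).2 hfb.symm) ((commute_bar hPre nf ny).2 hfy.symm)
  obtain ⟨u, hu, rfl⟩ := exists_bar hq
  rw [commute_bar hPre] at q1 q2 q3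
  have huf : u ≠ f := fun x => q0 (by subst x; rfl)
  exact (conn hf hfb.symm hfy.symm ⟨he, Ne.symm hfe, hef.symm⟩ heb hey
    ⟨hu.1, huf, q1.symm⟩ q2.symm q3.symm).trans
    (conn he heb.symm hey.symm hu q2.symm q3.symm nf hfb hfy)

theorem fix_far {b y x : G} (hb : b ∈ D) (hy : y ∈ D) (hby : ¬ Commute b y) (hx : x ∈ Cd D b)
    (hxy : Commute x y) : x ∈ Cd D y := by
  obtain ⟨e, he, heb, hey⟩ := exists_common hN hP hL hb hy hby
  have hbx : Commute x b := (commute_Cd hx).symm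
  have f1 : Commute (x * e * x⁻¹) b := (hbx.mul_left heb).mul_left hbx.inv_left
  have f2 : Commute (x * e * x⁻¹) y := (hxy.mul_left hey).mul_left hxy.inv_left
  obtain ⟨k, hk, hke⟩ := trans_common hN hP hL hb hy hby he heb.symm hey.symm
    (hN.group.2.1 x e he) f1.symm f2.symm
  obtain ⟨hkb, hky⟩ := closure_pair_le hN hP hL b y hk
  have hc : Commute (k⁻¹ * x) e := commute_of_conj_eq (by
    calc k⁻¹ * x * e * (k⁻¹ * x)⁻¹ = k⁻¹ * (x * e * x⁻¹) * k := by group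
      _ = e := by rw [← hke]; group)
  have h1 := stab_le hN hP hL he hb heb (mul_mem (inv_mem hkb) hx) hc
  have h2 := stab_le hN hP hL hy he hey.symm h1 ((commute_Cd hky).symm.inv_left.mul_left hxy)
  have := mul_mem hky h2
  rwa [mul_inv_cancel_left] at this

omit [Finite G] hN hP hL in
/-- `g` lies in the coset attached to `y`. -/
def Tr (D : Set G) (a y g : G) : Prop :=
  ∃ e ∈ nbrs D a, ∃ g₀ ∈ Cd D e, g₀ * a * g₀⁻¹ = y ∧ g₀⁻¹ * g ∈ Cd D a

omit [Finite G] hN hP hL in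
theorem fixes {a e g g' y : G} (hgy : g * a * g⁻¹ = y) (hgy' : g' * a * g'⁻¹ = y)
    (_he : e ∈ nbrs D a) : Commute (g⁻¹ * g') a := commute_of_conj_eq (by
  calc g⁻¹ * g' * a * (g⁻¹ * g')⁻¹ = g⁻¹ * (g' * a * g'⁻¹) * g := by group
    _ = a := by rw [hgy', ← hgy]; group)

theorem same {a e g g' y : G} (ha : a ∈ D) (he : e ∈ nbrs D a) (hg : g ∈ Cd D e)
    (hg' : g' ∈ Cd D e) (hgy : g * a * g⁻¹ = y) (hgy' : g' * a * g'⁻¹ = y) :
    g⁻¹ * g' ∈ Cd D a :=
  stab_le hN hP hL ha he.1 he.2.2 (mul_mem (inv_mem hg) hg') (fixes hgy hgy' he)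

omit [Finite G] hN hP hL in
theorem commute_image {a e g y : G} (he : e ∈ nbrs D a) (hg : g ∈ Cd D e)
    (hgy : g * a * g⁻¹ = y) : Commute e y :=
  hgy ▸ ((commute_Cd hg).mul_right he.2.2.symm).mul_right (commute_Cd hg).inv_right

theorem tr_step {a y e e' g g' : G} (ha : a ∈ D) (hya : y ≠ a) (hay : Commute a y)
    (he : e ∈ nbrs D a) (he' : e' ∈ nbrs D a) (hee : Commute e e') (hg : g ∈ Cd D e)
    (hg' : g' ∈ Cd D e') (hgy : g * a * g⁻¹ = y) (hgy' : g' * a * g'⁻¹ = y) :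
    g⁻¹ * g' ∈ Cd D a := by
  by_cases hne : e' = e
  · exact same hN hP hL ha he hg (hne ▸ hg') hgy hgy'
  have hPre := pre_of_group hN.group
  have hyD : y ∈ D := hgy ▸ hN.group.2.1 g a ha
  have fix : ∀ {e g : G}, g ∈ Cd D e → g * a * g⁻¹ = y → e ∈ nbrs D a → y ∈ nbrs D e := by
    intro e g hg hgy he
    refine ⟨hyD, fun x => he.2.1 ?_, commute_image he hg hgy⟩
    have h1 : g * a * g⁻¹ = g * e * g⁻¹ := by
      rw [hgy, conj_eq_of_commute (commute_Cd hg).symm, x]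
    exact (mul_left_cancel (mul_right_cancel h1)).symm
  have ny := fix hg hgy he
  have ny' := fix hg' hgy' he'
  have na : a ∈ nbrs D e := ⟨ha, Ne.symm he.2.1, he.2.2.symm⟩
  have ne' : e' ∈ nbrs D e := ⟨he'.1, hne, hee⟩
  have hl := hL e he.1
  obtain ⟨q, q1, q2⟩ := trans_comm hl.group hl.prim hl.pairc (bar_mem ne') (bar_mem na)
    (fun x => he'.2.1 (hN.bar_inj he.1 na ne' x).symm) ((commute_bar hPre ne' na).2 he'.2.2.symm)
    (bar_mem ny) (fun x => ny'.2.1 (hN.bar_inj he.1 ny ne' x))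
    ((commute_bar hPre ne' ny).2 ny'.2.2)
  obtain ⟨k, hk, rfl⟩ := lift_perp hN hP hL ne'
    (hl.stab _ _ (bar_mem ne') (commute_of_conj_eq q1))
  obtain ⟨m1, m2⟩ := closure_pair_le hN hP hL e e' hk
  have sw := conj_bar hN hP hL he.1 k na ny q2
  have := mul_mem (same hN hP hL ha he hg m1 hgy sw) (same hN hP hL ha he' m2 hg' sw hgy')
  rwa [show g⁻¹ * (k : G) * ((k : G)⁻¹ * g') = g⁻¹ * g' by group] at this

theorem tr_wd {a y e e' g g' : G} (ha : a ∈ D) (he : e ∈ nbrs D a) (he' : e' ∈ nbrs D a)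
    (hg : g ∈ Cd D e) (hg' : g' ∈ Cd D e') (hgy : g * a * g⁻¹ = y) (hgy' : g' * a * g'⁻¹ = y) :
    g⁻¹ * g' ∈ Cd D a := by
  have hD := hN.group
  have hyD : y ∈ D := hgy ▸ hD.2.1 g a ha
  by_cases hya : y = a
  · subst hya
    exact mul_mem (inv_mem (stab_le hN hP hL ha he.1 he.2.2 hg (commute_of_conj_eq hgy)))
      (stab_le hN hP hL ha he'.1 he'.2.2 hg' (commute_of_conj_eq hgy'))
  by_cases hay : Commute a y
  · have hPre := pre_of_group hD
    have ny : y ∈ nbrs D a := ⟨hyD, hya, hay⟩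
    obtain ⟨q, hq, q0, q1, q2, q3⟩ := (hL a ha).mid _ _ _ (bar_mem ny)
      (bar_mem he) (bar_mem he') ((commute_bar hPre ny he).2 (commute_image he hg hgy).symm)
      ((commute_bar hPre ny he').2 (commute_image he' hg' hgy').symm)
    obtain ⟨u, hu, rfl⟩ := exists_bar hq
    rw [commute_bar hPre] at q1 q2 q3
    obtain ⟨k, hk, hka⟩ := conj_lift hN hP hL hu.1
      (show a ∈ nbrs D u from ⟨ha, Ne.symm hu.2.1, hu.2.2.symm⟩)
      (show y ∈ nbrs D u from ⟨hyD, fun x => q0 (by subst x; rfl), q1⟩)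
    have := mul_mem (tr_step hN hP hL ha hya hay he hu q2.symm hg hk hgy hka)
      (tr_step hN hP hL ha hya hay hu he' q3 hk hg' hka hgy')
    rwa [show g⁻¹ * k * (k⁻¹ * g') = g⁻¹ * g' by group] at this
  · have ht := conj_of_noncomm hD.1 ha hyD hay
    have mem : ∀ {e : G}, e ∈ nbrs D a → Commute e y → a * y ∈ Cd D e := fun he hey =>
      mul_mem (mem_Cd ha he.2.2.symm) (mem_Cd hyD hey)
    have h1 := same hN hP hL ha he hg (mem he (commute_image he hg hgy)) hgy ht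
    have h2 := same hN hP hL ha he' (mem he' (commute_image he' hg' hgy')) hg' ht hgy'
    have := mul_mem h1 h2
    rwa [show g⁻¹ * (a * y) * ((a * y)⁻¹ * g') = g⁻¹ * g' by group] at this

theorem tr_unique {a y g g' : G} (ha : a ∈ D) (h₁ : Tr D a y g) (h₂ : Tr D a y g') :
    g⁻¹ * g' ∈ Cd D a := by
  obtain ⟨e, he, k, hk, hky, hkg⟩ := h₁
  obtain ⟨e', he', k', hk', hky', hkg'⟩ := h₂
  have := mul_mem (mul_mem (inv_mem hkg) (tr_wd hN hP hL ha he he' hk hk' hky hky')) hkg'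
  rwa [show (k⁻¹ * g)⁻¹ * (k⁻¹ * k') * (k'⁻¹ * g') = g⁻¹ * g' by group] at this

omit [Finite G] hN hP hL in
theorem tr_of {a y g g' : G} (h₁ : Tr D a y g) (h₂ : g⁻¹ * g' ∈ Cd D a) : Tr D a y g' := by
  obtain ⟨e, he, k, hk, hky, hkg⟩ := h₁
  refine ⟨e, he, k, hk, hky, ?_⟩
  have := mul_mem hkg h₂
  rwa [show k⁻¹ * g * (g⁻¹ * g') = k⁻¹ * g' by group] at this

omit [Finite G] hN hP hL in
theorem tr_mk {a y e g : G} (he : e ∈ nbrs D a) (hg : g ∈ Cd D e) (hgy : g * a * g⁻¹ = y) :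
    Tr D a y g :=
  ⟨e, he, g, hg, hgy, by rw [inv_mul_cancel]; exact one_mem _⟩

omit [Finite G] hN hP hL in
theorem tr_conj {a y g : G} (h₁ : Tr D a y g) : g * a * g⁻¹ = y := by
  obtain ⟨e, -, k, -, hky, hkg⟩ := h₁
  have hc := conj_eq_of_commute (commute_Cd hkg).symm
  calc g * a * g⁻¹ = k * (k⁻¹ * g * a * (k⁻¹ * g)⁻¹) * k⁻¹ := by group
    _ = y := by rw [hc, hky]

theorem tr_exists {a y : G} (ha : a ∈ D) (hy : y ∈ D) : ∃ g, Tr D a y g := by
  by_cases hya : y = a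
  · obtain ⟨e, he⟩ := exists_nbr hN hP hL ha
    exact ⟨1, tr_mk he (one_mem _) (by rw [hya]; group)⟩
  by_cases hay : Commute a y
  · obtain ⟨u, hu, huy, huy', hua, -⟩ := mid hN hP hL hy ha ha hay.symm hay.symm
    by_cases hne : u = a
    · subst hne
      have ny : y ∈ nbrs D u := ⟨hy, hya, hay⟩
      obtain ⟨q, hq, q0, q1, -, -⟩ := (hL u hu).mid _ _ _ (bar_mem ny) (bar_mem ny) (bar_mem ny)
        (Commute.refl _) (Commute.refl _)
      obtain ⟨v, hv, rfl⟩ := exists_bar hq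
      rw [commute_bar (pre_of_group hN.group)] at q1
      obtain ⟨k, hk, hka⟩ := conj_lift hN hP hL hv.1
        (show u ∈ nbrs D v from ⟨hu, Ne.symm hv.2.1, hv.2.2.symm⟩)
        (show y ∈ nbrs D v from ⟨hy, fun x => q0 (by subst x; rfl), q1⟩)
      exact ⟨k, tr_mk hv hk hka⟩
    · obtain ⟨k, hk, hka⟩ := conj_lift hN hP hL hu
        (show a ∈ nbrs D u from ⟨ha, Ne.symm hne, hua⟩)
        (show y ∈ nbrs D u from ⟨hy, Ne.symm huy, huy'⟩)
      exact ⟨k, tr_mk ⟨hu, hne, hua.symm⟩ hk hka⟩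
  · obtain ⟨e, he, hea, hey⟩ := exists_common hN hP hL ha hy hay
    exact ⟨a * y, tr_mk (e := e) ⟨he, fun x => hay (x ▸ hey), hea.symm⟩
      (mul_mem (mem_Cd ha hea) (mem_Cd hy hey)) (conj_of_noncomm hN.group.1 ha hy hay)⟩

omit hP hL in
theorem tr_left {a y g m : G} (hm : m ∈ Cd D a) (h₁ : Tr D a y g) :
    Tr D a (m * y * m⁻¹) (m * g) := by
  obtain ⟨e, he, k, hk, hky, hkg⟩ := h₁
  have hma : m * a * m⁻¹ = a := conj_eq_of_commute (commute_Cd hm).symm
  refine ⟨m * e * m⁻¹, ⟨hN.group.2.1 m e he.1, fun x => he.2.1 ?_, ?_⟩, m * k * m⁻¹,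
    conj_mem_Cd hN.group m hk, ?_, ?_⟩
  · exact mul_left_cancel (mul_right_cancel (x.trans hma.symm))
  · nth_rw 1 [← hma]; exact (commute_conj_iff m a e).2 he.2.2
  · conv_lhs => rw [← hma]
    rw [← hky]; group
  · have := mul_mem hm hkg
    rwa [show (m * k * m⁻¹)⁻¹ * (m * g) = m * (k⁻¹ * g) by group]

/-- The hypothesis of this file beyond the level below. -/
def CommonThree (D : Set G) : Prop :=
  ∀ a b y : G, a ∈ D → b ∈ nbrs D a → y ∈ D → ¬ Commute a y →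
    ∃ e ∈ D, Commute e a ∧ Commute e b ∧ Commute e y

variable (hQ : CommonThree D)
include hQ

theorem far_rep {a b y : G} (ha : a ∈ D) (hb : b ∈ nbrs D a) (hy : y ∈ D) (hby : ¬ Commute b y) :
    ∃ y₁ k g₁, y₁ ∈ nbrs D a ∧ ¬ Commute b y₁ ∧ k ∈ Cd D b ∧ k * y₁ * k⁻¹ = y ∧
      Tr D a y₁ g₁ ∧ Tr D a y (k * g₁) := by
  by_cases hay : Commute a y
  · obtain ⟨g, hg⟩ := tr_exists hN hP hL ha hy
    exact ⟨y, 1, g, ⟨hy, fun x => hby (x ▸ hb.2.2.symm), hay⟩, hby, one_mem _, by group, hg,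
      by rwa [one_mul]⟩
  obtain ⟨e, he, hea, heb, hey⟩ := hQ a b y ha hb hy hay
  have hPre := pre_of_group hN.group
  have na : a ∈ nbrs D e := ⟨ha, fun x => hay (x ▸ hey), hea⟩
  have nb : b ∈ nbrs D e := ⟨hb.1, fun x => hby (x ▸ hey), heb⟩
  have ny : y ∈ nbrs D e := ⟨hy, fun x => hay (x ▸ hea.symm), hey⟩
  obtain ⟨q, hq, q1, q2⟩ := (hL e he).toNice.sep (bar_mem na) (bar_mem nb)
    fun x => hb.2.1 (hN.bar_inj he na nb x).symm
  obtain ⟨y₁, hy₁, rfl⟩ := exists_bar hq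
  rw [commute_bar hPre] at q1 q2
  have hby₁ : ¬ Commute b y₁ := fun x => q2 x.symm
  obtain ⟨k, hke, hkb, hky⟩ := trans_lift hN hP hL he nb hy₁ ny hby₁ hby
  obtain ⟨g, hg, hgy⟩ := conj_lift hN hP hL he na hy₁
  have nea : e ∈ nbrs D a := ⟨he, Ne.symm na.2.1, hea.symm⟩
  refine ⟨y₁, k, g, ⟨hy₁.1, fun x => q2 (x ▸ hb.2.2), q1.symm⟩, hby₁, hkb, hky,
    tr_mk nea hg hgy, tr_mk nea (mul_mem hke hg) ?_⟩
  calc k * g * a * (k * g)⁻¹ = k * (g * a * g⁻¹) * k⁻¹ := by group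
    _ = y := by rw [hgy, hky]

theorem tr_gen {a b y g s : G} (ha : a ∈ D) (hb : b ∈ nbrs D a) (hs : s ∈ D) (hbs : Commute b s)
    (h₁ : Tr D a y g) : Tr D a (s * y * s⁻¹) (s * g) := by
  have hD := hN.group
  have hgy := tr_conj h₁
  have hy : y ∈ D := hgy ▸ hD.2.1 g a ha
  by_cases hsy : Commute s y
  · rw [conj_eq_of_commute hsy]
    refine tr_of h₁ ?_
    have hm : g⁻¹ * s * g ∈ Cd D a := by
      refine mem_Cd (by simpa using hD.2.1 g⁻¹ s hs) ?_
      rw [← commute_conj_iff g, hgy, show g * (g⁻¹ * s * g) * g⁻¹ = s by group]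
      exact hsy.symm
    rwa [← mul_assoc]
  by_cases hby : Commute b y
  · have nya : y ≠ b := fun x => hsy (x ▸ hbs.symm)
    obtain ⟨k, hk, hka⟩ := conj_lift hN hP hL hb.1
      (show a ∈ nbrs D b from ⟨ha, Ne.symm hb.2.1, hb.2.2.symm⟩) ⟨hy, nya, hby⟩
    have h2 : Tr D a (s * y * s⁻¹) (s * k) :=
      tr_mk hb (mul_mem (mem_Cd hs hbs) hk) (by rw [← hka]; group)
    refine tr_of h2 ?_
    rw [show (s * k)⁻¹ * (s * g) = k⁻¹ * g by group]
    exact tr_unique hN hP hL ha (tr_mk hb hk hka) h₁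
  obtain ⟨y₁, k, g₁, hy₁, hby₁, hk, hky, t₁, t₂⟩ := far_rep hN hP hL hQ ha hb hy hby
  have hby' : ¬ Commute b (s * y * s⁻¹) := fun x => hby (by
    rw [← conj_eq_of_commute hbs.symm] at x
    exact (commute_conj_iff s b y).1 x)
  obtain ⟨y₂, k', g₂, hy₂, hby₂, hk', hky', t₁', t₂'⟩ :=
    far_rep hN hP hL hQ ha hb (hD.2.1 s y hy) hby'
  obtain ⟨l, hla, hlb, hly⟩ := trans_lift hN hP hL ha hb hy₁ hy₂ hby₁ hby₂
  obtain ⟨x, ex⟩ : ∃ x, x = (k' * l)⁻¹ * (s * k) := ⟨_, rfl⟩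
  have hxb : x ∈ Cd D b := ex ▸ mul_mem (inv_mem (mul_mem hk' hlb))
    (mul_mem (mem_Cd hs hbs) hk)
  have hxy : Commute x y₁ := commute_of_conj_eq (by
    rw [ex]
    calc (k' * l)⁻¹ * (s * k) * y₁ * ((k' * l)⁻¹ * (s * k))⁻¹
        = l⁻¹ * (k'⁻¹ * (s * (k * y₁ * k⁻¹) * s⁻¹) * k') * l := by group
      _ = y₁ := by rw [hky, ← hky', ← hly]; group)
  have hxM : g₁⁻¹ * x * g₁ ∈ Cd D a := by
    have h3 := conj_mem_Cd hD g₁⁻¹ (fix_far hN hP hL hb.1 hy₁.1 hby₁ hxb hxy)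
    rw [inv_inv, show g₁⁻¹ * y₁ * g₁ = a by rw [← tr_conj t₁]; group] at h3
    exact h3
  have hl : g₂⁻¹ * (l * g₁) ∈ Cd D a :=
    tr_unique hN hP hL ha t₁' (hly ▸ tr_left hN hla t₁)
  have hg1 : g₁⁻¹ * (k⁻¹ * g) ∈ Cd D a := by
    have h4 := tr_unique hN hP hL ha t₂ h₁
    rwa [show (k * g₁)⁻¹ * g = g₁⁻¹ * (k⁻¹ * g) by group] at h4
  refine tr_of t₂' ?_
  have h5 := mul_mem (mul_mem hl hxM) hg1
  rwa [ex, show g₂⁻¹ * (l * g₁) * (g₁⁻¹ * ((k' * l)⁻¹ * (s * k)) * g₁) * (g₁⁻¹ * (k⁻¹ * g)) =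
    (k' * g₂)⁻¹ * (s * g) by group] at h5

/-- The centraliser of a member is generated by the members commuting with it. -/
theorem gate {a x : G} (ha : a ∈ D) (hxa : Commute x a) : x ∈ Cd D a := by
  obtain ⟨b, hb⟩ := exists_nbr hN hP hL ha
  have hD := hN.group
  obtain ⟨P, eP⟩ : ∃ P : Subgroup G, P = Subgroup.closure
      ((Cd D a : Set G) ∪ {s | s ∈ D ∧ Commute b s}) := ⟨_, rfl⟩
  have hbP : Cd D b ≤ P := by
    rw [eP, Cd, Subgroup.closure_le]
    exact fun w hw => Subgroup.subset_closure (Or.inr ⟨hw.1, hw.2⟩)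
  have haP : Cd D a ≤ P := fun w hw => eP ▸ Subgroup.subset_closure (Or.inl hw)
  have hall : ∀ u ∈ D, Cd D u ≤ P := by
    intro u hu
    have hz := closed_eq_univ hD hP ⟨a, ha, b, hb.1, Ne.symm hb.2.1, hb.2.2⟩
      (Z := {u | u ∈ D ∧ Cd D u ≤ P ∧ ∃ v ∈ nbrs D u, Cd D v ≤ P}) ha
      ⟨ha, haP, b, hb, hbP⟩ ?_ hu
    · exact hz.2.1
    rintro u ⟨hu, huP, v, hv, hvP⟩ w hw - huw
    by_cases hwu : w = u
    · exact hwu ▸ ⟨hu, huP, v, hv, hvP⟩
    obtain ⟨k, hk, hkw⟩ := conj_lift hN hP hL hu hv ⟨hw, hwu, huw⟩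
    refine ⟨hw, fun z hz => ?_, u, ⟨hu, Ne.symm hwu, huw.symm⟩, huP⟩
    have h1 := conj_mem_Cd hD k⁻¹ hz
    rw [inv_inv, show k⁻¹ * w * k = v by rw [← hkw]; group] at h1
    have h2 := mul_mem (mul_mem (huP hk) (hvP h1)) (inv_mem (huP hk))
    rwa [show k * (k⁻¹ * z * k) * k⁻¹ = z by group] at h2
  have hxP : x ∈ Subgroup.closure ((Cd D a : Set G) ∪ {s | s ∈ D ∧ Commute b s}) := by
    rw [← eP]
    have : x ∈ Subgroup.closure D := hD.2.2 ▸ Subgroup.mem_top x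
    exact (Subgroup.closure_le P).2 (fun u hu => hall u hu (mem_Cd hu (Commute.refl u))) this
  have key : ∀ y g, Tr D a y g → Tr D a (x * y * x⁻¹) (x * g) := by
    clear hxa
    induction hxP using Subgroup.closure_induction with
    | mem s hs =>
      intro y g hyg
      rcases hs with hs | ⟨hs, hbs⟩
      · exact tr_left hN hs hyg
      · exact tr_gen hN hP hL hQ ha hb hs hbs hyg
    | one => intro y g hyg; simpa using hyg
    | mul u v _ _ h1 h2 =>
      intro y g hyg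
      have := h1 _ _ (h2 _ _ hyg)
      rwa [show u * (v * y * v⁻¹) * u⁻¹ = u * v * y * (u * v)⁻¹ by group, ← mul_assoc] at this
    | inv u _ h1 =>
      intro y g hyg
      have hy : y ∈ D := tr_conj hyg ▸ hD.2.1 g a ha
      obtain ⟨g', hg'⟩ := tr_exists hN hP hL ha (hD.2.1 u⁻¹ y hy)
      have h2 := h1 _ _ hg'
      rw [show u * (u⁻¹ * y * u⁻¹⁻¹) * u⁻¹ = y by group] at h2
      refine tr_of hg' ?_
      have := tr_unique hN hP hL ha h2 hyg
      rwa [show (u * g')⁻¹ * g = g'⁻¹ * (u⁻¹ * g) by group] at this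
  have t1 : Tr D a a 1 := tr_mk hb (one_mem _) (by group)
  have := tr_unique hN hP hL ha t1 (by
    have := key a 1 t1
    rwa [conj_eq_of_commute hxa] at this)
  simpa using this

/-- The properties hold one level higher. -/
theorem lvl : Lvl D :=
  { toNice := hN
    prim := hP
    pairc := pairc hN hP hL
    stab := fun _ _ ha hx => gate hN hP hL hQ ha hx
    mid := fun _ _ _ ha hq hr h1 h2 => mid hN hP hL ha hq hr h1 h2
    common := fun _ _ ha hc h => exists_common hN hP hL ha hc h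
    transCommon := fun _ _ _ _ hb hy h he h1 h2 hf h3 h4 =>
      trans_common hN hP hL hb hy h he h1 h2 hf h3 h4
    hyper := fun _ _ _ ha hc hs h h' => hyper hN hP hL ha hc hs h h'
    nonab := fun _ _ ha hc h => nonab hN hP hL ha hc h }

end CfsgLib.Trans3.Fi.Up

namespace CfsgLib.Trans3.Fi

/-- A group of type M(22) is a level. -/
theorem lvl_m22 {G : Type*} [Group G] [Finite G] {D : Set G}
    (hD : Cfsg.IsThreeTranspositionGroup D) (hP : Cfsg.IsPrimitiveUnderConj D)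
    (h : Cfsg.IsOfTypeM22 G D) : Lvl D :=
  Up.lvl (nice_m22 hD h) hP
    (fun _ ha => lvl_u6 (m22_isU6 hD h ha) ((nice_m22 hD h).group_Db ha))
    fun _ _ _ ha hb hy hay => exists_common_three hD hP h ha hb hy hay

end CfsgLib.Trans3.Fi
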