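import Cfsg.Agent.Lib.Trans3.TvSU

/-!
Vectors and transvections of `SU₆(2)`: the calculus used for groups of type M(22).
-/

set_option autoImplicit false
set_option linter.unusedSectionVars false

namespace CfsgLib.Trans3.Fi

open Matrix CfsgLib.MaxSub CfsgLib.Classical CfsgLib.Trans3.TvSU

variable {F : Type*} [Field F]

/-- The hermitian form of `SU₆(2)`. -/
abbrev hh (x y : Fin 6 → F) : F := Cfsg.hermForm 6 F 2 x y

/-- The action of `SU₆(2)` on vectors. -/
abbrev act (g : ↥(Cfsg.SU 6 F 2)) (x : Fin 6 → F) : Fin 6 → F := suVal g *ᵥ x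

theorem act_mul (g k : ↥(Cfsg.SU 6 F 2)) (x : Fin 6 → F) : act (g * k) x = act g (act k x) := by
  simp only [act, map_mul, mulVec_mulVec]

theorem act_one (x : Fin 6 → F) : act 1 x = x := by simp [act, map_one]

theorem act_inv (g : ↥(Cfsg.SU 6 F 2)) (x : Fin 6 → F) : act g⁻¹ (act g x) = x := by
  rw [← act_mul, inv_mul_cancel, act_one]

theorem act_ext {g k : ↥(Cfsg.SU 6 F 2)} (h : ∀ x, act g x = act k x) : g = k :=
  suVal_injective (Matrix.toLin'.injective (LinearMap.ext fun x => by simpa using h x))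

theorem hh_act (g : ↥(Cfsg.SU 6 F 2)) (x y : Fin 6 → F) : hh (act g x) (act g y) = hh x y :=
  g.2 x y

variable [Fintype F] (hF : Fintype.card F = 2 ^ 2)
include hF

theorem add_self (a : F) : a + a = 0 := by
  have h : (-1 : F) ^ 4 = -1 := by
    have h := FiniteField.pow_card (-1 : F)
    rwa [hF] at h
  have h1 : (1 : F) = -1 := by linear_combination h
  linear_combination a * h1

theorem neg_eq (a : F) : -a = a := by linear_combination -add_self hF a

theorem vec_add_self (x : Fin 6 → F) : x + x = 0 := funext fun i => add_self hF (x i)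

theorem vec_eq_of_add (x y : Fin 6 → F) (h : x + y = 0) : x = y := by
  have := congrArg (· + y) h
  simpa [add_assoc, vec_add_self hF] using this

theorem cube_one {a : F} (ha : a ≠ 0) : a ^ 3 = 1 := by
  have := FiniteField.pow_card_sub_one_eq_one a ha
  rwa [hF] at this

theorem fixed {a : F} (h : a ^ 2 = a) : a = 0 ∨ a = 1 := by
  by_cases ha : a = 0
  · exact Or.inl ha
  · exact Or.inr (mul_left_cancel₀ ha (by linear_combination h))

theorem pow_four (a : F) : (a ^ 2) ^ 2 = a := pow_pow' hF a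

theorem hh_add_left (u v w : Fin 6 → F) : hh (u + v) w = hh u w + hh v w :=
  herm_add_left hF u v w

theorem hh_add_right (u v w : Fin 6 → F) : hh u (v + w) = hh u v + hh u w :=
  herm_add_right hF u v w

theorem hh_smul_left (c : F) (u v : Fin 6 → F) : hh (c • u) v = c * hh u v :=
  herm_smul_left hF c u v

theorem hh_smul_right (c : F) (u v : Fin 6 → F) : hh u (c • v) = c ^ 2 * hh u v :=
  herm_smul_right hF c u v

theorem hh_conj (u v : Fin 6 → F) : hh u v ^ 2 = hh v u := herm_conj hF u v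

theorem hh_zero_left (v : Fin 6 → F) : hh (0 : Fin 6 → F) v = 0 := by
  simpa using hh_smul_left hF 0 v v

theorem hh_zero_right (v : Fin 6 → F) : hh v (0 : Fin 6 → F) = 0 := by
  simpa using hh_smul_right hF 0 v v

theorem hh_symm_zero {u v : Fin 6 → F} (h : hh u v = 0) : hh v u = 0 := by
  rw [← hh_conj hF u v, h, zero_pow two_ne_zero]

theorem hh_symm_one {u v : Fin 6 → F} (h : hh u v = 1) : hh v u = 1 := by
  rw [← hh_conj hF u v, h, one_pow]

theorem hh_self (v : Fin 6 → F) : hh v v = 0 ∨ hh v v = 1 := fixed hF (hh_conj hF v v)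

/-- A vector orthogonal to a subspace and not to a vector outside it. -/
theorem exists_hh {S : Submodule F (Fin 6 → F)} {r : Fin 6 → F} (hr : r ∉ S) :
    ∃ x, (∀ s ∈ S, hh x s = 0) ∧ hh x r = 1 := by
  obtain ⟨φ, h1, h2⟩ := Submodule.exists_dual_map_eq_bot_of_notMem hr inferInstance
  let x : Fin 6 → F := fun i => φ (Pi.single i 1) ^ 2
  have key : ∀ v, hh x v = φ v ^ 2 := by
    intro v
    conv_rhs => rw [pi_eq_sum_univ' v, map_sum]
    rw [show (∑ i, φ (v i • Pi.single i (1 : F))) ^ 2 =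
      qFrob hF (∑ i, φ (v i • Pi.single i (1 : F))) from (qFrob_apply hF _).symm, map_sum]
    refine Finset.sum_congr rfl fun i _ => ?_
    rw [map_smul, smul_eq_mul, qFrob_apply, mul_pow, mul_comm]
  have h3 : hh x r ≠ 0 := by rw [key]; exact pow_ne_zero _ h1
  refine ⟨(hh x r)⁻¹ • x, fun s hs => ?_, ?_⟩
  · have : φ s = 0 := by
      have : φ s ∈ S.map φ := Submodule.mem_map_of_mem hs
      rwa [h2, Submodule.mem_bot] at this
    rw [hh_smul_left hF, key s, this, zero_pow two_ne_zero, mul_zero]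
  · rw [hh_smul_left hF, inv_mul_cancel₀ h3]

theorem eq_zero_of_hh {r : Fin 6 → F} (h : ∀ x, hh x r = 0) : r = 0 := by
  by_contra hr
  obtain ⟨x, -, hx⟩ := exists_hh hF (S := ⊥) (r := r) (by simpa using hr)
  rw [h] at hx
  exact zero_ne_one hx

/-- An isotropic vector orthogonal to a given one and not to another, outside its line. -/
theorem exists_hh_one {a b : Fin 6 → F} (h : b ∉ Submodule.span F {a}) :
    ∃ x, hh x a = 0 ∧ hh x b = 1 := by
  obtain ⟨x, h1, h2⟩ := exists_hh hF h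
  exact ⟨x, h1 a (Submodule.subset_span rfl), h2⟩

theorem exists_omega : ∃ ω : F, ω + ω ^ 2 = 1 := by
  obtain ⟨t, ht⟩ := exists_qFrob_trace_one hF
  exact ⟨t, by rwa [qFrob_apply] at ht⟩

/-- A hyperbolic pair from a vector meeting `u`. -/
theorem exists_pair {u x : Fin 6 → F} (huu : hh u u = 0) (hux : hh u x = 1) :
    ∃ l : F, hh (x + l • u) (x + l • u) = 0 ∧ hh u (x + l • u) = 1 := by
  obtain ⟨ω, hω⟩ := exists_omega hF
  have e : ∀ l : F, hh (x + l • u) (x + l • u) = hh x x + (l + l ^ 2) ∧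
      hh u (x + l • u) = 1 := fun l => by
    simp only [hh_add_left hF, hh_add_right hF, hh_smul_left hF, hh_smul_right hF, huu, hux,
      hh_symm_one hF hux]
    constructor <;> ring
  rcases hh_self hF x with h | h
  · exact ⟨0, by rw [(e 0).1, h]; ring, (e 0).2⟩
  · exact ⟨ω, by rw [(e ω).1, h, hω, add_self hF], (e ω).2⟩

theorem exists_iso : ∃ p : Fin 6 → F, p ≠ 0 ∧ hh p p = 0 :=
  exists_isotropic (n := 4) hF

theorem exists_partner {p : Fin 6 → F} (hp : p ≠ 0) (hpp : hh p p = 0) :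
    ∃ v, hh v v = 0 ∧ hh p v = 1 := by
  obtain ⟨x, -, hx⟩ := exists_hh hF (S := ⊥) (r := p) (by simpa using hp)
  obtain ⟨l, h1, h2⟩ := exists_pair hF hpp (hh_symm_one hF hx)
  exact ⟨_, h1, h2⟩

/-! ### Transvections -/

/-- The transvection `x ↦ x + h(x,p) p`. -/
noncomputable def tv (p : Fin 6 → F) : ↥(Cfsg.SU 6 F 2) :=
  haveI := _root_.Classical.dec (hh p p = 0)
  if h : hh p p = 0 then
    (exists_su hF (p := p) h (c := 1) (by rw [one_pow]; exact add_self hF 1)).choose
  else 1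

theorem tv_act {p : Fin 6 → F} (hpp : hh p p = 0) (x : Fin 6 → F) :
    act (tv hF p) x = x + hh x p • p := by
  rw [tv, dif_pos hpp, act, (exists_su hF (p := p) hpp (c := 1)
    (by rw [one_pow]; exact add_self hF 1)).choose_spec, one_smul,
    tvMat_mulVec, herm_dot]

theorem conj_tv (g : ↥(Cfsg.SU 6 F 2)) {p : Fin 6 → F} (hpp : hh p p = 0) :
    g * tv hF p * g⁻¹ = tv hF (act g p) := by
  refine mul_inv_eq_iff_eq_mul.2 (act_ext fun x => ?_)
  have hgp : hh (act g p) (act g p) = 0 := by rw [hh_act]; exact hpp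
  rw [act_mul, act_mul, tv_act hF hpp, tv_act hF hgp, hh_act]
  simp only [act, mulVec_add, mulVec_smul]

theorem tv_smul {p : Fin 6 → F} (hpp : hh p p = 0) {a : F} (ha : a ≠ 0) :
    tv hF (a • p) = tv hF p := by
  have h : hh (a • p) (a • p) = 0 := by
    rw [hh_smul_left hF, hh_smul_right hF, hpp, mul_zero, mul_zero]
  refine act_ext fun x => ?_
  rw [tv_act hF h, tv_act hF hpp, hh_smul_right hF, smul_smul]
  congr 2
  linear_combination hh x p * cube_one hF ha

theorem tv_sq {p : Fin 6 → F} (hpp : hh p p = 0) : tv hF p * tv hF p = 1 := by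
  refine act_ext fun x => ?_
  rw [act_mul, act_one, tv_act hF hpp, tv_act hF hpp, hh_add_left hF, hh_smul_left hF, hpp,
    mul_zero, add_zero, add_assoc, vec_add_self hF, add_zero]

theorem tv_comm {p r : Fin 6 → F} (hpp : hh p p = 0) (hrr : hh r r = 0) (h : hh p r = 0) :
    Commute (tv hF p) (tv hF r) := by
  have h1 := conj_tv hF (tv hF p) hrr
  rw [tv_act hF hpp, hh_symm_zero hF h, zero_smul, add_zero] at h1
  exact mul_inv_eq_iff_eq_mul.1 h1

theorem tv_eq {p r : Fin 6 → F} (hpp : hh p p = 0) (hrr : hh r r = 0) (hp : p ≠ 0)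
    (h : tv hF p = tv hF r) : ∃ a : F, a ≠ 0 ∧ p = a • r := by
  obtain ⟨x, -, hx⟩ := exists_hh hF (S := ⊥) (r := p) (by simpa using hp)
  have := congrArg (fun g => act g x) h
  simp only [tv_act hF hpp, tv_act hF hrr, hx, one_smul, add_right_inj] at this
  exact ⟨hh x r, fun h0 => hp (by rw [this, h0, zero_smul]), this⟩

/-! ### Scalars -/

theorem smul_vec_cancel {a b : F} {p : Fin 6 → F} (hp : p ≠ 0) (h : a • p = b • p) : a = b := by
  by_contra hab
  exact hp ((smul_eq_zero.1 (show (a - b) • p = 0 by rw [sub_smul, h, sub_self])).resolve_left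
    (sub_ne_zero.2 hab))

theorem act_ne_zero (g : ↥(Cfsg.SU 6 F 2)) {p : Fin 6 → F} (hp : p ≠ 0) : act g p ≠ 0 := by
  intro h
  refine hp ?_
  rw [← act_inv g p, h]
  simp [act]

theorem eigen_eq {g : ↥(Cfsg.SU 6 F 2)} {p r : Fin 6 → F} {a b : F} (hr : r ≠ 0)
    (hp : act g p = a • p) (hr' : act g r = b • r) (h : hh p r ≠ 0) : a = b := by
  have h1 := hh_act g p r
  rw [hp, hr', hh_smul_left hF, hh_smul_right hF] at h1
  have h2 : a * b ^ 2 = 1 := by
    refine mul_right_cancel₀ h ?_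
    linear_combination h1
  have hb : b ≠ 0 := fun hb => act_ne_zero hF g hr (by rw [hr', hb, zero_smul])
  linear_combination b * h2 - a * cube_one hF hb

theorem scalar_of_eigen {g : ↥(Cfsg.SU 6 F 2)}
    (h : ∀ p : Fin 6 → F, p ≠ 0 → hh p p = 0 → ∃ a : F, act g p = a • p) :
    ∃ c : F, c ≠ 0 ∧ ∀ x, act g x = c • x := by
  obtain ⟨p, hp, hpp⟩ := exists_iso hF
  obtain ⟨c, hc⟩ := h p hp hpp
  have hc0 : c ≠ 0 := fun h0 => act_ne_zero hF g hp (by rw [hc, h0, zero_smul])
  have hall : ∀ r : Fin 6 → F, r ≠ 0 → hh r r = 0 → act g r = c • r := by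
    intro r hr hrr
    obtain ⟨b, hb⟩ := h r hr hrr
    suffices c = b by rw [this, hb]
    by_cases hpr : hh p r = 0
    · obtain ⟨s, hs, hss, hsp, hsr⟩ := exists_isotropic_ne hF hp hr hpp hpr
      obtain ⟨d, hd⟩ := h s hs hss
      rw [← eigen_eq hF hp hd hc hsp, eigen_eq hF hr hd hb hsr]
    · exact eigen_eq hF hr hc hb hpr
  refine ⟨c, hc0, fun x => ?_⟩
  refine vec_eq_of_add hF _ _ ?_
  by_contra hne
  obtain ⟨p', hp', hpp', hs⟩ : ∃ s : Fin 6 → F, s ≠ 0 ∧ hh s s = 0 ∧
      hh s (act g x + c • x) ≠ 0 := by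
    by_cases hq : hh p (act g x + c • x) = 0
    · obtain ⟨s, hs, hss, -, hsr⟩ := exists_isotropic_ne hF hp hne hpp hq
      exact ⟨s, hs, hss, hsr⟩
    · exact ⟨p, hp, hpp, hq⟩
  apply hs
  have h1 := hh_act g p' x
  rw [hall p' hp' hpp', hh_smul_left hF] at h1
  rw [hh_add_right hF, hh_smul_right hF]
  linear_combination (c ^ 2) * h1 - hh p' (act g x) * cube_one hF hc0 +
    c ^ 2 * add_self hF (hh p' x)

theorem mem_center_of_scalar {g : ↥(Cfsg.SU 6 F 2)} {c : F} (h : ∀ x, act g x = c • x) :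
    g ∈ Subgroup.center ↥(Cfsg.SU 6 F 2) := by
  refine Subgroup.mem_center_iff.2 fun k => act_ext fun x => ?_
  rw [act_mul, act_mul, h, h]
  simp only [act, mulVec_smul]

theorem center_act {g : ↥(Cfsg.SU 6 F 2)} (hg : g ∈ Subgroup.center ↥(Cfsg.SU 6 F 2)) :
    ∃ c : F, c ≠ 0 ∧ ∀ x, act g x = c • x := by
  refine scalar_of_eigen hF fun p hp hpp => ?_
  have h1 := conj_tv hF g hpp
  rw [← Subgroup.mem_center_iff.1 hg (tv hF p), mul_assoc, mul_inv_cancel, mul_one] at h1
  obtain ⟨a, -, ha⟩ := tv_eq hF (by rw [hh_act]; exact hpp) hpp (act_ne_zero hF g hp) h1.symm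
  exact ⟨a, ha⟩

theorem center_cube {g : ↥(Cfsg.SU 6 F 2)} (hg : g ∈ Subgroup.center ↥(Cfsg.SU 6 F 2)) :
    g ^ 3 = 1 := by
  obtain ⟨c, hc, h⟩ := center_act hF hg
  refine act_ext fun x => ?_
  rw [pow_succ, pow_two, act_mul, act_mul, act_one, h, h, h, smul_smul, smul_smul]
  rw [show c * c * c = 1 by linear_combination cube_one hF hc, one_smul]

theorem center_invol {g : ↥(Cfsg.SU 6 F 2)} (hg : g ∈ Subgroup.center ↥(Cfsg.SU 6 F 2))
    (h2 : g * g = 1) : g = 1 := by
  have := center_cube hF hg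
  rwa [pow_succ, pow_two, h2, one_mul] at this

theorem center_commute_invol {a b : ↥(Cfsg.SU 6 F 2)} (ha : a * a = 1) (hb : b * b = 1)
    (h : a⁻¹ * b ∈ Subgroup.center ↥(Cfsg.SU 6 F 2)) : a = b := by
  have ha' : a⁻¹ = a := inv_eq_of_mul_eq_one_right ha
  rw [ha'] at h
  have hc : a * (a * b) = a * b * a := Subgroup.mem_center_iff.1 h a
  have h2 : (a * b) * (a * b) = 1 := by
    rw [← mul_assoc (a * b) a b, ← hc, mul_assoc a (a * b) b, mul_assoc a b b, hb, mul_one, ha]
  have := congrArg (a * ·) (center_invol hF h h2)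
  simpa [← mul_assoc, ha] using this.symm

end CfsgLib.Trans3.Fi
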